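import Cfsg.Agent.MonsterX.CertOrb

/-!
# `TauData` from relations between generators
-/

set_option autoImplicit false

namespace Cfsg.Agent.MonsterX.CertTau

open Cfsg.Agent.MonsterX.CertOrb

variable {G : Type*} [Group G]

theorem conj_mem_of_gens {A : Set G} {H : Subgroup G} {s : G} (h : ∀ a ∈ A, s * a * s⁻¹ ∈ H) :
    ∀ x ∈ Subgroup.closure A, s * x * s⁻¹ ∈ H := by
  intro x hx
  induction hx using Subgroup.closure_induction with
  | mem x hx => exact h x hx
  | one => rw [mul_one, mul_inv_cancel]; exact H.one_mem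
  | mul x y _ _ hx hy =>
    have : s * (x * y) * s⁻¹ = (s * x * s⁻¹) * (s * y * s⁻¹) := by group
    rw [this]
    exact H.mul_mem hx hy
  | inv x _ hx =>
    have : s * x⁻¹ * s⁻¹ = (s * x * s⁻¹)⁻¹ := by group
    rw [this]
    exact H.inv_mem hx

/-- `TauData` from generators `A` of `D₀`: conjugates of the generators under `τ^±1`, `e^±1` lie in `D₀`,
`e e ∈ D₀`, `e τ e⁻¹ = τ⁻¹`, and some element commutes with `A` but not with `e`. -/
theorem tauData_of_gens (A : Set G) (τ e x : G)
    (h1 : ∀ a ∈ A, τ * a * τ⁻¹ ∈ Subgroup.closure A) (h2 : ∀ a ∈ A, τ⁻¹ * a * τ ∈ Subgroup.closure A)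
    (h3 : ∀ a ∈ A, e * a * e⁻¹ ∈ Subgroup.closure A) (h4 : ∀ a ∈ A, e⁻¹ * a * e ∈ Subgroup.closure A)
    (h5 : e * e ∈ Subgroup.closure A) (h6 : e * τ * e⁻¹ = τ⁻¹)
    (h7 : ∀ a ∈ A, a * x = x * a) (h8 : e * x ≠ x * e) :
    TauData (Subgroup.closure (A ∪ {e})) (Subgroup.closure A) τ e := by
  set D₀ := Subgroup.closure A with hD₀
  have hle : D₀ ≤ Subgroup.closure (A ∪ {e}) := Subgroup.closure_mono Set.subset_union_left
  have hn1 : ∀ y ∈ D₀, e * y * e⁻¹ ∈ D₀ := conj_mem_of_gens h3
  have hn2 : ∀ y ∈ D₀, e⁻¹ * y * e ∈ D₀ := by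
    intro y hy
    have := conj_mem_of_gens (s := e⁻¹) (H := D₀) (by simpa using h4) y hy
    simpa using this
  have hc : ∀ d ∈ Subgroup.closure (A ∪ {e}), d ∈ D₀ ∨ d * e ∈ D₀ := by
    intro d hd
    -- right multiplication by generators
    have hmul : ∀ d, (d ∈ D₀ ∨ d * e ∈ D₀) → ∀ y ∈ D₀, (d * y ∈ D₀ ∨ d * y * e ∈ D₀) := by
      rintro d (hd | hd) y hy
      · exact Or.inl (D₀.mul_mem hd hy)
      · right
        have : d * y * e = (d * e) * (e⁻¹ * y * e) := by group
        rw [this]
        exact D₀.mul_mem hd (hn2 y hy)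
    have hmule : ∀ d, (d ∈ D₀ ∨ d * e ∈ D₀) → (d * e ∈ D₀ ∨ d * e * e ∈ D₀) := by
      rintro d (hd | hd)
      · right
        rw [mul_assoc]
        exact D₀.mul_mem hd h5
      · exact Or.inl hd
    have hmule' : ∀ d, (d ∈ D₀ ∨ d * e ∈ D₀) → (d * e⁻¹ ∈ D₀ ∨ d * e⁻¹ * e ∈ D₀) := by
      rintro d (hd | hd)
      · right
        rw [inv_mul_cancel_right]
        exact hd
      · left
        have : d * e⁻¹ = (d * e) * (e * e)⁻¹ := by group
        rw [this]
        exact D₀.mul_mem hd (D₀.inv_mem h5)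
    induction hd using Subgroup.closure_induction_right with
    | one => exact Or.inl D₀.one_mem
    | mul_right d hd y hy ih =>
      rcases hy with hy | hy
      · exact hmul d ih y (Subgroup.subset_closure hy)
      · rw [Set.mem_singleton_iff.1 hy]
        exact hmule d ih
    | mul_inv_cancel d hd y hy ih =>
      rcases hy with hy | hy
      · exact hmul d ih _ (D₀.inv_mem (Subgroup.subset_closure hy))
      · rw [Set.mem_singleton_iff.1 hy]
        exact hmule' d ih
  refine ⟨hle, Subgroup.subset_closure (Or.inr rfl), ?_, hc, ?_, ?_, h6⟩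
  · intro he
    apply h8
    have : ∀ y ∈ D₀, y * x = x * y := by
      intro y hy
      induction hy using Subgroup.closure_induction with
      | mem y hy => exact h7 y hy
      | one => rw [one_mul, mul_one]
      | mul y z _ _ hy hz => rw [mul_assoc, hz, ← mul_assoc, hy, mul_assoc]
      | inv y _ hy =>
        have : y⁻¹ * x = y⁻¹ * (x * y) * y⁻¹ := by group
        rw [this, ← hy]
        group
    exact this e he
  · intro d hd
    exact hle (conj_mem_of_gens h1 d hd)
  · intro d hd
    have := conj_mem_of_gens (s := τ⁻¹) (H := D₀) (by simpa using h2) d hd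
    rw [inv_inv] at this
    exact hle this

end Cfsg.Agent.MonsterX.CertTau
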