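import Cfsg.Agent.Monster.AbstractOrder

/-!
# Orbit tables: closure, detailed balance and orbit lengths (group side of the Monster certificate layer)

`D ≤ K ≤ G`; `τ ∈ G` with `τ D₀ τ⁻¹ ≤ D`, `D = D₀ ∪ D₀ e⁻¹`, `e τ e⁻¹ = τ⁻¹`.  The points `v r` (`r : ρ`) are
representatives of `D`-orbits, the points `b j` (`j : κ`) representatives of `K`-orbits.

* `tau_closed`: the union of the `D`-orbits of the `v r` is closed under `τ`;
* `tau_balance`, `xi_balance`: detailed balance for the `τ`-edges and the `ξ`-edges;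
* `sizes_of_tree`: orbit lengths from a spanning tree of balanced edges;
* `card_orbit_K`, `K_disj`: lengths of the `K`-orbits.
-/

set_option autoImplicit false

namespace Cfsg.Agent.MonsterX.CertOrb

open Cfsg.Agent.Monster

variable {G V : Type*} [Group G] [MulAction G V]

/-- The setting of the extra element `τ`. -/
structure TauData (D D₀ : Subgroup G) (τ e : G) : Prop where
  le : D₀ ≤ D
  e_mem : e ∈ D
  e_not : e ∉ D₀
  cosets : ∀ d ∈ D, d ∈ D₀ ∨ d * e ∈ D₀
  conj : ∀ d ∈ D₀, τ * d * τ⁻¹ ∈ D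
  conj' : ∀ d ∈ D₀, τ⁻¹ * d * τ ∈ D
  inv : e * τ * e⁻¹ = τ⁻¹

namespace TauData

variable {D D₀ : Subgroup G} {τ e : G}

theorem tau_e (h : TauData D D₀ τ e) : τ * e⁻¹ = e⁻¹ * τ⁻¹ := by
  rw [← h.inv]; group

theorem tau_inv_e (h : TauData D D₀ τ e) : τ⁻¹ * e⁻¹ = e⁻¹ * τ := by
  have h2 : e * τ⁻¹ * e⁻¹ = τ := by
    calc e * τ⁻¹ * e⁻¹ = (e * τ * e⁻¹)⁻¹ := by group
      _ = τ := by rw [h.inv, inv_inv]
  calc τ⁻¹ * e⁻¹ = e⁻¹ * (e * τ⁻¹ * e⁻¹) := by group
    _ = e⁻¹ * τ := by rw [h2]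

theorem closed (h : TauData D D₀ τ e) {ρ : Type*} (v : ρ → V) (tp tm : ρ → ρ)
    (htp : ∀ r, τ • v r ∈ MulAction.orbit D (v (tp r)))
    (htm : ∀ r, τ⁻¹ • v r ∈ MulAction.orbit D (v (tm r))) (r : ρ) {x : V}
    (hx : x ∈ MulAction.orbit D (v r)) :
    τ • x ∈ MulAction.orbit D (v (tp r)) ∨ τ • x ∈ MulAction.orbit D (v (tm r)) := by
  obtain ⟨d, rfl⟩ := hx
  rcases h.cosets d d.2 with h1 | h1
  · left
    have e1 : τ • (d • v r) = (⟨_, h.conj _ h1⟩ : D) • (τ • v r) := by
      change τ • ((d : G) • v r) = (τ * (d : G) * τ⁻¹) • (τ • v r)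
      rw [← mul_smul, ← mul_smul]; congr 1; group
    rw [e1]
    exact MulAction.mem_orbit_of_mem_orbit _ (htp r)
  · right
    have e1 : τ • (d • v r) = (⟨_, h.conj _ h1⟩ * ⟨_, D.inv_mem h.e_mem⟩ : D) • (τ⁻¹ • v r) := by
      change τ • ((d : G) • v r) = ((τ * ((d : G) * e) * τ⁻¹) * e⁻¹) • (τ⁻¹ • v r)
      rw [← mul_smul, ← mul_smul]; congr 1
      have : τ⁻¹ * e⁻¹ * τ⁻¹ = e⁻¹ := by rw [h.tau_inv_e]; group
      calc τ * (d : G) = τ * ((d : G) * e) * e⁻¹ := by group
        _ = τ * ((d : G) * e) * (τ⁻¹ * e⁻¹ * τ⁻¹) := by rw [this]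
        _ = _ := by group
    rw [e1]
    exact MulAction.mem_orbit_of_mem_orbit _ (htm r)

/-- Balance for the `τ`-edges. -/
theorem balance (h : TauData D D₀ τ e) [Finite D] {ρ : Type*} [DecidableEq ρ] (v : ρ → V)
    (hdisj : ∀ r s, v r ∈ MulAction.orbit D (v s) → r = s) (tp tm : ρ → ρ)
    (htp : ∀ r, τ • v r ∈ MulAction.orbit D (v (tp r)))
    (htm : ∀ r, τ⁻¹ • v r ∈ MulAction.orbit D (v (tm r))) (r s : ρ) :
    Nat.card (MulAction.orbit D (v r)) * ((if tp r = s then 1 else 0) + (if tm r = s then 1 else 0)) =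
      Nat.card (MulAction.orbit D (v s)) * ((if tp s = r then 1 else 0) + (if tm s = r then 1 else 0)) := by
  classical
  let D₁ : Subgroup D := D₀.subgroupOf D
  let Y := D ⧸ D₁
  let y0 : Y := ((1 : D) : D ⧸ D₁)
  have hstab : ∀ k : D, k • y0 = y0 ↔ (k : G) ∈ D₀ := by
    intro k
    change ((k * 1 : D) : D ⧸ D₁) = ((1 : D) : D ⧸ D₁) ↔ _
    rw [mul_one, eq_comm, QuotientGroup.eq, inv_one, one_mul]
    exact Subgroup.mem_subgroupOf
  have htr : ∀ y : Y, ∃ k : D, k • y0 = y := by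
    intro y
    induction y using QuotientGroup.induction_on with
    | H k => exact ⟨k, by change ((k * 1 : D) : D ⧸ D₁) = _; rw [mul_one]⟩
  let eD : D := ⟨e, h.e_mem⟩
  have hey : eD • y0 ≠ y0 := fun hc => h.e_not ((hstab eD).1 hc)
  have hY : ∀ y : Y, y = y0 ∨ y = eD • y0 := by
    intro y
    obtain ⟨k, rfl⟩ := htr y
    rcases h.cosets k k.2 with h1 | h1
    · left; exact (hstab k).2 h1
    · right
      -- `e⁻¹ k ∈ D₀` follows from `k e ∈ D₀` and `e e ∈ D₀` or ...
      have h2 : e * e ∈ D₀ := by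
        rcases h.cosets e h.e_mem with h3 | h3
        · exact absurd h3 h.e_not
        · exact h3
      have h4 : (k : G) ∉ D₀ := fun hk => h.e_not ((D₀.mul_mem_cancel_left hk).1 h1)
      have h5 : e⁻¹ * k ∈ D₀ := by
        rcases h.cosets (e⁻¹ * k) (D.mul_mem (D.inv_mem h.e_mem) k.2) with h6 | h6
        · exact h6
        · exfalso
          have h7 : e⁻¹ ∈ D₀ := by
            have : e⁻¹ = (e⁻¹ * k * e) * ((k : G) * e)⁻¹ := by group
            rw [this]
            exact D₀.mul_mem h6 (D₀.inv_mem h1)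
          exact h.e_not (by simpa using D₀.inv_mem h7)
      have h8 : (eD⁻¹ * k) • y0 = y0 := (hstab _).2 h5
      rw [mul_smul, inv_smul_eq_iff] at h8
      exact h8
  have he : ∀ k : D, k • y0 = y0 ↔ (eD⁻¹ * k * eD) • y0 = y0 := by
    intro k
    rw [hstab, hstab]
    change (k : G) ∈ D₀ ↔ e⁻¹ * k * e ∈ D₀
    have key : ∀ x ∈ D, x ∈ D₀ ↔ e⁻¹ * x * e ∈ D₀ := by
      intro x hx
      have hx' : e⁻¹ * x * e ∈ D := D.mul_mem (D.mul_mem (D.inv_mem h.e_mem) hx) h.e_mem
      constructor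
      · intro h1
        rcases h.cosets _ hx' with h2 | h2
        · exact h2
        · exfalso
          -- `x⁻¹`-translate: consider `e⁻¹ x e e ∈ D₀`, so `e⁻¹ x ∈ D₀` as `e e ∈ D₀`
          have h3 : e * e ∈ D₀ := by
            rcases h.cosets e h.e_mem with h3 | h3
            · exact absurd h3 h.e_not
            · exact h3
          have h4 : e⁻¹ * x ∈ D₀ := by
            have : e⁻¹ * x = (e⁻¹ * x * e * e) * (e * e)⁻¹ := by group
            rw [this]
            exact D₀.mul_mem h2 (D₀.inv_mem h3)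
          have h5 : e⁻¹ ∈ D₀ := (D₀.mul_mem_cancel_right h1).1 h4
          exact h.e_not (by simpa using D₀.inv_mem h5)
      · intro h1
        rcases h.cosets x hx with h2 | h2
        · exact h2
        · exfalso
          have h3 : e⁻¹ ∈ D₀ := by
            have : e⁻¹ = (e⁻¹ * x * e) * (x * e)⁻¹ := by group
            rw [this]
            exact D₀.mul_mem h1 (D₀.inv_mem h2)
          exact h.e_not (by simpa using D₀.inv_mem h3)
    exact key _ k.2
  have hfin : ∀ i, Finite (MulAction.orbit D (v i)) := fun i =>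
    Finite.of_surjective (fun d : D => (⟨d • v i, MulAction.mem_orbit _ _⟩ : MulAction.orbit D (v i)))
      (by rintro ⟨_, d, rfl⟩; exact ⟨d, rfl⟩)
  have : Finite Y := Finite.of_surjective (fun d : D => d • y0) htr
  have hb := Abstract.balance D y0 htr τ (fun k hk => h.conj _ ((hstab k).1 hk))
    (fun k hk => h.conj' _ ((hstab k).1 hk)) eD 1 he (one_smul _ _)
    (by rw [show ((1 : D) : G) = 1 from rfl, mul_one]; exact h.inv) v hdisj hfin
    (fun i y => if y = y0 then tp i else tm i)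
    (by
      intro i y
      rcases hY y with rfl | rfl
      · refine ⟨1, one_smul _ _, ?_⟩
        simpa using htp i
      · refine ⟨eD, rfl, ?_⟩
        simp only [hey, if_false]
        have e1 : τ • (eD⁻¹ • v i) = eD⁻¹ • (τ⁻¹ • v i) := by
          change τ • (e⁻¹ • v i) = e⁻¹ • (τ⁻¹ • v i)
          rw [← mul_smul, ← mul_smul, h.tau_e]
        rw [e1]
        exact MulAction.mem_orbit_of_mem_orbit _ (htm i)) r s
  have hcard : ∀ i j : ρ, Nat.card {y : Y // (if y = y0 then tp i else tm i) = j} =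
      (if tp i = j then 1 else 0) + (if tm i = j then 1 else 0) := by
    intro i j
    have : Fintype Y := Fintype.ofFinite Y
    rw [Nat.card_eq_fintype_card, Fintype.card_subtype]
    have hu : (Finset.univ : Finset Y) = {y0, eD • y0} := by
      ext y
      simpa using hY y
    rw [hu, Finset.filter_insert, Finset.filter_singleton]
    simp only [if_true, hey, if_false]
    by_cases h1 : tp i = j <;> by_cases h2 : tm i = j <;> simp [h1, h2, Ne.symm hey]
  rw [hcard, hcard] at hb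
  exact hb

end TauData

/-- Orbit lengths from a spanning tree: `x r * p r = x (par r) * q r` and `N r * p r = N (par r) * q r`. -/
theorem sizes_of_tree {ρ : Type*} (x N : ρ → ℕ) (par : ρ → ρ) (rk : ρ → ℕ) (r₀ : ρ) (p q : ρ → ℕ)
    (h0 : x r₀ = N r₀) (hp : ∀ r, r ≠ r₀ → p r ≠ 0) (hrk : ∀ r, r ≠ r₀ → rk (par r) < rk r)
    (hx : ∀ r, r ≠ r₀ → x r * p r = x (par r) * q r) (hN : ∀ r, r ≠ r₀ → N r * p r = N (par r) * q r) :
    ∀ r, x r = N r := by
  have key : ∀ n, ∀ r, rk r = n → x r = N r := by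
    intro n
    induction n using Nat.strong_induction_on with
    | _ n ih =>
      intro r hr
      by_cases h : r = r₀
      · rw [h]; exact h0
      · have h1 := ih _ (hr ▸ hrk r h) (par r) rfl
        have h2 := hx r h
        rw [h1, ← hN r h] at h2
        exact Nat.eq_of_mul_eq_mul_right (Nat.pos_of_ne_zero (hp r h)) h2
  exact fun r => key _ r rfl

/-! ### From `D`-orbits to `K`-orbits -/

section Korb

variable {ρ κ : Type*} (K D : Subgroup G) (b : κ → V) (v : ρ → V) (jof : ρ → κ)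

/-- The `D`-orbits of the `v r` refine the `K`-orbits of the `b j`. -/
structure Refines : Prop where
  le : D ≤ K
  rep : ∀ r, v r ∈ MulAction.orbit K (b (jof r))
  cov : ∀ j, ∀ x ∈ MulAction.orbit K (b j), ∃ r, jof r = j ∧ x ∈ MulAction.orbit D (v r)

variable {K D b v jof}

theorem Refines.mem_K (h : Refines K D b v jof) {r : ρ} {x : V} (hx : x ∈ MulAction.orbit D (v r)) :
    x ∈ MulAction.orbit K (b (jof r)) := by
  obtain ⟨d, rfl⟩ := hx
  exact MulAction.mem_orbit_of_mem_orbit (⟨d, h.le d.2⟩ : K) (h.rep r)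

theorem mem_orbit_self_of {H : Subgroup G} {x y z : V} (h1 : x ∈ MulAction.orbit H y)
    (h2 : x ∈ MulAction.orbit H z) : y ∈ MulAction.orbit H z := by
  rw [← MulAction.orbit_eq_iff] at h1 h2 ⊢
  rw [← h1, h2]

/-- `K`-orbits of different representatives are different. -/
theorem Refines.K_disj (h : Refines K D b v jof)
    (hdisj : ∀ r s, v r ∈ MulAction.orbit D (v s) → r = s) (hne : ∀ j, ∃ r, jof r = j) (i j : κ)
    (hij : b i ∈ MulAction.orbit K (b j)) : i = j := by
  obtain ⟨r, hr⟩ := hne i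
  have h1 : v r ∈ MulAction.orbit K (b j) := by
    have h2 := h.rep r
    rw [hr] at h2
    rw [← MulAction.orbit_eq_iff] at h2 hij ⊢
    rw [h2, hij]
  obtain ⟨s, hs, h3⟩ := h.cov j _ h1
  have := hdisj r s h3
  rw [← hr, this, hs]

/-- `K`-orbit lengths are the sums of the lengths of the `D`-orbits. -/
theorem Refines.card_orbit_K [Fintype ρ] [DecidableEq κ] [Finite K] (h : Refines K D b v jof)
    (hdisj : ∀ r s, v r ∈ MulAction.orbit D (v s) → r = s) (j : κ) :
    Nat.card (MulAction.orbit K (b j)) =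
      ∑ r, if jof r = j then Nat.card (MulAction.orbit D (v r)) else 0 := by
  classical
  have hfinK : ∀ x : V, Finite (MulAction.orbit K x) := fun x =>
    Finite.of_surjective (fun d : K => (⟨d • x, MulAction.mem_orbit _ _⟩ : MulAction.orbit K x))
      (by rintro ⟨_, d, rfl⟩; exact ⟨d, rfl⟩)
  have hfinD : ∀ r, Finite (MulAction.orbit D (v r)) := fun r =>
    Finite.of_injective (fun x : MulAction.orbit D (v r) => (⟨x, h.mem_K x.2⟩ :
      MulAction.orbit K (b (jof r)))) (fun x y e => Subtype.ext (congrArg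
        (fun z : MulAction.orbit K (b (jof r)) => (z : V)) e))
  have hx : ∀ x : MulAction.orbit K (b j), ∃ r, jof r = j ∧ (x : V) ∈ MulAction.orbit D (v r) :=
    fun x => h.cov j x x.2
  choose idx hidx using hx
  have e1 : Nat.card (MulAction.orbit K (b j)) =
      Nat.card (Σ r : {r : ρ // jof r = j}, MulAction.orbit D (v r)) := by
    refine Nat.card_congr ⟨fun x => ⟨⟨idx x, (hidx x).1⟩, ⟨x, (hidx x).2⟩⟩,
      fun y => ⟨(y.2 : V), ?_⟩, ?_, ?_⟩
    · have := h.mem_K y.2.2
      rw [y.1.2] at this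
      exact this
    · intro x
      rfl
    · rintro ⟨⟨r, hr⟩, ⟨x, hx⟩⟩
      have hxK : x ∈ MulAction.orbit K (b j) := by
        have := h.mem_K hx
        rw [hr] at this
        exact this
      have hi : idx ⟨x, hxK⟩ = r := hdisj _ _ (mem_orbit_self_of (hidx ⟨x, hxK⟩).2 hx)
      have aux : ∀ s (hs : jof s = j) (h1 : x ∈ MulAction.orbit D (v s)), s = r →
          (⟨⟨s, hs⟩, ⟨x, h1⟩⟩ : Σ r : {r : ρ // jof r = j}, MulAction.orbit D (v r)) =
            ⟨⟨r, hr⟩, ⟨x, hx⟩⟩ := by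
        rintro s hs h1 rfl
        rfl
      exact aux _ _ _ hi
  rw [e1, Nat.card_sigma]
  rw [← Finset.sum_filter]
  refine Finset.sum_bij' (fun r _ => r.1) (fun r hr => ⟨r, (Finset.mem_filter.1 hr).2⟩) ?_ ?_ ?_ ?_ ?_
  · intro r _
    simp [r.2]
  · intro r hr
    simp
  · intro r _
    rfl
  · intro r _
    rfl
  · intro r _
    rfl

end Korb

end Cfsg.Agent.MonsterX.CertOrb
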