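import Mathlib.GroupTheory.Sylow
import Mathlib.GroupTheory.Nilpotent
import Mathlib.GroupTheory.Solvable
import Mathlib.GroupTheory.Commutator.Basic
import Mathlib.GroupTheory.Subgroup.Simple

set_option autoImplicit false

/-!
A simplicity criterion: a finite group `G` with an involution `z` whose centraliser `C` has a
normal non-abelian 2-subgroup `Q` containing `z` such that

* every `C`-invariant subgroup of `Q` is contained in `{1, z}` or equal to `Q`;
* every normal subgroup of `C` containing `Q` is `Q` or `C`;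
* some conjugate of `z` other than `z` lies in `Q`;
* some conjugate of an element of `Q` lies in `C` but not in `Q`

is simple.
-/

namespace Cfsg.Agent.MonsterX.SimpleCrit

open Subgroup

universe u

variable {G : Type u} [Group G]

/-- Membership in the centraliser of an element as a commutation relation. -/
theorem mem_cent {z c : G} : c ∈ centralizer ({z} : Set G) ↔ c * z = z * c := by
  rw [mem_centralizer_singleton_iff]

/-- The hypotheses of the simplicity criterion. -/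
structure Hyp (z : G) (Q : Subgroup G) : Prop where
  sq : z * z = 1
  ne : z ≠ 1
  two : IsPGroup 2 Q
  mem : z ∈ Q
  le : Q ≤ centralizer ({z} : Set G)
  inv : ∀ c ∈ centralizer ({z} : Set G), ∀ q ∈ Q, c * q * c⁻¹ ∈ Q
  irr : ∀ R : Subgroup G, R ≤ Q → (∀ c ∈ centralizer ({z} : Set G), ∀ r ∈ R, c * r * c⁻¹ ∈ R) →
    (∀ r ∈ R, r = 1 ∨ r = z) ∨ R = Q
  top : ∀ R : Subgroup G, Q ≤ R → R ≤ centralizer ({z} : Set G) →
    (∀ c ∈ centralizer ({z} : Set G), ∀ r ∈ R, c * r * c⁻¹ ∈ R) →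
    R = Q ∨ R = centralizer ({z} : Set G)
  fus : ∃ g : G, g * z * g⁻¹ ∈ Q ∧ g * z * g⁻¹ ≠ z
  out : ∃ q ∈ Q, ∃ g : G, g * q * g⁻¹ ∈ centralizer ({z} : Set G) ∧ g * q * g⁻¹ ∉ Q
  nab : ∃ a ∈ Q, ∃ b ∈ Q, a * b ≠ b * a

variable {z : G} {Q : Subgroup G}

/-- An involution acting without fixed points on a finite normal subgroup inverts it. -/
theorem inverts_of_trivial [Finite G] {z : G} (hz : z * z = 1) {N : Subgroup G} [hN : N.Normal]
    (h : ∀ n ∈ N, n * z = z * n → n = 1) : ∀ n ∈ N, z * n * z = n⁻¹ := by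
  have hz' : z⁻¹ = z := inv_eq_of_mul_eq_one_left hz
  let f : N → N := fun n => ⟨n⁻¹ * (z * n * z⁻¹), N.mul_mem (N.inv_mem n.2) (hN.conj_mem n n.2 z)⟩
  have hf : Function.Injective f := by
    intro a b hab
    have h1 : (a : G)⁻¹ * (z * a * z⁻¹) = (b : G)⁻¹ * (z * b * z⁻¹) := congrArg Subtype.val hab
    have h2 : ((b : G) * (a : G)⁻¹) * z = z * ((b : G) * (a : G)⁻¹) := by
      have h3 : (b : G) * (a : G)⁻¹ * (z * a * z⁻¹) = z * b * z⁻¹ := by
        rw [mul_assoc, h1]; group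
      calc (b : G) * (a : G)⁻¹ * z
          = ((b : G) * (a : G)⁻¹ * (z * a * z⁻¹)) * z * (a : G)⁻¹ := by group
        _ = z * ((b : G) * (a : G)⁻¹) := by rw [h3]; group
    have h4 := h _ (N.mul_mem b.2 (N.inv_mem a.2)) h2
    exact Subtype.ext (mul_inv_eq_one.mp h4).symm
  intro n hn
  obtain ⟨m, hm⟩ := Finite.surjective_of_injective hf ⟨n, hn⟩
  have h5 : (m : G)⁻¹ * (z * m * z⁻¹) = n := congrArg Subtype.val hm
  rw [← h5, hz']
  have h6 : z * ((m : G)⁻¹ * (z * m * z)) * z = z * (m : G)⁻¹ * z * m * (z * z) := by group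
  rw [h6, hz]
  simp only [mul_inv_rev, inv_inv, hz', mul_one]
  group

/-- A subgroup inverted by two elements is centralised by their product. -/
theorem commute_mul_of_inverts {a b n : G} (ha : a * a = 1) (hb : b * b = 1)
    (h1 : a * n * a = n⁻¹) (h2 : b * n * b = n⁻¹) : (a * b) * n = n * (a * b) := by
  have h3 : b * n * b = a * n * a := by rw [h1, h2]
  calc (a * b) * n = a * (b * n * b) * b := by
        rw [show a * (b * n * b) * b = a * b * n * (b * b) by group, hb, mul_one]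
    _ = a * (a * n * a) * b := by rw [h3]
    _ = n * (a * b) := by
        rw [show a * (a * n * a) * b = (a * a) * n * a * b by group, ha, one_mul, mul_assoc]

theorem Hyp.conj_mem_inf (h : Hyp z Q) {N : Subgroup G} [hN : N.Normal] :
    ∀ c ∈ centralizer ({z} : Set G), ∀ r ∈ N ⊓ Q, c * r * c⁻¹ ∈ N ⊓ Q :=
  fun c hc r hr => ⟨hN.conj_mem r hr.1 c, h.inv c hc r hr.2⟩

/-- A normal subgroup meeting `Q` in more than `{1, z}` contains `Q`. -/
theorem Hyp.le_of_mem (h : Hyp z Q) {N : Subgroup G} [hN : N.Normal] {x : G} (hx : x ∈ N)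
    (hxQ : x ∈ Q) (hx1 : x ≠ 1) (hxz : x ≠ z) : Q ≤ N := by
  rcases h.irr (N ⊓ Q) inf_le_right h.conj_mem_inf with h1 | h1
  · rcases h1 x ⟨hx, hxQ⟩ with h2 | h2
    · exact absurd h2 hx1
    · exact absurd h2 hxz
  · rw [← h1]; exact inf_le_left

/-- A normal subgroup meeting `Q` nontrivially contains `Q`. -/
theorem Hyp.le_of_mem' (h : Hyp z Q) {N : Subgroup G} [hN : N.Normal] {x : G} (hx : x ∈ N)
    (hxQ : x ∈ Q) (hx1 : x ≠ 1) : Q ≤ N := by
  by_cases hxz : x = z
  · subst hxz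
    obtain ⟨g, hg, hg'⟩ := h.fus
    refine h.le_of_mem (hN.conj_mem _ hx g) hg ?_ hg'
    intro h1
    exact hx1 (conj_eq_one_iff.mp h1)
  · exact h.le_of_mem hx hxQ hx1 hxz

/-- A normal subgroup containing `Q` contains the centraliser of `z`. -/
theorem Hyp.cent_le (h : Hyp z Q) {N : Subgroup G} [hN : N.Normal] (hQN : Q ≤ N) :
    centralizer ({z} : Set G) ≤ N := by
  rcases h.top (N ⊓ centralizer ({z} : Set G)) (le_inf hQN h.le) inf_le_right
    (fun c hc r hr => ⟨hN.conj_mem r hr.1 c, Subgroup.mul_mem _ (Subgroup.mul_mem _ hc hr.2) (Subgroup.inv_mem _ hc)⟩) with h1 | h1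
  · obtain ⟨q, hq, g, hg, hg'⟩ := h.out
    exfalso
    apply hg'
    rw [← h1]
    exact ⟨hN.conj_mem q (hQN hq) g, hg⟩
  · rw [← h1]; exact inf_le_left

/-- The derived subgroup of `Q` is contained in `{1, z}`. -/
theorem Hyp.commutator_mem [Finite G] (h : Hyp z Q) {a b : G} (ha : a ∈ Q) (hb : b ∈ Q) :
    a * b * a⁻¹ * b⁻¹ = 1 ∨ a * b * a⁻¹ * b⁻¹ = z := by
  have := h.two.isNilpotent
  have hle : ⁅Q, Q⁆ ≤ Q := commutator_le.mpr fun x hx y hy =>
    mul_mem (mul_mem (mul_mem hx hy) (inv_mem hx)) (inv_mem hy)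
  rcases h.irr ⁅Q, Q⁆ hle (by
    intro c hc r hr
    have h1 : (⁅Q, Q⁆).map (MulAut.conj c).toMonoidHom ≤ ⁅Q, Q⁆ := by
      rw [map_commutator]
      have h2 : Q.map (MulAut.conj c).toMonoidHom ≤ Q := by
        rintro _ ⟨x, hx, rfl⟩
        exact h.inv c hc x hx
      exact commutator_mono h2 h2
    exact h1 ⟨r, hr, rfl⟩) with h1 | h1
  · exact h1 _ (commutator_mem_commutator ha hb)
  · exfalso
    have hnt : Nontrivial Q := ⟨⟨⟨z, h.mem⟩, 1, fun h2 => h.ne (congrArg Subtype.val h2)⟩⟩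
    have h2 : commutator Q < ⊤ := Group.IsSolvable.commutator_lt_top_of_nontrivial Q
    apply h2.ne
    rw [eq_top_iff]
    intro x _
    have h3 : (x : G) ∈ (commutator Q).map Q.subtype := by
      rw [commutator_def, map_commutator, ← MonoidHom.range_eq_map, range_subtype, h1]
      exact x.2
    obtain ⟨y, hy, hyx⟩ := h3
    rwa [Subtype.ext (show ((y : Q) : G) = x from hyx)] at hy

/-- The subgroup of `C` of the elements inducing on `Q` an inner automorphism of `Q`. -/
def inn (z : G) (Q : Subgroup G) : Subgroup G where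
  carrier := {c | c ∈ centralizer ({z} : Set G) ∧ ∃ q ∈ Q, ∀ x ∈ Q, c * x * c⁻¹ = q * x * q⁻¹}
  one_mem' := ⟨one_mem _, 1, one_mem _, fun _ _ => rfl⟩
  mul_mem' := by
    rintro a b ⟨ha, q, hq, h1⟩ ⟨hb, r, hr, h2⟩
    refine ⟨mul_mem ha hb, q * r, mul_mem hq hr, fun x hx => ?_⟩
    have h3 : r * x * r⁻¹ ∈ Q := mul_mem (mul_mem hr hx) (inv_mem hr)
    calc a * b * x * (a * b)⁻¹ = a * (b * x * b⁻¹) * a⁻¹ := by group
      _ = a * (r * x * r⁻¹) * a⁻¹ := by rw [h2 x hx]
      _ = q * (r * x * r⁻¹) * q⁻¹ := h1 _ h3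
      _ = q * r * x * (q * r)⁻¹ := by group
  inv_mem' := by
    rintro a ⟨ha, q, hq, h1⟩
    refine ⟨inv_mem ha, q⁻¹, inv_mem hq, fun x hx => ?_⟩
    have h3 : q⁻¹ * x * q⁻¹⁻¹ ∈ Q := mul_mem (mul_mem (inv_mem hq) hx) (inv_mem (inv_mem hq))
    have h4 := h1 _ h3
    have h5 : q * (q⁻¹ * x * q⁻¹⁻¹) * q⁻¹ = x := by group
    rw [h5] at h4
    calc a⁻¹ * x * a⁻¹⁻¹ = a⁻¹ * (a * (q⁻¹ * x * q⁻¹⁻¹) * a⁻¹) * a⁻¹⁻¹ := by rw [h4]
      _ = q⁻¹ * x * q⁻¹⁻¹ := by group

/-- The centraliser of `Q` is contained in `Q`. -/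
theorem Hyp.centralizer_le [Finite G] (h : Hyp z Q) : centralizer (Q : Set G) ≤ Q := by
  have hzc : centralizer (Q : Set G) ≤ centralizer ({z} : Set G) := by
    intro c hc
    rw [mem_cent]
    exact (mem_centralizer_iff.mp hc z h.mem).symm
  have hQi : Q ≤ inn z Q := fun q hq => ⟨h.le hq, q, hq, fun _ _ => rfl⟩
  have hCi : centralizer (Q : Set G) ≤ inn z Q := fun c hc =>
    ⟨hzc hc, 1, one_mem _, fun x hx => by
      rw [← mem_centralizer_iff.mp hc x hx]; simp⟩
  have hR : ∀ c ∈ centralizer ({z} : Set G), ∀ r ∈ inn z Q, c * r * c⁻¹ ∈ inn z Q := by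
    rintro c hc r ⟨hr, q, hq, h1⟩
    refine ⟨mul_mem (mul_mem hc hr) (inv_mem hc), c * q * c⁻¹, h.inv c hc q hq, fun x hx => ?_⟩
    have h2 : c⁻¹ * x * c ∈ Q := by simpa using h.inv c⁻¹ (inv_mem hc) x hx
    calc c * r * c⁻¹ * x * (c * r * c⁻¹)⁻¹ = c * (r * (c⁻¹ * x * c) * r⁻¹) * c⁻¹ := by group
      _ = c * (q * (c⁻¹ * x * c) * q⁻¹) * c⁻¹ := by rw [h1 _ h2]
      _ = c * q * c⁻¹ * x * (c * q * c⁻¹)⁻¹ := by group
  rcases h.top _ hQi (fun c hc => hc.1) hR with h1 | h1
  · exact hCi.trans h1.le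
  · exfalso
    obtain ⟨a, ha, b, hb, hab⟩ := h.nab
    have haz : a ≠ 1 ∧ a ≠ z := by
      constructor
      · rintro rfl; simp at hab
      · rintro rfl; exact hab (mem_cent.mp (h.le hb)).symm
    -- the subgroup generated by z and a
    let R : Subgroup G := closure {z, a}
    have hRQ : R ≤ Q := (closure_le _).mpr (by
      rintro x (rfl | rfl)
      · exact h.mem
      · exact ha)
    have haR : a ∈ R := subset_closure (by simp)
    have hzR : z ∈ R := subset_closure (by simp)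
    have hzC : ∀ c ∈ centralizer ({z} : Set G), c * z * c⁻¹ = z := fun c hc => by
      rw [mem_cent.mp hc, mul_inv_cancel_right]
    have hRinv : ∀ c ∈ centralizer ({z} : Set G), ∀ r ∈ R, c * r * c⁻¹ ∈ R := by
      intro c hc
      have hac : c * a * c⁻¹ = a ∨ c * a * c⁻¹ = z * a := by
        obtain ⟨_, q, hq, h2⟩ : c ∈ inn z Q := by rw [h1]; exact hc
        rw [h2 a ha]
        rcases h.commutator_mem hq ha with h3 | h3
        · left
          exact mul_inv_eq_one.mp h3
        · right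
          exact mul_inv_eq_iff_eq_mul.mp h3
      intro r hr
      refine closure_induction (p := fun r _ => c * r * c⁻¹ ∈ R) ?_ ?_ ?_ ?_ hr
      · rintro x (rfl | rfl)
        · rw [hzC c hc]; exact hzR
        · rcases hac with h2 | h2
          · rw [h2]; exact haR
          · rw [h2]; exact mul_mem hzR haR
      · simp
      · intro x y _ _ hx hy
        rw [show c * (x * y) * c⁻¹ = (c * x * c⁻¹) * (c * y * c⁻¹) by group]
        exact mul_mem hx hy
      · intro x _ hx
        rw [show c * x⁻¹ * c⁻¹ = (c * x * c⁻¹)⁻¹ by group]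
        exact inv_mem hx
    rcases h.irr R hRQ hRinv with h2 | h2
    · rcases h2 a haR with h3 | h3
      · exact haz.1 h3
      · exact haz.2 h3
    · -- R = Q would be abelian
      have h3 : ∀ x ∈ R, x * a = a * x := by
        intro x hx
        refine closure_induction (p := fun r _ => r * a = a * r) ?_ ?_ ?_ ?_ hx
        · rintro x (rfl | rfl)
          · exact (mem_cent.mp (h.le ha)).symm
          · rfl
        · simp
        · intro x y _ _ hx hy
          rw [mul_assoc, hy, ← mul_assoc, hx, mul_assoc]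
        · intro x _ hx
          rw [inv_mul_eq_iff_eq_mul, ← mul_assoc, hx, mul_inv_cancel_right]
      exact hab (h3 b (h2 ▸ hb)).symm

/-- The centre of `Q` is `{1, z}`. -/
theorem Hyp.eq_of_commute [Finite G] (h : Hyp z Q) {x : G} (hx : ∀ q ∈ Q, q * x = x * q) :
    x = 1 ∨ x = z := by
  have hxQ : x ∈ Q := h.centralizer_le (mem_centralizer_iff.mpr hx)
  have hx1 : x ∈ Q ⊓ centralizer (Q : Set G) := ⟨hxQ, mem_centralizer_iff.mpr hx⟩
  rcases h.irr (Q ⊓ centralizer (Q : Set G)) inf_le_left (by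
    rintro c hc r ⟨hr, hr'⟩
    refine ⟨h.inv c hc r hr, mem_centralizer_iff.mpr fun q hq => ?_⟩
    have h2 : c⁻¹ * q * c ∈ Q := by simpa using h.inv c⁻¹ (inv_mem hc) q hq
    have h3 := mem_centralizer_iff.mp hr' _ h2
    calc q * (c * r * c⁻¹) = c * ((c⁻¹ * q * c) * r) * c⁻¹ := by group
      _ = c * (r * (c⁻¹ * q * c)) * c⁻¹ := by rw [h3]
      _ = c * r * c⁻¹ * q := by group) with h1 | h1
  · exact h1 x hx1
  · exfalso
    obtain ⟨a, ha, b, hb, hab⟩ := h.nab
    rw [← h1] at hb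
    exact hab (mem_centralizer_iff.mp hb.2 a ha)

/-- A 2-subgroup `P` with `Q ≤ P ≤ C` has normalizer inside `C`. -/
theorem Hyp.normalizer_le [Finite G] (h : Hyp z Q) {P : Subgroup G} (hQP : Q ≤ P)
    (hPC : P ≤ centralizer ({z} : Set G)) :
    normalizer (P : Set G) ≤ centralizer ({z} : Set G) := by
  intro g hg
  have h1 : ∀ q ∈ Q, q * (g * z * g⁻¹) = (g * z * g⁻¹) * q := by
    intro q hq
    have h2 : g⁻¹ * q * g ∈ P := by
      have h3 := mem_normalizer_iff.mp (inv_mem hg) q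
      simpa using h3.mp (hQP hq)
    have h3 := mem_cent.mp (hPC h2)
    calc q * (g * z * g⁻¹) = g * ((g⁻¹ * q * g) * z) * g⁻¹ := by group
      _ = g * (z * (g⁻¹ * q * g)) * g⁻¹ := by rw [h3]
      _ = (g * z * g⁻¹) * q := by group
  rcases h.eq_of_commute h1 with h2 | h2
  · exact absurd (conj_eq_one_iff.mp h2) h.ne
  · rw [mem_cent]
    exact mul_inv_eq_iff_eq_mul.mp h2

/-- A normal subgroup containing the centraliser of `z` is the whole group. -/
theorem Hyp.eq_top_of_cent_le [Finite G] (h : Hyp z Q) {N : Subgroup G} [hN : N.Normal]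
    (hCN : centralizer ({z} : Set G) ≤ N) : N = ⊤ := by
  classical
  have : Fact (Nat.Prime 2) := ⟨Nat.prime_two⟩
  set C : Subgroup G := centralizer ({z} : Set G) with hC
  -- a Sylow 2-subgroup of C containing Q
  have hQC2 : IsPGroup 2 (Q.subgroupOf C) := h.two.comap_subtype
  obtain ⟨P, hP⟩ := hQC2.exists_le_sylow
  let P0 : Subgroup G := (P : Subgroup C).map C.subtype
  have hP0C : P0 ≤ C := by
    rintro _ ⟨x, _, rfl⟩
    exact x.2
  have hQP0 : Q ≤ P0 := fun q hq => ⟨⟨q, h.le hq⟩, hP hq, rfl⟩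
  have hP02 : IsPGroup 2 P0 := P.isPGroup'.map C.subtype
  obtain ⟨P1, hP1⟩ := hP02.exists_le_sylow
  -- P0 is a Sylow 2-subgroup of G
  have hPeq : P0 = (P1 : Subgroup G) := by
    by_contra hne
    have hlt : P0 < (P1 : Subgroup G) := lt_of_le_of_ne hP1 hne
    have hnil : Group.IsNilpotent (P1 : Subgroup G) := P1.isPGroup'.isNilpotent
    have hcond : NormalizerCondition (P1 : Subgroup G) := Group.normalizerCondition_of_isNilpotent
    have hlt' : P0.subgroupOf (P1 : Subgroup G) < ⊤ := by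
      rw [lt_top_iff_ne_top]
      intro h1
      exact hlt.not_ge (subgroupOf_eq_top.mp h1)
    obtain ⟨x, hx, hx'⟩ := SetLike.exists_of_lt (hcond _ hlt')
    have hxN : (x : G) ∈ normalizer (P0 : Set G) := by
      rw [mem_normalizer_iff]
      intro y
      constructor
      · intro hy
        have h2 := (mem_normalizer_iff.mp hx ⟨y, hP1 hy⟩).mp hy
        exact h2
      · intro hy
        have hy1 : y ∈ (P1 : Subgroup G) := by
          have h3 := mul_mem (mul_mem (inv_mem x.2) (hP1 hy)) x.2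
          have h4 : (x : G)⁻¹ * ((x : G) * y * (x : G)⁻¹) * x = y := by group
          rwa [h4] at h3
        exact (mem_normalizer_iff.mp hx ⟨y, hy1⟩).mpr hy
    have hxC : (x : G) ∈ C := h.normalizer_le hQP0 hP0C hxN
    -- the intersection of P1 and C is a 2-group containing P
    have hT2 : IsPGroup 2 ((P1 : Subgroup G).subgroupOf C) := P1.isPGroup'.comap_subtype
    have hPT : (P : Subgroup C) ≤ (P1 : Subgroup G).subgroupOf C := by
      intro y hy
      exact hP1 ⟨y, hy, rfl⟩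
    have hTP := P.is_maximal' hT2 hPT
    apply hx'
    have h5 : (⟨x, hxC⟩ : C) ∈ (P : Subgroup C) := by
      rw [← hTP]
      exact x.2
    exact ⟨⟨x, hxC⟩, h5, rfl⟩
  have hle : (P1 : Subgroup G) ≤ N := hPeq ▸ hP0C.trans hCN
  have hF := Sylow.normalizer_sup_eq_top' P1 hle
  have hnle : normalizer ((P1 : Subgroup G) : Set G) ≤ N := by
    rw [← hPeq]
    exact (h.normalizer_le hQP0 hP0C).trans hCN
  rw [eq_top_iff, ← hF]
  exact sup_le hnle le_rfl

/-- **The simplicity criterion.** -/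
theorem Hyp.isSimpleGroup [Finite G] (h : Hyp z Q) : IsSimpleGroup G := by
  classical
  have : Fact (Nat.Prime 2) := ⟨Nat.prime_two⟩
  have hnt : Nontrivial G := ⟨⟨z, 1, h.ne⟩⟩
  refine ⟨fun N hN => ?_⟩
  by_cases hN1 : N = ⊥
  · exact Or.inl hN1
  right
  -- Step 1: N meets C nontrivially
  obtain ⟨n, hn, hnz, hn1⟩ : ∃ n ∈ N, n * z = z * n ∧ n ≠ 1 := by
    by_contra hcon
    push Not at hcon
    have hinv := inverts_of_trivial h.sq (N := N) hcon
    have hzi : z⁻¹ = z := inv_eq_of_mul_eq_one_left h.sq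
    obtain ⟨g, hg, hgz⟩ := h.fus
    have hsq' : (g * z * g⁻¹) * (g * z * g⁻¹) = 1 := by
      rw [show (g * z * g⁻¹) * (g * z * g⁻¹) = g * (z * z) * g⁻¹ by group, h.sq]; group
    have hinv' : ∀ n ∈ N, (g * z * g⁻¹) * n * (g * z * g⁻¹) = n⁻¹ := by
      intro n hn
      have h1 := hinv (g⁻¹ * n * g) (by simpa using hN.conj_mem n hn g⁻¹)
      calc (g * z * g⁻¹) * n * (g * z * g⁻¹) = g * (z * (g⁻¹ * n * g) * z) * g⁻¹ := by group
        _ = g * (g⁻¹ * n * g)⁻¹ * g⁻¹ := by rw [h1]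
        _ = n⁻¹ := by group
    -- the product z * z^g centralises N
    have hw : ∀ n ∈ N, (z * (g * z * g⁻¹)) * n = n * (z * (g * z * g⁻¹)) := fun n hn =>
      commute_mul_of_inverts h.sq hsq' (hinv n hn) (hinv' n hn)
    have hCN : (centralizer (N : Set G)).Normal := inferInstance
    have hwC : z * (g * z * g⁻¹) ∈ centralizer (N : Set G) :=
      mem_centralizer_iff.mpr fun n hn => (hw n hn).symm
    have hwQ : z * (g * z * g⁻¹) ∈ Q := mul_mem h.mem hg
    have hw1 : z * (g * z * g⁻¹) ≠ 1 := by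
      intro h1
      apply hgz
      have h2 := eq_inv_of_mul_eq_one_right h1
      rw [h2, hzi]
    have hwz : z * (g * z * g⁻¹) ≠ z := by
      intro h1
      have h2 : g * z * g⁻¹ = 1 := by simpa using h1
      exact h.ne (conj_eq_one_iff.mp h2)
    have hQN := h.le_of_mem (N := centralizer (N : Set G)) hwC hwQ hw1 hwz
    have hzN := mem_centralizer_iff.mp (hQN h.mem)
    apply hN1
    rw [eq_bot_iff]
    intro n hn
    exact mem_bot.mpr (hcon n hn (hzN n hn))
  -- Step 2: N meets Q nontrivially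
  have hQN : Q ≤ N := by
    by_contra hQN
    have htriv : ∀ x ∈ N, x ∈ Q → x = 1 := by
      intro x hx hxQ
      by_contra hx1
      exact hQN (h.le_of_mem' hx hxQ hx1)
    have hcn : ∀ q ∈ Q, q * n = n * q := by
      intro q hq
      have h1 : n * q * n⁻¹ * q⁻¹ ∈ N := by
        have h2 := hN.conj_mem n⁻¹ (inv_mem hn) q
        have h3 : n * (q * n⁻¹ * q⁻¹) ∈ N := mul_mem hn h2
        simpa [mul_assoc] using h3
      have h2 : n * q * n⁻¹ * q⁻¹ ∈ Q := mul_mem (h.inv n (mem_cent.mpr hnz) q hq) (inv_mem hq)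
      have h3 := htriv _ h1 h2
      rw [mul_inv_eq_one, mul_inv_eq_iff_eq_mul] at h3
      exact h3.symm
    have hnQ : n ∈ Q := h.centralizer_le (mem_centralizer_iff.mpr hcn)
    exact hn1 (htriv n hn hnQ)
  have hCN := h.cent_le hQN
  -- Step 3: Frattini argument
  exact h.eq_top_of_cent_le hCN

end Cfsg.Agent.MonsterX.SimpleCrit
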