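/-
Subgroups of an arbitrary group isomorphic to a presented simple group, from words satisfying the relators:
a reflected syntax for words (`toFree : Wd α → FreeGroup α`, `flat : Wd α → List (α × Bool)`), and for the presented
groups `Cfsg.Spor.{Fi23,HN,Th,He}` the lists of their relators in this syntax.
-/
import Cfsg.Prelude.Def_Sporadic
import Cfsg.Prelude.Def_Spor_Fi23
import Cfsg.Prelude.Def_Spor_HN
import Cfsg.Prelude.Def_Spor_Th
import Cfsg.Prelude.Def_Spor_He

set_option autoImplicit false

namespace Cfsg.Agent.MonsterX.WordSub

/-! ### Words -/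

/-- Words over an alphabet. -/
inductive Wd (α : Type) : Type
  | one : Wd α
  | g (x : α) : Wd α
  | mul (a b : Wd α) : Wd α
  | inv (a : Wd α) : Wd α
  | pow (a : Wd α) (n : ℕ) : Wd α

/-- A word as an element of the free group. -/
def toFree {α : Type} : Wd α → FreeGroup α
  | .one => 1
  | .g x => FreeGroup.of x
  | .mul a b => toFree a * toFree b
  | .inv a => (toFree a)⁻¹
  | .pow a n => toFree a ^ n

/-- The value of a word. -/
def ev {α G : Type} [Group G] (f : α → G) : Wd α → G
  | .one => 1
  | .g x => f x
  | .mul a b => ev f a * ev f b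
  | .inv a => (ev f a)⁻¹
  | .pow a n => ev f a ^ n

theorem lift_toFree {α G : Type} [Group G] (f : α → G) (w : Wd α) : FreeGroup.lift f (toFree w) = ev f w := by
  induction w with
  | one => exact map_one _
  | g x => exact FreeGroup.lift_apply_of
  | mul a b ha hb =>
    change FreeGroup.lift f (toFree a * toFree b) = ev f a * ev f b
    rw [map_mul, ha, hb]
  | inv a ha =>
    change FreeGroup.lift f (toFree a)⁻¹ = (ev f a)⁻¹
    rw [map_inv, ha]
  | pow a n ha =>
    change FreeGroup.lift f (toFree a ^ n) = ev f a ^ n
    rw [map_pow, ha]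

/-- `n` copies of a list. -/
def rep {β : Type} (l : List β) : ℕ → List β
  | 0 => []
  | n + 1 => l ++ rep l n

/-- The letters of a word (`s = true`: of its inverse), the letter `(x, true)` is the inverse of `x`. -/
def flat {α : Type} : Wd α → Bool → List (α × Bool)
  | .one, _ => []
  | .g x, s => [(x, s)]
  | .mul a b, false => flat a false ++ flat b false
  | .mul a b, true => flat b true ++ flat a true
  | .inv a, false => flat a true
  | .inv a, true => flat a false
  | .pow a n, s => rep (flat a s) n

/-- The value of a letter. -/
def letter {α G : Type} [Group G] (f : α → G) (p : α × Bool) : G := if p.2 then (f p.1)⁻¹ else f p.1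

theorem rep_prod {β G : Type} [Group G] (h : β → G) (l : List β) (n : ℕ) :
    ((rep l n).map h).prod = (l.map h).prod ^ n := by
  induction n with
  | zero => simp [rep]
  | succ n ih => rw [rep, List.map_append, List.prod_append, ih, pow_succ']

theorem flat_prod {α G : Type} [Group G] (f : α → G) (w : Wd α) :
    ((flat w false).map (letter f)).prod = ev f w ∧ ((flat w true).map (letter f)).prod = (ev f w)⁻¹ := by
  induction w with
  | one => simp [flat, ev]
  | g x => simp [flat, ev, letter]
  | mul a b ha hb =>
    constructor
    · change ((flat a false ++ flat b false).map (letter f)).prod = _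
      rw [List.map_append, List.prod_append, ha.1, hb.1]
      rfl
    · change ((flat b true ++ flat a true).map (letter f)).prod = (ev f a * ev f b)⁻¹
      rw [List.map_append, List.prod_append, ha.2, hb.2, mul_inv_rev]
  | inv a ha =>
    constructor
    · exact ha.2
    · change ((flat a false).map (letter f)).prod = ((ev f a)⁻¹)⁻¹
      rw [ha.1, inv_inv]
  | pow a n ha =>
    constructor
    · change ((rep (flat a false) n).map (letter f)).prod = ev f a ^ n
      rw [rep_prod, ha.1]
    · change ((rep (flat a true) n).map (letter f)).prod = (ev f a ^ n)⁻¹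
      rw [rep_prod, ha.2, inv_pow]

/-! ### Subgroups from words -/

open Cfsg.Spor in
/-- A simple presented group whose relators hold for the elements `f x`, not all trivial, is isomorphic to a subgroup
contained in every subgroup containing all `f x`. -/
theorem exists_subgroup {α G : Type} [DecidableEq α] [Group G] (edges : List (α × ℕ × α))
    (extra : List (FreeGroup α)) (hs : IsSimpleGroup (CoxPresented α edges extra)) (f : α → G)
    (h : ∀ r ∈ coxRelators edges ∪ {r | r ∈ extra}, FreeGroup.lift f r = 1) (hne : ∃ x, f x ≠ 1) :
    ∃ K : Subgroup G, Nonempty (CoxPresented α edges extra ≃* K) ∧ K = Subgroup.closure (Set.range f) := by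
  have hinj : Function.Injective (PresentedGroup.toGroup h) := by
    rw [← MonoidHom.ker_eq_bot_iff]
    rcases (PresentedGroup.toGroup h).normal_ker.eq_bot_or_eq_top with h1 | h1
    · exact h1
    · exfalso
      obtain ⟨x, hx⟩ := hne
      apply hx
      have h2 : (PresentedGroup.of x : CoxPresented α edges extra) ∈ (PresentedGroup.toGroup h).ker := by
        rw [h1]; trivial
      rw [MonoidHom.mem_ker, PresentedGroup.toGroup.of] at h2
      exact h2
  refine ⟨(PresentedGroup.toGroup h).range, ⟨(MonoidHom.ofInjective hinj)⟩, ?_⟩
  rw [MonoidHom.range_eq_map, ← PresentedGroup.closure_range_of, MonoidHom.map_closure]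
  congr 1
  ext y
  constructor
  · rintro ⟨_, ⟨x, rfl⟩, rfl⟩
    exact ⟨x, (PresentedGroup.toGroup.of h).symm⟩
  · rintro ⟨x, rfl⟩
    exact ⟨_, ⟨x, rfl⟩, PresentedGroup.toGroup.of h⟩

/-- Simplicity transfers along an isomorphism. -/
theorem isSimple_of_equiv {G H : Type} [Group G] [Group H] (e : G ≃* H) (h : IsSimpleGroup G) : IsSimpleGroup H := by
  have : Nontrivial H := e.symm.toEquiv.nontrivial
  exact IsSimpleGroup.isSimpleGroup_of_surjective e.toMonoidHom e.surjective

/-- A family of relators in the reflected syntax, the words of all relators of a presented group. -/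
structure Rels {α : Type} [DecidableEq α] (edges : List (α × ℕ × α)) (extra : List (FreeGroup α))
    (ws : List (Wd α)) : Prop where
  all : ∀ r ∈ Cfsg.Spor.coxRelators edges ∪ {r | r ∈ extra}, ∃ w ∈ ws, r = toFree w

theorem Rels.lift_eq_one {α G : Type} [DecidableEq α] [Group G] {edges : List (α × ℕ × α)}
    {extra : List (FreeGroup α)} {ws : List (Wd α)} (H : Rels edges extra ws) (f : α → G)
    (h : ∀ w ∈ ws, ev f w = 1) : ∀ r ∈ Cfsg.Spor.coxRelators edges ∪ {r | r ∈ extra}, FreeGroup.lift f r = 1 := by
  intro r hr
  obtain ⟨w, hw, rfl⟩ := H.all r hr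
  rw [lift_toFree]
  exact h w hw

end Cfsg.Agent.MonsterX.WordSub
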