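/-
The relators of the presented groups `Cfsg.Spor.{Fi23,HN,Th,He,BabyMonster}` as reflected words, and the theorems
producing subgroups `K` with `IsFi23 K`, `IsHN K`, `IsTh K`, `IsHe K` from elements satisfying the relators.
-/
import Cfsg.Agent.MonsterX.WordSub
import Cfsg.Prelude.Def_Spor_B

set_option autoImplicit false

namespace Cfsg.Agent.MonsterX.WordRels

open Cfsg.Agent.MonsterX.WordSub Cfsg.Spor

/-- The Coxeter relators hold if they hold for all pairs of generators. -/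
theorem cox_lift {α G : Type} [DecidableEq α] [Group G] (edges : List (α × ℕ × α)) (f : α → G)
    (h : ∀ x ∈ coxNodes edges, ∀ y ∈ coxNodes edges, (f x * f y) ^ coxLabel edges x y = 1) :
    ∀ r ∈ coxRelators edges, FreeGroup.lift f r = 1 := by
  rintro r ⟨x, hx, y, hy, rfl⟩
  rw [map_pow, map_mul, FreeGroup.lift_apply_of, FreeGroup.lift_apply_of]
  exact h x hx y hy

theorem lift_extra {α G : Type} [Group G] {extra : List (FreeGroup α)} {ws : List (Wd α)}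
    (he : extra = ws.map toFree) (f : α → G) (h : ∀ w ∈ ws, ev f w = 1) : ∀ r ∈ extra, FreeGroup.lift f r = 1 := by
  intro r hr
  rw [he, List.mem_map] at hr
  obtain ⟨w, hw, rfl⟩ := hr
  rw [lift_toFree]
  exact h w hw

/-- The transposed Coxeter relation. -/
theorem cox_symm {G : Type} [Group G] (a b : G) (n : ℕ) (h : (a * b) ^ n = 1) (ha : a * a = 1) (hb : b * b = 1) :
    (b * a) ^ n = 1 := by
  have e : b * a = (a * b)⁻¹ := by
    rw [mul_inv_rev, inv_eq_of_mul_eq_one_left ha, inv_eq_of_mul_eq_one_left hb]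
  rw [e, inv_pow, h, inv_one]

/-- The further relators of `Cfsg.Spor.Fi23`. -/
def fi23Ws : List (Wd Cfsg.Spor.Fi23.Gen) := [
  .pow (.mul (.mul (.mul (.mul (.mul (.mul (.mul (.mul (.g .d) (.g .c)) (.g .b)) (.g .d)) (.g .e)) (.g .f)) (.g .d)) (.g .h)) (.g .i)) 10,
  .pow (.mul (.mul (.mul (.mul (.mul (.mul (.g .a) (.g .b)) (.g .c)) (.g .d)) (.g .e)) (.g .f)) (.g .h)) 9]

theorem fi23_extra : Cfsg.Spor.Fi23.extra = fi23Ws.map toFree := rfl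

/-- The further relators of `Cfsg.Spor.HN`. -/
def hnWs : List (Wd Cfsg.Spor.HN.Gen) := [
  .pow (.g .y) 6,
  .mul (.mul (.mul (.pow (.g .x) 2) (.g .y)) (.pow (.g .x) 2)) (.inv (.g .y)),
  .pow (.mul (.mul (.mul (.inv (.g .x)) (.inv (.g .y))) (.g .x)) (.g .y)) 3,
  .pow (.mul (.mul (.mul (.inv (.g .x)) (.pow (.g .y) 2)) (.g .x)) (.pow (.g .y) 3)) 3,
  .pow (.mul (.g .x) (.g .y)) 8,
  .pow (.mul (.mul (.mul (.g .x) (.g .y)) (.g .x)) (.pow (.g .y) 3)) 4,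
  .pow (.g .z) 2,
  .pow (.mul (.g .z) (.g .x)) 2,
  .mul (.mul (.mul (.mul (.inv (.g .z)) (.inv (.mul (.mul (.mul (.mul (.mul (.mul (.g .y) (.g .x)) (.g .y)) (.g .x)) (.pow (.g .y) 2)) (.g .x)) (.inv (.g .y))))) (.g .z)) (.mul (.mul (.mul (.mul (.mul (.mul (.g .y) (.g .x)) (.g .y)) (.g .x)) (.pow (.g .y) 2)) (.g .x)) (.inv (.g .y)))) (.inv (.pow (.g .x) 2)),
  .mul (.g .z) (.pow (.mul (.mul (.mul (.inv (.mul (.mul (.mul (.mul (.pow (.g .y) 3) (.g .x)) (.g .y)) (.g .x)) (.g .y))) (.g .z)) (.mul (.mul (.mul (.mul (.pow (.g .y) 3) (.g .x)) (.g .y)) (.g .x)) (.g .y))) (.g .x)) 3),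
  .pow (.g .t) 5,
  .mul (.mul (.mul (.inv (.g .x)) (.g .t)) (.g .x)) (.pow (.g .t) 2),
  .mul (.mul (.mul (.inv (.g .t)) (.inv (.g .y))) (.g .t)) (.g .y),
  .pow (.mul (.g .z) (.g .t)) 3]

theorem hn_extra : Cfsg.Spor.HN.extra = hnWs.map toFree := rfl

/-- The further relators of `Cfsg.Spor.Th`. -/
def thWs : List (Wd Cfsg.Spor.Th.Gen) := [
  .pow (.g .a) 2,
  .pow (.g .b) 2,
  .pow (.g .c) 2,
  .pow (.g .d) 2,
  .pow (.g .e) 2,
  .pow (.mul (.g .a) (.g .b)) 3,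
  .pow (.mul (.g .a) (.g .e)) 2,
  .pow (.mul (.g .b) (.g .c)) 3,
  .pow (.mul (.g .b) (.g .d)) 2,
  .pow (.mul (.g .b) (.g .e)) 2,
  .mul (.g .a) (.inv (.pow (.mul (.g .c) (.g .d)) 4)),
  .pow (.mul (.g .c) (.g .e)) 2,
  .pow (.mul (.g .d) (.g .e)) 3,
  .pow (.mul (.mul (.mul (.g .b) (.g .c)) (.g .d)) (.g .e)) 8,
  .pow (.g .s) 7,
  .mul (.mul (.mul (.inv (.g .s)) (.inv (.g .a))) (.g .s)) (.g .a),
  .mul (.mul (.mul (.inv (.g .s)) (.inv (.g .b))) (.g .s)) (.g .b),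
  .mul (.mul (.mul (.inv (.g .s)) (.inv (.g .c))) (.g .s)) (.g .c),
  .pow (.mul (.g .s) (.g .d)) 2,
  .mul (.mul (.mul (.mul (.inv (.g .e)) (.inv (.g .s))) (.g .e)) (.g .s)) (.inv (.mul (.mul (.inv (.pow (.g .s) 3)) (.g .e)) (.pow (.g .s) 3))),
  .pow (.g .t) 3,
  .mul (.mul (.mul (.inv (.g .t)) (.inv (.g .a))) (.g .t)) (.g .a),
  .mul (.mul (.mul (.inv (.g .t)) (.inv (.g .b))) (.g .t)) (.g .b),
  .mul (.mul (.mul (.inv (.g .t)) (.inv (.g .c))) (.g .t)) (.g .c),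
  .mul (.mul (.mul (.inv (.g .t)) (.inv (.g .d))) (.g .t)) (.g .d),
  .mul (.mul (.mul (.inv (.g .t)) (.inv (.g .e))) (.g .t)) (.g .e),
  .mul (.mul (.mul (.inv (.g .t)) (.g .s)) (.g .t)) (.inv (.pow (.g .s) 2)),
  .mul (.pow (.g .u) 2) (.inv (.mul (.g .a) (.g .c))),
  .mul (.mul (.mul (.inv (.g .u)) (.inv (.g .a))) (.g .u)) (.g .a),
  .mul (.mul (.mul (.inv (.g .u)) (.inv (.g .c))) (.g .u)) (.g .c),
  .mul (.mul (.mul (.inv (.g .u)) (.inv (.g .e))) (.g .u)) (.g .e),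
  .pow (.mul (.mul (.g .d) (.g .e)) (.mul (.mul (.inv (.g .u)) (.g .d)) (.g .u))) 2,
  .mul (.mul (.mul (.mul (.inv (.g .u)) (.inv (.mul (.mul (.inv (.g .b)) (.mul (.g .a) (.g .c))) (.g .b)))) (.g .u)) (.mul (.mul (.inv (.g .b)) (.mul (.g .a) (.g .c))) (.g .b))) (.inv (.g .e)),
  .mul (.mul (.mul (.mul (.inv (.mul (.mul (.inv (.g .d)) (.g .u)) (.g .d))) (.inv (.mul (.mul (.inv (.g .b)) (.mul (.g .a) (.g .c))) (.g .b)))) (.mul (.mul (.inv (.g .d)) (.g .u)) (.g .d))) (.mul (.mul (.inv (.g .b)) (.mul (.g .a) (.g .c))) (.g .b))) (.inv (.mul (.mul (.mul (.mul (.mul (.g .u) (.g .e)) (.mul (.mul (.inv (.g .b)) (.mul (.g .a) (.g .c))) (.g .b))) (.mul (.mul (.inv (.g .d)) (.g .u)) (.g .d))) (.g .e)) (.g .c))),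
  .mul (.mul (.mul (.inv (.g .u)) (.g .t)) (.g .u)) (.inv (.inv (.g .t))),
  .mul (.mul (.mul (.inv (.g .e)) (.inv (.mul (.mul (.inv (.pow (.g .s) 2)) (.g .u)) (.pow (.g .s) 2)))) (.g .e)) (.mul (.mul (.inv (.pow (.g .s) 2)) (.g .u)) (.pow (.g .s) 2)),
  .mul (.mul (.g .a) (.g .c)) (.inv (.pow (.mul (.g .u) (.g .s)) 3)),
  .mul (.mul (.g .a) (.g .c)) (.inv (.pow (.mul (.mul (.mul (.inv (.g .u)) (.inv (.g .s))) (.g .u)) (.g .s)) 4)),
  .mul (.pow (.mul (.g .d) (.mul (.mul (.inv (.pow (.g .s) 2)) (.g .u)) (.pow (.g .s) 2))) 4) (.inv (.mul (.mul (.mul (.mul (.g .a) (.g .c)) (.mul (.mul (.inv (.g .d)) (.g .c)) (.g .d))) (.mul (.mul (.inv (.mul (.mul (.g .d) (.g .e)) (.inv (.g .s)))) (.g .c)) (.mul (.mul (.g .d) (.g .e)) (.inv (.g .s))))) (.mul (.mul (.inv (.mul (.mul (.g .d) (.g .e)) (.pow (.g .s) 2))) (.g .c)) (.mul (.mul (.g .d) (.g .e)) (.pow (.g .s) 2)))))]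

theorem th_extra : Cfsg.Spor.Th.extra = thWs.map toFree := rfl

/-- The further relators of `Cfsg.Spor.He`. -/
def heWs : List (Wd Cfsg.Spor.He.Gen) := [
  .mul (.g .e) (.inv (.pow (.mul (.g .f) (.g .g)) 2)),
  .mul (.g .e) (.inv (.pow (.mul (.mul (.g .a) (.g .b)) (.g .c)) 3)),
  .mul (.g .a) (.inv (.pow (.mul (.g .c) (.g .d)) 5)),
  .pow (.mul (.mul (.mul (.g .c) (.g .d)) (.g .f)) (.g .g)) 4]

theorem he_extra : Cfsg.Spor.He.extra = heWs.map toFree := rfl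

/-- The further relators of `Cfsg.Spor.BabyMonster`. -/
def bWs : List (Wd Cfsg.Spor.BabyMonster.Gen) := [
  .pow (.mul (.mul (.mul (.mul (.mul (.mul (.mul (.mul (.g .t5) (.g .t4)) (.g .t3)) (.g .t5)) (.g .t6)) (.g .t7)) (.g .t5)) (.g .t9)) (.g .t10)) 10,
  .pow (.mul (.mul (.mul (.mul (.mul (.mul (.g .t5) (.g .t4)) (.g .t3)) (.g .t6)) (.g .t7)) (.g .t8)) (.g .t9)) 9,
  .pow (.mul (.mul (.mul (.mul (.mul (.mul (.g .t5) (.g .t4)) (.g .t3)) (.g .t6)) (.g .t9)) (.g .t10)) (.g .t11)) 9]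

theorem b_extra : Cfsg.Spor.BabyMonster.extra = bWs.map toFree := rfl

/-! ### Subgroups -/

section

variable {G : Type} [Group G]

theorem th_of (hs : IsTh Cfsg.Spor.Th) (f : Cfsg.Spor.Th.Gen → G) (h : ∀ w ∈ thWs, ev f w = 1)
    (hne : ∃ x, f x ≠ 1) : ∃ K : Subgroup G, IsTh K ∧ K = Subgroup.closure (Set.range f) := by
  obtain ⟨K, ⟨e⟩, hK⟩ := exists_subgroup Cfsg.Spor.Th.edges Cfsg.Spor.Th.extra hs.1 f (by
    rintro r (hr | hr)
    · exact cox_lift _ f (fun x hx => absurd hx (by simp [coxNodes, Cfsg.Spor.Th.edges])) r hr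
    · exact lift_extra th_extra f h r hr) hne
  exact ⟨K, ⟨isSimple_of_equiv e hs.1, by rw [← hs.2]; exact Nat.card_congr e.symm.toEquiv⟩, hK⟩

theorem hn_of (hs : IsHN Cfsg.Spor.HN) (f : Cfsg.Spor.HN.Gen → G) (h : ∀ w ∈ hnWs, ev f w = 1)
    (hne : ∃ x, f x ≠ 1) : ∃ K : Subgroup G, IsHN K ∧ K = Subgroup.closure (Set.range f) := by
  obtain ⟨K, ⟨e⟩, hK⟩ := exists_subgroup Cfsg.Spor.HN.edges Cfsg.Spor.HN.extra hs.1 f (by
    rintro r (hr | hr)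
    · exact cox_lift _ f (fun x hx => absurd hx (by simp [coxNodes, Cfsg.Spor.HN.edges])) r hr
    · exact lift_extra hn_extra f h r hr) hne
  exact ⟨K, ⟨isSimple_of_equiv e hs.1, by rw [← hs.2]; exact Nat.card_congr e.symm.toEquiv⟩, hK⟩

theorem he_of (hs : IsHe Cfsg.Spor.He) (f : Cfsg.Spor.He.Gen → G)
    (hc : ∀ x y, (f x * f y) ^ coxLabel Cfsg.Spor.He.edges x y = 1) (h : ∀ w ∈ heWs, ev f w = 1)
    (hne : ∃ x, f x ≠ 1) : ∃ K : Subgroup G, IsHe K ∧ K = Subgroup.closure (Set.range f) := by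
  obtain ⟨K, ⟨e⟩, hK⟩ := exists_subgroup Cfsg.Spor.He.edges Cfsg.Spor.He.extra hs.1 f (by
    rintro r (hr | hr)
    · exact cox_lift _ f (fun x _ y _ => hc x y) r hr
    · exact lift_extra he_extra f h r hr) hne
  exact ⟨K, ⟨isSimple_of_equiv e hs.1, by rw [← hs.2]; exact Nat.card_congr e.symm.toEquiv⟩, hK⟩

theorem fi23_of (hs : IsFi23 Cfsg.Spor.Fi23) (f : Cfsg.Spor.Fi23.Gen → G)
    (hc : ∀ x y, (f x * f y) ^ coxLabel Cfsg.Spor.Fi23.edges x y = 1) (h : ∀ w ∈ fi23Ws, ev f w = 1)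
    (hne : ∃ x, f x ≠ 1) : ∃ K : Subgroup G, IsFi23 K ∧ K = Subgroup.closure (Set.range f) := by
  obtain ⟨K, ⟨e⟩, hK⟩ := exists_subgroup Cfsg.Spor.Fi23.edges Cfsg.Spor.Fi23.extra hs.1 f (by
    rintro r (hr | hr)
    · exact cox_lift _ f (fun x _ y _ => hc x y) r hr
    · exact lift_extra fi23_extra f h r hr) hne
  exact ⟨K, ⟨isSimple_of_equiv e hs.1, by rw [← hs.2]; exact Nat.card_congr e.symm.toEquiv⟩, hK⟩

end

end Cfsg.Agent.MonsterX.WordRels
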