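/-
Word layer, independent of the model: `W : List β → Γ` a map from words to a group with `W (v ++ v') = W v' * W v` (the
first letter acts first).  From words for the generators of a presented simple group, words for their inverses, and the
relators, we get a subgroup, and if all generators commute with an element `x` of order `p`, a subgroup of `C(x)`.
-/
import Cfsg.Agent.MonsterX.WordRels
import Cfsg.Prelude.Def_Sporadic

set_option autoImplicit false

namespace Cfsg.Agent.MonsterX.WordsCodeM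

open Cfsg.Agent.MonsterX.WordSub Cfsg.Agent.MonsterX.WordRels Cfsg.Spor

/-- A word map: the first letter acts first. -/
structure IsW {β Γ : Type} [Group Γ] (W : List β → Γ) : Prop where
  nil : W [] = 1
  app : ∀ v v', W (v ++ v') = W v' * W v

/-- Words for the generators and their inverses. -/
structure Sys (α β : Type) where
  /-- the word of a generator -/
  w : α → List β
  /-- the word of the inverse of a generator -/
  wi : α → List β

namespace Sys

variable {α β Γ : Type} [Group Γ] {W : List β → Γ} (S : Sys α β)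

/-- The word of a letter. -/
def lw (p : α × Bool) : List β := bif p.2 then S.wi p.1 else S.w p.1

/-- The word (application order) of a product of letters, in front of `acc`. -/
def wordA : List (α × Bool) → List β → List β
  | [], acc => acc
  | p :: l, acc => wordA l (S.lw p ++ acc)

/-- The word of a reflected word. -/
def word (r : Wd α) : List β := S.wordA (flat r false) []

theorem W_lw (hW : IsW W) (hi : ∀ x, W (S.w x ++ S.wi x) = 1) (p : α × Bool) :
    W (S.lw p) = letter (fun x => W (S.w x)) p := by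
  obtain ⟨x, b⟩ := p
  cases b with
  | false => rfl
  | true =>
    show W (S.wi x) = (W (S.w x))⁻¹
    have h := hi x
    rw [hW.app] at h
    exact eq_inv_of_mul_eq_one_left h

theorem W_wordA (hW : IsW W) (hi : ∀ x, W (S.w x ++ S.wi x) = 1) (l : List (α × Bool)) (acc : List β) :
    W (S.wordA l acc) = W acc * (l.map (letter fun x => W (S.w x))).prod := by
  induction l generalizing acc with
  | nil => simp [wordA]
  | cons p l ih => rw [wordA, ih, hW.app, S.W_lw hW hi, List.map_cons, List.prod_cons, mul_assoc]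

/-- The value of a reflected word. -/
theorem ev_eq (hW : IsW W) (hi : ∀ x, W (S.w x ++ S.wi x) = 1) (r : Wd α) :
    ev (fun x => W (S.w x)) r = W (S.word r) := by
  rw [word, S.W_wordA hW hi, hW.nil, one_mul, (flat_prod _ r).1]

/-- A relator holds as soon as its word is trivial. -/
theorem ev_of (hW : IsW W) (hi : ∀ x, W (S.w x ++ S.wi x) = 1) {r : Wd α} (h : W (S.word r) = 1) :
    ev (fun x => W (S.w x)) r = 1 := by
  rw [S.ev_eq hW hi, h]

end Sys

/-! ### Elements of a subgroup -/

section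

variable {α Γ : Type} [Group Γ] {G : Subgroup Γ}

/-- The values of words in a subgroup. -/
theorem ev_coe (f : α → G) (r : Wd α) : ((ev f r : G) : Γ) = ev (fun x => (f x : Γ)) r := by
  induction r with
  | one => rfl
  | g x => rfl
  | mul a b ha hb =>
    show ((ev f a * ev f b : G) : Γ) = _
    rw [Subgroup.coe_mul, ha, hb]
    rfl
  | inv a ha =>
    show (((ev f a)⁻¹ : G) : Γ) = _
    rw [Subgroup.coe_inv, ha]
    rfl
  | pow a n ha =>
    show ((ev f a ^ n : G) : Γ) = _
    rw [Subgroup.coe_pow, ha]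
    rfl

theorem ev_sub {f : α → G} {r : Wd α} (h : ev (fun x => (f x : Γ)) r = 1) : ev f r = 1 := by
  apply Subtype.ext
  rw [ev_coe, h]
  rfl

/-- The subgroup generated by elements commuting with `x` is contained in the centraliser of `x`. -/
theorem closure_le_centralizer {H : Type} [Group H] {f : α → H} {x : H} (h : ∀ a, x * f a = f a * x) :
    Subgroup.closure (Set.range f) ≤ Subgroup.centralizer ({x} : Set H) := by
  rw [Subgroup.closure_le]
  rintro _ ⟨a, rfl⟩
  exact Subgroup.mem_centralizer_singleton_iff.2 (h a).symm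

/-- Commutation of words. -/
theorem comm_of {β : Type} {W : List β → Γ} (hW : IsW W) {v v' : List β} (h : W (v ++ v') = W (v' ++ v)) :
    W v' * W v = W v * W v' := by
  rw [← hW.app, ← hW.app, h]

end

/-! ### The three parts -/

section

variable {Γ : Type} [Group Γ] {G : Subgroup Γ}

/-- **Harada-Norton.** `f x` satisfy the relators and commute with an element `y` of order `5`. -/
theorem hn_part (hs : Cfsg.IsHN Cfsg.Spor.HN) (f : Cfsg.Spor.HN.Gen → Γ) (hf : ∀ a, f a ∈ G)
    (h : ∀ r ∈ hnWs, ev f r = 1) (hne : ∃ a, f a ≠ 1) (y : Γ) (hy : y ∈ G) (hy5 : y ^ 5 = 1) (hy1 : y ≠ 1)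
    (hc : ∀ a, y * f a = f a * y) :
    ∃ x : G, orderOf x = 5 ∧ ∃ K : Subgroup G, K ≤ Subgroup.centralizer ({x} : Set G) ∧ Cfsg.IsHN K := by
  have : Fact (Nat.Prime 5) := ⟨by norm_num⟩
  let f' : Cfsg.Spor.HN.Gen → G := fun a => ⟨f a, hf a⟩
  obtain ⟨K, hK, hKe⟩ := hn_of hs f' (fun r hr => ev_sub (h r hr)) (by
    obtain ⟨a, ha⟩ := hne
    exact ⟨a, fun h1 => ha (congrArg Subtype.val h1)⟩)
  refine ⟨⟨y, hy⟩, orderOf_eq_prime (Subtype.ext hy5) (fun h1 => hy1 (congrArg Subtype.val h1)), K, ?_, hK⟩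
  rw [hKe]
  exact closure_le_centralizer fun a => Subtype.ext (hc a)

/-- **Held.** `f x` satisfy the relators and commute with an element `y` of order `7`. -/
theorem he_part (hs : Cfsg.IsHe Cfsg.Spor.He) (f : Cfsg.Spor.He.Gen → Γ) (hf : ∀ a, f a ∈ G)
    (hcox : ∀ a b, (f a * f b) ^ coxLabel Cfsg.Spor.He.edges a b = 1)
    (h : ∀ r ∈ heWs, ev f r = 1) (hne : ∃ a, f a ≠ 1) (y : Γ) (hy : y ∈ G) (hy7 : y ^ 7 = 1) (hy1 : y ≠ 1)
    (hc : ∀ a, y * f a = f a * y) :
    ∃ x : G, orderOf x = 7 ∧ ∃ K : Subgroup G, K ≤ Subgroup.centralizer ({x} : Set G) ∧ Cfsg.IsHe K := by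
  have : Fact (Nat.Prime 7) := ⟨by norm_num⟩
  let f' : Cfsg.Spor.He.Gen → G := fun a => ⟨f a, hf a⟩
  obtain ⟨K, hK, hKe⟩ := he_of hs f' (fun a b => Subtype.ext (hcox a b)) (fun r hr => ev_sub (h r hr)) (by
    obtain ⟨a, ha⟩ := hne
    exact ⟨a, fun h1 => ha (congrArg Subtype.val h1)⟩)
  refine ⟨⟨y, hy⟩, orderOf_eq_prime (Subtype.ext hy7) (fun h1 => hy1 (congrArg Subtype.val h1)), K, ?_, hK⟩
  rw [hKe]
  exact closure_le_centralizer fun a => Subtype.ext (hc a)

/-- **Thompson.** `f x` satisfy the relators and commute with an element `y` of order `3`; the subgroup `T` is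
isomorphic to the presented group and contains all `f x`, in the form of `ThreeCPack.S0470_of`. -/
theorem th_part (hs : Cfsg.IsTh Cfsg.Spor.Th) (f : Cfsg.Spor.Th.Gen → Γ) (hf : ∀ a, f a ∈ G)
    (h : ∀ r ∈ thWs, ev f r = 1) (hne : ∃ a, f a ≠ 1) (y : Γ) (hy : y ∈ G) (hy3 : y ^ 3 = 1) (hy1 : y ≠ 1)
    (hc : ∀ a, y * f a = f a * y) :
    ∃ x : G, (x : Γ) = y ∧ orderOf x = 3 ∧ ∃ T : Subgroup G, T ≤ Subgroup.centralizer ({x} : Set G) ∧
      T = Subgroup.closure (Set.range fun a => (⟨f a, hf a⟩ : G)) ∧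
      ∃ e : T ≃* Cfsg.Spor.Th, ∀ a, ∃ ha : (⟨f a, hf a⟩ : G) ∈ T, e ⟨_, ha⟩ = PresentedGroup.of a := by
  have : Fact (Nat.Prime 3) := ⟨by norm_num⟩
  let f' : Cfsg.Spor.Th.Gen → G := fun a => ⟨f a, hf a⟩
  have hr : ∀ r ∈ coxRelators Cfsg.Spor.Th.edges ∪ {r | r ∈ Cfsg.Spor.Th.extra}, FreeGroup.lift f' r = 1 := by
    rintro r (hr | hr)
    · exact cox_lift _ f' (fun x hx => absurd hx (by simp [coxNodes, Cfsg.Spor.Th.edges])) r hr
    · exact lift_extra th_extra f' (fun r hr => ev_sub (h r hr)) r hr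
  have hinj : Function.Injective (PresentedGroup.toGroup hr) := by
    rw [← MonoidHom.ker_eq_bot_iff]
    have hsim : IsSimpleGroup Cfsg.Spor.Th := hs.1
    rcases (MonoidHom.normal_ker (PresentedGroup.toGroup hr)).eq_bot_or_eq_top with h1 | h1
    · exact h1
    · exfalso
      obtain ⟨x, hx⟩ := hne
      apply hx
      have h2 : (PresentedGroup.of x : Cfsg.Spor.Th) ∈ (PresentedGroup.toGroup hr).ker := by
        rw [h1]; trivial
      rw [MonoidHom.mem_ker] at h2
      have h3 : f' x = 1 := (PresentedGroup.toGroup.of hr).symm.trans h2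
      exact congrArg Subtype.val h3
  have hrange : (PresentedGroup.toGroup hr).range = Subgroup.closure (Set.range f') := by
    rw [MonoidHom.range_eq_map, ← PresentedGroup.closure_range_of, MonoidHom.map_closure]
    congr 1
    ext y
    constructor
    · rintro ⟨_, ⟨x, rfl⟩, rfl⟩
      exact ⟨x, (PresentedGroup.toGroup.of hr).symm⟩
    · rintro ⟨x, rfl⟩
      exact ⟨_, ⟨x, rfl⟩, PresentedGroup.toGroup.of hr⟩
  refine ⟨⟨y, hy⟩, rfl, orderOf_eq_prime (Subtype.ext hy3) (fun h1 => hy1 (congrArg Subtype.val h1)),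
    (PresentedGroup.toGroup hr).range, ?_, hrange, (MonoidHom.ofInjective hinj).symm, ?_⟩
  · rw [hrange]
    exact closure_le_centralizer fun a => Subtype.ext (hc a)
  · intro a
    refine ⟨⟨PresentedGroup.of a, PresentedGroup.toGroup.of hr⟩, ?_⟩
    rw [MulEquiv.symm_apply_eq]
    apply Subtype.ext
    exact (PresentedGroup.toGroup.of hr).symm

end

end Cfsg.Agent.MonsterX.WordsCodeM
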