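/-
The fourteen relators of `Cfsg.Spor.HN` from ten short relations and the four relators with `t` (helper537).
-/
import Cfsg.Agent.MonsterX.WordsCodeM

set_option autoImplicit false

namespace Cfsg.Agent.MonsterX.HNTen

open Cfsg.Agent.MonsterX.WordSub Cfsg.Agent.MonsterX.WordRels Cfsg.Spor

variable {Γ : Type} [Group Γ]

/-- The long word of the ninth relator. -/
def w9 (x y : Γ) : Γ := y * (x * y) * (x * y) * y * x * y⁻¹

/-- The conjugate `u⁻¹ z u`, `u = y ^ 3 x y x y`. -/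
def e10 (x y z : Γ) : Γ := y⁻¹ * x⁻¹ * y⁻¹ * x⁻¹ * y ^ 3 * z * y ^ 3 * (x * y) * (x * y)

theorem ten (f : Cfsg.Spor.HN.Gen → Γ) (j : Γ) (hxx : f .x * f .x = j) (hjj : j * j = 1) (hyj : j * f .y = f .y * j)
    (h6 : f .y ^ 6 = 1) (h3 : ((f .x)⁻¹ * (f .y)⁻¹ * f .x * f .y) ^ 3 = 1)
    (h4 : ((f .x)⁻¹ * f .y ^ 2 * f .x * f .y ^ 3) ^ 3 = 1) (h5 : (f .x * f .y) ^ 8 = 1)
    (h66 : (f .x * f .y * f .x * f .y ^ 3) ^ 4 = 1) (h7 : f .z * f .z = 1) (h8 : f .z * f .x * (f .z * f .x) = 1)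
    (h9 : f .z * w9 (f .x) (f .y) = w9 (f .x) (f .y) * f .z * j)
    (h10 : e10 (f .x) (f .y) (f .z) * f .x * e10 (f .x) (f .y) (f .z) =
      f .z * (f .x)⁻¹ * e10 (f .x) (f .y) (f .z) * (f .x)⁻¹)
    (t1 : f .t ^ 5 = 1) (t2 : (f .x)⁻¹ * f .t * f .x * f .t ^ 2 = 1)
    (t3 : (f .t)⁻¹ * (f .y)⁻¹ * f .t * f .y = 1) (t4 : (f .z * f .t) ^ 3 = 1) :
    ∀ r ∈ hnWs, ev f r = 1 := by
  have hd : (f .y ^ 3)⁻¹ = f .y ^ 3 := by
    rw [inv_eq_iff_mul_eq_one, ← pow_add]; exact h6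
  have hu : e10 (f .x) (f .y) (f .z) = (f .y ^ 3 * f .x * f .y * f .x * f .y)⁻¹ * f .z *
      (f .y ^ 3 * f .x * f .y * f .x * f .y) := by
    unfold e10
    simp only [mul_inv_rev, hd, mul_assoc]
  have hee : e10 (f .x) (f .y) (f .z) * e10 (f .x) (f .y) (f .z) = 1 := by
    rw [hu]
    have : ∀ u z : Γ, z * z = 1 → u⁻¹ * z * u * (u⁻¹ * z * u) = 1 := by
      intro u z hz
      calc u⁻¹ * z * u * (u⁻¹ * z * u) = u⁻¹ * (z * z) * u := by group
        _ = 1 := by rw [hz]; group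
    exact this _ _ h7
  intro r hr
  simp only [hnWs, List.mem_cons, List.not_mem_nil, or_false] at hr
  rcases hr with rfl | rfl | rfl | rfl | rfl | rfl | rfl | rfl | rfl | rfl | rfl | rfl | rfl | rfl
  · exact h6
  · show f .x ^ 2 * f .y * f .x ^ 2 * (f .y)⁻¹ = 1
    rw [pow_two, hxx, hyj, mul_assoc (f .y), hjj, mul_one, mul_inv_cancel]
  · exact h3
  · exact h4
  · exact h5
  · exact h66
  · show f .z ^ 2 = 1
    rw [pow_two]; exact h7
  · show (f .z * f .x) ^ 2 = 1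
    rw [pow_two]; exact h8
  · show (f .z)⁻¹ * (f .y * f .x * f .y * f .x * f .y ^ 2 * f .x * (f .y)⁻¹)⁻¹ * f .z *
      (f .y * f .x * f .y * f .x * f .y ^ 2 * f .x * (f .y)⁻¹) * (f .x ^ 2)⁻¹ = 1
    have e : f .y * f .x * f .y * f .x * f .y ^ 2 * f .x * (f .y)⁻¹ = w9 (f .x) (f .y) := by
      unfold w9; simp only [pow_two, mul_assoc]
    rw [e, pow_two, hxx, mul_assoc _ (f .z), h9]
    group
  · show f .z * ((f .y ^ 3 * f .x * f .y * f .x * f .y)⁻¹ * f .z * (f .y ^ 3 * f .x * f .y * f .x * f .y) * f .x) ^ 3 = 1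
    rw [← hu]
    have : ∀ E x z : Γ, E * E = 1 → z * z = 1 → E * x * E = z * x⁻¹ * E * x⁻¹ → z * (E * x) ^ 3 = 1 := by
      intro E x z hE hz h
      calc z * (E * x) ^ 3 = z * ((E * x * E) * x * E * x) := by
            simp only [pow_succ, pow_zero, one_mul, mul_assoc]
        _ = z * (z * x⁻¹ * (E * E) * x) := by rw [h]; group
        _ = z * z := by rw [hE]; group
        _ = 1 := hz
    exact this _ _ _ hee h7 h10
  · exact t1
  · exact t2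
  · exact t3
  · exact t4

end Cfsg.Agent.MonsterX.HNTen
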