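import Cfsg.Agent.SporadicA.GolayBase
import Cfsg.Agent.SporadicStructure.Co0Base

/-!
# The centraliser of an element of cycle type `3^8` in `M24`

`pi3` is the permutation of the 24 points with the image table `T`. An element of `M24` commuting
with it is determined by the images of the points `0`, `8`, `9`, which leaves `24 * 7 * 3 = 504`
possibilities; exactly 16 code words are invariant under `pi3`.
-/

set_option autoImplicit false
open scoped Pointwise

namespace Cfsg.Agent.MonsterX.CoThreeDPerm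

open Cfsg Cfsg.Agent.SporadicA.GolayBase

/-- Images of the points. -/
def T : List ℕ := [2, 10, 14, 1, 18, 13, 5, 9, 20, 16, 3, 15, 8, 6, 0, 17, 7, 11, 22, 21, 12, 23, 4, 19]

/-- Preimages of the points. -/
def T' : List ℕ := [14, 3, 0, 10, 22, 6, 13, 16, 12, 7, 1, 17, 20, 5, 2, 11, 9, 15, 4, 23, 8, 19, 18, 21]

/-- The number of the cycle of a point. -/
def CY : List ℕ := [0, 1, 0, 1, 2, 3, 3, 4, 5, 4, 1, 6, 5, 3, 0, 6, 4, 6, 2, 7, 5, 7, 2, 7]

/-- The permutation of cycle type `3^8`. -/
def pi3 : Equiv.Perm GolayPt where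
  toFun p := pt (T.getD (idx p) 0)
  invFun p := pt (T'.getD (idx p) 0)
  left_inv := by
    intro p
    have h1 : ∀ i < 24, T.getD i 0 < 24 ∧ T'.getD (T.getD i 0) 0 = i := by decide +kernel
    have h2 := h1 (idx p) (idx_lt p)
    show pt (T'.getD (idx (pt (T.getD (idx p) 0))) 0) = p
    rw [idx_pt h2.1, h2.2, pt_idx]
  right_inv := by
    intro p
    have h1 : ∀ i < 24, T'.getD i 0 < 24 ∧ T.getD (T'.getD i 0) 0 = i := by decide +kernel
    have h2 := h1 (idx p) (idx_lt p)
    show pt (T.getD (idx (pt (T'.getD (idx p) 0))) 0) = p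
    rw [idx_pt h2.1, h2.2, pt_idx]

theorem T_lt : ∀ i < 24, T.getD i 0 < 24 := by decide +kernel

theorem T'_lt : ∀ i < 24, T'.getD i 0 < 24 := by decide +kernel

theorem idx_pi3 (p : GolayPt) : idx (pi3 p) = T.getD (idx p) 0 := by
  show idx (pt (T.getD (idx p) 0)) = _
  rw [idx_pt (T_lt _ (idx_lt p))]

theorem idx_pi3_symm (p : GolayPt) : idx (pi3.symm p) = T'.getD (idx p) 0 := by
  show idx (pt (T'.getD (idx p) 0)) = _
  rw [idx_pt (T'_lt _ (idx_lt p))]

theorem pi3_cube (p : GolayPt) : pi3 (pi3 (pi3 p)) = p := by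
  apply idx_injective
  rw [idx_pi3, idx_pi3, idx_pi3]
  have h : ∀ i < 24, T.getD (T.getD (T.getD i 0) 0) 0 = i := by decide +kernel
  exact h _ (idx_lt p)

/-- The number of the cycle of a point. -/
def cyc (p : GolayPt) : ℕ := CY.getD (idx p) 0

theorem cyc_pi3 (p : GolayPt) : cyc (pi3 p) = cyc p := by
  unfold cyc
  rw [idx_pi3]
  have h : ∀ i < 24, CY.getD (T.getD i 0) 0 = CY.getD i 0 := by decide +kernel
  exact h _ (idx_lt p)

theorem cyc_eq_iff (p q : GolayPt) : cyc p = cyc q ↔ q = p ∨ q = pi3 p ∨ q = pi3 (pi3 p) := by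
  have h : ∀ i < 24, ∀ j < 24, (CY.getD i 0 = CY.getD j 0 ↔ j = i ∨ j = T.getD i 0 ∨
      j = T.getD (T.getD i 0) 0) := by decide +kernel
  have h1 := h _ (idx_lt p) _ (idx_lt q)
  rw [← idx_pi3, ← idx_pi3] at h1
  rw [idx_injective.eq_iff, idx_injective.eq_iff, idx_injective.eq_iff] at h1
  exact h1

/-- Table of the octads through `pi x, pi² x, b, pi b, pi² b`. -/
def OT : List (List ℕ) := [[0, 280334, 0, 280334, 12861748, 157028, 157028, 475812, 9589508, 475812, 280334, 8834052, 9589508, 157028, 0, 8834052, 475812, 8834052, 12861748, 11028004, 9589508, 11028004, 12861748, 11028004], [2147405, 0, 2147405, 0, 4510744, 42232, 42232, 2180760, 1070536, 2180760, 0, 2268296, 1070536, 42232, 2147405, 2268296, 2180760, 2268296, 4510744, 11015256, 1070536, 11015256, 4510744, 11015256], [0, 5325835, 0, 5325835, 6053905, 1075305, 1075305, 4287105, 1661185, 4287105, 5325835, 4900873, 1661185, 1075305, 0, 4900873, 4287105, 4900873, 6053905, 11100169, 1661185, 11100169, 6053905, 11100169], [551943, 0, 551943,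 0, 5508118, 4271202, 4271202, 4785798, 1127686, 4785798, 0, 1805314, 1127686, 4271202, 551943, 1805314, 4785798, 1805314, 5508118, 16262146, 1127686, 16262146, 5508118, 16262146], [4505735, 6554826, 4505735, 6554826, 0, 4485344, 4485344, 6656640, 7622914, 6656640, 6554826, 4626498, 7622914, 4485344, 4505735, 4626498, 6656640, 4626498, 0, 15515712, 7622914, 15515712, 0, 15515712], [8675909, 8398155, 8675909, 8398155, 12985424, 0, 0, 337856, 1454401, 337856, 8398155, 175681, 1454401, 0, 8675909, 175681, 337856, 175681, 12985424, 11150144, 1454401, 11150144, 12985424, 11150144], [2121909, 2126890, 2121909, 2126890, 6594610, 0, 0, 78514, 1110320, 78514, 2126890, 190626, 1110320, 0, 2121909, 190626, 78514, 190626, 6594610, 11055264, 1110320, 11055264, 6594610, 11055264], [2183687, 104010, 2183687, 104010, 4538962, 2220640, 2220640, 0, 3216208, 0, 104010, 252432, 3216208, 2220640, 2183687, 252432, 0, 252432, 4538962, 11108882, 3216208, 11108882, 4538962, 11108882], [1332261, 9835530, 1332261, 9835530,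 5640752, 9451104, 9451104, 1250945, 0, 1250945, 9835530, 9607201, 0, 9451104, 1332261, 9607201, 1250945, 9607201, 5640752, 12325377, 0, 12325377, 5640752, 12325377], [8471941, 198058, 8471941, 198058, 4523185, 8593633, 8593633, 0, 9769376, 0, 198058, 493953, 9769376, 8593633, 8471941, 493953, 0, 493953, 4523185, 11469952, 9769376, 11469952, 4523185, 11469952], [8536111, 0, 8536111, 0, 4587803, 402026, 402026, 8716939, 1053483, 8716939, 0, 8555274, 1053483, 402026, 8536111, 8555274, 8716939, 8555274, 4587803, 11272490, 1053483, 11272490, 4587803, 11272490], [1302533, 4367374, 1302533, 4367374, 5210132, 5939296, 5939296, 762504, 5476616, 762504, 4367374, 0, 5476616, 5939296, 1302533, 0, 762504, 0, 5210132, 12222476, 5476616, 12222476, 5210132, 12222476], [1065303, 3179802, 1065303, 3179802, 5538256, 3154402, 3154402, 1164162, 0, 1164162, 3179802, 3328320, 0, 3154402, 1065303, 3328320, 1164162, 3328320, 5538256, 12075408, 0, 12075408, 5538256, 12075408], [4800613, 1573998, 4800613, 1573998, 4982904,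 0, 0, 5309160, 5249380, 5309160, 1573998, 231532, 5249380, 0, 4800613, 231532, 5309160, 231532, 4982904, 12126304, 5249380, 12126304, 4982904, 12126304], [0, 5279, 0, 5279, 6557781, 45159, 45159, 99029, 3182981, 99029, 5279, 2263063, 3182981, 45159, 0, 2263063, 99029, 2263063, 6557781, 11010247, 3182981, 11010247, 6557781, 11010247], [153797, 150618, 153797, 150618, 6703248, 2242672, 2242672, 2296514, 1186194, 2296514, 150618, 0, 1186194, 2242672, 153797, 0, 2296514, 0, 6703248, 11163650, 1186194, 11163650, 6703248, 11163650], [1589901, 1060490, 1589901, 1060490, 4465308, 535268, 535268, 0, 5780352, 0, 1060490, 5409412, 5780352, 535268, 1589901, 5409412, 0, 5409412, 4465308, 15207048, 5780352, 15207048, 4465308, 15207048], [52005, 298027, 52005, 298027, 12880401, 8694112, 8694112, 8490656, 1351424, 8490656, 298027, 0, 1351424, 8694112, 52005, 0, 8490656, 0, 12880401, 11046145, 1351424, 11046145, 12880401, 11046145], [4343317, 12584506, 4343317, 12584506, 0, 4203377, 4203377, 12780432, 13636881,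 12780432, 12584506, 4361520, 13636881, 4203377, 4343317, 4361520, 12780432, 4361520, 0, 15335473, 13636881, 15335473, 0, 15335473], [15747077, 10554382, 15747077, 10554382, 16056344, 14688364, 14688364, 11608708, 11548936, 11608708, 10554382, 14919680, 11548936, 14688364, 15747077, 14919680, 11608708, 14919680, 16056344, 0, 11548936, 0, 16056344, 0], [4223245, 4726026, 4223245, 4726026, 4536592, 602472, 602472, 72588, 0, 72588, 4726026, 702724, 0, 602472, 4223245, 702724, 72588, 702724, 4536592, 15274244, 0, 15274244, 4536592, 15274244], [8966165, 8963210, 8966165, 8963210, 13373586, 8937586, 8937586, 8999616, 9998658, 8999616, 8963210, 9078992, 9998658, 8937586, 8966165, 9078992, 8999616, 9078992, 13373586, 0, 9998658, 0, 13373586, 0], [346141, 861210, 346141, 861210, 0, 1384564, 1384564, 1903248, 1839388, 1903248, 861210, 1484824, 1839388, 1384564, 346141, 1484824, 1903248, 1484824, 0, 11282452, 1839388, 11282452, 0, 11282452], [3031301, 2754059, 3031301, 2754059, 7079696, 2892897, 2892897, 2687905,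 3806496, 2687905, 2754059, 3050016, 3806496, 2892897, 3031301, 3050016, 2687905, 3050016, 7079696, 0, 3806496, 0, 7079696, 0]]

/-- The octad through `pi x, pi² x, b, pi b, pi² b`. -/
def O (x b : ℕ) : ℕ := (OT.getD x []).getD b 0

/-- Bits of the image of a mask. -/
def five (x b : ℕ) : ℕ := 2 ^ T.getD x 0 ||| 2 ^ T.getD (T.getD x 0) 0 ||| 2 ^ b |||
  2 ^ T.getD b 0 ||| 2 ^ T.getD (T.getD b 0) 0

theorem O_check : ∀ x < 24, ∀ b < 24, CY.getD x 0 ≠ CY.getD b 0 →
    isCode (O x b) = true ∧ popcount (O x b) = 8 ∧ five x b &&& O x b = five x b ∧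
      popcount (five x b) = 5 := by decide +kernel

theorem O_octad {x b : ℕ} (hx : x < 24) (hb : b < 24) (h : CY.getD x 0 ≠ CY.getD b 0) :
    fin (O x b) ∈ octads := by
  have h1 := O_check x hx b hb h
  rw [fin_mem_octads_iff (isCode_lt h1.1)]
  exact ⟨h1.1, h1.2.1⟩

/-- The five points. -/
theorem fin_five (x b : GolayPt) : fin (five (idx x) (idx b)) =
    {pi3 x, pi3 (pi3 x), b, pi3 b, pi3 (pi3 b)} := by
  ext p
  rw [mem_fin]
  simp only [Finset.mem_insert, Finset.mem_singleton, ← idx_injective.eq_iff, idx_pi3]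
  unfold five
  simp only [Nat.testBit_or, Nat.testBit_two_pow, Bool.or_eq_true, decide_eq_true_eq]
  simp only [eq_comm (b := idx p), or_assoc]

/-- An octad containing the five points is the one in the table. -/
theorem octad_eq {x b : GolayPt} (h : cyc x ≠ cyc b) {s : Finset GolayPt} (hs : s ∈ octads)
    (h1 : pi3 x ∈ s) (h2 : pi3 (pi3 x) ∈ s) (h3 : b ∈ s) (h4 : pi3 b ∈ s)
    (h5 : pi3 (pi3 b) ∈ s) : s = fin (O (idx x) (idx b)) := by
  have h6 := O_check _ (idx_lt x) _ (idx_lt b) h
  apply octad_unique hs (O_octad (idx_lt x) (idx_lt b) h)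
  have h7 : fin (five (idx x) (idx b)) ⊆ s ∩ fin (O (idx x) (idx b)) := by
    apply Finset.subset_inter
    · rw [fin_five]
      intro p hp
      simp only [Finset.mem_insert, Finset.mem_singleton] at hp
      rcases hp with rfl | rfl | rfl | rfl | rfl <;> assumption
    · rw [← h6.2.2.1, fin_and]
      exact Finset.inter_subset_right
  have h8 := Finset.card_le_card h7
  rw [card_fin, h6.2.2.2] at h8
  exact h8

theorem smul_mem_octads {σ : Equiv.Perm GolayPt} (hσ : σ ∈ M24) {s : Finset GolayPt}
    (hs : s ∈ octads) : σ • s ∈ octads := by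
  refine ⟨?_, ?_⟩
  · have h : σ • supports (golayCode : Set (GolayPt → ZMod 2)) =
      supports (golayCode : Set (GolayPt → ZMod 2)) := hσ
    rw [← h]
    exact Set.smul_mem_smul_set hs.1
  · rw [Finset.card_smul_finset]
    exact hs.2

/-- Elements of `M24` commuting with `pi3` permute the octads of the table. -/
theorem smul_O {σ : Equiv.Perm GolayPt} (hσ : σ ∈ M24) (hc : σ * pi3 = pi3 * σ) {x b : GolayPt}
    (h : cyc x ≠ cyc b) :
    σ • fin (O (idx x) (idx b)) = fin (O (idx (σ x)) (idx (σ b))) := by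
  have hc' : ∀ p, σ (pi3 p) = pi3 (σ p) := fun p => DFunLike.congr_fun hc p
  have h6 := O_check _ (idx_lt x) _ (idx_lt b) h
  have h7 : fin (five (idx x) (idx b)) ⊆ fin (O (idx x) (idx b)) := by
    rw [← h6.2.2.1, fin_and]
    exact Finset.inter_subset_right
  rw [fin_five] at h7
  have key : ∀ p ∈ ({pi3 x, pi3 (pi3 x), b, pi3 b, pi3 (pi3 b)} : Finset GolayPt),
      σ p ∈ σ • fin (O (idx x) (idx b)) := fun p hp => Finset.smul_mem_smul_finset (h7 hp)
  apply octad_eq
  · intro h8
    apply h
    rw [cyc_eq_iff] at h8 ⊢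
    simp only [← hc', σ.injective.eq_iff] at h8
    exact h8
  · exact smul_mem_octads hσ (O_octad (idx_lt x) (idx_lt b) h)
  · rw [← hc']; exact key _ (by simp)
  · rw [← hc', ← hc']; exact key _ (by simp)
  · exact key _ (by simp)
  · rw [← hc']; exact key _ (by simp)
  · rw [← hc', ← hc']; exact key _ (by simp)

theorem cyc_smul {σ : Equiv.Perm GolayPt} (hc : σ * pi3 = pi3 * σ) (x b : GolayPt) :
    cyc (σ x) = cyc (σ b) ↔ cyc x = cyc b := by
  have hc' : ∀ p, σ (pi3 p) = pi3 (σ p) := fun p => DFunLike.congr_fun hc p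
  rw [cyc_eq_iff, cyc_eq_iff]
  simp only [← hc', σ.injective.eq_iff]

/-- The possible images of the point `8` for a given image `x` of `0`. -/
def condY (x y : ℕ) : Bool :=
  !(Nat.beq (CY.getD x 0) (CY.getD y 0)) &&
  (List.range 24).any fun b => !(Nat.beq (CY.getD x 0) (CY.getD b 0)) &&
    !(Nat.beq (CY.getD y 0) (CY.getD b 0)) && (O x b).testBit y

/-- The possible images of the point `9` for given images of `0` and `8`. -/
def condZ (x y z : ℕ) : Bool :=
  !(Nat.beq (CY.getD x 0) (CY.getD z 0)) && !(Nat.beq (CY.getD y 0) (CY.getD z 0)) &&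
  (O x y).testBit z

/-- The possible triples of images. -/
def cand : List (ℕ × ℕ × ℕ) :=
  (List.range 24).flatMap fun x => ((List.range 24).filter (condY x)).flatMap fun y =>
    ((List.range 24).filter (condZ x y)).map fun z => (x, y, z)

theorem length_cand : cand.length = 504 := by decide +kernel

theorem mem_cand {x y z : ℕ} (hx : x < 24) (hy : y < 24) (hz : z < 24) (h1 : condY x y = true)
    (h2 : condZ x y z = true) : (x, y, z) ∈ cand := by
  unfold cand
  rw [List.mem_flatMap]
  refine ⟨x, List.mem_range.2 hx, ?_⟩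
  rw [List.mem_flatMap]
  refine ⟨y, List.mem_filter.2 ⟨List.mem_range.2 hy, h1⟩, ?_⟩
  rw [List.mem_map]
  exact ⟨z, List.mem_filter.2 ⟨List.mem_range.2 hz, h2⟩, rfl⟩

/-- The points `0, 8, 9, 1`. -/
theorem triple_mem {σ : Equiv.Perm GolayPt} (hσ : σ ∈ M24) (hc : σ * pi3 = pi3 * σ) :
    (idx (σ (pt 0)), idx (σ (pt 8)), idx (σ (pt 9))) ∈ cand := by
  have i0 : idx (pt 0) = 0 := idx_pt (by norm_num)
  have i1 : idx (pt 1) = 1 := idx_pt (by norm_num)
  have i8 : idx (pt 8) = 8 := idx_pt (by norm_num)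
  have i9 : idx (pt 9) = 9 := idx_pt (by norm_num)
  have c01 : cyc (pt 0) ≠ cyc (pt 1) := by unfold cyc; rw [i0, i1]; decide
  have c08 : cyc (pt 0) ≠ cyc (pt 8) := by unfold cyc; rw [i0, i8]; decide
  have c09 : cyc (pt 0) ≠ cyc (pt 9) := by unfold cyc; rw [i0, i9]; decide
  have c81 : cyc (pt 8) ≠ cyc (pt 1) := by unfold cyc; rw [i8, i1]; decide
  have c89 : cyc (pt 8) ≠ cyc (pt 9) := by unfold cyc; rw [i8, i9]; decide
  have nb : ∀ {p q : GolayPt}, cyc p ≠ cyc q →
      (!(Nat.beq (CY.getD (idx (σ p)) 0) (CY.getD (idx (σ q)) 0))) = true := by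
    intro p q h
    have h1 : ¬ cyc (σ p) = cyc (σ q) := fun h' => h ((cyc_smul hc _ _).1 h')
    have h2 : Nat.beq (CY.getD (idx (σ p)) 0) (CY.getD (idx (σ q)) 0) = false := by
      rw [← Bool.not_eq_true]
      intro h3
      exact h1 (Nat.eq_of_beq_eq_true h3)
    rw [h2]; rfl
  apply mem_cand (idx_lt _) (idx_lt _) (idx_lt _)
  · unfold condY
    rw [Bool.and_eq_true]
    refine ⟨nb c08, ?_⟩
    rw [List.any_eq_true]
    refine ⟨idx (σ (pt 1)), List.mem_range.2 (idx_lt _), ?_⟩
    rw [Bool.and_eq_true, Bool.and_eq_true]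
    refine ⟨⟨nb c01, nb c81⟩, ?_⟩
    rw [← mem_fin, ← smul_O hσ hc c01]
    apply Finset.smul_mem_smul_finset
    rw [mem_fin, i0, i1, i8]
    decide +kernel
  · unfold condZ
    rw [Bool.and_eq_true, Bool.and_eq_true]
    refine ⟨⟨nb c09, nb c89⟩, ?_⟩
    rw [← mem_fin, ← smul_O hσ hc c08]
    apply Finset.smul_mem_smul_finset
    rw [mem_fin, i0, i8, i9]
    decide +kernel

/-- Octads separating the points. -/
def sep : List ℕ := [52005, 63108, 72588, 4223245, 99029, 153797, 140167, 283537, 530245, 1050548, 2183687]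

/-- The mask of the nine points `0, 2, 14, 8, 20, 12, 9, 16, 7`. -/
def nine : ℕ := 1135493

theorem sep_check : ∀ m ∈ sep, isCode m = true ∧ popcount m = 8 ∧ 5 ≤ popcount (m &&& nine) := by
  decide +kernel

theorem sep_separates : ∀ i < 24, ∀ j < 24, (∀ m ∈ sep, m.testBit i = m.testBit j) → i = j := by
  decide +kernel

/-- An element of `M24` fixing the nine points is trivial. -/
theorem eq_one_of_nine {τ : Equiv.Perm GolayPt} (hτ : τ ∈ M24)
    (h : ∀ p ∈ fin nine, τ p = p) : τ = 1 := by
  have h1 : ∀ m ∈ sep, τ • fin m = fin m := by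
    intro m hm
    have h2 := sep_check m hm
    have h3 : fin m ∈ octads := (fin_mem_octads_iff (isCode_lt h2.1)).2 ⟨h2.1, h2.2.1⟩
    apply octad_unique (smul_mem_octads hτ h3) h3
    have h4 : fin (m &&& nine) ⊆ τ • fin m ∩ fin m := by
      rw [fin_and]
      intro p hp
      rw [Finset.mem_inter] at hp ⊢
      refine ⟨?_, hp.1⟩
      rw [← h p hp.2]
      exact Finset.smul_mem_smul_finset hp.1
    have h5 := Finset.card_le_card h4
    rw [card_fin] at h5
    exact h2.2.2.trans h5
  ext1 p
  apply idx_injective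
  apply sep_separates _ (idx_lt _) _ (idx_lt _)
  intro m hm
  have h2 := h1 m hm
  have h3 : τ p ∈ fin m ↔ p ∈ fin m := by
    constructor
    · intro h4
      rw [← h2, Finset.mem_smul_finset] at h4
      obtain ⟨q, hq, hqp⟩ := h4
      have h5 : q = p := τ.injective hqp
      rw [← h5]; exact hq
    · intro h4
      rw [← h2]
      exact Finset.smul_mem_smul_finset h4
  rw [mem_fin, mem_fin] at h3
  exact Bool.eq_iff_iff.2 h3

theorem nine_check : ∀ i < 24, nine.testBit i = true →
    CY.getD i 0 = CY.getD 0 0 ∨ CY.getD i 0 = CY.getD 8 0 ∨ CY.getD i 0 = CY.getD 9 0 := by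
  decide +kernel

theorem triple_inj {σ σ' : Equiv.Perm GolayPt} (hσ : σ ∈ M24) (hc : σ * pi3 = pi3 * σ)
    (hσ' : σ' ∈ M24) (hc' : σ' * pi3 = pi3 * σ')
    (h0 : σ (pt 0) = σ' (pt 0)) (h8 : σ (pt 8) = σ' (pt 8)) (h9 : σ (pt 9) = σ' (pt 9)) :
    σ = σ' := by
  have d : ∀ p, σ (pi3 p) = pi3 (σ p) := fun p => DFunLike.congr_fun hc p
  have d' : ∀ p, σ' (pi3 p) = pi3 (σ' p) := fun p => DFunLike.congr_fun hc' p
  have key : ∀ p q : GolayPt, cyc p = cyc q → σ p = σ' p → σ q = σ' q := by
    intro p q h1 h2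
    rcases (cyc_eq_iff p q).1 h1 with rfl | rfl | rfl
    · exact h2
    · rw [d, d', h2]
    · rw [d, d, d', d', h2]
  have h1 : σ'⁻¹ * σ = 1 := by
    apply eq_one_of_nine (M24.mul_mem (M24.inv_mem hσ') hσ)
    intro p hp
    have h2 : σ p = σ' p := by
      rw [mem_fin] at hp
      rcases nine_check _ (idx_lt p) hp with h | h | h
      · refine key (pt 0) p ?_ h0
        unfold cyc; rw [idx_pt (by norm_num), h]
      · refine key (pt 8) p ?_ h8
        unfold cyc; rw [idx_pt (by norm_num), h]
      · refine key (pt 9) p ?_ h9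
        unfold cyc; rw [idx_pt (by norm_num), h]
    show σ'⁻¹ (σ p) = p
    rw [h2]
    exact σ'.symm_apply_apply p
  exact (inv_mul_eq_one.1 h1).symm

/-- The elements of `M24` commuting with `pi3`. -/
theorem card_perm_le : Nat.card {σ : Equiv.Perm GolayPt // σ ∈ M24 ∧ σ * pi3 = pi3 * σ} ≤ 504 := by
  classical
  let f : {σ : Equiv.Perm GolayPt // σ ∈ M24 ∧ σ * pi3 = pi3 * σ} → cand.toFinset := fun σ =>
    ⟨(idx (σ.1 (pt 0)), idx (σ.1 (pt 8)), idx (σ.1 (pt 9))),
      List.mem_toFinset.2 (triple_mem σ.2.1 σ.2.2)⟩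
  have hf : Function.Injective f := by
    intro σ σ' h
    have h1 := congrArg Subtype.val h
    simp only [f, Prod.mk.injEq] at h1
    exact Subtype.ext (triple_inj σ.2.1 σ.2.2 σ'.2.1 σ'.2.2 (idx_injective h1.1)
      (idx_injective h1.2.1) (idx_injective h1.2.2))
  have h2 := Nat.card_le_card_of_injective f hf
  rw [Nat.card_eq_fintype_card (α := cand.toFinset), Fintype.card_coe] at h2
  exact h2.trans ((List.toFinset_card_le _).trans length_cand.le)

/-! ### Invariant code words -/

/-- The invariant words. -/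
def W16 : List ℕ := [0, 249487, 1143781, 1228138, 4482175, 4696816, 5576602, 5691669, 11085546, 11200613, 12080399, 12295040, 15549077, 15633434, 16527728, 16777215]

theorem W16_length : W16.length = 16 := rfl

/-- Whether the mask is invariant. -/
def inv3 (m : ℕ) : Bool := (List.range 24).all fun i => m.testBit (T.getD i 0) == m.testBit i

theorem W16_check : allR 12 0 (fun i => !(inv3 (enc i)) || W16.contains (enc i)) = true := by
  decide +kernel

/-- The invariant code words are those of the list. -/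
theorem mem_W16 {c : Finset GolayPt} (hc : c ∈ supports (golayCode : Set (GolayPt → ZMod 2)))
    (h : ∀ p, pi3 p ∈ c ↔ p ∈ c) : maskOf c ∈ W16 := by
  obtain ⟨i, hi, hm⟩ := isCode_iff_exists.1 ((mem_supports_iff c).1 hc)
  have h1 := allR_zero_spec W16_check i hi
  rw [Bool.or_eq_true] at h1
  rcases h1 with h1 | h1
  · exfalso
    have h2 : inv3 (enc i) = true := by
      unfold inv3
      rw [List.all_eq_true]
      intro j hj
      rw [List.mem_range] at hj
      rw [beq_iff_eq, ← hm]
      have h3 := h (pt j)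
      rw [← fin_maskOf c, mem_fin, mem_fin, idx_pi3, idx_pt hj] at h3
      exact Bool.eq_iff_iff.2 h3
    rw [h2] at h1
    exact absurd h1 (by decide)
  · rw [hm]
    exact List.contains_iff_mem.1 h1

theorem card_words_le : Nat.card {c : Finset GolayPt //
    c ∈ supports (golayCode : Set (GolayPt → ZMod 2)) ∧ ∀ p, pi3 p ∈ c ↔ p ∈ c} ≤ 16 := by
  classical
  let f : {c : Finset GolayPt // c ∈ supports (golayCode : Set (GolayPt → ZMod 2)) ∧
      ∀ p, pi3 p ∈ c ↔ p ∈ c} → W16.toFinset := fun c =>
    ⟨maskOf c.1, List.mem_toFinset.2 (mem_W16 c.2.1 c.2.2)⟩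
  have hf : Function.Injective f := by
    intro c c' h
    exact Subtype.ext (maskOf_injective (congrArg Subtype.val h))
  have h2 := Nat.card_le_card_of_injective f hf
  rw [Nat.card_eq_fintype_card (α := W16.toFinset), Fintype.card_coe] at h2
  exact h2.trans ((List.toFinset_card_le _).trans W16_length.le)

end Cfsg.Agent.MonsterX.CoThreeDPerm
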