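import Cfsg.Prelude.Def_Spor_Conway
import Cfsg.Agent.LeechMat.Core
import Cfsg.Agent.Leech.Trans64
import Cfsg.Agent.S0400
import Cfsg.Agent.S0401
import Cfsg.Agent.S1567
import Cfsg.Agent.S1570

/-!
`Co0` acts irreducibly on the lattice modulo twice the lattice.
-/

set_option autoImplicit false

namespace Cfsg.Agent.MonsterX.LeechIrr

open Cfsg Cfsg.Spor Cfsg.Agent.LeechMat.Core

/-- (4,4,4,0,4,…) and (4,4,4,4,0,…). -/
def vec4 (k : ZMod 23) : GolayPt → ℤ := fun p =>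
  if p = none ∨ p = some 0 ∨ p = some 1 ∨ p = some k then 4 else 0

theorem vec4_mem (k : ZMod 23) (hk : k = 2 ∨ k = 3) : vec4 k ∈ leechSet := by
  rcases hk with rfl | rfl <;>
  exact mem_leechSet_of_const_mod_four _ 0 0 (by decide) (by decide) (by decide)

/-- A lattice vector of norm 64. -/
def lee4 (k : ZMod 23) (hk : k = 2 ∨ k = 3) : leechLattice :=
  ⟨vec4 k, AddSubgroup.subset_closure (vec4_mem k hk)⟩

theorem mem_of_min (U : AddSubgroup leechLattice) (hU : ∀ g : Co0, ∀ x ∈ U, g • x ∈ U)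
    (x : leechLattice) (hx : x ∈ U) (hn : sqNorm (x : GolayPt → ℤ) = 32) : U = ⊤ := by
  rw [eq_top_iff]
  intro y _
  have h1 : (y : GolayPt → ℤ) ∈ AddSubgroup.closure
      {x : GolayPt → ℤ | x ∈ leechLattice ∧ sqNorm x = 32} := by
    rw [Cfsg.Agent.S1567.result]; exact y.2
  have h2 : AddSubgroup.closure {x : GolayPt → ℤ | x ∈ leechLattice ∧ sqNorm x = 32}
      ≤ U.map leechLattice.subtype := by
    rw [AddSubgroup.closure_le]
    rintro v ⟨hv, hvn⟩
    obtain ⟨g, hg⟩ := Cfsg.Agent.S0400.result x ⟨v, hv⟩ hn hvn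
    exact ⟨⟨v, hv⟩, by rw [← hg]; exact hU g x hx, rfl⟩
  obtain ⟨w, hw, he⟩ := h2 h1
  have : w = y := Subtype.ext he
  rw [← this]; exact hw

/-- `Co0` is irreducible on the lattice modulo twice the lattice. -/
theorem irreducible (U : AddSubgroup leechLattice) (h2 : ∀ z : leechLattice, 2 • z ∈ U)
    (hU : ∀ g : Co0, ∀ x ∈ U, g • x ∈ U) : (∀ x ∈ U, ∃ z : leechLattice, x = 2 • z) ∨ U = ⊤ := by
  by_cases hall : ∀ x ∈ U, ∃ z : leechLattice, x = 2 • z
  · exact Or.inl hall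
  right
  push Not at hall
  obtain ⟨x, hx, hnx⟩ := hall
  obtain ⟨y, hy, hyn, z, hz, hxyz⟩ := Cfsg.Agent.S1570.result x x.2
  -- `y` in `U`
  have hyU : (⟨y, hy⟩ : leechLattice) ∈ U := by
    have : (⟨y, hy⟩ : leechLattice) = x - 2 • ⟨z, hz⟩ := by
      apply Subtype.ext
      show y = (x : GolayPt → ℤ) - 2 • z
      rw [← hxyz]; abel
    rw [this]
    exact sub_mem hx (h2 _)
  have hy0 : y ≠ 0 := by
    rintro rfl
    apply hnx ⟨z, hz⟩
    apply Subtype.ext
    show (x : GolayPt → ℤ) = 2 • z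
    rw [← hxyz, sub_zero]
  have h32 := Cfsg.Agent.S0391.result y hy hy0
  obtain ⟨m, hm⟩ := Cfsg.Agent.Leech.Basic.sixteen_dvd_sqNorm hy
  have hcase : sqNorm y = 32 ∨ sqNorm y = 48 ∨ sqNorm y = 64 := by omega
  rcases hcase with h | h | h
  · exact mem_of_min U hU _ hyU h
  · -- norm 48
    have n1 : sqNorm (leechV : GolayPt → ℤ) = 48 := by
      show sqNorm vecV = 48; decide
    have n2 : sqNorm ((leechV + leechU' : leechLattice) : GolayPt → ℤ) = 48 := by
      show sqNorm (vecV + vecU') = 48; decide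
    have n3 : sqNorm (leechU' : GolayPt → ℤ) = 32 := by
      show sqNorm vecU' = 32; decide
    obtain ⟨g, hg⟩ := Cfsg.Agent.S0401.result ⟨y, hy⟩ leechV h n1
    obtain ⟨k, hk⟩ := Cfsg.Agent.S0401.result ⟨y, hy⟩ (leechV + leechU') h n2
    have e1 : leechV ∈ U := by rw [← hg]; exact hU g _ hyU
    have e2 : leechV + leechU' ∈ U := by rw [← hk]; exact hU k _ hyU
    have e3 : leechU' ∈ U := by
      have := sub_mem e2 e1
      rwa [add_sub_cancel_left] at this
    exact mem_of_min U hU _ e3 n3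
  · -- norm 64
    have n1 : sqNorm (lee4 2 (Or.inl rfl) : GolayPt → ℤ) = 64 := by
      show sqNorm (vec4 2) = 64; decide
    have n2 : sqNorm (lee4 3 (Or.inr rfl) : GolayPt → ℤ) = 64 := by
      show sqNorm (vec4 3) = 64; decide
    have n3 : sqNorm ((lee4 2 (Or.inl rfl) - lee4 3 (Or.inr rfl) : leechLattice) : GolayPt → ℤ)
        = 32 := by
      show sqNorm (vec4 2 - vec4 3) = 32; decide
    obtain ⟨g, hg⟩ := Cfsg.Agent.Leech.Trans64.trans64 ⟨y, hy⟩ (lee4 2 (Or.inl rfl)) h n1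
    obtain ⟨k, hk⟩ := Cfsg.Agent.Leech.Trans64.trans64 ⟨y, hy⟩ (lee4 3 (Or.inr rfl)) h n2
    have e1 : lee4 2 (Or.inl rfl) ∈ U := by rw [← hg]; exact hU g _ hyU
    have e2 : lee4 3 (Or.inr rfl) ∈ U := by rw [← hk]; exact hU k _ hyU
    exact mem_of_min U hU _ (sub_mem e1 e2) n3

end Cfsg.Agent.MonsterX.LeechIrr
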