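import Mathlib.LinearAlgebra.Matrix.GeneralLinearGroup.Defs
import Mathlib.LinearAlgebra.Matrix.ToLin
import Mathlib.LinearAlgebra.GeneralLinearGroup.Basic
import Mathlib.LinearAlgebra.Dual.Lemmas
import Mathlib.LinearAlgebra.FiniteDimensional.Lemmas
import Mathlib.Analysis.Complex.Basic
import Cfsg.Prelude.Def_Sporadic

set_option autoImplicit false

/-!
Dropping a fixed vector of a finite linear group over a field in which the group order is
invertible: from an injective `G → GL (n+1, K)` with a nonzero fixed vector to an injective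
`G → GL (n, K)` and, along a field extension, to an injective `G → GL (n, L)`.
-/

namespace Cfsg.Agent.MonsterX.DropFixed

open Module

universe u v w

/-- An invariant linear functional which does not vanish on a given nonzero fixed vector. -/
theorem exists_invariant_functional {G : Type u} [Group G] [Finite G] {K : Type v} [Field K]
    (hK : (Nat.card G : K) ≠ 0) {V : Type w} [AddCommGroup V] [Module K V]
    (φ : G →* (V ≃ₗ[K] V)) {v : V} (hv : v ≠ 0) (hfix : ∀ g, φ g v = v) :
    ∃ f : V →ₗ[K] K, f v = 1 ∧ ∀ g x, f (φ g x) = f x := by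
  classical
  have := Fintype.ofFinite G
  obtain ⟨f0, hf0⟩ : ∃ f0 : Module.Dual K V, f0 v = 1 := by
    have h1 : ¬ ∀ f : Module.Dual K V, f v = 0 :=
      fun h => hv ((Module.forall_dual_apply_eq_zero_iff K v).mp h)
    obtain ⟨f1, hf1⟩ := not_forall.mp h1
    exact ⟨(f1 v)⁻¹ • f1, by simp [inv_mul_cancel₀ hf1]⟩
  have hK' : (Fintype.card G : K) ≠ 0 := by simpa using hK
  refine ⟨(Fintype.card G : K)⁻¹ • ∑ g : G, f0 ∘ₗ (φ g).toLinearMap, ?_, ?_⟩
  · simp [LinearMap.sum_apply, hfix, hf0, inv_mul_cancel₀ hK']
  · intro g x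
    simp only [LinearMap.smul_apply, LinearMap.sum_apply, LinearMap.comp_apply,
      LinearEquiv.coe_coe]
    congr 1
    refine Fintype.sum_equiv (Equiv.mulRight g) _ _ (fun h => ?_)
    simp [map_mul, LinearEquiv.mul_apply]

/-- The action on the kernel of an invariant functional. -/
def restrictKer {G : Type u} [Group G] {K : Type v} [Field K] {V : Type w} [AddCommGroup V]
    [Module K V] (φ : G →* (V ≃ₗ[K] V)) (f : V →ₗ[K] K) (hf : ∀ g x, f (φ g x) = f x) :
    G →* (LinearMap.ker f ≃ₗ[K] LinearMap.ker f) where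
  toFun g :=
    { toFun := fun x => ⟨φ g x, by rw [LinearMap.mem_ker, hf]; exact x.2⟩
      map_add' := fun x y => Subtype.ext (by simp)
      map_smul' := fun c x => Subtype.ext (by simp)
      invFun := fun x => ⟨φ g⁻¹ x, by rw [LinearMap.mem_ker, hf]; exact x.2⟩
      left_inv := fun x => Subtype.ext (by
        show φ g⁻¹ (φ g x) = x
        rw [← LinearEquiv.mul_apply, ← map_mul, inv_mul_cancel, map_one]; rfl)
      right_inv := fun x => Subtype.ext (by
        show φ g (φ g⁻¹ x) = x
        rw [← LinearEquiv.mul_apply, ← map_mul, mul_inv_cancel, map_one]; rfl) }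
  map_one' := LinearEquiv.ext fun x => Subtype.ext (by simp)
  map_mul' g h := LinearEquiv.ext fun x => Subtype.ext (by
    show φ (g * h) x = φ g (φ h x)
    rw [map_mul, LinearEquiv.mul_apply])

theorem coe_restrictKer_apply {G : Type u} [Group G] {K : Type v} [Field K] {V : Type w}
    [AddCommGroup V] [Module K V] (φ : G →* (V ≃ₗ[K] V)) (f : V →ₗ[K] K)
    (hf : ∀ g x, f (φ g x) = f x) (g : G) (x : LinearMap.ker f) :
    ((restrictKer φ f hf g x : LinearMap.ker f) : V) = φ g x := rfl

/-- If the invariant functional does not vanish on a fixed vector, the restriction to its kernel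
is injective as soon as the representation is. -/
theorem restrictKer_injective {G : Type u} [Group G] {K : Type v} [Field K] {V : Type w}
    [AddCommGroup V] [Module K V] (φ : G →* (V ≃ₗ[K] V)) (hφ : Function.Injective φ)
    (f : V →ₗ[K] K) (hf : ∀ g x, f (φ g x) = f x) {v : V} (hfv : f v = 1)
    (hfix : ∀ g, φ g v = v) : Function.Injective (restrictKer φ f hf) := by
  rw [injective_iff_map_eq_one]
  intro g hg
  apply hφ
  rw [map_one]
  ext x
  have h1 : x - f x • v ∈ LinearMap.ker f := by
    rw [LinearMap.mem_ker, map_sub, map_smul, hfv, smul_eq_mul, mul_one, sub_self]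
  have h2 : φ g (x - f x • v) = x - f x • v :=
    congrArg (Subtype.val) (LinearEquiv.congr_fun hg ⟨x - f x • v, h1⟩)
  rw [map_sub, map_smul, hfix] at h2
  exact sub_left_injective h2

/-- A faithful representation of dimension `n` gives an injective homomorphism to matrices. -/
theorem exists_GL_of_linearEquiv {G : Type u} [Group G] {K : Type v} [Field K] {V : Type w}
    [AddCommGroup V] [Module K V] [FiniteDimensional K V] {n : ℕ} (hn : finrank K V = n)
    (φ : G →* (V ≃ₗ[K] V)) (hφ : Function.Injective φ) :
    ∃ ψ : G →* Matrix.GeneralLinearGroup (Fin n) K, Function.Injective ψ := by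
  classical
  let b : Basis (Fin n) K V := Module.finBasisOfFinrankEq K V hn
  let e : V ≃ₗ[K] (Fin n → K) := b.equivFun
  let c : (V ≃ₗ[K] V) →* ((Fin n → K) ≃ₗ[K] (Fin n → K)) :=
    { toFun := fun f => (e.symm.trans f).trans e
      map_one' := LinearEquiv.ext fun x => e.apply_symm_apply x
      map_mul' := fun f g => LinearEquiv.ext fun x => by
        simp [LinearEquiv.mul_apply] }
  have hc : Function.Injective c := by
    intro f g h
    ext x
    have h1 := LinearEquiv.congr_fun h (e x)
    simpa [c] using h1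
  let d : Matrix.GeneralLinearGroup (Fin n) K ≃* ((Fin n → K) ≃ₗ[K] (Fin n → K)) :=
    Matrix.GeneralLinearGroup.toLin.trans (LinearMap.GeneralLinearGroup.generalLinearEquiv K _)
  exact ⟨(d.symm.toMonoidHom.comp c).comp φ, d.symm.injective.comp (hc.comp hφ)⟩

/-- A finite group with a faithful representation of dimension `n + 1` over a field in which
its order is invertible, with a nonzero fixed vector, embeds in `GL (n, K)`. -/
theorem exists_GL_of_fixed {G : Type u} [Group G] [Finite G] {K : Type v} [Field K]
    (hK : (Nat.card G : K) ≠ 0) {V : Type w} [AddCommGroup V] [Module K V]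
    [FiniteDimensional K V] {n : ℕ} (hn : finrank K V = n + 1)
    (φ : G →* (V ≃ₗ[K] V)) (hφ : Function.Injective φ) {v : V} (hv : v ≠ 0)
    (hfix : ∀ g, φ g v = v) :
    ∃ ψ : G →* Matrix.GeneralLinearGroup (Fin n) K, Function.Injective ψ := by
  obtain ⟨f, hfv, hf⟩ := exists_invariant_functional hK φ hv hfix
  refine exists_GL_of_linearEquiv ?_ (restrictKer φ f hf)
    (restrictKer_injective φ hφ f hf hfv hfix)
  have h1 := LinearMap.finrank_range_add_finrank_ker f
  have h2 : finrank K (LinearMap.range f) = 1 := by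
    rw [LinearMap.range_eq_top.mpr (LinearMap.surjective_of_ne_zero (by
      intro h0
      rw [h0, LinearMap.zero_apply] at hfv
      exact zero_ne_one hfv)), finrank_top, Module.finrank_self]
  omega

/-- Extension of scalars for groups of matrices. -/
theorem map_GL_injective {n : ℕ} {K : Type v} {L : Type w} [Field K] [Field L] (i : K →+* L) :
    Function.Injective (Matrix.GeneralLinearGroup.map (n := Fin n) i) := by
  intro A B h
  apply Units.ext
  apply Matrix.map_injective i.injective
  exact congrArg Units.val h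

/-- A finite group of matrices of degree `n + 1` over a field `K` of characteristic zero with a
nonzero fixed vector embeds in `GL (n, L)` for every field `L` over `K`. -/
theorem exists_GL_extension {G : Type u} [Group G] [Finite G] {K : Type v} {L : Type w}
    [Field K] [Field L] [CharZero K] (i : K →+* L) {n : ℕ}
    (ρ : G →* Matrix.GeneralLinearGroup (Fin (n + 1)) K) (hρ : Function.Injective ρ)
    {v : Fin (n + 1) → K} (hv : v ≠ 0) (hfix : ∀ g, (ρ g).val.mulVec v = v) :
    ∃ ψ : G →* Matrix.GeneralLinearGroup (Fin n) L, Function.Injective ψ := by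
  classical
  let d : Matrix.GeneralLinearGroup (Fin (n + 1)) K ≃*
      ((Fin (n + 1) → K) ≃ₗ[K] (Fin (n + 1) → K)) :=
    Matrix.GeneralLinearGroup.toLin.trans (LinearMap.GeneralLinearGroup.generalLinearEquiv K _)
  have hd : ∀ g, (d.toMonoidHom.comp ρ) g v = v := fun g => hfix g
  obtain ⟨ψ, hψ⟩ := exists_GL_of_fixed (G := G) (K := K) (by exact_mod_cast Nat.card_pos.ne')
    (V := Fin (n + 1) → K) (n := n) (by simp) (d.toMonoidHom.comp ρ)
    (d.injective.comp hρ) hv hd
  exact ⟨(Matrix.GeneralLinearGroup.map i).comp ψ, (map_GL_injective i).comp hψ⟩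

/-- Simplicity and order pass along an isomorphism. -/
theorem isM_of_mulEquiv {G : Type u} {H : Type v} [Group G] [Group H] (e : G ≃* H)
    (h : Cfsg.IsM G) : Cfsg.IsM H := by
  obtain ⟨h1, h2⟩ := h
  refine ⟨?_, by rw [← Nat.card_congr e.toEquiv, h2]⟩
  have := h1
  exact e.symm.isSimpleGroup

/-- From a model of the Monster of dimension `196884` over the rationals with a fixed vector to
the statement S0467. -/
theorem S0467_of_model {G : Type u} [Group G] [Finite G] (hM : Cfsg.IsM G)
    (ρ : G →* Matrix.GeneralLinearGroup (Fin 196884) ℚ) (hρ : Function.Injective ρ)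
    {v : Fin 196884 → ℚ} (hv : v ≠ 0) (hfix : ∀ g, (ρ g).val.mulVec v = v) :
    ∃ H : Subgroup (Matrix.GeneralLinearGroup (Fin 196883) ℝ), Cfsg.IsM H := by
  obtain ⟨ψ, hψ⟩ := exists_GL_extension (L := ℝ) (n := 196883) (algebraMap ℚ ℝ) ρ hρ hv hfix
  exact ⟨ψ.range, isM_of_mulEquiv (MonoidHom.ofInjective hψ) hM⟩

/-- The same from a linear action on any rational space of dimension `196884`. -/
theorem S0467_of_action {G : Type u} [Group G] [Finite G] (hM : Cfsg.IsM G)
    {V : Type w} [AddCommGroup V] [Module ℚ V] [FiniteDimensional ℚ V]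
    (hn : finrank ℚ V = 196884) (φ : G →* (V ≃ₗ[ℚ] V)) (hφ : Function.Injective φ)
    {v : V} (hv : v ≠ 0) (hfix : ∀ g, φ g v = v) :
    ∃ H : Subgroup (Matrix.GeneralLinearGroup (Fin 196883) ℝ), Cfsg.IsM H := by
  obtain ⟨ψ, hψ⟩ := exists_GL_of_fixed (G := G) (K := ℚ) (by exact_mod_cast Nat.card_pos.ne')
    (V := V) (n := 196883) hn φ hφ hv hfix
  let χ := (Matrix.GeneralLinearGroup.map (n := Fin 196883) (algebraMap ℚ ℝ)).comp ψ
  have hχ : Function.Injective χ := (map_GL_injective (algebraMap ℚ ℝ)).comp hψ
  exact ⟨χ.range, isM_of_mulEquiv (MonoidHom.ofInjective hχ) hM⟩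

end Cfsg.Agent.MonsterX.DropFixed
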