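import Cfsg.Agent.MonsterX.BabyQuot
import Cfsg.Agent.J2.ExtQuot
import Cfsg.Prelude.Def_Sporadic
import Cfsg.Prelude.Def_Transfer
import Mathlib.GroupTheory.GroupAction.ConjAct
import Mathlib.GroupTheory.Complement

set_option autoImplicit false

/-!
Packaging of the statements S0468 and S0469 from the output of the Monster construction.
-/

namespace Cfsg.Agent.MonsterX.MonsterPack

open Subgroup Cfsg.Agent.MonsterX.SimpleCrit Cfsg.Agent.MonsterX.BabyQuot

universe u v

/-- A subgroup of order two generated by a product of squares has no complement. -/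
theorem no_complement {H : Type u} [Group H] (Z : Subgroup H) (hZ : Nat.card Z = 2) {c : H}
    (hc : c ∈ Z) (hc1 : c ≠ 1) (hsq : c ∈ closure {x : H | ∃ y, x = y * y}) (L : Subgroup H) :
    ¬ Z.IsComplement' L := by
  intro h
  have h1 : L.index = 2 := by rw [h.index_eq_card, hZ]
  have h2 : closure {x : H | ∃ y, x = y * y} ≤ L := by
    rw [closure_le]
    rintro _ ⟨y, rfl⟩
    exact mul_self_mem_of_index_two h1 y
  exact hc1 (mem_bot.mp (h.disjoint.le_bot ⟨hc, h2 hsq⟩))

/-- Commutators are products of squares. -/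
theorem commutator_mem_closure_sq {H : Type u} [Group H] (a b : H) :
    a * b * a⁻¹ * b⁻¹ ∈ closure {x : H | ∃ y, x = y * y} := by
  have h1 : a * b * a⁻¹ * b⁻¹ =
      ((a * b) * (a * b)) * ((b⁻¹ * a⁻¹ * b) * (b⁻¹ * a⁻¹ * b)) * (b⁻¹ * b⁻¹) := by group
  rw [h1]
  exact mul_mem (mul_mem (subset_closure ⟨_, rfl⟩) (subset_closure ⟨_, rfl⟩))
    (subset_closure ⟨_, rfl⟩)

/-- `a * (g * a * g⁻¹)` is a product of squares. -/
theorem mul_conj_mem_closure_sq {H : Type u} [Group H] (a g : H) :
    a * (g * a * g⁻¹) ∈ closure {x : H | ∃ y, x = y * y} := by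
  have h1 : a * (g * a * g⁻¹) = (a * a) * (a⁻¹ * g * a⁻¹⁻¹ * g⁻¹) := by group
  rw [h1]
  exact mul_mem (subset_closure ⟨_, rfl⟩) (commutator_mem_closure_sq _ _)

/-- Data showing that `H` is a non-split double cover of `K`. -/
theorem isNonsplit_of {H : Type u} {K : Type v} [Group H] [Group K]
    (hZ : Nat.card (center H) = 2) (e : H ⧸ center H ≃* K) {c : H} (hc : c ∈ center H)
    (hc1 : c ≠ 1) (hsq : c ∈ closure {x : H | ∃ y, x = y * y}) :
    Cfsg.IsNonsplitDoubleCover H K :=
  ⟨hZ, ⟨e⟩, no_complement _ hZ hc hc1 hsq⟩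

/-- Isomorphism of centralisers of conjugate elements. -/
noncomputable def centConj {G : Type u} [Group G] (g t : G) :
    centralizer ({t} : Set G) ≃* centralizer ({g * t * g⁻¹} : Set G) :=
  ((MulAut.conj g).subgroupMap (centralizer ({t} : Set G))).trans
    (MulEquiv.subgroupCongr (by
      ext x
      constructor
      · rintro ⟨y, hy, rfl⟩
        have hy' := mem_cent.mp hy
        rw [mem_cent]
        show g * y * g⁻¹ * (g * t * g⁻¹) = g * t * g⁻¹ * (g * y * g⁻¹)
        calc g * y * g⁻¹ * (g * t * g⁻¹) = g * (y * t) * g⁻¹ := by group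
          _ = g * (t * y) * g⁻¹ := by rw [hy']
          _ = g * t * g⁻¹ * (g * y * g⁻¹) := by group
      · intro hx
        have hx' := mem_cent.mp hx
        refine ⟨g⁻¹ * x * g, ?_, ?_⟩
        · show g⁻¹ * x * g ∈ centralizer ({t} : Set G)
          rw [mem_cent]
          calc g⁻¹ * x * g * t = g⁻¹ * (x * (g * t * g⁻¹)) * g := by group
            _ = g⁻¹ * (g * t * g⁻¹ * x) * g := by rw [hx']
            _ = t * (g⁻¹ * x * g) := by group
        · show g * (g⁻¹ * x * g) * g⁻¹ = x
          group))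

theorem coe_centConj {G : Type u} [Group G] (g t : G) (x : centralizer ({t} : Set G)) :
    ((centConj g t x : centralizer ({g * t * g⁻¹} : Set G)) : G) = g * x * g⁻¹ := rfl

/-- Non-split double covers are transported by isomorphisms, in the form with a product of
squares generating the centre. -/
theorem isNonsplit_transport {H H' : Type u} {K : Type v} [Group H] [Group H'] [Group K]
    (f : H ≃* H') (hZ : Nat.card (center H) = 2) (e : H ⧸ center H ≃* K) {c : H}
    (hc : c ∈ center H) (hc1 : c ≠ 1) (hsq : c ∈ closure {x : H | ∃ y, x = y * y}) :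
    Cfsg.IsNonsplitDoubleCover H' K := by
  have hmap : (center H).map f.toMonoidHom = center H' := by
    ext x
    constructor
    · rintro ⟨y, hy, rfl⟩
      rw [mem_center_iff]
      intro w
      obtain ⟨w, rfl⟩ := f.surjective w
      show f w * f y = f y * f w
      rw [← map_mul, ← map_mul, mem_center_iff.mp hy w]
    · intro hx
      obtain ⟨y, rfl⟩ := f.surjective x
      refine ⟨y, ?_, rfl⟩
      rw [SetLike.mem_coe, mem_center_iff]
      intro w
      apply f.injective
      rw [map_mul, map_mul, mem_center_iff.mp hx (f w)]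
  have hZ' : Nat.card (center H') = 2 := by
    rw [← hmap, ← hZ]
    exact (Nat.card_congr (f.subgroupMap (center H)).toEquiv).symm
  refine isNonsplit_of hZ' ((QuotientGroup.congr (center H) (center H') f hmap).symm.trans e)
    (c := f c) ?_ (fun h => hc1 (f.injective (by rw [h, map_one]))) ?_
  · rw [← hmap]; exact ⟨c, hc, rfl⟩
  · have h1 : (closure {x : H | ∃ y, x = y * y}).map f.toMonoidHom ≤
        closure {x : H' | ∃ y, x = y * y} := by
      rw [MonoidHom.map_closure, closure_le]
      rintro _ ⟨_, ⟨y, rfl⟩, rfl⟩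
      exact subset_closure ⟨f y, map_mul f y y⟩
    exact h1 ⟨c, hsq, rfl⟩

/-- The number of conjugates times the order of the centraliser. -/
theorem card_conjugatesOf_mul {G : Type u} [Group G] (t : G) :
    Nat.card (conjugatesOf t) * Nat.card (centralizer ({t} : Set G)) = Nat.card G := by
  have h1 : Nat.card (conjugatesOf t) = (centralizer ({t} : Set G)).index := by
    rw [index_eq_card]
    refine (Nat.card_eq_of_bijective (f := fun q : G ⧸ centralizer ({t} : Set G) =>
      Quotient.liftOn' q (fun g => (⟨g * t * g⁻¹, isConj_iff.mpr ⟨g, rfl⟩⟩ : conjugatesOf t))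
      ?_) ?_).symm
    · intro a b hab
      rw [QuotientGroup.leftRel_apply, mem_cent] at hab
      apply Subtype.ext
      show a * t * a⁻¹ = b * t * b⁻¹
      calc a * t * a⁻¹ = a * (t * (a⁻¹ * b)) * b⁻¹ := by group
        _ = a * (a⁻¹ * b * t) * b⁻¹ := by rw [hab]
        _ = b * t * b⁻¹ := by group
    · constructor
      · intro p q
        induction p using QuotientGroup.induction_on with
        | H a =>
        induction q using QuotientGroup.induction_on with
        | H b =>
        intro h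
        have h2 : a * t * a⁻¹ = b * t * b⁻¹ := congrArg Subtype.val h
        rw [QuotientGroup.eq, mem_cent]
        calc a⁻¹ * b * t = a⁻¹ * (b * t * b⁻¹) * b := by group
          _ = a⁻¹ * (a * t * a⁻¹) * b := by rw [h2]
          _ = t * (a⁻¹ * b) := by group
      · rintro ⟨x, hx⟩
        obtain ⟨g, rfl⟩ := isConj_iff.mp hx
        exact ⟨(g : G ⧸ centralizer ({t} : Set G)), rfl⟩
  rw [h1, mul_comm]
  exact card_mul_index _

section Main

variable {G : Type} [Group G] [Finite G] {z t : G} {Q : Subgroup G}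

theorem card_center (h : BabyHyp z t Q) : Nat.card (center (centralizer ({t} : Set G))) = 2 := by
  rw [h.center_eq, Nat.card_zpowers]
  apply orderOf_eq_prime
  · rw [pow_two]; exact Subtype.ext h.tt
  · intro h1; exact h.t1 (congrArg Subtype.val h1)

/-- The order of the simple quotient. -/
theorem card_quot (h : BabyHyp z t Q) :
    Nat.card h.Quot * 2 = Nat.card (centralizer ({t} : Set G)) := by
  have h1 := card_eq_card_quotient_mul_card_subgroup (zpowers h.tH)
  rw [h1, ← card_center h, h.center_eq]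

/-- **S0468 from the Monster model.** -/
theorem S0468_of (hM : Cfsg.IsM G) (h : BabyHyp z t Q)
    (hsq : h.tH ∈ closure {x : centralizer ({t} : Set G) | ∃ y, x = y * y})
    (hcard : Nat.card (centralizer ({t} : Set G)) = 2 * 4154781481226426191177580544000000)
    (h6 : ∀ g : G, orderOf (t * (g * t * g⁻¹)) ≤ 6) :
    ∃ (G : Type) (_ : Group G) (_ : Finite G), Cfsg.IsM G ∧ ∃ D : Set G,
      (∃ d ∈ D, D = conjugatesOf d) ∧ Nat.card D = 97239461142009186000 ∧
      (∀ d ∈ D, orderOf d = 2) ∧ (∀ d ∈ D, ∀ e ∈ D, orderOf (d * e) ≤ 6) ∧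
      ∀ d ∈ D, ∃ (K : Type) (_ : Group K), Cfsg.IsB K ∧
        Cfsg.IsNonsplitDoubleCover (Subgroup.centralizer ({d} : Set G)) K := by
  refine ⟨G, inferInstance, inferInstance, hM, conjugatesOf t, ⟨t, mem_conjugatesOf_self, rfl⟩,
    ?_, ?_, ?_, ?_⟩
  · have h1 := card_conjugatesOf_mul t
    rw [hcard, hM.2] at h1
    omega
  · intro d hd
    obtain ⟨g, rfl⟩ := isConj_iff.mp hd
    apply orderOf_eq_prime
    · rw [pow_two, show g * t * g⁻¹ * (g * t * g⁻¹) = g * (t * t) * g⁻¹ by group, h.tt]; group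
    · intro h1; exact h.t1 (conj_eq_one_iff.mp h1)
  · intro d hd e he
    obtain ⟨g, rfl⟩ := isConj_iff.mp hd
    obtain ⟨k, rfl⟩ := isConj_iff.mp he
    have h1 := h6 (g⁻¹ * k)
    have h2 : g * t * g⁻¹ * (k * t * k⁻¹) =
        g * (t * ((g⁻¹ * k) * t * (g⁻¹ * k)⁻¹)) * g⁻¹ := by group
    rw [h2]
    have h3 : orderOf (g * (t * ((g⁻¹ * k) * t * (g⁻¹ * k)⁻¹)) * g⁻¹) =
        orderOf (t * ((g⁻¹ * k) * t * (g⁻¹ * k)⁻¹)) :=
      MulEquiv.orderOf_eq (MulAut.conj g) _
    rw [h3]; exact h1
  · intro d hd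
    obtain ⟨g, rfl⟩ := isConj_iff.mp hd
    refine ⟨h.Quot, inferInstance, ⟨h.isSimpleGroup_quot, ?_⟩,
      isNonsplit_transport (centConj g t) (card_center h)
        (QuotientGroup.quotientMulEquivOfEq h.center_eq) (c := h.tH) ?_ ?_ hsq⟩
    · have h1 := card_quot h
      rw [hcard] at h1
      omega
    · rw [h.center_eq]; exact mem_zpowers _
    · intro h1; exact h.t1 (congrArg Subtype.val h1)

/-- **S0469 from the Monster model.** -/
theorem S0469_of (hM : Cfsg.IsM G) (hz : orderOf z = 2) (hQ : Q ≤ centralizer ({z} : Set G))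
    (hinv : ∀ c ∈ centralizer ({z} : Set G), ∀ q ∈ Q, c * q * c⁻¹ ∈ Q)
    (hcard : Nat.card Q = 2 ^ 25) (hext : Cfsg.IsExtraspecial 2 Q)
    {L : Type u} [Group L] (π : centralizer ({z} : Set G) →* L) (hπ : Function.Surjective π)
    (hker : ∀ x : centralizer ({z} : Set G), π x = 1 ↔ (x : G) ∈ Q) (hL : Cfsg.IsCo1 L) :
    ∃ (G : Type) (_ : Group G) (_ : Finite G), Cfsg.IsM G ∧ ∃ z : G, orderOf z = 2 ∧
      ∃ (Q : Subgroup (Subgroup.centralizer ({z} : Set G))) (_ : Q.Normal),
        Nat.card Q = 2 ^ 25 ∧ Cfsg.IsExtraspecial 2 Q ∧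
        Cfsg.IsCo1 ((Subgroup.centralizer ({z} : Set G)) ⧸ Q) := by
  have hn : (Q.subgroupOf (centralizer ({z} : Set G))).Normal :=
    ⟨fun q hq c => hinv c c.2 q hq⟩
  refine ⟨G, inferInstance, inferInstance, hM, z, hz,
    Q.subgroupOf (centralizer ({z} : Set G)), hn, ?_, ?_, ?_⟩
  · rw [Nat.card_congr (subgroupOfEquivOfLe hQ).toEquiv, hcard]
  · exact Cfsg.Agent.J2.ExtQuot.isExtraspecial_of_equiv (subgroupOfEquivOfLe hQ).symm hext
  · have hk : π.ker = Q.subgroupOf (centralizer ({z} : Set G)) := by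
      ext x
      rw [MonoidHom.mem_ker, hker, mem_subgroupOf]
    have e : (centralizer ({z} : Set G)) ⧸ Q.subgroupOf (centralizer ({z} : Set G)) ≃* L :=
      (QuotientGroup.quotientMulEquivOfEq hk.symm).trans
        (QuotientGroup.quotientKerEquivOfSurjective π hπ)
    have := hL.1
    refine ⟨e.isSimpleGroup, ?_⟩
    rw [Nat.card_congr e.toEquiv, hL.2]

end Main

end Cfsg.Agent.MonsterX.MonsterPack
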