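import Cfsg.Agent.MonsterX.MainSimple
import Cfsg.Agent.MonsterX.MonsterPack
import Cfsg.Agent.MonsterX.DropFixed
import Cfsg.Agent.J2.ExtQuot

/-!
# The abstract theorem for the Monster, part 5: the statements S0467, S0468, S0469 from the model
-/

set_option autoImplicit false

namespace Cfsg.Agent.MonsterX.MainPack

open Cfsg.Agent.MonsterX.Model Cfsg.Agent.MonsterX.MainBasic Cfsg.Agent.MonsterX.MainTrans
  Cfsg.Agent.MonsterX.MainSimple

/-- The facts about `C_G(t₀)`, used for the Baby Monster. -/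
structure MBaby {W : Type} [AddCommGroup W] [Module ℚ W] (M : MData W) : Prop where
  /-- the triality element fixes the base axis -/
  τ_a₀ : M.τ M.a₀ = M.a₀
  /-- the centraliser of `t₀` in `C` is irreducible on `C_Q(t₀) / ⟨z, t₀⟩` -/
  irr : ∀ R : Subgroup (W ≃ₗ[ℚ] W), R ≤ M.Q → (∀ r ∈ R, r * M.t₀ = M.t₀ * r) → M.z ∈ R →
    M.t₀ ∈ R → (∀ c ∈ M.C, c * M.t₀ = M.t₀ * c → ∀ r ∈ R, c * r * c⁻¹ ∈ R) →
    (∀ r ∈ R, r = 1 ∨ r = M.z ∨ r = M.t₀ ∨ r = M.t₀ * M.z) ∨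
      ∀ q ∈ M.Q, q * M.t₀ = M.t₀ * q → q ∈ R
  /-- `C_C(t₀) / C_Q(t₀)` is simple -/
  top : ∀ R : Subgroup (W ≃ₗ[ℚ] W), (∀ q ∈ M.Q, q * M.t₀ = M.t₀ * q → q ∈ R) → R ≤ M.C →
    (∀ r ∈ R, r * M.t₀ = M.t₀ * r) →
    (∀ c ∈ M.C, c * M.t₀ = M.t₀ * c → ∀ r ∈ R, c * r * c⁻¹ ∈ R) →
    (R ≤ M.Q) ∨ ∀ c ∈ M.C, c * M.t₀ = M.t₀ * c → c ∈ R
  τ_q : ∃ q ∈ M.Q, q * M.t₀ = M.t₀ * q ∧ M.τ * q * M.τ⁻¹ ∈ M.C ∧ M.τ * q * M.τ⁻¹ ∉ M.Q
  comm : ∃ a ∈ M.Q, a * M.t₀ = M.t₀ * a ∧ ∃ b ∈ M.Q, b * M.t₀ = M.t₀ * b ∧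
    a * b * a⁻¹ * b⁻¹ = M.z
  /-- `t₀` is the product of two elements conjugate in its centraliser -/
  sq : ∃ a ∈ M.C, a * M.t₀ = M.t₀ * a ∧ ∃ c ∈ M.C, c * M.t₀ = M.t₀ * c ∧
    M.t₀ = a * (c * a * c⁻¹)

variable {W : Type} [AddCommGroup W] [Module ℚ W] {M : MData W} {K₀ : Type} [Group K₀]

/-- **S0467.** -/
theorem s0467 (hG : MGroup M K₀) (hR : MRep M) (hL : MLat M) (hO : MOrbit M) (hT : MTrans M)
    (hF : ∃ v : W, v ≠ 0 ∧ (∀ g ∈ M.C, g v = v) ∧ M.τ v = v) :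
    ∃ H : Subgroup (Matrix.GeneralLinearGroup (Fin 196883) ℝ), Cfsg.IsM H := by
  have := G_finite hO
  obtain ⟨v, hv, h1, h2⟩ := hF
  have hfin : FiniteDimensional ℚ W := by
    refine Module.finite_of_finrank_pos ?_
    rw [hR.finrank_eq]
    norm_num
  refine DropFixed.S0467_of_action (isM hG hR hL hO hT) hR.finrank_eq M.G.subtype
    Subtype.val_injective hv ?_
  rintro ⟨g, hg⟩
  change g v = v
  have hle : M.G ≤ ({ carrier := {g | g v = v}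
                      mul_mem' := by
                        intro a b (ha : a v = v) (hb : b v = v)
                        change (a * b) v = v
                        rw [LinearEquiv.mul_apply, hb, ha]
                      one_mem' := rfl
                      inv_mem' := by
                        intro a (ha : a v = v)
                        change a⁻¹ v = v
                        exact (eq_inv_apply a ha).symm } : Subgroup (W ≃ₗ[ℚ] W)) := by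
    refine (Subgroup.closure_le _).2 ?_
    rintro x (hx | hx)
    · exact h1 x hx
    · have : x = M.τ := hx
      subst this
      exact h2
  exact hle hg

theorem isExtraspecial (hG : MGroup M K₀) (hR : MRep M) : Cfsg.IsExtraspecial 2 M.Q := by
  have : Finite M.Q := Nat.finite_of_card_ne_zero (by rw [hG.Q_card]; norm_num)
  have hcent : ∀ x : M.Q, x ∈ Subgroup.center M.Q ↔
      (x : W ≃ₗ[ℚ] W) = 1 ∨ (x : W ≃ₗ[ℚ] W) = M.z := by
    intro x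
    rw [Subgroup.mem_center_iff]
    constructor
    · intro h
      exact hG.Q_center x x.2 (fun y hy => (congrArg Subtype.val (h ⟨y, hy⟩)).symm)
    · rintro (h | h) y
      · have : x = 1 := Subtype.ext h
        rw [this, mul_one, one_mul]
      · apply Subtype.ext
        change (y : W ≃ₗ[ℚ] W) * x = x * y
        rw [h]
        exact hG.z_comm y (hG.Q_le y.2)
  refine Cfsg.Agent.J2.ExtQuot.isExtraspecial_two (IsPGroup.of_card hG.Q_card) ?_ ?_ ?_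
  · have e : (Subgroup.center M.Q : Set M.Q) = {1, ⟨M.z, hG.z_mem⟩} := by
      ext x
      rw [SetLike.mem_coe, hcent]
      constructor
      · rintro (h | h)
        · exact Or.inl (Subtype.ext h)
        · exact Or.inr (Subtype.ext h)
      · rintro (h | h)
        · left; rw [h]; rfl
        · right
          rw [show x = ⟨M.z, hG.z_mem⟩ from h]
    have h1 : Nat.card (Subgroup.center M.Q) = (Subgroup.center M.Q : Set M.Q).ncard :=
      Nat.card_coe_set_eq _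
    rw [h1, e, Set.ncard_pair]
    intro h
    exact hG.z_ne (congrArg Subtype.val h).symm
  · intro x
    rw [hcent]
    rcases hG.Q_sq x x.2 with h | h
    · left
      rw [pow_two]
      exact h
    · right
      rw [pow_two]
      exact h
  · obtain ⟨y, hy, _, hy1⟩ := exists_y hG hR
    refine ⟨⟨y, hy⟩, ⟨M.t₀, hR.t₀_mem⟩, ?_⟩
    intro h
    have h1 : y * M.t₀ = M.t₀ * y := congrArg Subtype.val h
    rw [h1, mul_inv_cancel_right] at hy1
    exact hG.z_ne (by simpa using hy1.symm)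

theorem orderOf_z (hG : MGroup M K₀) : orderOf (zG hG) = 2 := by
  apply orderOf_eq_prime
  · rw [pow_two]
    exact Subtype.ext hG.z_sq
  · intro h
    exact hG.z_ne (congrArg Subtype.val h)

/-- **S0469.** -/
theorem s0469 (hG : MGroup M K₀) (hR : MRep M) (hL : MLat M) (hO : MOrbit M) (hT : MTrans M) :
    ∃ (G : Type) (_ : Group G) (_ : Finite G), Cfsg.IsM G ∧ ∃ z : G, orderOf z = 2 ∧
      ∃ (Q : Subgroup (Subgroup.centralizer ({z} : Set G))) (_ : Q.Normal),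
        Nat.card Q = 2 ^ 25 ∧ Cfsg.IsExtraspecial 2 Q ∧
        Cfsg.IsCo1 ((Subgroup.centralizer ({z} : Set G)) ⧸ Q) := by
  have := G_finite hO
  obtain ⟨π, hs, hπ⟩ := hG.quot
  have hQG : M.Q ≤ M.G := hG.Q_le.trans C_le
  have : Finite M.Q := Nat.finite_of_card_ne_zero (by rw [hG.Q_card]; norm_num)
  have h := hyp hG hR hL hO hT
  let ι : Subgroup.centralizer ({zG hG} : Set M.G) →* M.C :=
    { toFun := fun x => ⟨(x : M.G), (mem_cent_iff hG hR hL hO hT _).1 x.2⟩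
      map_one' := rfl
      map_mul' := fun _ _ => rfl }
  have hι : Function.Surjective ι := fun c =>
    ⟨⟨⟨c, C_le c.2⟩, (mem_cent_iff hG hR hL hO hT _).2 c.2⟩, rfl⟩
  refine MonsterPack.S0469_of (z := zG hG) (Q := M.Q.subgroupOf M.G) (isM hG hR hL hO hT)
    (orderOf_z hG) h.le h.inv ?_ ?_ (π.comp ι) (hs.comp hι) ?_ ⟨hG.simple, hG.card⟩
  · rw [← hG.Q_card]
    exact Nat.card_congr (Subgroup.subgroupOfEquivOfLe hQG).toEquiv
  · exact Cfsg.Agent.J2.ExtQuot.isExtraspecial_of_equiv (Subgroup.subgroupOfEquivOfLe hQG).symm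
      (isExtraspecial hG hR)
  · intro x
    exact hπ (ι x)

/-- `t₀` as an element of `G` -/
def tG (hG : MGroup M K₀) (hR : MRep M) : M.G := ⟨M.t₀, C_le (hG.Q_le hR.t₀_mem)⟩

theorem mem_cent_t_iff (hG : MGroup M K₀) (hR : MRep M) (g : M.G) :
    g ∈ Subgroup.centralizer ({tG hG hR} : Set M.G) ↔
      (g : W ≃ₗ[ℚ] W) * M.t₀ = M.t₀ * g := by
  rw [SimpleCrit.mem_cent]
  constructor
  · intro h
    exact congrArg Subtype.val h
  · intro h
    exact Subtype.ext h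

theorem mem_cent_t_iff' (hG : MGroup M K₀) (hR : MRep M) (hL : MLat M) (hO : MOrbit M)
    (hT : MTrans M) (g : M.G) :
    g ∈ Subgroup.centralizer ({tG hG hR} : Set M.G) ↔ (g : W ≃ₗ[ℚ] W) M.a₀ = M.a₀ := by
  rw [mem_cent_t_iff, comm_iff hG hR hL hO hT g.2]

/-- `z` is not the involution of an axis -/
theorem z_ne_conj (hG : MGroup M K₀) (hR : MRep M) (hL : MLat M) (hO : MOrbit M)
    (hT : MTrans M) {k : W ≃ₗ[ℚ] W} (hk : k ∈ M.G) : k * M.t₀ * k⁻¹ ≠ M.z := by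
  intro e
  obtain ⟨j, h, hh, h1⟩ := G_X hO hk (S_sub_X hO a₀_mem_S)
  have hhG := C_le hh
  have hzc : h⁻¹ * M.z * h = M.z := by
    have := hG.z_comm h⁻¹ (M.C.inv_mem hh)
    rw [this, inv_mul_cancel_right]
  have h2 : (h⁻¹ * k) M.a₀ = M.d j := by
    rw [LinearEquiv.mul_apply, h1, inv_apply']
  have h3 : (h⁻¹ * k) * M.t₀ * (h⁻¹ * k)⁻¹ = M.z := by
    calc (h⁻¹ * k) * M.t₀ * (h⁻¹ * k)⁻¹ = h⁻¹ * (k * M.t₀ * k⁻¹) * h := by group
      _ = M.z := by rw [e, hzc]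
  by_cases hj : j = M.j₀
  · subst hj
    rw [hO.d_j₀] at h2
    have h4 := conj_eq hG hR hL hO hT (M.G.mul_mem (M.G.inv_mem hhG) hk) M.G.one_mem
      (show (h⁻¹ * k) M.a₀ = (1 : W ≃ₗ[ℚ] W) M.a₀ from h2)
    rw [h3] at h4
    apply hR.t₀_ne_z
    rw [h4]
    group
  · apply not_mem_Q hG hR hL hO hT (M.G.mul_mem (M.G.inv_mem hhG) hk) hj h2
    rw [h3]
    exact hG.z_mem

/-- the hypotheses on `C_G(t₀)` of helper984's theorem -/
theorem babyHyp (hG : MGroup M K₀) (hR : MRep M) (hL : MLat M) (hO : MOrbit M) (hT : MTrans M)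
    (hB : MBaby M) : BabyQuot.BabyHyp (zG hG) (tG hG hR) (M.Q.subgroupOf M.G) where
  zz := Subtype.ext hG.z_sq
  tt := Subtype.ext hR.t₀_sq
  z1 := fun h => hG.z_ne (congrArg Subtype.val h)
  t1 := fun h => hR.t₀_ne (congrArg Subtype.val h)
  tz := fun h => hR.t₀_ne_z (congrArg Subtype.val h)
  two := (hyp hG hR hL hO hT).two
  zmem := hG.z_mem
  tmem := hR.t₀_mem
  le := (hyp hG hR hL hO hT).le
  inv := (hyp hG hR hL hO hT).inv
  nfus := by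
    intro g _ e
    obtain ⟨y, hy, _, hy1⟩ := exists_y hG hR
    have hyG : y ∈ M.G := C_le (hG.Q_le hy)
    have e1 : (g : W ≃ₗ[ℚ] W) * M.z * (g : W ≃ₗ[ℚ] W)⁻¹ = M.t₀ * M.z := congrArg Subtype.val e
    refine z_ne_conj hG hR hL hO hT (M.G.mul_mem (M.G.inv_mem g.2) hyG) ?_
    calc ((g : W ≃ₗ[ℚ] W)⁻¹ * y) * M.t₀ * ((g : W ≃ₗ[ℚ] W)⁻¹ * y)⁻¹
        = (g : W ≃ₗ[ℚ] W)⁻¹ * (y * M.t₀ * y⁻¹) * g := by group
      _ = (g : W ≃ₗ[ℚ] W)⁻¹ * (M.t₀ * M.z) * g := by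
          rw [hy1, hG.z_comm _ (hG.Q_le hR.t₀_mem)]
      _ = (g : W ≃ₗ[ℚ] W)⁻¹ * ((g : W ≃ₗ[ℚ] W) * M.z * (g : W ≃ₗ[ℚ] W)⁻¹) * g := by rw [e1]
      _ = M.z := by group
  irr := by
    intro R hRQ hRt hz ht hc
    rcases hB.irr (R.map M.G.subtype) (by
      rintro _ ⟨r, hr, rfl⟩
      exact hRQ hr) (by
      rintro _ ⟨r, hr, rfl⟩
      exact (mem_cent_t_iff hG hR r).1 (hRt hr)) ⟨_, hz, rfl⟩ ⟨_, ht, rfl⟩ (by
      rintro c hcC hct _ ⟨r, hr, rfl⟩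
      exact ⟨⟨c, C_le hcC⟩ * r * ⟨c, C_le hcC⟩⁻¹,
        hc ⟨c, C_le hcC⟩ ((mem_cent_iff hG hR hL hO hT _).2 hcC) ((mem_cent_t_iff hG hR _).2 hct)
          r hr, rfl⟩) with h | h
    · left
      intro r hr
      rcases h r ⟨r, hr, rfl⟩ with h1 | h1 | h1 | h1
      · exact Or.inl (Subtype.ext h1)
      · exact Or.inr (Or.inl (Subtype.ext h1))
      · exact Or.inr (Or.inr (Or.inl (Subtype.ext h1)))
      · exact Or.inr (Or.inr (Or.inr (Subtype.ext h1)))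
    · right
      refine le_antisymm (le_inf hRQ hRt) ?_
      intro x hx
      obtain ⟨r, hr, e⟩ := h x hx.1 ((mem_cent_t_iff hG hR x).1 hx.2)
      have : r = x := Subtype.ext e
      rwa [← this]
  top := by
    intro R hQR hRz hRt hc
    rcases hB.top (R.map M.G.subtype) (by
      intro q hq hqt
      exact ⟨⟨q, C_le (hG.Q_le hq)⟩, hQR ⟨hq, (mem_cent_t_iff hG hR _).2 hqt⟩, rfl⟩) (by
      rintro _ ⟨r, hr, rfl⟩
      exact (mem_cent_iff hG hR hL hO hT _).1 (hRz hr)) (by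
      rintro _ ⟨r, hr, rfl⟩
      exact (mem_cent_t_iff hG hR r).1 (hRt hr)) (by
      rintro c hcC hct _ ⟨r, hr, rfl⟩
      exact ⟨⟨c, C_le hcC⟩ * r * ⟨c, C_le hcC⟩⁻¹,
        hc ⟨c, C_le hcC⟩ ((mem_cent_iff hG hR hL hO hT _).2 hcC) ((mem_cent_t_iff hG hR _).2 hct)
          r hr, rfl⟩) with h | h
    · left
      refine le_antisymm (le_inf ?_ hRt) hQR
      intro r hr
      exact h ⟨r, hr, rfl⟩
    · right
      refine le_antisymm (le_inf hRz hRt) ?_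
      intro x hx
      obtain ⟨r, hr, e⟩ := h x ((mem_cent_iff hG hR hL hO hT _).1 hx.1)
        ((mem_cent_t_iff hG hR x).1 hx.2)
      have : r = x := Subtype.ext e
      rwa [← this]
  fus := by
    refine ⟨⟨M.τ, τ_mem⟩, (mem_cent_t_iff' hG hR hL hO hT _).2 hB.τ_a₀, hO.τ_z,
      fun h => hO.τ_z_ne (congrArg Subtype.val h)⟩
  out := by
    obtain ⟨q, hq, hqt, h1, h2⟩ := hB.τ_q
    exact ⟨⟨q, C_le (hG.Q_le hq)⟩, hq, (mem_cent_t_iff hG hR _).2 hqt, ⟨M.τ, τ_mem⟩,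
      (mem_cent_t_iff' hG hR hL hO hT _).2 hB.τ_a₀, (mem_cent_iff hG hR hL hO hT _).2 h1, h2⟩
  comm := by
    obtain ⟨a, ha, hat, b, hb, hbt, h⟩ := hB.comm
    exact ⟨⟨a, C_le (hG.Q_le ha)⟩, ha, (mem_cent_t_iff hG hR _).2 hat,
      ⟨b, C_le (hG.Q_le hb)⟩, hb, (mem_cent_t_iff hG hR _).2 hbt, Subtype.ext h⟩

theorem card_cent_t (hG : MGroup M K₀) (hR : MRep M) (hL : MLat M) (hO : MOrbit M)
    (hT : MTrans M) : Nat.card (Subgroup.centralizer ({tG hG hR} : Set M.G)) =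
      2 * 4154781481226426191177580544000000 := by
  have := G_finite hO
  have e1 : Nat.card (MulAction.orbit M.G M.a₀) * Nat.card (MulAction.stabilizer M.G M.a₀) =
      Nat.card M.G := by
    rw [← Nat.card_prod]
    exact Nat.card_congr (MulAction.orbitProdStabilizerEquivGroup M.G M.a₀)
  have e2 : MulAction.orbit M.G M.a₀ = M.X := by
    ext x
    constructor
    · rintro ⟨⟨g, hg⟩, rfl⟩
      exact G_X hO hg (S_sub_X hO a₀_mem_S)
    · intro hx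
      obtain ⟨g, hg, e⟩ := X_eq_orbit hO hx
      exact ⟨⟨g, hg⟩, e⟩
  have e3 : MulAction.stabilizer M.G M.a₀ = Subgroup.centralizer ({tG hG hR} : Set M.G) := by
    ext g
    rw [mem_cent_t_iff' hG hR hL hO hT]
    rfl
  have e4 : Nat.card M.X = 97239461142009186000 := by rw [Nat.card_coe_set_eq, hO.card_X]
  rw [e2, e3, e4, MainOrder.card_G hG hR hL hO] at e1
  omega

/-- products of two involutions `t_x` have order at most `6` -/
theorem six (hG : MGroup M K₀) (hR : MRep M) (hL : MLat M) (hO : MOrbit M)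
    (hT : MTrans M)
    (hord : ∀ j, ∃ g ∈ M.G, g M.a₀ = M.d j ∧ ∀ h ∈ M.C, ∃ n : ℕ, 0 < n ∧ n ≤ 6 ∧
      ((h * M.t₀ * h⁻¹) * (g * M.t₀ * g⁻¹)) ^ n = 1) (g : M.G) :
    orderOf (tG hG hR * (g * tG hG hR * g⁻¹)) ≤ 6 := by
  obtain ⟨j, h, hh, h1⟩ := G_X hO g.2 (S_sub_X hO a₀_mem_S)
  have hhG := C_le hh
  obtain ⟨k, hk, hk1, hk2⟩ := hord j
  obtain ⟨n, hn0, hn6, hn⟩ := hk2 h⁻¹ (M.C.inv_mem hh)
  have e1 := conj_eq hG hR hL hO hT g.2 (M.G.mul_mem hhG hk) (by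
    rw [LinearEquiv.mul_apply, hk1, h1])
  have e2 : M.t₀ * ((g : W ≃ₗ[ℚ] W) * M.t₀ * (g : W ≃ₗ[ℚ] W)⁻¹) =
      h * ((h⁻¹ * M.t₀ * h⁻¹⁻¹) * (k * M.t₀ * k⁻¹)) * h⁻¹ := by
    rw [e1]
    group
  have e3 : (M.t₀ * ((g : W ≃ₗ[ℚ] W) * M.t₀ * (g : W ≃ₗ[ℚ] W)⁻¹)) ^ n = 1 := by
    rw [e2, conj_pow, hn]
    group
  have e4 : (tG hG hR * (g * tG hG hR * g⁻¹)) ^ n = 1 := Subtype.ext e3
  exact (orderOf_le_of_pow_eq_one hn0 e4).trans hn6

/-- **S0468.** -/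
theorem s0468 (hG : MGroup M K₀) (hR : MRep M) (hL : MLat M) (hO : MOrbit M) (hT : MTrans M)
    (hB : MBaby M)
    (hord : ∀ j, ∃ g ∈ M.G, g M.a₀ = M.d j ∧ ∀ h ∈ M.C, ∃ n : ℕ, 0 < n ∧ n ≤ 6 ∧
      ((h * M.t₀ * h⁻¹) * (g * M.t₀ * g⁻¹)) ^ n = 1) :
    ∃ (G : Type) (_ : Group G) (_ : Finite G), Cfsg.IsM G ∧ ∃ D : Set G,
      (∃ d ∈ D, D = conjugatesOf d) ∧ Nat.card D = 97239461142009186000 ∧
      (∀ d ∈ D, orderOf d = 2) ∧ (∀ d ∈ D, ∀ e ∈ D, orderOf (d * e) ≤ 6) ∧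
      ∀ d ∈ D, ∃ (K : Type) (_ : Group K), Cfsg.IsB K ∧
        Cfsg.IsNonsplitDoubleCover (Subgroup.centralizer ({d} : Set G)) K := by
  have := G_finite hO
  have h := babyHyp hG hR hL hO hT hB
  refine MonsterPack.S0468_of (isM hG hR hL hO hT) h ?_ (card_cent_t hG hR hL hO hT)
    (six hG hR hL hO hT hord)
  obtain ⟨a, ha, hat, c, hc, hct, e⟩ := hB.sq
  let a' : Subgroup.centralizer ({tG hG hR} : Set M.G) :=
    ⟨⟨a, C_le ha⟩, (mem_cent_t_iff hG hR _).2 hat⟩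
  let c' : Subgroup.centralizer ({tG hG hR} : Set M.G) :=
    ⟨⟨c, C_le hc⟩, (mem_cent_t_iff hG hR _).2 hct⟩
  have e' : h.tH = a' * (c' * a' * c'⁻¹) := Subtype.ext (Subtype.ext e)
  rw [e']
  exact MonsterPack.mul_conj_mem_closure_sq a' c'

end Cfsg.Agent.MonsterX.MainPack
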