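import Cfsg.Prelude.Def_Spor_Conway
import Cfsg.Agent.LeechMat.Core

/-!
The `2^(1+24).Co1`-side of the Monster (project R19), abstract form.

`KS` collects the facts about a group `G` acting linearly on a rational vector space `V`
with a subgroup `K` each element of which acts through a triple `(A, α, T)`:
`A ∈ Co0`, `α` an automorphism of the extraspecial group `P` and `T` an operator on the
spin space `W`.  From this we get the kernel of `K → Co0/±1` and the order of `K`.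
-/

set_option autoImplicit false

namespace Cfsg.Agent.MonsterX.KSide

open Cfsg Cfsg.Agent.LeechMat.Core

/-- Inner product of two lattice vectors (8 times the customary one). -/
abbrev dot (v w : leechLattice) : ℤ := dotInt (v : GolayPt → ℤ) (w : GolayPt → ℤ)

/-- Norm of a lattice vector (8 times the customary one). -/
abbrev nrm (v : leechLattice) : ℤ := sqNorm (v : GolayPt → ℤ)

/-- A lattice vector with rational coordinates. -/
def rat (v : leechLattice) : GolayPt → ℚ := fun i => ((v : GolayPt → ℤ) i : ℚ)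

theorem rat_neg (v : leechLattice) : rat (-v) = -rat v := by
  funext i
  simp [rat]

theorem rat_add (v w : leechLattice) : rat (v + w) = rat v + rat w := by
  funext i
  simp [rat]

/-- How an element acts: `A ∈ Co0`, `α ∈ Aut P`, `T ∈ End W`. -/
structure Acts {G V P W : Type*} [Group G] [AddCommGroup V] [Module ℚ V]
    [DistribMulAction G V] [Group P] [AddCommGroup W] [Module ℚ W]
    (Sh : Set P) (lam : P → leechLattice) (u : leechLattice → V) (X : P → V)
    (Θ : W →ₗ[ℚ] (GolayPt → ℚ) →ₗ[ℚ] V) (ρ : P →* Module.End ℚ W)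
    (k : G) (A : Co0) (α : P ≃* P) (T : Module.End ℚ W) : Prop where
  act_u : ∀ v, k • u v = u (A • v)
  act_sh : ∀ x ∈ Sh, α x ∈ Sh
  act_X : ∀ x ∈ Sh, k • X x = X (α x)
  act_lam : ∀ x ∈ Sh, lam (α x) = A • lam x ∨ lam (α x) = -(A • lam x)
  act_Θ : ∀ f v, k • Θ f (rat v) = Θ (T f) (rat (A • v))
  act_ρ : ∀ p f, T (ρ p f) = ρ (α p) (T f)

/-- The facts about `G`, `K`, `V` used on the `K`-side. -/
structure KS (G V P W : Type*) [Group G] [AddCommGroup V] [Module ℚ V]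
    [DistribMulAction G V] [SMulCommClass G ℚ V] [Group P] [AddCommGroup W] [Module ℚ W] where
  B : V →ₗ[ℚ] V →ₗ[ℚ] ℚ
  B_comm : ∀ v w, B v w = B w v
  B_pos : ∀ v, v ≠ 0 → 0 < B v v
  B_inv : ∀ (g : G) v w, B (g • v) (g • w) = B v w
  faithful : ∀ g : G, (∀ v : V, g • v = v) → g = 1
  zc : P
  zc_mul : zc * zc = 1
  zc_ne : zc ≠ 1
  zc_comm : ∀ p, zc * p = p * zc
  comm_or : ∀ p q : P, p * q * p⁻¹ = q ∨ p * q * p⁻¹ = zc * q
  inner : ∀ α : P ≃* P, (∀ p, α p = p ∨ α p = zc * p) → ∃ q, ∀ p, α p = q * p * q⁻¹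
  Sh : Set P
  Sh_z : ∀ x ∈ Sh, zc * x ∈ Sh
  gen : Subgroup.closure Sh = ⊤
  lam : P → leechLattice
  lam_norm : ∀ x ∈ Sh, nrm (lam x) = 32
  lam_z : ∀ x, lam (zc * x) = lam x
  lam_inj : ∀ x ∈ Sh, ∀ y ∈ Sh, (lam y = lam x ∨ lam y = -lam x) → y = x ∨ y = zc * x
  lam_surj : ∀ v, nrm v = 32 → ∃ x ∈ Sh, v = lam x ∨ v = -lam x
  u : leechLattice → V
  X : P → V
  Θ : W →ₗ[ℚ] (GolayPt → ℚ) →ₗ[ℚ] V
  ρ : P →* Module.End ℚ W
  ρ_z : ∀ f, ρ zc f = -f
  comm_scalar : ∀ T : Module.End ℚ W, (∀ p f, T (ρ p f) = ρ p (T f)) → ∃ c : ℚ, ∀ f, T f = c • f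
  X_z : ∀ x ∈ Sh, X (zc * x) = -X x
  B_uu : ∀ v w, B (u v) (u w) = ((dot v w : ℤ) : ℚ) ^ 2 / 256
  B_uX : ∀ v, ∀ x ∈ Sh, B (u v) (X x) = 0
  B_XX : ∀ x ∈ Sh, B (X x) (X x) = 1
  B_XX' : ∀ x ∈ Sh, ∀ y ∈ Sh, y ≠ x → y ≠ zc * x → B (X x) (X y) = 0
  B_uΘ : ∀ v f w, B (u v) (Θ f w) = 0
  B_XΘ : ∀ x ∈ Sh, ∀ f w, B (X x) (Θ f w) = 0
  Θ_ne : ∃ f v, Θ f (rat v) ≠ 0
  span : Submodule.span ℚ
    (Set.range u ∪ X '' Sh ∪ {w | ∃ f v, w = Θ f (rat v)}) = ⊤
  ι : P →* G
  ι_u : ∀ p v, ι p • u v = u v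
  ι_X : ∀ p, ∀ x ∈ Sh, ι p • X x = X (p * x * p⁻¹)
  ι_Θ : ∀ p f v, ι p • Θ f v = Θ (ρ p f) v
  K : Subgroup G
  ι_mem : ∀ p, ι p ∈ K
  acts : ∀ k ∈ K, ∃ A α T, Acts Sh lam u X Θ ρ k A α T
  onto : ∀ A : Co0, ∃ k ∈ K, ∀ v, k • u v = u (A • v)

namespace KS

variable {G V P W : Type*} [Group G] [AddCommGroup V] [Module ℚ V]
  [DistribMulAction G V] [SMulCommClass G ℚ V] [Group P] [AddCommGroup W] [Module ℚ W]
  (M : KS G V P W)

/-- The central involution of `K`. -/
def z : G := M.ι M.zc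

/-- The axis attached to a short element of `P`. -/
def a (x : P) : V := M.u (M.lam x) + (2 : ℚ) • M.X x

/-- The set of the 196560 axes in the extraspecial group. -/
def S : Set V := M.a '' M.Sh

/-- The subspace `V_+` spanned by the axes in the extraspecial group. -/
def Vp : Submodule ℚ V := Submodule.span ℚ M.S

theorem zc_inv : (M.zc)⁻¹ = M.zc := inv_eq_of_mul_eq_one_left M.zc_mul

theorem zc_zc (x : P) : M.zc * (M.zc * x) = x := by
  rw [← mul_assoc, M.zc_mul, one_mul]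

theorem zc_conj (q x : P) : M.zc * q * x * (M.zc * q)⁻¹ = q * x * q⁻¹ := by
  have h : M.zc * q * x * (M.zc * q)⁻¹ = M.zc * (q * x * q⁻¹) * M.zc⁻¹ := by group
  rw [h, M.zc_comm, mul_inv_cancel_right]

theorem B_smul_smul (s : ℚ) (v w : V) : M.B (s • v) (s • w) = s * s * M.B v w := by
  rw [LinearMap.map_smul (M.B) s v, LinearMap.smul_apply, LinearMap.map_smul (M.B v) s w,
    smul_eq_mul, smul_eq_mul, mul_assoc]

theorem zc_ne' (x : P) : M.zc * x ≠ x := by
  intro h
  exact M.zc_ne (mul_eq_right.1 h)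

theorem B_XXz (x : P) (hx : x ∈ M.Sh) : M.B (M.X x) (M.X (M.zc * x)) = -1 := by
  rw [M.X_z x hx, map_neg, M.B_XX x hx]

theorem a_z (x : P) (hx : x ∈ M.Sh) : M.a (M.zc * x) = M.u (M.lam x) - (2 : ℚ) • M.X x := by
  rw [a, M.lam_z, M.X_z x hx, smul_neg, sub_eq_add_neg]

theorem a_add (x : P) (hx : x ∈ M.Sh) : M.a x + M.a (M.zc * x) = (2 : ℚ) • M.u (M.lam x) := by
  rw [a_z M x hx, a, two_smul ℚ (M.u (M.lam x))]
  abel

theorem a_sub (x : P) (hx : x ∈ M.Sh) : M.a x - M.a (M.zc * x) = (4 : ℚ) • M.X x := by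
  rw [a_z M x hx, a]
  have : (4 : ℚ) • M.X x = (2 : ℚ) • M.X x + (2 : ℚ) • M.X x := by
    rw [← add_smul]; norm_num
  rw [this]
  abel

theorem B_uX' (x : P) (hx : x ∈ M.Sh) (v : leechLattice) : M.B (M.X x) (M.u v) = 0 := by
  rw [M.B_comm, M.B_uX v x hx]

theorem B_aa (x y : P) (hx : x ∈ M.Sh) (hy : y ∈ M.Sh) :
    M.B (M.a x) (M.a y) = ((dot (M.lam x) (M.lam y) : ℤ) : ℚ) ^ 2 / 256
      + 4 * M.B (M.X x) (M.X y) := by
  simp only [a, map_add, map_smul, LinearMap.add_apply, LinearMap.smul_apply, smul_eq_mul,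
    M.B_uu, M.B_uX _ y hy, M.B_uX' x hx]
  ring

theorem dot_self (v : leechLattice) : dot v v = nrm v := (sqNorm_eq_dotInt _).symm

theorem B_a_self (x : P) (hx : x ∈ M.Sh) : M.B (M.a x) (M.a x) = 8 := by
  rw [M.B_aa x x hx hx, dot_self, M.lam_norm x hx, M.B_XX x hx]
  norm_num

theorem B_a_z (x : P) (hx : x ∈ M.Sh) : M.B (M.a x) (M.a (M.zc * x)) = 0 := by
  rw [M.B_aa x _ hx (M.Sh_z x hx), M.lam_z, dot_self, M.lam_norm x hx, M.B_XXz x hx]
  norm_num

theorem B_a_ne (x y : P) (hx : x ∈ M.Sh) (hy : y ∈ M.Sh) (h1 : y ≠ x) (h2 : y ≠ M.zc * x) :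
    M.B (M.a x) (M.a y) = ((dot (M.lam x) (M.lam y) : ℤ) : ℚ) ^ 2 / 256 := by
  rw [M.B_aa x y hx hy, M.B_XX' x hx y hy h1 h2]
  ring

theorem a_inj (x y : P) (hx : x ∈ M.Sh) (hy : y ∈ M.Sh) (h : M.a x = M.a y) : x = y := by
  have h1 : M.B (M.a x) (M.a y) = 8 := by rw [← h]; exact M.B_a_self x hx
  by_contra hne
  by_cases h2 : y = M.zc * x
  · rw [h2, M.B_a_z x hx] at h1
    norm_num at h1
  · rw [M.B_a_ne x y hx hy (fun h' => hne h'.symm) h2] at h1
    have h3 : M.B (M.a x - M.a y) (M.X x) = 0 := by rw [h, sub_self, map_zero]; rfl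
    simp only [a, map_add, map_sub, map_smul, LinearMap.add_apply, LinearMap.sub_apply,
      LinearMap.smul_apply, smul_eq_mul, M.B_uX _ x hx, M.B_XX x hx] at h3
    rw [M.B_comm (M.X y), M.B_XX' x hx y hy (fun h' => hne h'.symm) h2] at h3
    norm_num at h3

/-- Two elements of `G` agreeing on `u`, `X` and `Θ` are equal. -/
theorem ext_G (g h : G) (h1 : ∀ v, g • M.u v = h • M.u v)
    (h2 : ∀ x ∈ M.Sh, g • M.X x = h • M.X x)
    (h3 : ∀ f v, g • M.Θ f (rat v) = h • M.Θ f (rat v)) : g = h := by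
  have key : ∀ w : V, g • w = h • w := by
    intro w
    have hw : w ∈ Submodule.span ℚ
        (Set.range M.u ∪ M.X '' M.Sh ∪ {w | ∃ f v, w = M.Θ f (rat v)}) := by
      rw [M.span]; trivial
    induction hw using Submodule.span_induction with
    | mem x hx =>
      rcases hx with (⟨v, rfl⟩ | ⟨y, hy, rfl⟩) | ⟨f, v, rfl⟩
      · exact h1 v
      · exact h2 y hy
      · exact h3 f v
    | zero => rw [smul_zero, smul_zero]
    | add x y _ _ hx hy => rw [smul_add, smul_add, hx, hy]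
    | smul c x _ hx => rw [smul_comm, hx, smul_comm]
  have : h⁻¹ * g = 1 := M.faithful _ fun v => by rw [mul_smul, key, inv_smul_smul]
  exact (inv_mul_eq_one.1 this).symm

theorem z_u (v : leechLattice) : M.z • M.u v = M.u v := M.ι_u _ _

theorem z_X (x : P) (hx : x ∈ M.Sh) : M.z • M.X x = M.X x := by
  rw [z, M.ι_X _ x hx, M.zc_comm, mul_assoc, mul_inv_cancel, mul_one]

theorem z_Θ (f : W) (v : GolayPt → ℚ) : M.z • M.Θ f v = -M.Θ f v := by
  rw [z, M.ι_Θ, M.ρ_z, map_neg, LinearMap.neg_apply]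

theorem z_mul : M.z * M.z = 1 := by rw [z, ← map_mul, M.zc_mul, map_one]

/-- An element of `K` acting trivially on all `u v` lies in the extraspecial group. -/
theorem mem_ι_of_trivial (k : G) (hk : k ∈ M.K) (h : ∀ v, k • M.u v = M.u v) :
    ∃ q, k = M.ι q := by
  obtain ⟨A, α, T, hA⟩ := M.acts k hk
  -- `A = ±1`
  have hpm : ∀ v : leechLattice, A • v = v ∨ A • v = -v := by
    intro v
    have h1 : M.B (M.u v) (M.u (A • v)) = M.B (M.u v) (M.u v) := by
      rw [← hA.act_u, h]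
    rw [M.B_uu, M.B_uu] at h1
    have h2 : ((dot v (A • v) : ℤ) : ℚ) ^ 2 = ((dot v v : ℤ) : ℚ) ^ 2 := by linarith
    have h3 : (dot v (A • v)) ^ 2 = (dot v v) ^ 2 := by exact_mod_cast h2
    rcases sq_eq_sq_iff_eq_or_eq_neg.1 h3 with h4 | h4
    · left
      have h5 : nrm (A • v - v) = 0 := by
        show sqNorm _ = 0
        rw [AddSubgroup.coe_sub, sqNorm_sub, co0_sqNorm, dotInt_comm]
        have : dotInt (v : GolayPt → ℤ) ((A • v : leechLattice) : GolayPt → ℤ) = dot v v := h4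
        rw [this, dot_self]
        ring
      have h6 := sqNorm_eq_zero h5
      exact sub_eq_zero.1 (Subtype.ext h6)
    · right
      have h5 : nrm (A • v + v) = 0 := by
        show sqNorm _ = 0
        rw [AddSubgroup.coe_add, sqNorm_add, co0_sqNorm, dotInt_comm]
        have : dotInt (v : GolayPt → ℤ) ((A • v : leechLattice) : GolayPt → ℤ) = -dot v v := h4
        rw [this, dot_self]
        ring
      have h6 := sqNorm_eq_zero h5
      exact eq_neg_of_add_eq_zero_left (Subtype.ext h6)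
  -- `α` is inner
  have hα : ∀ p, α p = p ∨ α p = M.zc * p := by
    have hle : Subgroup.closure M.Sh ≤
        { carrier := {p | α p = p ∨ α p = M.zc * p}
          mul_mem' := by
            intro p q hp hq
            simp only [Set.mem_ofPred_eq, map_mul] at hp hq ⊢
            rcases hp with hp | hp <;> rcases hq with hq | hq <;> rw [hp, hq]
            · exact Or.inl rfl
            · right; rw [← mul_assoc, ← M.zc_comm, mul_assoc]
            · right; rw [mul_assoc]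
            · left
              rw [mul_assoc, ← mul_assoc p, ← M.zc_comm, mul_assoc, M.zc_zc]
          one_mem' := Or.inl (map_one _)
          inv_mem' := by
            intro p hp
            simp only [Set.mem_ofPred_eq, map_inv] at hp ⊢
            rcases hp with hp | hp <;> rw [hp]
            · exact Or.inl rfl
            · right; rw [mul_inv_rev, M.zc_inv, M.zc_comm] } := by
      rw [Subgroup.closure_le]
      intro x hx
      have h1 : M.lam (α x) = M.lam x ∨ M.lam (α x) = -M.lam x := by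
        rcases hA.act_lam x hx with h2 | h2 <;> rcases hpm (M.lam x) with h3 | h3 <;>
          rw [h2, h3]
        · exact Or.inl rfl
        · exact Or.inr rfl
        · exact Or.inr rfl
        · left; rw [neg_neg]
      exact M.lam_inj x hx (α x) (hA.act_sh x hx) h1
    intro p
    have hp : p ∈ Subgroup.closure M.Sh := by rw [M.gen]; trivial
    exact hle hp
  obtain ⟨q, hq⟩ := M.inner α hα
  -- `T = c ρ(q)`
  obtain ⟨c, hc⟩ := M.comm_scalar (M.ρ q⁻¹ * T) (by
    intro p f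
    show M.ρ q⁻¹ (T (M.ρ p f)) = M.ρ p (M.ρ q⁻¹ (T f))
    rw [hA.act_ρ, hq]
    have e1 : M.ρ q⁻¹ (M.ρ (q * p * q⁻¹) (T f)) = (M.ρ (q⁻¹ * (q * p * q⁻¹))) (T f) := by
      rw [map_mul M.ρ q⁻¹]; rfl
    have e2 : M.ρ p (M.ρ q⁻¹ (T f)) = (M.ρ (p * q⁻¹)) (T f) := by
      rw [map_mul M.ρ p]; rfl
    rw [e1, e2]
    congr 2
    group)
  have hT : ∀ f, T f = c • M.ρ q f := by
    intro f
    have h1 : M.ρ q (M.ρ q⁻¹ (T f)) = T f := by
      have : (M.ρ q * M.ρ q⁻¹) (T f) = T f := by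
        rw [← map_mul, mul_inv_cancel, map_one]; rfl
      exact this
    rw [← h1, ← map_smul]
    congr 1
    exact hc f
  -- uniform sign of `A`
  have hsgn : (∀ v : leechLattice, A • v = v) ∨ (∀ v : leechLattice, A • v = -v) := by
    by_contra hcon
    push Not at hcon
    obtain ⟨⟨v, hv⟩, ⟨w, hw⟩⟩ := hcon
    have hv' : A • v = -v := (hpm v).resolve_left hv
    have hw' : A • w = w := (hpm w).resolve_right hw
    rcases hpm (v + w) with h1 | h1
    · rw [co0_smul_add, hv', hw'] at h1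
      have h2 : -v = v := by
        have := add_right_cancel h1
        exact this
      exact hv (by rw [hv', h2])
    · rw [co0_smul_add, hv', hw', neg_add] at h1
      have h2 : w = -w := add_left_cancel h1
      exact hw (by rw [hw']; exact h2)
  -- the action on `Θ`
  have hΘ : ∃ s : ℚ, ∀ f v, k • M.Θ f (rat v) = s • (M.ι q • M.Θ f (rat v)) := by
    rcases hsgn with h1 | h1
    · refine ⟨c, fun f v => ?_⟩
      rw [hA.act_Θ, h1, hT, map_smul, LinearMap.smul_apply, M.ι_Θ]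
    · refine ⟨-c, fun f v => ?_⟩
      rw [hA.act_Θ, h1, hT, map_smul, LinearMap.smul_apply, M.ι_Θ, rat_neg, map_neg, neg_smul,
        smul_neg]
  obtain ⟨s, hs⟩ := hΘ
  have hs2 : s = 1 ∨ s = -1 := by
    obtain ⟨f, v, hfv⟩ := M.Θ_ne
    have h1 := M.B_inv k (M.Θ f (rat v)) (M.Θ f (rat v))
    rw [hs, M.B_smul_smul, M.B_inv] at h1
    have h2 := M.B_pos _ hfv
    have h3 : (s * s - 1) * M.B (M.Θ f (rat v)) (M.Θ f (rat v)) = 0 := by linarith
    have h4 : s * s - 1 = 0 := (mul_eq_zero.1 h3).resolve_right h2.ne'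
    have h5 : (s - 1) * (s + 1) = 0 := by linarith
    rcases mul_eq_zero.1 h5 with h6 | h6
    · left; linarith
    · right; linarith
  rcases hs2 with h1 | h1
  · refine ⟨q, M.ext_G _ _ (fun v => ?_) (fun x hx => ?_) fun f v => ?_⟩
    · rw [h, M.ι_u]
    · rw [hA.act_X x hx, hq, M.ι_X q x hx]
    · rw [hs, h1, one_smul]
  · refine ⟨M.zc * q, M.ext_G _ _ (fun v => ?_) (fun x hx => ?_) fun f v => ?_⟩
    · rw [h, M.ι_u]
    · rw [hA.act_X x hx, hq, M.ι_X _ x hx]
      rw [M.zc_conj]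
    · rw [hs, h1, map_mul, mul_smul]
      show _ = M.z • _
      rw [M.ι_Θ, M.z_Θ, neg_smul, one_smul]

theorem u_neg (v : leechLattice) : M.u (-v) = M.u v := by
  by_contra hne
  have h1 := M.B_pos (M.u (-v) - M.u v) (sub_ne_zero.2 hne)
  have h2 : dot (-v) (-v) = dot v v := by
    show dotInt _ _ = _
    rw [AddSubgroup.coe_neg, dotInt_neg_left, dotInt_neg_right, neg_neg]
  have h3 : dot (-v) v = -dot v v := by
    show dotInt _ _ = _
    rw [AddSubgroup.coe_neg, dotInt_neg_left]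
  have h4 : dot v (-v) = -dot v v := by
    show dotInt _ _ = _
    rw [AddSubgroup.coe_neg, dotInt_neg_right]
  rw [map_sub, map_sub, LinearMap.sub_apply, LinearMap.sub_apply, M.B_uu, M.B_uu, M.B_uu, M.B_uu,
    h2, h3, h4] at h1
  push_cast at h1
  linarith

theorem ι_injective (hc : ∀ p, (∀ q, p * q * p⁻¹ = q) → p = 1 ∨ p = M.zc) :
    Function.Injective M.ι := by
  rw [injective_iff_map_eq_one]
  intro p hp
  have h1 : ∀ q, p * q * p⁻¹ = q := by
    have hle : Subgroup.closure M.Sh ≤ Subgroup.centralizer {p} := by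
      rw [Subgroup.closure_le]
      intro x hx
      rw [SetLike.mem_coe, Subgroup.mem_centralizer_singleton_iff]
      rcases M.comm_or p x with h | h
      · exact (mul_inv_eq_iff_eq_mul.1 h).symm
      · exfalso
        have h2 := M.ι_X p x hx
        rw [h, hp, one_smul, M.X_z x hx] at h2
        have h3 := M.B_XX x hx
        have h4 : (2 : ℚ) • M.X x = 0 := by
          rw [two_smul]
          nth_rewrite 1 [h2]
          exact neg_add_cancel _
        have h5 : M.X x = 0 := (smul_eq_zero.1 h4).resolve_left two_ne_zero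
        rw [h5, map_zero] at h3
        norm_num at h3
    intro q
    have hq : q ∈ Subgroup.closure M.Sh := by rw [M.gen]; trivial
    have := Subgroup.mem_centralizer_singleton_iff.1 (hle hq)
    rw [mul_inv_eq_iff_eq_mul]
    exact this.symm
  rcases hc p h1 with h | h
  · exact h
  · exfalso
    obtain ⟨f, v, hfv⟩ := M.Θ_ne
    have h2 := M.z_Θ f (rat v)
    rw [z, ← h, hp, one_smul] at h2
    have h4 : (2 : ℚ) • M.Θ f (rat v) = 0 := by
      rw [two_smul]
      nth_rewrite 1 [h2]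
      exact neg_add_cancel _
    exact hfv ((smul_eq_zero.1 h4).resolve_left two_ne_zero)

/-- The compatible pairs `(k, A)`. -/
def pairs : Subgroup (M.K × Co0) where
  carrier := {kA | ∀ v, (kA.1 : G) • M.u v = M.u (kA.2 • v)}
  mul_mem' := by
    intro x y hx hy v
    show ((x.1 : G) * (y.1 : G)) • M.u v = M.u ((x.2 * y.2) • v)
    rw [mul_smul, mul_smul, hy v, hx]
  one_mem' := by
    intro v
    show (1 : G) • M.u v = M.u ((1 : Co0) • v)
    rw [one_smul, one_smul]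
  inv_mem' := by
    intro x hx v
    show (x.1 : G)⁻¹ • M.u v = M.u (x.2⁻¹ • v)
    rw [inv_smul_eq_iff, hx, smul_inv_smul]

theorem mem_pairs (x : M.K × Co0) :
    x ∈ M.pairs ↔ ∀ v, (x.1 : G) • M.u v = M.u (x.2 • v) := Iff.rfl

/-- The projection of the pairs to `K`. -/
def fstHom : M.pairs →* M.K := (MonoidHom.fst _ _).comp M.pairs.subtype

/-- The projection of the pairs to `Co0`. -/
def sndHom : M.pairs →* Co0 := (MonoidHom.snd _ _).comp M.pairs.subtype

theorem fst_surjective : Function.Surjective M.fstHom := by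
  intro k
  obtain ⟨A, α, T, hA⟩ := M.acts k k.2
  exact ⟨⟨(k, A), hA.act_u⟩, rfl⟩

theorem snd_surjective : Function.Surjective M.sndHom := by
  intro A
  obtain ⟨k, hk, h⟩ := M.onto A
  exact ⟨⟨(⟨k, hk⟩, A), h⟩, rfl⟩

/-- If `u (A v) = u v` for all `v` then `A = ±1`. -/
theorem pm_of_u (A : Co0) (h : ∀ v, M.u (A • v) = M.u v) :
    (∀ v : leechLattice, A • v = v) ∨ (∀ v : leechLattice, A • v = -v) := by
  have hpm : ∀ v : leechLattice, A • v = v ∨ A • v = -v := by
    intro v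
    have h1 : M.B (M.u v) (M.u (A • v)) = M.B (M.u v) (M.u v) := by
      rw [h]
    rw [M.B_uu, M.B_uu] at h1
    have h2 : ((dot v (A • v) : ℤ) : ℚ) ^ 2 = ((dot v v : ℤ) : ℚ) ^ 2 := by linarith
    have h3 : (dot v (A • v)) ^ 2 = (dot v v) ^ 2 := by exact_mod_cast h2
    rcases sq_eq_sq_iff_eq_or_eq_neg.1 h3 with h4 | h4
    · left
      have h5 : nrm (A • v - v) = 0 := by
        show sqNorm _ = 0
        rw [AddSubgroup.coe_sub, sqNorm_sub, co0_sqNorm, dotInt_comm]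
        have : dotInt (v : GolayPt → ℤ) ((A • v : leechLattice) : GolayPt → ℤ) = dot v v := h4
        rw [this, dot_self]
        ring
      have h6 := sqNorm_eq_zero h5
      exact sub_eq_zero.1 (Subtype.ext h6)
    · right
      have h5 : nrm (A • v + v) = 0 := by
        show sqNorm _ = 0
        rw [AddSubgroup.coe_add, sqNorm_add, co0_sqNorm, dotInt_comm]
        have : dotInt (v : GolayPt → ℤ) ((A • v : leechLattice) : GolayPt → ℤ) = -dot v v := h4
        rw [this, dot_self]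
        ring
      have h6 := sqNorm_eq_zero h5
      exact eq_neg_of_add_eq_zero_left (Subtype.ext h6)
  by_contra hcon
  push Not at hcon
  obtain ⟨⟨v, hv⟩, ⟨w, hw⟩⟩ := hcon
  have hv' : A • v = -v := (hpm v).resolve_left hv
  have hw' : A • w = w := (hpm w).resolve_right hw
  rcases hpm (v + w) with h1 | h1
  · rw [co0_smul_add, hv', hw'] at h1
    have h2 : -v = v := add_right_cancel h1
    exact hv (by rw [hv', h2])
  · rw [co0_smul_add, hv', hw', neg_add] at h1
    have h2 : w = -w := add_left_cancel h1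
    exact hw (by rw [hw']; exact h2)

theorem ker_snd_card [Finite G] (hι : Function.Injective M.ι) :
    Nat.card M.sndHom.ker = Nat.card P := by
  refine Nat.card_congr (Equiv.symm (Equiv.ofBijective
    (fun p : P => (⟨⟨(⟨M.ι p, M.ι_mem p⟩, 1), fun v => by
      show M.ι p • M.u v = M.u ((1 : Co0) • v)
      rw [M.ι_u, one_smul]⟩, rfl⟩ : M.sndHom.ker)) ⟨?_, ?_⟩))
  · intro p q h
    have h1 := congrArg (fun x : M.sndHom.ker => ((x : M.pairs) : M.K × Co0).1) h
    exact hι (congrArg Subtype.val h1)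
  · rintro ⟨⟨⟨⟨k, hk⟩, A⟩, h⟩, hA⟩
    have hA' : A = 1 := hA
    subst hA'
    obtain ⟨q, hq⟩ := M.mem_ι_of_trivial k hk (fun v => by
      have := h v
      rw [one_smul] at this
      exact this)
    subst hq
    exact ⟨q, rfl⟩

theorem ker_fst_card (hneg : ∃ A : Co0, ∀ v : leechLattice, A • v = -v)
    (hne : ∃ v : leechLattice, v ≠ -v) :
    Nat.card M.fstHom.ker = 2 := by
  obtain ⟨A₀, hA₀⟩ := hneg
  obtain ⟨v₀, hv₀⟩ := hne
  have hmem : ((1 : M.K), A₀) ∈ M.pairs := by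
    intro v
    show (1 : G) • M.u v = M.u (A₀ • v)
    rw [one_smul, hA₀, M.u_neg]
  have key : (Set.univ : Set M.fstHom.ker) = {1, ⟨⟨(1, A₀), hmem⟩, rfl⟩} := by
    ext x
    simp only [Set.mem_univ, Set.mem_insert_iff, Set.mem_singleton_iff, true_iff]
    obtain ⟨⟨⟨k, A⟩, h⟩, hk⟩ := x
    have hk' : k = 1 := hk
    subst hk'
    have hu : ∀ v, M.u (A • v) = M.u v := fun v => by
      have := h v
      rw [← this]
      exact one_smul _ _
    rcases M.pm_of_u A hu with h1 | h1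
    · left
      apply Subtype.ext
      apply Subtype.ext
      refine Prod.ext rfl ?_
      apply Subtype.ext
      apply Equiv.ext
      intro v
      exact h1 v
    · right
      apply Subtype.ext
      apply Subtype.ext
      refine Prod.ext rfl ?_
      apply Subtype.ext
      apply Equiv.ext
      intro v
      exact (h1 v).trans (hA₀ v).symm
  rw [← Nat.card_univ, key, Nat.card_coe_set_eq, Set.ncard_pair]
  intro h
  have h1 := congrArg (fun x : M.fstHom.ker => ((x : M.pairs) : M.K × Co0).2) h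
  have h2 : (1 : Co0) = A₀ := h1
  apply hv₀
  rw [← hA₀ v₀, ← h2, one_smul]

/-- `|K| = |P| |Co0| / 2`. -/
theorem card_K [Finite G] (hι : Function.Injective M.ι)
    (hneg : ∃ A : Co0, ∀ v : leechLattice, A • v = -v) (hne : ∃ v : leechLattice, v ≠ -v) :
    Nat.card M.K * 2 = Nat.card P * Nat.card Co0 := by
  have h1 : Nat.card M.pairs = Nat.card M.K * 2 := by
    rw [Subgroup.card_eq_card_quotient_mul_card_subgroup M.fstHom.ker,
      M.ker_fst_card hneg hne,
      Nat.card_congr (QuotientGroup.quotientKerEquivOfSurjective _ M.fst_surjective).toEquiv]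
  have h2 : Nat.card M.pairs = Nat.card Co0 * Nat.card P := by
    rw [Subgroup.card_eq_card_quotient_mul_card_subgroup M.sndHom.ker,
      M.ker_snd_card hι,
      Nat.card_congr (QuotientGroup.quotientKerEquivOfSurjective _ M.snd_surjective).toEquiv]
  rw [← h1, h2, mul_comm]

/-! ### The stabiliser of `S`: action on the lines -/

theorem K_smul_a (k : G) (hk : k ∈ M.K) (x : P) (hx : x ∈ M.Sh) :
    ∃ y ∈ M.Sh, k • M.a x = M.a y := by
  obtain ⟨A, α, T, hA⟩ := M.acts k hk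
  refine ⟨α x, hA.act_sh x hx, ?_⟩
  have hu : M.u (M.lam (α x)) = M.u (A • M.lam x) := by
    rcases hA.act_lam x hx with h | h
    · rw [h]
    · rw [h, M.u_neg]
  rw [a, a, smul_add, smul_comm, hA.act_u, hA.act_X x hx, hu]

theorem eq_or_of_dot (x y : P) (hx : x ∈ M.Sh) (hy : y ∈ M.Sh)
    (h : (dot (M.lam x) (M.lam y)) ^ 2 = 1024) : y = x ∨ y = M.zc * x := by
  apply M.lam_inj x hx y hy
  have hxx : dot (M.lam x) (M.lam x) = 32 := by rw [dot_self, M.lam_norm x hx]
  have hyy : dot (M.lam y) (M.lam y) = 32 := by rw [dot_self, M.lam_norm y hy]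
  have hyx : dot (M.lam y) (M.lam x) = dot (M.lam x) (M.lam y) := dotInt_comm _ _
  have h4 : (dot (M.lam x) (M.lam y)) ^ 2 = 32 ^ 2 := by rw [h]; norm_num
  rcases sq_eq_sq_iff_eq_or_eq_neg.1 h4 with h5 | h5
  · left
    have h6 : nrm (M.lam y - M.lam x) = 0 := by
      show sqNorm _ = 0
      rw [AddSubgroup.coe_sub, sqNorm_sub]
      have e1 : sqNorm ((M.lam y : leechLattice) : GolayPt → ℤ) = 32 := M.lam_norm y hy
      have e2 : sqNorm ((M.lam x : leechLattice) : GolayPt → ℤ) = 32 := M.lam_norm x hx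
      have e3 : dotInt ((M.lam y : leechLattice) : GolayPt → ℤ)
        ((M.lam x : leechLattice) : GolayPt → ℤ) = 32 := hyx.trans h5
      rw [e1, e2, e3]; norm_num
    exact sub_eq_zero.1 (Subtype.ext (sqNorm_eq_zero h6))
  · right
    have h6 : nrm (M.lam y + M.lam x) = 0 := by
      show sqNorm _ = 0
      rw [AddSubgroup.coe_add, sqNorm_add]
      have e1 : sqNorm ((M.lam y : leechLattice) : GolayPt → ℤ) = 32 := M.lam_norm y hy
      have e2 : sqNorm ((M.lam x : leechLattice) : GolayPt → ℤ) = 32 := M.lam_norm x hx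
      have e3 : dotInt ((M.lam y : leechLattice) : GolayPt → ℤ)
        ((M.lam x : leechLattice) : GolayPt → ℤ) = -32 := hyx.trans h5
      rw [e1, e2, e3]; norm_num
    exact eq_neg_of_add_eq_zero_left (Subtype.ext (sqNorm_eq_zero h6))

/-- Orthogonal minimal vectors are separated by a third one: the input for recognising the
partner `a (z x)` of `a x` by inner products. -/
def Separated : Prop :=
  ∀ v w : leechLattice, nrm v = 32 → nrm w = 32 → dot v w = 0 →
    ∃ t : leechLattice, nrm t = 32 ∧ (dot t v) ^ 2 ≠ (dot t w) ^ 2 ∧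
      (dot t v) ^ 2 ≠ 1024 ∧ (dot t w) ^ 2 ≠ 1024

theorem zx_ne (x : P) : M.zc * x ≠ x := M.zc_ne' x

/-- An element of `G` preserving `S` maps partners to partners. -/
theorem partner (hsep : Separated) (g : G) (hg : ∀ x ∈ M.Sh, ∃ y ∈ M.Sh, g • M.a x = M.a y)
    (hg' : ∀ y ∈ M.Sh, ∃ x ∈ M.Sh, g • M.a x = M.a y)
    (x y : P) (hx : x ∈ M.Sh) (hy : y ∈ M.Sh) (h : g • M.a x = M.a y) :
    g • M.a (M.zc * x) = M.a (M.zc * y) := by
  obtain ⟨y', hy', h'⟩ := hg (M.zc * x) (M.Sh_z x hx)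
  have h0 : M.B (M.a y) (M.a y') = 0 := by
    rw [← h, ← h', M.B_inv, M.B_a_z x hx]
  by_cases h1 : y' = M.zc * y
  · rw [h', h1]
  by_cases h2 : y' = y
  · rw [h2, M.B_a_self y hy] at h0
    norm_num at h0
  exfalso
  rw [M.B_a_ne y y' hy hy' h2 h1] at h0
  have h3 : dot (M.lam y) (M.lam y') = 0 := by
    have : ((dot (M.lam y) (M.lam y') : ℤ) : ℚ) ^ 2 = 0 := by linarith
    exact_mod_cast pow_eq_zero_iff (two_ne_zero) |>.1 this
  obtain ⟨t, ht, hne, hv, hw⟩ := hsep _ _ (M.lam_norm y hy) (M.lam_norm y' hy') h3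
  obtain ⟨w, hw', hwt⟩ := M.lam_surj t ht
  have hdot : ∀ v, (dot (M.lam w) v) ^ 2 = (dot t v) ^ 2 := by
    intro v
    rcases hwt with e | e
    · rw [e]
    · rw [e]
      show _ = (dotInt ((-M.lam w : leechLattice) : GolayPt → ℤ) _) ^ 2
      rw [AddSubgroup.coe_neg, dotInt_neg_left, neg_sq]
  obtain ⟨w₀, hw₀, hw₀'⟩ := hg' w hw'
  have key : ∀ (y₁ : P), y₁ ∈ M.Sh → (dot t (M.lam y₁)) ^ 2 ≠ 1024 →
      M.B (M.a w) (M.a y₁) = (((dot t (M.lam y₁)) ^ 2 : ℤ) : ℚ) / 256 := by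
    intro y₁ hy₁ hd
    have hn1 : y₁ ≠ w := by
      intro e
      apply hd
      rw [← hdot, e, dot_self, M.lam_norm w hw']; norm_num
    have hn2 : y₁ ≠ M.zc * w := by
      intro e
      apply hd
      rw [← hdot, e, M.lam_z, dot_self, M.lam_norm w hw']; norm_num
    rw [M.B_a_ne w y₁ hw' hy₁ hn1 hn2, ← hdot]
    push_cast
    ring
  have e1 := key y hy hv
  have e2 := key y' hy' hw
  rw [← hw₀', ← h, M.B_inv] at e1
  rw [← hw₀', ← h', M.B_inv] at e2
  have hn1 : x ≠ w₀ := by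
    intro e
    subst e
    apply hv
    have : M.a y = M.a w := h.symm.trans hw₀'
    have := M.a_inj y w hy hw' this
    rw [← hdot, this, dot_self, M.lam_norm w hw']; norm_num
  have hn2 : x ≠ M.zc * w₀ := by
    intro e
    apply hw
    have e3 : M.zc * x = w₀ := by rw [e, M.zc_zc]
    have : M.a y' = M.a w := by rw [← h', ← hw₀', e3]
    have := M.a_inj y' w hy' hw' this
    rw [← hdot, this, dot_self, M.lam_norm w hw']; norm_num
  have hn3 : M.zc * x ≠ w₀ := by
    intro e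
    apply hn2
    rw [← e, M.zc_zc]
  have hn4 : M.zc * x ≠ M.zc * w₀ := fun e => hn1 (mul_left_cancel e)
  rw [M.B_a_ne w₀ x hw₀ hx hn1 hn2] at e1
  rw [M.B_a_ne w₀ _ hw₀ (M.Sh_z x hx) hn3 hn4, M.lam_z] at e2
  apply hne
  have : (((dot t (M.lam y)) ^ 2 : ℤ) : ℚ) = (((dot t (M.lam y')) ^ 2 : ℤ) : ℚ) := by
    linarith
  exact_mod_cast this

/-- The statement of `lines_rigid` (a map of the minimal vectors preserving the absolute
values of the inner products is given by an element of `Co0` up to signs). -/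
def LinesRigid : Prop :=
  ∀ f : leechLattice → leechLattice, (∀ v, nrm v = 32 → nrm (f v) = 32) →
    (∀ v w, nrm v = 32 → nrm w = 32 → (dot (f v) (f w)) ^ 2 = (dot v w) ^ 2) →
    ∃ A : Co0, ∀ v, nrm v = 32 → f v = A • v ∨ f v = -(A • v)

/-- An element of `G` preserving `S` agrees with an element of `K` on the lines. -/
theorem exists_K_lines (hsep : Separated) (hrig : LinesRigid) (g : G)
    (hg : ∀ x ∈ M.Sh, ∃ y ∈ M.Sh, g • M.a x = M.a y)
    (hg' : ∀ y ∈ M.Sh, ∃ x ∈ M.Sh, g • M.a x = M.a y) :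
    ∃ k ∈ M.K, ∀ x ∈ M.Sh, (k⁻¹ * g) • M.a x = M.a x ∨ (k⁻¹ * g) • M.a x = M.a (M.zc * x) := by
  classical
  choose! φ hφ hφ' using hg
  choose! σ hσ hσ' using M.lam_surj
  set f : leechLattice → leechLattice := fun v => M.lam (φ (σ v)) with hf
  have hfn : ∀ v, nrm v = 32 → nrm (f v) = 32 := fun v hv => M.lam_norm _ (hφ _ (hσ v hv))
  have hsq : ∀ v, nrm v = 32 → ∀ t : leechLattice, (dot (M.lam (σ v)) t) ^ 2 = (dot v t) ^ 2 := by
    intro v hv t
    rcases hσ' v hv with e | e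
    · rw [← e]
    · nth_rewrite 2 [e]
      show _ = (dotInt ((-M.lam (σ v) : leechLattice) : GolayPt → ℤ) _) ^ 2
      rw [AddSubgroup.coe_neg, dotInt_neg_left, neg_sq]
  have hfd : ∀ v w, nrm v = 32 → nrm w = 32 → (dot (f v) (f w)) ^ 2 = (dot v w) ^ 2 := by
    intro v w hv hw
    have hdd : (dot v w) ^ 2 = (dot (M.lam (σ v)) (M.lam (σ w))) ^ 2 := by
      rw [hsq v hv, show dot v (M.lam (σ w)) = dot (M.lam (σ w)) v from dotInt_comm _ _,
        hsq w hw, show dot w v = dot v w from dotInt_comm _ _]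
    rw [hdd]
    have hB : M.B (M.a (φ (σ v))) (M.a (φ (σ w))) = M.B (M.a (σ v)) (M.a (σ w)) := by
      rw [← hφ' _ (hσ v hv), ← hφ' _ (hσ w hw), M.B_inv]
    by_cases h1 : σ w = σ v
    · rw [h1]
      simp only [hf, h1]
      rw [dot_self, dot_self, M.lam_norm _ (hφ _ (hσ v hv)), M.lam_norm _ (hσ v hv)]
    by_cases h2 : σ w = M.zc * σ v
    · have h3 := M.partner hsep g (fun x hx => ⟨φ x, hφ x hx, hφ' x hx⟩) hg' (σ v) (φ (σ v))
        (hσ v hv) (hφ _ (hσ v hv)) (hφ' _ (hσ v hv))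
      rw [← h2, hφ' _ (hσ w hw)] at h3
      have h4 := M.a_inj _ _ (hφ _ (hσ w hw)) (M.Sh_z _ (hφ _ (hσ v hv))) h3
      simp only [hf]
      rw [h4, h2, M.lam_z, M.lam_z, dot_self, dot_self, M.lam_norm _ (hφ _ (hσ v hv)),
        M.lam_norm _ (hσ v hv)]
    have h3 : φ (σ w) ≠ φ (σ v) := by
      intro e
      apply h1
      have : g • M.a (σ w) = g • M.a (σ v) := by
        rw [hφ' _ (hσ w hw), hφ' _ (hσ v hv), e]
      exact M.a_inj _ _ (hσ w hw) (hσ v hv) (smul_left_cancel g this)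
    have h4 : φ (σ w) ≠ M.zc * φ (σ v) := by
      intro e
      apply h2
      have h5 := M.partner hsep g (fun x hx => ⟨φ x, hφ x hx, hφ' x hx⟩) hg' (σ v) (φ (σ v))
        (hσ v hv) (hφ _ (hσ v hv)) (hφ' _ (hσ v hv))
      rw [← e, ← hφ' _ (hσ w hw)] at h5
      exact M.a_inj _ _ (hσ w hw) (M.Sh_z _ (hσ v hv)) (smul_left_cancel g h5).symm
    rw [M.B_a_ne _ _ (hφ _ (hσ v hv)) (hφ _ (hσ w hw)) h3 h4,
      M.B_a_ne _ _ (hσ v hv) (hσ w hw) h1 h2] at hB
    have : ((dot (M.lam (φ (σ v))) (M.lam (φ (σ w))) : ℤ) : ℚ) ^ 2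
        = ((dot (M.lam (σ v)) (M.lam (σ w)) : ℤ) : ℚ) ^ 2 := by linarith
    exact_mod_cast this
  obtain ⟨A, hA⟩ := hrig f hfn hfd
  obtain ⟨k, hk, hkA⟩ := M.onto A
  refine ⟨k, hk, fun x hx => ?_⟩
  -- `σ (lam x) ∈ {x, z x}`
  have hx1 : σ (M.lam x) = x ∨ σ (M.lam x) = M.zc * x := by
    apply M.lam_inj x hx _ (hσ _ (M.lam_norm x hx))
    rcases hσ' _ (M.lam_norm x hx) with e | e
    · exact Or.inl e.symm
    · right; rw [eq_comm, neg_eq_iff_eq_neg]; exact e
  have hx2 : M.u (M.lam (φ x)) = M.u (A • M.lam x) := by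
    have h1 : M.u (f (M.lam x)) = M.u (A • M.lam x) := by
      rcases hA _ (M.lam_norm x hx) with e | e
      · rw [e]
      · rw [e, M.u_neg]
    rw [← h1]
    simp only [hf]
    rcases hx1 with e | e
    · rw [e]
    · have h5 := M.partner hsep g (fun x hx => ⟨φ x, hφ x hx, hφ' x hx⟩) hg' x (φ x)
        hx (hφ _ hx) (hφ' _ hx)
      rw [hφ' _ (M.Sh_z x hx)] at h5
      have h6 := M.a_inj _ _ (hφ _ (M.Sh_z x hx)) (M.Sh_z _ (hφ _ hx)) h5
      rw [e, h6, M.lam_z]
  obtain ⟨y, hy, hy'⟩ := M.K_smul_a k⁻¹ (M.K.inv_mem hk) (φ x) (hφ x hx)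
  have h7 : (k⁻¹ * g) • M.a x = M.a y := by rw [mul_smul, hφ' x hx, hy']
  -- compare the `u`-parts
  have h8 : (dot (M.lam x) (M.lam y)) ^ 2 = 1024 := by
    have e1 : M.B (M.a x) (M.u (M.lam x)) = 4 := by
      rw [a, map_add, map_smul, LinearMap.add_apply, LinearMap.smul_apply, M.B_uu,
        M.B_uX' x hx, dot_self, M.lam_norm x hx]
      norm_num
    have e2 : M.B (M.a (φ x)) (M.u (M.lam (φ x))) = 4 := by
      rw [a, map_add, map_smul, LinearMap.add_apply, LinearMap.smul_apply, M.B_uu,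
        M.B_uX' _ (hφ x hx), dot_self, M.lam_norm _ (hφ x hx)]
      norm_num
    have e3 : M.B (M.a y) (M.u (M.lam x)) = 4 := by
      rw [← hy', ← M.B_inv k, smul_inv_smul, hkA, ← hx2, e2]
    rw [a, map_add, map_smul, LinearMap.add_apply, LinearMap.smul_apply, M.B_uu,
      M.B_uX' y hy] at e3
    have e4 : ((dot (M.lam y) (M.lam x) : ℤ) : ℚ) ^ 2 = 1024 := by
      have : ((dot (M.lam y) (M.lam x) : ℤ) : ℚ) ^ 2 / 256 = 4 := by
        rw [smul_zero, add_zero] at e3
        exact e3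
      linarith
    have e5 : (dot (M.lam y) (M.lam x)) ^ 2 = 1024 := by exact_mod_cast e4
    rw [← e5, show dot (M.lam x) (M.lam y) = dot (M.lam y) (M.lam x) from dotInt_comm _ _]
  rcases M.eq_or_of_dot x y hx hy h8 with e | e
  · left; rw [h7, e]
  · right; rw [h7, e]

/-! ### Elements fixing all lines: signs -/

/-- `g` fixes every line `{a x, a (z x)}`. -/
def FixLines (g : G) : Prop :=
  ∀ x ∈ M.Sh, g • M.a x = M.a x ∨ g • M.a x = M.a (M.zc * x)

theorem fixLines_z (g : G) (hg : M.FixLines g) (x : P) (hx : x ∈ M.Sh) :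
    (g • M.a x = M.a x ∧ g • M.a (M.zc * x) = M.a (M.zc * x)) ∨
    (g • M.a x = M.a (M.zc * x) ∧ g • M.a (M.zc * x) = M.a x) := by
  have hz := M.Sh_z x hx
  have hne : g • M.a x ≠ g • M.a (M.zc * x) := fun h =>
    M.zc_ne' x (M.a_inj _ _ hx hz (smul_left_cancel g h)).symm
  have h2 := hg _ hz
  rw [M.zc_zc] at h2
  rcases hg x hx with h1 | h1 <;> rcases h2 with h2 | h2
  · exact Or.inl ⟨h1, h2⟩
  · exact absurd (h1.trans h2.symm) hne
  · exact absurd (h1.trans h2.symm) hne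
  · exact Or.inr ⟨h1, h2⟩

theorem fixLines_u (g : G) (hg : M.FixLines g) (x : P) (hx : x ∈ M.Sh) :
    g • M.u (M.lam x) = M.u (M.lam x) := by
  have h1 := congrArg (fun v => g • v) (M.a_add x hx)
  simp only [smul_add, smul_comm g (2 : ℚ)] at h1
  have h2 : g • M.a x + g • M.a (M.zc * x) = (2 : ℚ) • M.u (M.lam x) := by
    rcases M.fixLines_z g hg x hx with ⟨e1, e2⟩ | ⟨e1, e2⟩
    · rw [e1, e2, M.a_add x hx]
    · rw [e1, e2, add_comm, M.a_add x hx]
  rw [h2] at h1
  exact (smul_right_injective V (two_ne_zero : (2 : ℚ) ≠ 0) h1).symm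

/-- The sign by which an element fixing all lines acts on `X x`. -/
noncomputable def eps (g : G) (x : P) : ℚ := by
  classical exact if g • M.a x = M.a x then 1 else -1

theorem eps_cases (g : G) (x : P) : M.eps g x = 1 ∨ M.eps g x = -1 := by
  unfold eps
  split_ifs
  · exact Or.inl rfl
  · exact Or.inr rfl

theorem smul_X (g : G) (hg : M.FixLines g) (x : P) (hx : x ∈ M.Sh) :
    g • M.X x = M.eps g x • M.X x := by
  have h1 := congrArg (fun v => g • v) (M.a_sub x hx)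
  simp only [smul_sub, smul_comm g (4 : ℚ)] at h1
  have h2 : g • M.a x - g • M.a (M.zc * x) = (4 : ℚ) • (M.eps g x • M.X x) := by
    rcases M.fixLines_z g hg x hx with ⟨e1, e2⟩ | ⟨e1, e2⟩
    · rw [e1, e2, M.a_sub x hx]
      unfold eps
      rw [if_pos e1, one_smul]
    · rw [e1, e2, ← neg_sub, M.a_sub x hx]
      have hne : ¬ g • M.a x = M.a x := by
        rw [e1]
        intro h
        exact M.zc_ne' x (M.a_inj _ _ (M.Sh_z x hx) hx h)
      unfold eps
      rw [if_neg hne, neg_smul, one_smul, smul_neg]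
  rw [h2] at h1
  exact (smul_right_injective V (four_ne_zero : (4 : ℚ) ≠ 0) h1).symm

theorem eps_z (g : G) (hg : M.FixLines g) (x : P) (hx : x ∈ M.Sh) :
    M.eps g (M.zc * x) = M.eps g x := by
  have hne : M.a (M.zc * x) ≠ M.a x := fun h =>
    M.zc_ne' x (M.a_inj _ _ (M.Sh_z x hx) hx h)
  unfold eps
  rcases M.fixLines_z g hg x hx with ⟨e1, e2⟩ | ⟨e1, e2⟩
  · rw [if_pos e1, if_pos e2]
  · rw [if_neg, if_neg]
    · rw [e1]; exact hne
    · rw [e2]; exact hne.symm

theorem smul_a_eps (g : G) (x : P) (h : M.eps g x = 1) :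
    g • M.a x = M.a x := by
  unfold eps at h
  by_contra hne
  rw [if_neg hne] at h
  norm_num at h

/-- The input for the sign part: a set `O` of vectors (the axes of type `2B` in `V_+`). -/
structure TriData (O : Set V) : Prop where
  stable : ∀ g : G, M.FixLines g → ∀ b ∈ O, g • b ∈ O
  prod : ∃ c₀ : ℚ, c₀ ≠ 0 ∧ ∀ b ∈ O, ∀ x ∈ M.Sh, ∀ y ∈ M.Sh, x * y ∈ M.Sh →
    M.B b (M.X x) * M.B b (M.X y) * M.B b (M.X (x * y)) = 0 ∨
    M.B b (M.X x) * M.B b (M.X y) * M.B b (M.X (x * y)) = c₀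
  cover : ∀ x ∈ M.Sh, ∀ y ∈ M.Sh, x * y ∈ M.Sh → ∃ b ∈ O,
    M.B b (M.X x) * M.B b (M.X y) * M.B b (M.X (x * y)) ≠ 0

/-- Functions multiplicative on the triangles are given by the commutator with an element. -/
def Chars : Prop :=
  ∀ ε : P → ℚ, (∀ x ∈ M.Sh, ε x = 1 ∨ ε x = -1) → (∀ x ∈ M.Sh, ε (M.zc * x) = ε x) →
    (∀ x ∈ M.Sh, ∀ y ∈ M.Sh, x * y ∈ M.Sh → ε x * ε y * ε (x * y) = 1) →
    ∃ q : P, ∀ x ∈ M.Sh, (q * x * q⁻¹ = x ↔ ε x = 1)

theorem eps_tri {O : Set V} (hO : M.TriData O) (g : G) (hg : M.FixLines g) (x y : P)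
    (hx : x ∈ M.Sh) (hy : y ∈ M.Sh) (hxy : x * y ∈ M.Sh) :
    M.eps g x * M.eps g y * M.eps g (x * y) = 1 := by
  obtain ⟨c₀, hc₀, hprod⟩ := hO.prod
  obtain ⟨b, hb, hne⟩ := hO.cover x hx y hy hxy
  have h1 := (hprod b hb x hx y hy hxy).resolve_left hne
  have key : ∀ t ∈ M.Sh, M.B (g • b) (M.X t) = M.eps g t * M.B b (M.X t) := by
    intro t ht
    have e1 : M.X t = M.eps g t • (g • M.X t) := by
      rw [M.smul_X g hg t ht, smul_smul]
      rcases M.eps_cases g t with e | e <;> rw [e] <;> norm_num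
    nth_rewrite 1 [e1]
    rw [map_smul, M.B_inv, smul_eq_mul]
  have h2 := hprod _ (hO.stable g hg b hb) x hx y hy hxy
  rw [key x hx, key y hy, key _ hxy] at h2
  have h3 : M.eps g x * M.B b (M.X x) * (M.eps g y * M.B b (M.X y)) *
      (M.eps g (x * y) * M.B b (M.X (x * y))) =
      (M.eps g x * M.eps g y * M.eps g (x * y)) * c₀ := by
    rw [← h1]; ring
  rw [h3] at h2
  have h4 : M.eps g x * M.eps g y * M.eps g (x * y) ≠ 0 := by
    rcases M.eps_cases g x with e1 | e1 <;> rcases M.eps_cases g y with e2 | e2 <;>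
      rcases M.eps_cases g (x * y) with e3 | e3 <;> rw [e1, e2, e3] <;> norm_num
  rcases h2 with h2 | h2
  · exact absurd h2 (mul_ne_zero h4 hc₀)
  · exact mul_right_cancel₀ hc₀ (by rw [h2, one_mul])

theorem ι_smul_a (q x : P) (hx : x ∈ M.Sh) :
    M.ι q • M.a x = M.a (q * x * q⁻¹) := by
  have h : M.lam (q * x * q⁻¹) = M.lam x := by
    rcases M.comm_or q x with e | e <;> rw [e]
    rw [M.lam_z]
  rw [a, a, smul_add, smul_comm, M.ι_u, M.ι_X q x hx, h]

/-- An element fixing all lines agrees on the axes `a x` with an element of the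
extraspecial group. -/
theorem exists_q {O : Set V} (hO : M.TriData O) (hch : M.Chars) (g : G) (hg : M.FixLines g) :
    ∃ q : P, ∀ x ∈ M.Sh, ((M.ι q)⁻¹ * g) • M.a x = M.a x := by
  obtain ⟨q, hq⟩ := hch (M.eps g) (fun x _ => M.eps_cases g x) (fun x hx => M.eps_z g hg x hx)
    (fun x hx y hy hxy => M.eps_tri hO g hg x y hx hy hxy)
  refine ⟨q, fun x hx => ?_⟩
  rw [mul_smul, inv_smul_eq_iff, M.ι_smul_a q x hx]
  rcases M.comm_or q x with e | e
  · rw [e]
    exact M.smul_a_eps g x ((hq x hx).1 e)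
  · rw [e]
    rcases hg x hx with h | h
    · exfalso
      have h1 : M.eps g x = 1 := by unfold eps; rw [if_pos h]
      have h2 := (hq x hx).2 h1
      rw [e] at h2
      exact M.zc_ne' x h2
    · exact h

/-! ### Elements acting trivially on `V_+` -/

/-- `V_300` is spanned by the `u` of minimal vectors. -/
def USpan : Prop := ∀ v, M.u v ∈ Submodule.span ℚ {w | ∃ x ∈ M.Sh, w = M.u (M.lam x)}

/-- `g` fixes every axis `a x`. -/
def FixS (g : G) : Prop := ∀ x ∈ M.Sh, g • M.a x = M.a x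

/-- Linear maps given by group elements. -/
theorem fix_span (g : G) {s : Set V} (h : ∀ w ∈ s, g • w = w) (w : V)
    (hw : w ∈ Submodule.span ℚ s) : g • w = w := by
  induction hw using Submodule.span_induction with
  | mem x hx => exact h x hx
  | zero => exact smul_zero _
  | add x y _ _ hx hy => rw [smul_add, hx, hy]
  | smul c x _ hx => rw [smul_comm, hx]

theorem fixS_fixLines (g : G) (hg : M.FixS g) : M.FixLines g := fun x hx => Or.inl (hg x hx)

theorem fixS_X (g : G) (hg : M.FixS g) (x : P) (hx : x ∈ M.Sh) : g • M.X x = M.X x := by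
  rw [M.smul_X g (M.fixS_fixLines g hg) x hx]
  unfold eps
  rw [if_pos (hg x hx), one_smul]

theorem fixS_u (hU : M.USpan) (g : G) (hg : M.FixS g) (v : leechLattice) :
    g • M.u v = M.u v := by
  refine fix_span g ?_ _ (hU v)
  rintro w ⟨x, hx, rfl⟩
  exact M.fixLines_u g (M.fixS_fixLines g hg) x hx

/-- `V_+` is the fixed space of `z`. -/
theorem fixS_of_z (hU : M.USpan) (g : G) (hg : M.FixS g) (w : V) (hw : M.z • w = w) :
    g • w = w := by
  have key : ∀ w : V, g • (w + M.z • w) = w + M.z • w := by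
    intro w
    have hw : w ∈ Submodule.span ℚ
        (Set.range M.u ∪ M.X '' M.Sh ∪ {w | ∃ f v, w = M.Θ f (rat v)}) := by
      rw [M.span]; trivial
    induction hw using Submodule.span_induction with
    | mem x hx =>
      rcases hx with (⟨v, rfl⟩ | ⟨y, hy, rfl⟩) | ⟨f, v, rfl⟩
      · rw [M.z_u, smul_add, M.fixS_u hU g hg]
      · rw [M.z_X y hy, smul_add, M.fixS_X g hg y hy]
      · rw [M.z_Θ, add_neg_cancel, smul_zero]
    | zero => rw [smul_zero, add_zero, smul_zero]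
    | add x y _ _ hx hy =>
      have : x + y + M.z • (x + y) = (x + M.z • x) + (y + M.z • y) := by
        rw [smul_add]; abel
      rw [this, smul_add, hx, hy]
    | smul c x _ hx =>
      have : c • x + M.z • (c • x) = c • (x + M.z • x) := by
        rw [smul_comm M.z c, smul_add]
      rw [this, smul_comm, hx]
  have h1 := key w
  rw [hw, ← two_smul ℚ w, smul_comm] at h1
  exact smul_right_injective V (two_ne_zero : (2 : ℚ) ≠ 0) h1

theorem z_comm_K (k : G) (hk : k ∈ M.K) : k * M.z = M.z * k := by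
  obtain ⟨A, α, T, hA⟩ := M.acts k hk
  refine M.ext_G _ _ (fun v => ?_) (fun x hx => ?_) fun f v => ?_
  · rw [mul_smul, mul_smul, M.z_u, hA.act_u, M.z_u]
  · rw [mul_smul, mul_smul, M.z_X x hx, hA.act_X x hx, M.z_X _ (hA.act_sh x hx)]
  · rw [mul_smul, mul_smul, M.z_Θ, smul_neg, hA.act_Θ, M.z_Θ]

/-- Data on `τ` used to classify the elements acting trivially on `V_+`. -/
structure TauData (τ : G) (x₁ : P) : Prop where
  mem : x₁ ∈ M.Sh
  cube : τ * τ * τ = 1
  zτu : ∀ v, M.z • τ • M.u v = τ • M.u v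
  zτu' : ∀ v, M.z • τ⁻¹ • M.u v = τ⁻¹ • M.u v
  zτX : M.z • τ • M.X x₁ = -(τ • M.X x₁)
  small : ∀ v, nrm v = 32 → M.B (M.a x₁) (τ • M.u v) < 4
  conj : ∀ k ∈ M.K, (∀ v, M.B (k • τ • M.a x₁) (M.u v) = M.B (τ • M.a x₁) (M.u v)) →
    τ⁻¹ * k * τ ∈ M.K ∨ τ * k * τ ∈ M.K
  orbit : ∀ g : G, M.FixS g → ∃ k ∈ M.K, g • τ • M.a x₁ = k • τ • M.a x₁

theorem eq_or_of_u (x y : P) (hx : x ∈ M.Sh) (hy : y ∈ M.Sh)
    (h : M.B (M.a y) (M.u (M.lam x)) = 4) : y = x ∨ y = M.zc * x := by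
  apply M.eq_or_of_dot x y hx hy
  rw [a, map_add, map_smul, LinearMap.add_apply, LinearMap.smul_apply, M.B_uu,
    M.B_uX' y hy, smul_zero, add_zero] at h
  have e4 : ((dot (M.lam y) (M.lam x) : ℤ) : ℚ) ^ 2 = 1024 := by linarith
  have e5 : (dot (M.lam y) (M.lam x)) ^ 2 = 1024 := by exact_mod_cast e4
  rw [← e5, show dot (M.lam x) (M.lam y) = dot (M.lam y) (M.lam x) from dotInt_comm _ _]

theorem B_a_u (x : P) (hx : x ∈ M.Sh) (v : leechLattice) :
    M.B (M.a x) (M.u v) = ((dot (M.lam x) v : ℤ) : ℚ) ^ 2 / 256 := by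
  rw [a, map_add, map_smul, LinearMap.add_apply, LinearMap.smul_apply, M.B_uu,
    M.B_uX' x hx, smul_zero, add_zero]

theorem B_a_u_self (x : P) (hx : x ∈ M.Sh) : M.B (M.a x) (M.u (M.lam x)) = 4 := by
  rw [M.B_a_u x hx, dot_self, M.lam_norm x hx]; norm_num

theorem B_smul_left (g : G) (v w : V) : M.B (g • v) w = M.B v (g⁻¹ • w) := by
  rw [← M.B_inv g v, smul_inv_smul]

/-- The fibre lemma: an element trivial on `V_+` maps `τ a(x₁)` to itself or its `z`-image. -/
theorem fibre {τ : G} {x₁ : P} (hτ : M.TauData τ x₁) (hU : M.USpan) (g : G) (hg : M.FixS g) :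
    g • τ • M.a x₁ = τ • M.a x₁ ∨ g • τ • M.a x₁ = M.z • τ • M.a x₁ := by
  obtain ⟨k, hk, hgk⟩ := hτ.orbit g hg
  have hfix : ∀ w, M.z • w = w → M.B (g • τ • M.a x₁) w = M.B (τ • M.a x₁) w := by
    intro w hw
    have h1 : g • w = w := M.fixS_of_z hU g hg w hw
    rw [M.B_smul_left]
    congr 1
    rw [inv_smul_eq_iff, h1]
  have hku : ∀ v, M.B (k • τ • M.a x₁) (M.u v) = M.B (τ • M.a x₁) (M.u v) := by
    intro v
    rw [← hgk]
    exact hfix _ (M.z_u v)
  rcases hτ.conj k hk hku with h | h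
  · -- `g b = τ a(x₂)`
    obtain ⟨x₂, hx₂, he⟩ := M.K_smul_a _ h x₁ hτ.mem
    have h1 : k • τ • M.a x₁ = τ • M.a x₂ := by
      rw [← he, ← mul_smul, ← mul_smul]
      congr 1
      group
    have h2 := hfix _ (hτ.zτu (M.lam x₂))
    rw [hgk, h1, M.B_inv, M.B_inv, M.B_a_u_self x₂ hx₂] at h2
    rcases M.eq_or_of_u x₂ x₁ hx₂ hτ.mem h2.symm with e | e
    · left; rw [hgk, h1, e]
    · right
      have e' : x₂ = M.zc * x₁ := by rw [e, M.zc_zc]
      have ha : M.a x₁ = M.u (M.lam x₁) + (2 : ℚ) • M.X x₁ := rfl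
      rw [hgk, h1, e', M.a_z x₁ hτ.mem, ha, smul_sub, smul_add, smul_add, hτ.zτu,
        smul_comm τ (2 : ℚ), smul_comm M.z (2 : ℚ), hτ.zτX, smul_neg, sub_eq_add_neg]
  · exfalso
    obtain ⟨x₂, hx₂, he⟩ := M.K_smul_a _ h x₁ hτ.mem
    have h1 : k • τ • M.a x₁ = τ⁻¹ • M.a x₂ := by
      rw [← he, ← mul_smul, ← mul_smul]
      congr 1
      group
    have h2 := hfix _ (hτ.zτu' (M.lam x₂))
    rw [hgk, h1, M.B_inv, M.B_a_u_self x₂ hx₂] at h2
    rw [M.B_smul_left, ← mul_smul] at h2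
    have h3 : τ⁻¹ * τ⁻¹ = τ := by
      have := hτ.cube
      rw [← mul_inv_rev, inv_eq_iff_mul_eq_one]
      exact this
    rw [h3] at h2
    have h4 := hτ.small (M.lam x₂) (M.lam_norm x₂ hx₂)
    rw [← h2] at h4
    exact lt_irrefl _ h4

/-- The connectivity input for `V_-`, where `w = b - z b`, `b = τ a(x₁)`. -/
structure ConnData (w : V) : Prop where
  ne : w ≠ 0
  conn : ∀ ε : G → ℚ, (∀ k ∈ M.K, ∀ k' ∈ M.K, M.B (k • w) (k' • w) ≠ 0 → ε k = ε k') →
    ∀ k ∈ M.K, ε k = ε 1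
  span : ∀ f v, M.Θ f (rat v) ∈ Submodule.span ℚ {t | ∃ k ∈ M.K, t = k • w}

theorem K_FixS (g : G) (hg : M.FixS g) (k : G) (hk : k ∈ M.K) : M.FixS (k⁻¹ * g * k) := by
  intro x hx
  obtain ⟨y, hy, h⟩ := M.K_smul_a k hk x hx
  rw [mul_smul, mul_smul, h, hg y hy, ← h, inv_smul_smul]

/-- An element of `G` fixing all axes `a x` is `1` or `z`. -/
theorem eq_one_or_z {τ : G} {x₁ : P} (hτ : M.TauData τ x₁) (hU : M.USpan)
    (hc : M.ConnData (τ • M.a x₁ - M.z • τ • M.a x₁)) (g : G) (hg : M.FixS g) :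
    g = 1 ∨ g = M.z := by
  classical
  have hfib : ∀ g : G, M.FixS g → g • τ • M.a x₁ = τ • M.a x₁ ∨
      g • τ • M.a x₁ = M.z • τ • M.a x₁ := fun g hg => M.fibre hτ hU g hg
  obtain ⟨b, hb⟩ : ∃ b, b = τ • M.a x₁ := ⟨_, rfl⟩
  rw [← hb] at hc hfib
  obtain ⟨w, hw⟩ : ∃ w, w = b - M.z • b := ⟨_, rfl⟩
  rw [← hw] at hc
  have hzz : ∀ v : V, M.z • M.z • v = v := by
    intro v
    rw [← mul_smul, M.z_mul, one_smul]
  -- sign on `k w`
  have hsign : ∀ k ∈ M.K, ∀ g : G, M.FixS g →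
      g • k • w = k • w ∨ g • k • w = -(k • w) := by
    intro k hk g hg
    have h1 := hfib (k⁻¹ * g * k) (M.K_FixS g hg k hk)
    have h3 : ∀ g' : G, M.FixS g' → g' • (b + M.z • b) = b + M.z • b := by
      intro g' hg'
      refine M.fixS_of_z hU g' hg' _ ?_
      rw [smul_add, hzz, add_comm]
    have h4 := h3 _ (M.K_FixS g hg k hk)
    obtain ⟨g', hg'⟩ : ∃ g', g' = k⁻¹ * g * k := ⟨_, rfl⟩
    rw [← hg'] at h1 h4
    have h5 : w = (2 : ℚ) • b - (b + M.z • b) := by
      rw [two_smul, hw]; abel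
    have h6 : g' • w = w ∨ g' • w = -w := by
      rcases h1 with e | e
      · left
        rw [h5, smul_sub, smul_comm, h4, e]
      · right
        rw [h5, smul_sub, smul_comm, h4, e, two_smul, two_smul]
        abel
    have h7 : g • k • w = k • g' • w := by
      rw [hg', ← mul_smul, ← mul_smul]
      congr 1
      group
    rcases h6 with e | e
    · left; rw [h7, e]
    · right; rw [h7, e, smul_neg]
  set ε : G → ℚ := fun k => if g • k • w = k • w then 1 else -1 with hε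
  have hεw : ∀ k ∈ M.K, g • k • w = ε k • (k • w) := by
    intro k hk
    simp only [hε]
    split_ifs with h
    · rw [one_smul]; exact h
    · rw [neg_smul, one_smul]
      exact (hsign k hk g hg).resolve_left h
  have hεc : ∀ k, ε k = 1 ∨ ε k = -1 := by
    intro k
    simp only [hε]
    split_ifs
    · exact Or.inl rfl
    · exact Or.inr rfl
  have hconst := hc.conn ε (by
    intro k hk k' hk' hne
    have h1 := M.B_inv g (k • w) (k' • w)
    rw [hεw k hk, hεw k' hk', LinearMap.map_smul M.B, LinearMap.smul_apply,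
      LinearMap.map_smul (M.B _), smul_eq_mul, smul_eq_mul] at h1
    have h2 : (ε k * ε k' - 1) * M.B (k • w) (k' • w) = 0 := by linarith
    have h3 : ε k * ε k' - 1 = 0 := (mul_eq_zero.1 h2).resolve_right hne
    rcases hεc k with e | e <;> rcases hεc k' with e' | e' <;> rw [e, e'] at h3 ⊢ <;>
      norm_num at h3)
  have hspan' : ∀ t ∈ Submodule.span ℚ {t | ∃ k ∈ M.K, t = k • w}, g • t = ε 1 • t := by
    intro t h
    induction h using Submodule.span_induction with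
    | mem t ht =>
      obtain ⟨k, hk, rfl⟩ := ht
      rw [hεw k hk, hconst k hk]
    | zero => rw [smul_zero, smul_zero]
    | add x y _ _ hx hy => rw [smul_add, hx, hy, smul_add]
    | smul c x _ hx => rw [smul_comm, hx, smul_comm]
  have hspan : ∀ f v, g • M.Θ f (rat v) = ε 1 • M.Θ f (rat v) :=
    fun f v => hspan' _ (hc.span f v)
  rcases hεc 1 with e | e
  · left
    refine M.ext_G _ _ (fun v => ?_) (fun x hx => ?_) fun f v => ?_
    · rw [M.fixS_u hU g hg, one_smul]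
    · rw [M.fixS_X g hg x hx, one_smul]
    · rw [hspan, e, one_smul, one_smul]
  · right
    refine M.ext_G _ _ (fun v => ?_) (fun x hx => ?_) fun f v => ?_
    · rw [M.fixS_u hU g hg, M.z_u]
    · rw [M.fixS_X g hg x hx, M.z_X x hx]
    · rw [hspan, e, M.z_Θ, neg_smul, one_smul]

/-- Rigidity: the stabiliser of `S` in `G` is `K`. -/
theorem mem_K_of_stab {O : Set V} (hO : M.TriData O) (hch : M.Chars) {τ : G} {x₁ : P}
    (hτ : M.TauData τ x₁) (hU : M.USpan)
    (hc : M.ConnData (τ • M.a x₁ - M.z • τ • M.a x₁))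
    (hsep : Separated) (hrig : LinesRigid) (g : G)
    (hg : ∀ x ∈ M.Sh, ∃ y ∈ M.Sh, g • M.a x = M.a y)
    (hg' : ∀ y ∈ M.Sh, ∃ x ∈ M.Sh, g • M.a x = M.a y) : g ∈ M.K := by
  obtain ⟨k, hk, h1⟩ := M.exists_K_lines hsep hrig g hg hg'
  obtain ⟨q, hq⟩ := M.exists_q hO hch (k⁻¹ * g) h1
  have hz : M.z ∈ M.K := M.ι_mem _
  have h2 : (M.ι q)⁻¹ * (k⁻¹ * g) ∈ M.K := by
    rcases M.eq_one_or_z hτ hU hc _ hq with e | e <;> rw [e]
    · exact M.K.one_mem
    · exact hz
  have h3 : g = k * (M.ι q * ((M.ι q)⁻¹ * (k⁻¹ * g))) := by group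
  rw [h3]
  exact M.K.mul_mem hk (M.K.mul_mem (M.ι_mem q) h2)

end KS

end Cfsg.Agent.MonsterX.KSide
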