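import Cfsg.Agent.MonsterX.FrameStab
import Cfsg.Agent.MonsterX.KSide

/-!
# The stabiliser of the standard frame in `K`

`M : KS G V P W` (the abstract `K`-side).  `D ≤ K` contains the extraspecial group `ι P` and elements inducing on
the vectors `u v` the sign changes at a basis of the code and the three standard coordinate permutations.  Then
`k ∈ K` lies in `D` as soon as the element of `Co0` induced by `k` fixes the class of `8 e_∞` modulo `2 Λ`
(`mem_of_fixes`), and conversely the elements of `D` have this property when `D` is generated by such elements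
(`fixes_of_mem`).
-/

set_option autoImplicit false

namespace Cfsg.Agent.MonsterX.FrameKS

open Cfsg Cfsg.Agent.MonsterX.FrameStab Cfsg.Agent.MonsterX.KSide
open Cfsg.Agent.SporadicStructure.StdCross Cfsg.Agent.SporadicStructure.Co0Base
open Cfsg.Agent.SporadicA.Co0Card

variable {G V P W : Type*} [Group G] [AddCommGroup V] [Module ℚ V]
  [DistribMulAction G V] [SMulCommClass G ℚ V] [Group P] [AddCommGroup W] [Module ℚ W]
  (M : KS G V P W)

/-- `k` acts on the vectors `u v` through `A`. -/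
def Ind (k : G) (A : Co0) : Prop := ∀ v, k • M.u v = M.u (A • v)

theorem Ind.one : Ind M 1 1 := fun v => by rw [one_smul, one_smul]

variable {M}

theorem Ind.mul {k l : G} {A B : Co0} (hk : Ind M k A) (hl : Ind M l B) : Ind M (k * l) (A * B) :=
  fun v => by rw [mul_smul, mul_smul, hl, hk]

theorem Ind.inv {k : G} {A : Co0} (hk : Ind M k A) : Ind M k⁻¹ A⁻¹ := fun v => by
  rw [inv_smul_eq_iff, hk, smul_inv_smul]

variable (M)

/-- The elements of `Co0` induced by elements of `D`. -/
def indSub (D : Subgroup G) : Subgroup Co0 where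
  carrier := {A | ∃ d ∈ D, Ind M d A}
  one_mem' := ⟨1, D.one_mem, Ind.one M⟩
  mul_mem' := by
    rintro A B ⟨d, hd, hA⟩ ⟨e, he, hB⟩
    exact ⟨d * e, D.mul_mem hd he, hA.mul hB⟩
  inv_mem' := by
    rintro A ⟨d, hd, hA⟩
    exact ⟨d⁻¹, D.inv_mem hd, hA.inv⟩

/-- Generators of the stabiliser of the frame inside `D`. -/
structure Gens (D : Subgroup G) : Prop where
  sign : ∀ i < 12, ∃ d ∈ D, ∃ A, Ind M d A ∧ IsSign A (cb.getD i 0)
  shift : ∃ d ∈ D, ∃ A, Ind M d A ∧ IsPerm A (Equiv.optionCongr (Equiv.addRight (1 : ZMod 23)))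
  inv : ∃ d ∈ D, ∃ A, Ind M d A ∧ IsPerm A projInv
  cube : ∃ d ∈ D, ∃ A, Ind M d A ∧ IsPerm A cubeTwist

theorem Gens.exists_of_fixes {D : Subgroup G} (h : Gens M D) (A : Co0) (hA : FixesFrame A) :
    ∃ d ∈ D, Ind M d A := by
  have key : A ∈ indSub M D := by
    refine mem_of_congr _ ?_ ?_ ?_ ?_ A hA
    · intro i hi
      obtain ⟨d, hd, B, hB, hB'⟩ := h.sign i hi
      exact ⟨B, ⟨d, hd, hB⟩, hB'⟩
    · obtain ⟨d, hd, B, hB, hB'⟩ := h.shift
      exact ⟨B, ⟨d, hd, hB⟩, hB'⟩
    · obtain ⟨d, hd, B, hB, hB'⟩ := h.inv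
      exact ⟨B, ⟨d, hd, hB⟩, hB'⟩
    · obtain ⟨d, hd, B, hB, hB'⟩ := h.cube
      exact ⟨B, ⟨d, hd, hB⟩, hB'⟩
  exact key

/-- An element of `K` inducing an element of `Co0` which fixes the class of the frame lies in `D`. -/
theorem Gens.mem_of_fixes {D : Subgroup G} (h : Gens M D) (hι : ∀ p, M.ι p ∈ D) (hDK : D ≤ M.K)
    (k : G) (hk : k ∈ M.K) (A : Co0) (hkA : Ind M k A) (hA : FixesFrame A) : k ∈ D := by
  obtain ⟨d, hd, hdA⟩ := h.exists_of_fixes M A hA
  obtain ⟨q, hq⟩ := M.mem_ι_of_trivial (d⁻¹ * k) (M.K.mul_mem (M.K.inv_mem (hDK hd)) hk) (by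
    intro v
    rw [mul_smul, hkA, ← hdA v, inv_smul_smul])
  have : k = d * M.ι q := by rw [← hq]; group
  rw [this]
  exact D.mul_mem hd (hι q)

/-- Two elements of `Co0` induced by the same element fix the frame both or not at all. -/
theorem fixes_iff_of_ind {k : G} {A B : Co0} (hA : Ind M k A) (hB : Ind M k B) :
    FixesFrame A ↔ FixesFrame B := by
  have key : ∀ {A B : Co0}, Ind M k A → Ind M k B → FixesFrame A → FixesFrame B := by
    intro A B hA hB hF
    have h1 : ∀ v, M.u ((A⁻¹ * B) • v) = M.u v := by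
      intro v
      have h2 := (hA.inv.mul hB) v
      rw [inv_mul_cancel, one_smul] at h2
      exact h2.symm
    have h3 : FixesFrame (A⁻¹ * B) := by
      rcases M.pm_of_u _ h1 with h4 | h4
      · exact ⟨0, by rw [h4, sub_self, smul_zero]⟩
      · refine ⟨v0, ?_⟩
        rw [h4, sub_neg_eq_add, two_nsmul]
    have h4 := fixesFrame_mul hF h3
    rwa [mul_inv_cancel_left] at h4
  exact ⟨key hA hB, key hB hA⟩

end Cfsg.Agent.MonsterX.FrameKS
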