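import Cfsg.Agent.MonsterX.KSide
import Cfsg.Agent.Leech.TransPair

/-!
Facts about the minimal vectors of the Leech lattice needed for the inner products of the `196560`
axes: the graph "inner product `±16`" is connected, and two nonadjacent neighbours of a minimal
vector are separated by a common neighbour of the vector and of the first one.
-/

set_option autoImplicit false

namespace Cfsg.Agent.MonsterX.Lat

open Cfsg Cfsg.Agent.MonsterX.KSide Cfsg.Agent.Leech.Min Cfsg.Agent.Leech.Trans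

/-- Minimal vectors with inner product `±16`. -/
def Adj (v w : leechLattice) : Prop := nrm w = 32 ∧ (dot v w = 16 ∨ dot v w = -16)

theorem dot_comm (v w : leechLattice) : dot v w = dot w v :=
  Cfsg.Agent.LeechMat.Core.dotInt_comm _ _

theorem dot_neg_right (v w : leechLattice) : dot v (-w) = -dot v w := by
  show dotInt _ _ = _
  rw [AddSubgroup.coe_neg, Cfsg.Agent.LeechMat.Core.dotInt_neg_right]

theorem dot_neg_left (v w : leechLattice) : dot (-v) w = -dot v w := by
  rw [dot_comm, dot_neg_right, dot_comm]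

theorem nrm_neg (v : leechLattice) : nrm (-v) = nrm v := by
  rw [← KS.dot_self, ← KS.dot_self, dot_neg_right, dot_neg_left, neg_neg]

theorem dot_smul (g : Co0) (v w : leechLattice) : dot (g • v) (g • w) = dot v w :=
  Cfsg.Agent.Leech.Co0Elts.dotInt_smul g v w

theorem nrm_smul (g : Co0) (v : leechLattice) : nrm (g • v) = nrm v :=
  Cfsg.Agent.Leech.Co0Elts.sqNorm_smul g v

theorem dot_lv {p q : GolayPt} (h : p ≠ q) {a b : ℤ} (ha : a = 4 ∨ a = -4) (hb : b = 4 ∨ b = -4)
    (x : leechLattice) :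
    dot (lv p q a b h ha hb) x = a * (x : GolayPt → ℤ) p + b * (x : GolayPt → ℤ) q :=
  dotInt_two h a b _

theorem dot_lv' {p q : GolayPt} (h : p ≠ q) {a b : ℤ} (ha : a = 4 ∨ a = -4) (hb : b = 4 ∨ b = -4)
    (x : leechLattice) :
    dot x (lv p q a b h ha hb) = a * (x : GolayPt → ℤ) p + b * (x : GolayPt → ℤ) q := by
  rw [dot_comm, dot_lv]

theorem nrm_lv (p q : GolayPt) (a b : ℤ) (h : p ≠ q) (ha : a = 4 ∨ a = -4)
    (hb : b = 4 ∨ b = -4) : nrm (lv p q a b h ha hb) = 32 := sqNorm_lv p q a b h ha hb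

/-! ### Connectivity -/

theorem adj_lv {p q r : GolayPt} (hpq : p ≠ q) (hpr : p ≠ r) (hqr : q ≠ r) {a b c d : ℤ}
    (ha : a = 4 ∨ a = -4) (hb : b = 4 ∨ b = -4) (hc : c = 4 ∨ c = -4) (hd : d = 4 ∨ d = -4) :
    Adj (lv p q a b hpq ha hb) (lv p r c d hpr hc hd) := by
  refine ⟨nrm_lv _ _ _ _ _ _ _, ?_⟩
  rw [dot_lv, lv_coe, two_left, two_other hpq.symm hqr]
  rcases ha with rfl | rfl <;> rcases hc with rfl | rfl <;> simp

theorem conn_same {p q r : GolayPt} (hpq : p ≠ q) (hpr : p ≠ r) {a b c d : ℤ}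
    (ha : a = 4 ∨ a = -4) (hb : b = 4 ∨ b = -4) (hc : c = 4 ∨ c = -4) (hd : d = 4 ∨ d = -4) :
    Relation.ReflTransGen Adj (lv p q a b hpq ha hb) (lv p r c d hpr hc hd) := by
  by_cases hqr : q = r
  · subst hqr
    obtain ⟨m, hm⟩ := exists_notMem {p, q} (lt_of_le_of_lt Finset.card_le_two (by decide))
    simp only [Finset.mem_insert, Finset.mem_singleton, not_or] at hm
    exact (Relation.ReflTransGen.single
      (adj_lv hpq (Ne.symm hm.1) (Ne.symm hm.2) ha hb four_or four_or)).tail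
      (adj_lv (Ne.symm hm.1) hpq hm.2 four_or four_or hc hd)
  · exact Relation.ReflTransGen.single (adj_lv hpq hpr hqr ha hb hc hd)

theorem lv_swap {p q : GolayPt} (h : p ≠ q) {a b : ℤ} (ha : a = 4 ∨ a = -4) (hb : b = 4 ∨ b = -4) :
    lv p q a b h ha hb = lv q p b a h.symm hb ha := Subtype.ext (two_swap h a b)

theorem conn_lv {p q k l : GolayPt} (hpq : p ≠ q) (hkl : k ≠ l) {a b c d : ℤ}
    (ha : a = 4 ∨ a = -4) (hb : b = 4 ∨ b = -4) (hc : c = 4 ∨ c = -4) (hd : d = 4 ∨ d = -4) :
    Relation.ReflTransGen Adj (lv p q a b hpq ha hb) (lv k l c d hkl hc hd) := by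
  by_cases hpk : p = k
  · subst hpk
    exact conn_same _ _ _ _ _ _
  · refine (conn_same hpq hpk ha hb four_or four_or).trans ?_
    rw [lv_swap hpk]
    exact conn_same _ _ _ _ _ _

/-- Every minimal vector is of type 4 or adjacent to a vector of type 4. -/
theorem exists_adj_lv (v : leechLattice) (hv : nrm v = 32) :
    (∃ p q a b, ∃ (h : p ≠ q) (ha : a = 4 ∨ a = -4) (hb : b = 4 ∨ b = -4),
      v = lv p q a b h ha hb) ∨
    ∃ p q a b, ∃ (h : p ≠ q) (ha : a = 4 ∨ a = -4) (hb : b = 4 ∨ b = -4),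
      dot v (lv p q a b h ha hb) = 16 := by
  rcases (min_iff _).1 ⟨v.2, hv⟩ with h | h | h
  · left
    obtain ⟨p, q, hpq, a, b, ha, hb, e⟩ := eq_two_of_type4 h
    exact ⟨p, q, a, b, hpq, ha, hb, Subtype.ext e⟩
  · right
    obtain ⟨A, hA, h2, h0, -⟩ := h
    have hc : A.card = 8 := Cfsg.Agent.Leech.Code.steiner.1 A hA
    obtain ⟨p, hp⟩ : A.Nonempty := by rw [← Finset.card_pos]; omega
    obtain ⟨q, hq⟩ : (A.erase p).Nonempty := by
      rw [← Finset.card_pos, Finset.card_erase_of_mem hp]; omega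
    rw [Finset.mem_erase] at hq
    have hp2 := h2 p hp
    have hq2 := h2 q hq.2
    refine ⟨p, q, 2 * (v : GolayPt → ℤ) p, 2 * (v : GolayPt → ℤ) q, hq.1.symm, by omega, by omega,
      ?_⟩
    rw [dot_lv']
    rcases hp2 with e | e <;> rcases hq2 with e' | e' <;> rw [e, e'] <;> norm_num
  · right
    obtain ⟨p, hp, h1, -⟩ := h
    obtain ⟨q, hq⟩ := exists_notMem {p} (by simp)
    rw [Finset.mem_singleton] at hq
    have hq1 := h1 q hq
    have : ∃ a : ℤ, (a = 4 ∨ a = -4) ∧ a * (v : GolayPt → ℤ) p = 12 := by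
      rcases hp with e | e
      · exact ⟨4, Or.inl rfl, by rw [e]; rfl⟩
      · exact ⟨-4, Or.inr rfl, by rw [e]; rfl⟩
    obtain ⟨a, ha, hap⟩ := this
    have : ∃ b : ℤ, (b = 4 ∨ b = -4) ∧ b * (v : GolayPt → ℤ) q = 4 := by
      rcases hq1 with e | e
      · exact ⟨4, Or.inl rfl, by rw [e]; rfl⟩
      · exact ⟨-4, Or.inr rfl, by rw [e]; rfl⟩
    obtain ⟨b, hb, hbq⟩ := this
    refine ⟨p, q, a, b, Ne.symm hq, ha, hb, ?_⟩
    rw [dot_lv', hap, hbq]; rfl

/-- The graph on the minimal vectors, adjacency = inner product `±16`, is connected. -/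
theorem conn (v w : leechLattice) (hv : nrm v = 32) (hw : nrm w = 32) :
    Relation.ReflTransGen Adj v w := by
  have h1 : ∃ p q a b, ∃ (h : p ≠ q) (ha : a = 4 ∨ a = -4) (hb : b = 4 ∨ b = -4),
      Relation.ReflTransGen Adj v (lv p q a b h ha hb) := by
    rcases exists_adj_lv v hv with ⟨p, q, a, b, h, ha, hb, e⟩ | ⟨p, q, a, b, h, ha, hb, e⟩
    · exact ⟨p, q, a, b, h, ha, hb, by rw [e]⟩
    · exact ⟨p, q, a, b, h, ha, hb, Relation.ReflTransGen.single ⟨nrm_lv _ _ _ _ _ _ _, Or.inl e⟩⟩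
  have h2 : ∃ p q a b, ∃ (h : p ≠ q) (ha : a = 4 ∨ a = -4) (hb : b = 4 ∨ b = -4),
      Relation.ReflTransGen Adj (lv p q a b h ha hb) w := by
    rcases exists_adj_lv w hw with ⟨p, q, a, b, h, ha, hb, e⟩ | ⟨p, q, a, b, h, ha, hb, e⟩
    · exact ⟨p, q, a, b, h, ha, hb, by rw [e]⟩
    · exact ⟨p, q, a, b, h, ha, hb, Relation.ReflTransGen.single
        ⟨hw, Or.inl (by rw [dot_comm]; exact e)⟩⟩
  obtain ⟨p, q, a, b, h, ha, hb, h1⟩ := h1
  obtain ⟨p', q', a', b', h', ha', hb', h2⟩ := h2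
  exact (h1.trans (conn_lv h h' ha hb ha' hb')).trans h2

theorem ne_neg (v : leechLattice) (hv : nrm v = 32) : v ≠ -v := by
  intro h
  have h1 : dot v (-v) = 32 := by rw [← h, KS.dot_self, hv]
  rw [dot_neg_right, KS.dot_self, hv] at h1
  norm_num at h1

/-- Every minimal vector has a neighbour. -/
theorem exists_adj (v : leechLattice) (hv : nrm v = 32) : ∃ w, Adj v w := by
  rcases (conn v (-v) hv (by rw [nrm_neg, hv])).cases_head with h | ⟨w, h, -⟩
  · exact absurd h (ne_neg v hv)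
  · exact ⟨w, h⟩

/-! ### Separation -/

/-- An octad through three points. -/
theorem exists_octad (p q r : GolayPt) : ∃ O ∈ octads, p ∈ O ∧ q ∈ O ∧ r ∈ O := by
  have h3 : ({p, q, r} : Finset GolayPt).card ≤ 5 := Finset.card_le_three.trans (by norm_num)
  obtain ⟨t, ht, htc⟩ := Finset.exists_superset_card_eq (s := ({p, q, r} : Finset GolayPt)) h3
    (by decide)
  obtain ⟨O, ⟨hO, htO⟩, -⟩ := Cfsg.Agent.Leech.Code.steiner.2 t htc
  exact ⟨O, hO, htO (ht (by simp)), htO (ht (by simp)), htO (ht (by simp))⟩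

/-- twice the characteristic function of an octad -/
theorem exists_octad_vec {O : Finset GolayPt} (hO : O ∈ octads) :
    ∃ e : leechLattice, nrm e = 32 ∧ (∀ i ∈ O, (e : GolayPt → ℤ) i = 2) ∧
      ∀ i, i ∉ O → (e : GolayPt → ℤ) i = 0 := by
  have h : Type2 (fun i => if i ∈ O then (2 : ℤ) else 0) := by
    refine ⟨O, hO, fun i hi => Or.inl (if_pos hi), fun i hi => if_neg hi, ?_⟩
    have : (O.filter fun i => (if i ∈ O then (2 : ℤ) else 0) = -2) = ∅ := by
      rw [Finset.filter_eq_empty_iff]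
      intro i hi
      rw [if_pos hi]
      norm_num
    rw [this]
    exact ⟨0, rfl⟩
  obtain ⟨h1, h2⟩ := (min_iff _).2 (Or.inr (Or.inl h))
  exact ⟨⟨_, h1⟩, h2, fun i hi => if_pos hi, fun i hi => if_neg hi⟩

theorem sep_base {p q r : GolayPt} (hpq : p ≠ q) (hpr : p ≠ r) (d : leechLattice)
    (hd : nrm d = 32) (hs : (d : GolayPt → ℤ) p + (d : GolayPt → ℤ) q = 4)
    (h1 : (d : GolayPt → ℤ) p + (d : GolayPt → ℤ) r ≠ 4)
    (hne : d ≠ lv p r 4 4 hpr four_or four_or) :
    ∃ e : leechLattice, nrm e = 32 ∧ (e : GolayPt → ℤ) p + (e : GolayPt → ℤ) q = 4 ∧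
      (e : GolayPt → ℤ) p + (e : GolayPt → ℤ) r = 4 ∧ dot e d ≠ 16 ∧ dot e d ≠ -16 := by
  -- the vectors `4 e_p ± 4 e_m`
  have key : ∀ m, m ≠ p → m ≠ q → m ≠ r → ∀ s : ℤ, (s = 4 ∨ s = -4) →
      4 * (d : GolayPt → ℤ) p + s * (d : GolayPt → ℤ) m ≠ 16 →
      4 * (d : GolayPt → ℤ) p + s * (d : GolayPt → ℤ) m ≠ -16 →
      ∃ e : leechLattice, nrm e = 32 ∧ (e : GolayPt → ℤ) p + (e : GolayPt → ℤ) q = 4 ∧
        (e : GolayPt → ℤ) p + (e : GolayPt → ℤ) r = 4 ∧ dot e d ≠ 16 ∧ dot e d ≠ -16 := by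
    intro m hmp hmq hmr s hs' h3 h4
    refine ⟨lv p m 4 s (Ne.symm hmp) four_or hs', nrm_lv _ _ _ _ _ _ _, ?_, ?_, ?_, ?_⟩
    · rw [lv_coe, two_left, two_other hpq.symm (Ne.symm hmq)]; rfl
    · rw [lv_coe, two_left, two_other hpr.symm (Ne.symm hmr)]; rfl
    · rwa [dot_lv]
    · rwa [dot_lv]
  rcases (min_iff _).1 ⟨d.2, hd⟩ with h | h | h
  · obtain ⟨k, l, hkl, a, b, ha, hb, e⟩ := eq_two_of_type4 h
    by_cases hp4 : (d : GolayPt → ℤ) p = 4
    · -- `d = 4 e_p ± 4 e_j`
      have hdr : (d : GolayPt → ℤ) r = -4 ∧ ∀ i, i ≠ p → i ≠ r → (d : GolayPt → ℤ) i = 0 := by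
        have hd0 : (d : GolayPt → ℤ) r ≠ 0 := by omega
        have hrk : r = k ∨ r = l := by
          by_contra hcon
          push Not at hcon
          exact hd0 (by rw [e, two_other hcon.1 hcon.2])
        have hpk : p = k ∨ p = l := by
          by_contra hcon
          push Not at hcon
          rw [e, two_other hcon.1 hcon.2] at hp4
          norm_num at hp4
        have hval : (d : GolayPt → ℤ) r = 4 ∨ (d : GolayPt → ℤ) r = -4 := by
          rcases hrk with rfl | rfl
          · rw [e, two_left]; exact ha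
          · rw [e, two_right hkl]; exact hb
        have hz : ∀ i, i ≠ p → i ≠ r → (d : GolayPt → ℤ) i = 0 := by
          intro i hi1 hi2
          rw [e]
          rcases hrk with rfl | rfl <;> rcases hpk with rfl | rfl
          · exact absurd rfl hpr
          · exact two_other hi2 hi1 _ _
          · exact two_other hi1 hi2 _ _
          · exact absurd rfl hpr
        refine ⟨hval.resolve_left fun h4 => hne ?_, hz⟩
        apply Subtype.ext
        funext i
        rw [lv_coe]
        by_cases hip : i = p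
        · subst hip; rw [hp4, two_left]
        · by_cases hir : i = r
          · subst hir; rw [h4, two_right hpr]
          · rw [hz i hip hir, two_other hip hir]
      obtain ⟨O, hO, hpO, hqO, hrO⟩ := exists_octad p q r
      obtain ⟨f, hf, hf2, -⟩ := exists_octad_vec hO
      have hdf : dot f d = 0 := by
        have hdeq : d = lv p r 4 (-4) hpr four_or neg_four_or := by
          apply Subtype.ext
          funext i
          rw [lv_coe]
          by_cases hip : i = p
          · subst hip; rw [hp4, two_left]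
          · by_cases hir : i = r
            · subst hir; rw [hdr.1, two_right hpr]
            · rw [hdr.2 i hip hir, two_other hip hir]
        rw [hdeq, dot_lv', hf2 p hpO, hf2 r hrO]
        norm_num
      refine ⟨f, hf, ?_, ?_, ?_, ?_⟩
      · rw [hf2 p hpO, hf2 q hqO]; rfl
      · rw [hf2 p hpO, hf2 r hrO]; rfl
      · rw [hdf]; norm_num
      · rw [hdf]; norm_num
    · have hp0 : (d : GolayPt → ℤ) p = 0 := by
        have hval : ∀ i, (d : GolayPt → ℤ) i = 0 ∨ (d : GolayPt → ℤ) i = 4 ∨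
            (d : GolayPt → ℤ) i = -4 := by
          intro i
          by_cases hik : i = k
          · subst hik; rw [e, two_left]; exact Or.inr ha
          · by_cases hil : i = l
            · subst hil; rw [e, two_right hkl]; exact Or.inr hb
            · left; rw [e, two_other hik hil]
        have h3 := hval p
        have h4 := hval q
        omega
      obtain ⟨m, hm⟩ := exists_notMem {p, q, r, k, l}
        (lt_of_le_of_lt Finset.card_le_five (by decide))
      simp only [Finset.mem_insert, Finset.mem_singleton, not_or] at hm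
      have hm0 : (d : GolayPt → ℤ) m = 0 := by rw [e, two_other hm.2.2.2.1 hm.2.2.2.2]
      apply key m hm.1 hm.2.1 hm.2.2.1 4 four_or <;> rw [hp0, hm0] <;> norm_num
  · obtain ⟨A, hA, h2, h0, -⟩ := h
    have hc : A.card = 8 := Cfsg.Agent.Leech.Code.steiner.1 A hA
    have hval : ∀ i, (d : GolayPt → ℤ) i = 0 ∨ (d : GolayPt → ℤ) i = 2 ∨
        (d : GolayPt → ℤ) i = -2 := by
      intro i
      by_cases hi : i ∈ A
      · exact Or.inr (h2 i hi)
      · exact Or.inl (h0 i hi)
    have h3 := hval p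
    have h4 := hval q
    have hp2 : (d : GolayPt → ℤ) p = 2 := by omega
    obtain ⟨m, hm⟩ := exists_notMem (A ∪ {p, q, r}) (by
      refine lt_of_le_of_lt (Finset.card_union_le _ _) ?_
      have : ({p, q, r} : Finset GolayPt).card ≤ 3 := Finset.card_le_three
      omega)
    simp only [Finset.mem_union, Finset.mem_insert, Finset.mem_singleton, not_or] at hm
    have hm0 := h0 m hm.1
    apply key m hm.2.1 hm.2.2.1 hm.2.2.2 4 four_or <;> rw [hp2, hm0] <;> norm_num
  · obtain ⟨k, hk, hk1, -⟩ := h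
    have hval : ∀ i, i ≠ k → (d : GolayPt → ℤ) i = 1 ∨ (d : GolayPt → ℤ) i = -1 := hk1
    have hkpq : k = p ∨ k = q := by
      by_contra hcon
      push Not at hcon
      have h3 := hval p (Ne.symm hcon.1)
      have h4 := hval q (Ne.symm hcon.2)
      omega
    obtain ⟨m, hm⟩ := exists_notMem {p, q, r} (lt_of_le_of_lt Finset.card_le_three (by decide))
    simp only [Finset.mem_insert, Finset.mem_singleton, not_or] at hm
    have hmk : m ≠ k := by rcases hkpq with rfl | rfl; exacts [hm.1, hm.2.1]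
    have hpv : (d : GolayPt → ℤ) p = 3 ∨ (d : GolayPt → ℤ) p = 1 := by
      rcases hkpq with rfl | rfl
      · have h4 := hval q (Ne.symm hpq)
        omega
      · have h4 := hval p hpq
        omega
    rcases hval m hmk with hm1 | hm1
    · apply key m hm.1 hm.2.1 hm.2.2 (-4) neg_four_or <;> rw [hm1] <;> omega
    · apply key m hm.1 hm.2.1 hm.2.2 4 four_or <;> rw [hm1] <;> omega

/-- Let `c, d` be neighbours of `x`, `d ≠ ±c`, `(c, d) ≠ ±16`.  Then there is a common neighbour of
`x` and `c` which is not a neighbour of `d`. -/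
theorem exists_sep (x c d : leechLattice) (hx : nrm x = 32) (hc : nrm c = 32) (hd : nrm d = 32)
    (hxc : dot x c = 16 ∨ dot x c = -16) (hxd : dot x d = 16 ∨ dot x d = -16)
    (hcd : dot c d ≠ 16) (hcd' : dot c d ≠ -16) (hne : d ≠ c) (hne' : d ≠ -c) :
    ∃ e, nrm e = 32 ∧ (dot x e = 16 ∨ dot x e = -16) ∧ (dot c e = 16 ∨ dot c e = -16) ∧
      dot e d ≠ 16 ∧ dot e d ≠ -16 := by
  -- reduction to `(x, c) = 16`
  wlog hxc1 : dot x c = 16 with H
  · obtain ⟨e, he, h1, h2, h3, h4⟩ := H x (-c) d hx (by rw [nrm_neg, hc]) hd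
      (by rw [dot_neg_right]; omega) hxd (by rw [dot_neg_left]; omega)
      (by rw [dot_neg_left]; omega) hne' (by rwa [neg_neg]) (by rw [dot_neg_right]; omega)
    refine ⟨e, he, h1, ?_, h3, h4⟩
    rw [dot_neg_left] at h2
    omega
  wlog hxd1 : dot x d = 16 with H
  · obtain ⟨e, he, h1, h2, h3, h4⟩ := H x c (-d) hx hc (by rw [nrm_neg, hd]) hxc
      (by rw [dot_neg_right]; omega) (by rw [dot_neg_right]; omega)
      (by rw [dot_neg_right]; omega) (fun h => hne' (by rw [← h, neg_neg]))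
      (fun h => hne (neg_injective h)) hxc1 (by rw [dot_neg_right]; omega)
    rw [dot_neg_right] at h3 h4
    exact ⟨e, he, h1, h2, by omega, by omega⟩
  obtain ⟨p, hp⟩ := exists_notMem ∅ (by simp)
  obtain ⟨q, hq⟩ := exists_notMem {p} (by simp)
  obtain ⟨r, hr⟩ := exists_notMem {p, q} (lt_of_le_of_lt Finset.card_le_two (by decide))
  simp only [Finset.mem_insert, Finset.mem_singleton, not_or] at hq hr
  have hpq : p ≠ q := Ne.symm hq
  have hpr : p ≠ r := Ne.symm hr.1
  -- transport to the standard pair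
  obtain ⟨g, hg⟩ := co0_transitive_min x (lv p q 4 4 hpq four_or four_or) hx
    (sqNorm_lv _ _ _ _ _ _ _)
  have hpair : dot (g • x) (g • (-c)) = -16 := by rw [dot_smul, dot_neg_right, hxc1]
  rw [hg] at hpair
  have hstd : dot (lv p q 4 4 hpq four_or four_or) (lv p r (-4) (-4) hpr neg_four_or neg_four_or)
      = -16 := by
    rw [dot_lv, lv_coe, two_left, two_other hpq.symm (Ne.symm hr.2)]; norm_num
  obtain ⟨h, hh1, hh2⟩ := Cfsg.Agent.Leech.TransPair.co0_transitive_pairs
    (lv p q 4 4 hpq four_or four_or) (g • (-c)) (lv p r (-4) (-4) hpr neg_four_or neg_four_or)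
    (sqNorm_lv _ _ _ _ _ _ _) (by
      have := nrm_smul g (-c)
      rw [nrm_neg, hc] at this
      exact this) (sqNorm_lv _ _ _ _ _ _ _) hpair hstd
  have hhx : (h * g) • x = lv p q 4 4 hpq four_or four_or := by rw [mul_smul, hg, hh1]
  have hhc' : (h * g) • (-c) = lv p r (-4) (-4) hpr neg_four_or neg_four_or := by
    rw [mul_smul, hh2]
  have hneg : lv p r (-4) (-4) hpr neg_four_or neg_four_or = -lv p r 4 4 hpr four_or four_or := by
    apply Subtype.ext
    funext i
    rw [AddSubgroup.coe_neg, Pi.neg_apply, lv_coe, lv_coe]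
    unfold two
    split_ifs <;> simp
  have hsn : ∀ (g : Co0) (v : leechLattice), g • (-v) = -(g • v) := fun g v => by
    have h1 := Cfsg.Agent.LeechMat.Core.co0_smul_add g (-v) v
    rw [neg_add_cancel] at h1
    have h2 := Cfsg.Agent.LeechMat.Core.co0_smul_add g 0 0
    rw [add_zero] at h2
    have h3 : g • (0 : leechLattice) = 0 := by
      have := h2.symm
      simpa using this
    rw [h3] at h1
    exact eq_neg_of_add_eq_zero_left h1.symm
  have hhc : (h * g) • c = lv p r 4 4 hpr four_or four_or := by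
    rw [hsn, hneg] at hhc'
    exact neg_injective hhc'
  set k := h * g with hk
  have hkd : nrm (k • d) = 32 := by rw [nrm_smul, hd]
  have e1 : dot (k • x) (k • d) = 16 := by rw [dot_smul, hxd1]
  have e2 : dot (k • c) (k • d) = dot c d := dot_smul _ _ _
  rw [hhx, dot_lv] at e1
  rw [hhc, dot_lv] at e2
  obtain ⟨e, he, he1, he2, he3, he4⟩ := sep_base hpq hpr (k • d) hkd (by omega) (by omega)
    (fun h' => hne (by
      have : k • d = k • c := by rw [h', hhc]
      exact smul_left_cancel k this))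
  refine ⟨k⁻¹ • e, by rw [nrm_smul, he], Or.inl ?_, Or.inl ?_, ?_, ?_⟩
  · rw [← dot_smul k, smul_inv_smul, hhx, dot_lv]; omega
  · rw [← dot_smul k, smul_inv_smul, hhc, dot_lv]; omega
  · rw [← dot_smul k, smul_inv_smul]; exact he3
  · rw [← dot_smul k, smul_inv_smul]; exact he4

end Cfsg.Agent.MonsterX.Lat
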