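import Mathlib

/-!
# The 196884-dimensional model of the Monster: the interface

`MData W` is the model, `MGroup`, `MRep`, `MLat`, `MOrbit`, `MTrans` collect the facts about it from which the
abstract theorem (`Cfsg.Agent.MonsterX.Main*`) derives: `⟨C, τ⟩` is simple of the order of the Monster,
the centraliser of `z` is `C`, and the properties of the class of the involutions `t_x`, `x` an axis.

Dictionary: `C = 2^{1+24}.Co1`, `Q = 2^{1+24}`, `z` its central involution, `τ` the triality element,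
`a₀ = u₀ + e₀` the base axis (norm `8`, `u₀ = λλᵀ/16` in the `300`-part, `e₀ = 2 X_x` in the `98280`-part),
`t₀ = x ∈ Q` its involution, `a₁ = u₀ - e₀` the axis of `z t₀`, `σ` the isometry `1` on the `300`-part and
on the `98304`-part, `-1` on the `98280`-part, `S` the `196560` axes of the involutions in `Q`,
`d j` representatives of the `C`-orbits of axes (`12` orbits).  Inner products: `8, 1 (2A), 0 (2B), ...`.
-/

set_option autoImplicit false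

namespace Cfsg.Agent.MonsterX.Model

/-- The data of the model. -/
structure MData (W : Type) [AddCommGroup W] [Module ℚ W] where
  /-- the invariant form -/
  F : LinearMap.BilinForm ℚ W
  /-- `2^{1+24}.Co1` -/
  C : Subgroup (W ≃ₗ[ℚ] W)
  /-- `2^{1+24}` -/
  Q : Subgroup (W ≃ₗ[ℚ] W)
  /-- the triality element -/
  τ : W ≃ₗ[ℚ] W
  /-- the central involution of `C` -/
  z : W ≃ₗ[ℚ] W
  /-- `1` on the `300`-part and on the `98304`-part, `-1` on the `98280`-part (not an element of the group) -/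
  σ : W ≃ₗ[ℚ] W
  /-- the involution of the base axis -/
  t₀ : W ≃ₗ[ℚ] W
  /-- `300`-part of the base axis -/
  u₀ : W
  /-- `98280`-part of the base axis -/
  e₀ : W
  /-- index set of the `C`-orbits of axes -/
  J : Type
  /-- index of the orbit `S` of the base axis -/
  j₀ : J
  /-- index of the other orbit of axes fixed by `z` -/
  j₁ : J
  /-- representatives of the `C`-orbits of axes -/
  d : J → W

namespace MData

variable {W : Type} [AddCommGroup W] [Module ℚ W] (M : MData W)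

/-- the group generated by `C` and `τ` -/
def G : Subgroup (W ≃ₗ[ℚ] W) := Subgroup.closure ((M.C : Set (W ≃ₗ[ℚ] W)) ∪ {M.τ})

/-- base axis -/
def a₀ : W := M.u₀ + M.e₀

/-- partner of the base axis -/
def a₁ : W := M.u₀ - M.e₀

/-- the `C`-orbit of the base axis (`196560` axes) -/
def S : Set W := {x | ∃ g ∈ M.C, x = g M.a₀}

/-- all axes -/
def X : Set W := {x | ∃ j, ∃ g ∈ M.C, x = g (M.d j)}

end MData

/-- Facts about the group `C = 2^{1+24}.Co1`. -/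
structure MGroup {W : Type} [AddCommGroup W] [Module ℚ W] (M : MData W) (K₀ : Type) [Group K₀] :
    Prop where
  z_mem : M.z ∈ M.Q
  z_ne : M.z ≠ 1
  z_sq : M.z * M.z = 1
  Q_le : M.Q ≤ M.C
  Q_card : Nat.card M.Q = 2 ^ 25
  z_comm : ∀ g ∈ M.C, g * M.z = M.z * g
  Q_comm : ∀ x ∈ M.Q, ∀ y ∈ M.Q, x * y = y * x ∨ x * y = y * x * M.z
  Q_sq : ∀ x ∈ M.Q, x * x = 1 ∨ x * x = M.z
  Q_center : ∀ x ∈ M.Q, (∀ y ∈ M.Q, x * y = y * x) → x = 1 ∨ x = M.z
  /-- `C` acts irreducibly on `Q/⟨z⟩` -/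
  Q_irred : ∀ N : Subgroup (W ≃ₗ[ℚ] W), N ≤ M.Q → (∀ g ∈ M.C, ∀ n ∈ N, g * n * g⁻¹ ∈ N) →
    (∀ n ∈ N, n = 1 ∨ n = M.z) ∨ N = M.Q
  /-- `C/Q` is simple of the order of `Co1` -/
  quot : ∃ π : M.C →* K₀, Function.Surjective π ∧ ∀ g : M.C, π g = 1 ↔ (g : W ≃ₗ[ℚ] W) ∈ M.Q
  simple : IsSimpleGroup K₀
  card : Nat.card K₀ = 4157776806543360000

/-- Facts about the action of `C` on `W`. -/
structure MRep {W : Type} [AddCommGroup W] [Module ℚ W] (M : MData W) : Prop where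
  finrank_eq : Module.finrank ℚ W = 196884
  F_symm : ∀ x y, M.F x y = M.F y x
  C_isom : ∀ g ∈ M.C, ∀ x y, M.F (g x) (g y) = M.F x y
  σ_isom : ∀ x y, M.F (M.σ x) (M.σ y) = M.F x y
  σ_comm : ∀ g ∈ M.C, ∀ x, M.σ (g x) = g (M.σ x)
  σ_u₀ : M.σ M.u₀ = M.u₀
  σ_e₀ : M.σ M.e₀ = - M.e₀
  z_u₀ : M.z M.u₀ = M.u₀
  z_e₀ : M.z M.e₀ = M.e₀
  /-- `Q` is trivial on the `300`-part -/
  Q_u₀ : ∀ q ∈ M.Q, q M.u₀ = M.u₀
  /-- an element of `Q` not commuting with `t₀` negates `e₀` -/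
  Q_e₀ : ∀ q ∈ M.Q, q * M.t₀ ≠ M.t₀ * q → q M.e₀ = - M.e₀
  t₀_mem : M.t₀ ∈ M.Q
  t₀_ne : M.t₀ ≠ 1
  t₀_ne_z : M.t₀ ≠ M.z
  t₀_sq : M.t₀ * M.t₀ = 1
  t₀_a₀ : M.t₀ M.a₀ = M.a₀
  /-- the stabiliser of `a₀` in `C` centralises `t₀` -/
  t₀_comm : ∀ g ∈ M.C, g M.a₀ = M.a₀ → g * M.t₀ = M.t₀ * g
  /-- conversely the centraliser of `t₀` in `C` fixes `a₀` -/
  a₀_fix : ∀ g ∈ M.C, g * M.t₀ = M.t₀ * g → g M.a₀ = M.a₀
  /-- there are `196560` axes in the base orbit -/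
  S_card : M.S.ncard = 196560
  /-- an element of `C` fixing all `s ∈ S` with `(a₀, s) = 0` is in `⟨z, t₀⟩` -/
  fix_perp : ∀ g ∈ M.C, (∀ s ∈ M.S, M.F M.a₀ s = 0 → g s = s) →
    g = 1 ∨ g = M.z ∨ g = M.t₀ ∨ g = M.z * M.t₀

/-- Facts about the inner products of the `196560` axes in `S` (Leech lattice). -/
structure MLat {W : Type} [AddCommGroup W] [Module ℚ W] (M : MData W) : Prop where
  /-- the norm of an axis -/
  F_a₀ : M.F M.a₀ M.a₀ = 8
  /-- `(a_x, a_{zx}) = 0` -/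
  F_a₁ : M.F M.a₀ M.a₁ = 0
  /-- for `s` different from `a₀, a₁` the inner products with `a₀` and with `a₁` agree -/
  F_partner : ∀ s ∈ M.S, s ≠ M.a₀ → s ≠ M.a₁ → M.F s M.a₁ = M.F s M.a₀
  /-- the graph `(a, c) = 1` on `S` is connected -/
  conn : ∀ s ∈ M.S, Relation.ReflTransGen (fun a c => c ∈ M.S ∧ M.F c a = 1) M.a₀ s
  /-- two neighbours `c, d` of `a₀`, `d ≠ c, σ c`, are separated by a common neighbour of `a₀` -/
  sep : ∀ c ∈ M.S, M.F c M.a₀ = 1 → ∀ d ∈ M.S, M.F d M.a₀ = 1 → d ≠ c → d ≠ M.σ c →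
    ∃ e ∈ M.S, M.F e M.a₀ = 1 ∧ e ≠ c ∧ e ≠ d ∧ ¬ (M.F e c = 1 ↔ M.F e d = 1)

/-- Facts about the triality element and the orbit representatives. -/
structure MOrbit {W : Type} [AddCommGroup W] [Module ℚ W] (M : MData W) : Prop where
  finite : Finite M.J
  d_j₀ : M.d M.j₀ = M.u₀ + M.e₀
  τ_isom : ∀ x y, M.F (M.τ x) (M.τ y) = M.F x y
  τ_z : M.τ * M.z * M.τ⁻¹ ∈ M.Q
  τ_z_ne : M.τ * M.z * M.τ⁻¹ ≠ M.z
  τ_q : ∃ q ∈ M.Q, M.τ * q * M.τ⁻¹ ∈ M.C ∧ M.τ * q * M.τ⁻¹ ∉ M.Q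
  /-- closure of the set of axes under `τ` -/
  closed : ∀ j, ∀ g ∈ M.C, ∃ k, ∃ h ∈ M.C, M.τ (g (M.d j)) = h (M.d k)
  disjoint : ∀ j k, ∀ g ∈ M.C, g (M.d j) = M.d k → j = k
  /-- the axes span -/
  X_span : Submodule.span ℚ M.X = ⊤
  /-- all representatives are conjugate under `G` to the base axis -/
  trans : ∀ j, ∃ g ∈ M.G, g (M.d j) = M.a₀
  /-- all pairs with inner product `0` are conjugate under `G` -/
  trans₂ : ∀ j, ∀ b ∈ M.S, M.F b (M.d j) = 0 → ∃ g ∈ M.G, g b = M.a₀ ∧ g (M.d j) = M.a₁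
  /-- no `d j`, `j ≠ j₀`, has inner product `1` with an axis of `S` and with its partner -/
  T_sub : ∀ j, j ≠ M.j₀ → ∀ s ∈ M.S, M.F s (M.d j) = 1 → M.F (M.σ s) (M.d j) ≠ 1
  /-- the number of axes -/
  card_X : M.X.ncard = 97239461142009186000
  /-- the number of pairs (axis in `S`, axis) with inner product `0` -/
  card_pairs : {p : W × W | p.1 ∈ M.S ∧ p.2 ∈ M.X ∧ M.F p.1 p.2 = 0}.ncard =
    11707448673375 * 196560
  /-- an element of `G` preserving `S` (and the partner map) is in `C` -/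
  stab : ∀ g ∈ M.G, (∀ s ∈ M.S, g s ∈ M.S ∧ g (M.σ s) = M.σ (g s)) → g ∈ M.C

/-- Facts about the involutions `t_x`. -/
structure MTrans {W : Type} [AddCommGroup W] [Module ℚ W] (M : MData W) : Prop where
  /-- `t_s` fixes `d j` when the inner product of `s ∈ S` and `d j` is `0` -/
  t_d : ∀ j, ∀ g ∈ M.C, M.F (g M.a₀) (M.d j) = 0 → (g * M.t₀ * g⁻¹) (M.d j) = M.d j
  /-- some axis of inner product `0` with `a₀` is not fixed by `z` -/
  exists_moved : ∃ j, ∃ g ∈ M.C, M.F M.a₀ (g (M.d j)) = 0 ∧ M.z (M.d j) ≠ M.d j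
  /-- the axes fixed by `z` are in the orbits `j₀`, `j₁` -/
  z_d : ∀ j, M.z (M.d j) = M.d j → j = M.j₀ ∨ j = M.j₁
  /-- for `j ≠ j₀` the involution of `d j` moves some vector `h u₀` of the `300`-part -/
  moves : ∀ j, j ≠ M.j₀ → ∃ g ∈ M.G, g M.a₀ = M.d j ∧
    ∃ h ∈ M.C, (g * M.t₀ * g⁻¹) (h M.u₀) ≠ h M.u₀
  /-- the involution of `d j₁` is not conjugate in `C` to its product with `z` (different traces) -/
  not_conj : ∃ g ∈ M.G, g M.a₀ = M.d M.j₁ ∧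
    ∀ h ∈ M.C, h * (g * M.t₀ * g⁻¹) * h⁻¹ ≠ M.z * (g * M.t₀ * g⁻¹)

/-- Facts for the `6`-transposition property and the fixed vector. -/
structure MExtra {W : Type} [AddCommGroup W] [Module ℚ W] (M : MData W) : Prop where
  /-- the identity matrix of the `300`-part is fixed by the group -/
  fixed : ∃ v : W, v ≠ 0 ∧ (∀ g ∈ M.C, g v = v) ∧ M.τ v = v
  /-- for all `j` there is `g ∈ G` with `g a₀ = d j` and `(t_s t_{d j})^n = 1`, `n ≤ 6`, for all `s ∈ S` -/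
  order_le : ∀ j, ∃ g ∈ M.G, g M.a₀ = M.d j ∧ ∀ h ∈ M.C, ∃ n : ℕ, 0 < n ∧ n ≤ 6 ∧
    ((h * M.t₀ * h⁻¹) * (g * M.t₀ * g⁻¹)) ^ n = 1

end Cfsg.Agent.MonsterX.Model
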