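import Cfsg.Agent.MonsterX.KLift
import Cfsg.Agent.MonsterX.Model
import Cfsg.Agent.S0399

/-!
From the `K`-side structures `KS` and `Lift` to the interface `Model` of the Monster: the fields of
`MGroup`, `MRep` and `MOrbit.stab`.
-/

set_option autoImplicit false

namespace Cfsg.Agent.MonsterX.KModel

open Cfsg Cfsg.Agent.LeechMat.Core Cfsg.Agent.MonsterX.KSide Cfsg.Agent.MonsterX.KLift
open Cfsg.Agent.MonsterX.Model

section Quot

variable {G V P W : Type*} [Group G] [AddCommGroup V] [Module ℚ V]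
  [DistribMulAction G V] [SMulCommClass G ℚ V] [Group P] [AddCommGroup W] [Module ℚ W]
  (M : KS G V P W)

theorem mem_center_of_pm (A : Co0)
    (h : (∀ v : leechLattice, A • v = v) ∨ (∀ v : leechLattice, A • v = -v)) :
    A ∈ Subgroup.center Co0 := by
  rcases h with h | h
  · have : A = 1 := Subtype.ext (Equiv.ext h)
    rw [this]; exact Subgroup.one_mem _
  · have : A = SporadicA.Co0Basic.negCo0 := Subtype.ext (Equiv.ext h)
    rw [this]; exact SporadicA.Co0Basic.negCo0_mem_center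

/-- The quotient of `K` by the extraspecial group is the Conway group. -/
theorem exists_quot : ∃ π : M.K →* Spor.Co1, Function.Surjective π ∧
    ∀ k : M.K, π k = 1 ↔ ∃ p, (k : G) = M.ι p := by
  let f : M.pairs →* Spor.Co1 := (QuotientGroup.mk' (Subgroup.center Co0)).comp M.sndHom
  have hker : M.fstHom.ker ≤ f.ker := by
    rintro ⟨⟨k, A⟩, h⟩ hk
    have hk' : k = 1 := hk
    subst hk'
    have hu : ∀ v, M.u (A • v) = M.u v := fun v => by
      have h1 : ((1 : M.K) : G) • M.u v = M.u (A • v) := h v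
      rw [← h1]
      exact one_smul _ _
    have h1 := mem_center_of_pm A (M.pm_of_u A hu)
    exact (QuotientGroup.eq_one_iff A).2 h1
  let π : M.K →* Spor.Co1 := M.fstHom.liftOfSurjective M.fst_surjective ⟨f, hker⟩
  have hπ : ∀ x : M.pairs, π (M.fstHom x) = f x := fun x =>
    MonoidHom.liftOfRightInverse_comp_apply M.fstHom _
      (Function.rightInverse_surjInv M.fst_surjective) ⟨f, hker⟩ x
  refine ⟨π, ?_, ?_⟩
  · intro c
    obtain ⟨A, rfl⟩ := QuotientGroup.mk_surjective c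
    obtain ⟨x, rfl⟩ := M.snd_surjective A
    exact ⟨M.fstHom x, hπ x⟩
  · intro k
    obtain ⟨⟨⟨k', A⟩, h⟩, hk⟩ := M.fst_surjective k
    have hk' : k' = k := hk
    subst hk'
    have h1 : π k' = QuotientGroup.mk A := hπ ⟨(k', A), h⟩
    rw [h1, QuotientGroup.eq_one_iff]
    constructor
    · intro hA
      apply M.mem_ι_of_trivial _ k'.2
      intro v
      have h2 : (k' : G) • M.u v = M.u (A • v) := h v
      rw [h2]
      rcases SporadicA.Co0Basic.eq_one_or_neg_of_mem_center hA with e | e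
      · rw [e, one_smul]
      · rw [e]
        have : SporadicA.Co0Basic.negCo0 • v = -v := SporadicA.Co0Basic.negCo0_apply v
        rw [this, M.u_neg]
    · rintro ⟨p, hp⟩
      apply mem_center_of_pm
      apply M.pm_of_u
      intro v
      have h2 : (k' : G) • M.u v = M.u (A • v) := h v
      rw [← h2, hp, M.ι_u]

end Quot

variable {V P W : Type} [AddCommGroup V] [Module ℚ V] [Group P] [AddCommGroup W] [Module ℚ W]

/-- The relation between the data `D` of the model and the structure `M`. -/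
structure Link (D : MData V) (M : KS ↥D.G V P W) (x₀ : P) : Prop where
  F_eq : ∀ v w, D.F v w = M.B v w
  C_le : D.C ≤ D.G
  C_iff : ∀ g : D.G, g ∈ M.K ↔ (g : V ≃ₗ[ℚ] V) ∈ D.C
  Q_iff : ∀ e, e ∈ D.Q ↔ ∃ p, e = (M.ι p : V ≃ₗ[ℚ] V)
  z_eq : D.z = (M.z : V ≃ₗ[ℚ] V)
  x₀_mem : x₀ ∈ M.Sh
  t₀_eq : D.t₀ = (M.ι x₀ : V ≃ₗ[ℚ] V)
  u₀_eq : D.u₀ = M.u (M.lam x₀)
  e₀_eq : D.e₀ = (2 : ℚ) • M.X x₀
  σ_u : ∀ v, D.σ (M.u v) = M.u v
  σ_X : ∀ x ∈ M.Sh, D.σ (M.X x) = -M.X x
  σ_Θ : ∀ f v, D.σ (M.Θ f (rat v)) = M.Θ f (rat v)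

namespace Link

variable {D : MData V} {M : KS ↥D.G V P W} {x₀ : P} {θ : leechLattice → P}

section
variable (H : Link D M x₀) (L : Lift M θ)
include H

theorem mem_G {g : V ≃ₗ[ℚ] V} (hg : g ∈ D.C) : g ∈ D.G := H.C_le hg

theorem mem_K {g : V ≃ₗ[ℚ] V} (hg : g ∈ D.C) : (⟨g, H.C_le hg⟩ : D.G) ∈ M.K :=
  (H.C_iff _).2 hg

theorem ι_mem_Q (p : P) : (M.ι p : V ≃ₗ[ℚ] V) ∈ D.Q := (H.Q_iff _).2 ⟨p, rfl⟩

theorem Q_le : D.Q ≤ D.C := by
  intro e he
  obtain ⟨p, rfl⟩ := (H.Q_iff e).1 he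
  exact (H.C_iff _).1 (M.ι_mem p)

end

theorem ι_inj (L : Lift M θ) : Function.Injective M.ι :=
  M.ι_injective fun p hp => L.center p fun y => mul_inv_eq_iff_eq_mul.1 (hp y)

/-- Conjugation of `ι p` by an element of `C`. -/
theorem conj (H : Link D M x₀) {g : V ≃ₗ[ℚ] V} (hg : g ∈ D.C) :
    ∃ A α T, Acts M.Sh M.lam M.u M.X M.Θ M.ρ (⟨g, H.C_le hg⟩ : D.G) A α T ∧
      ∀ p, g * (M.ι p : V ≃ₗ[ℚ] V) = (M.ι (α p) : V ≃ₗ[ℚ] V) * g := by
  obtain ⟨A, α, T, hA⟩ := M.acts _ (H.mem_K hg)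
  exact ⟨A, α, T, hA, fun p => congrArg Subtype.val (conj_ι hA p)⟩

theorem Q_card (H : Link D M x₀) (L : Lift M θ) : Nat.card D.Q = 2 ^ 25 := by
  rw [← L.card]
  refine (Nat.card_congr (Equiv.ofBijective
    (fun p : P => (⟨(M.ι p : V ≃ₗ[ℚ] V), H.ι_mem_Q p⟩ : D.Q)) ⟨?_, ?_⟩)).symm
  · intro p q h
    have h' : (M.ι p : V ≃ₗ[ℚ] V) = (M.ι q : V ≃ₗ[ℚ] V) :=
      congrArg (fun t : D.Q => (t : V ≃ₗ[ℚ] V)) h
    exact ι_inj L (Subtype.ext h')
  · rintro ⟨e, he⟩
    obtain ⟨p, rfl⟩ := (H.Q_iff e).1 he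
    exact ⟨p, rfl⟩

theorem comm_cases (M : KS ↥D.G V P W) (p q : P) : p * q = q * p ∨ p * q = q * p * M.zc := by
  rcases M.comm_or p q with e | e
  · left; exact mul_inv_eq_iff_eq_mul.1 e
  · right
    rw [mul_inv_eq_iff_eq_mul] at e
    rw [e, mul_assoc, M.zc_comm]

theorem Q_irred (H : Link D M x₀) (L : Lift M θ) (N : Subgroup (V ≃ₗ[ℚ] V)) (hN : N ≤ D.Q)
    (hc : ∀ g ∈ D.C, ∀ n ∈ N, g * n * g⁻¹ ∈ N) : (∀ n ∈ N, n = 1 ∨ n = D.z) ∨ N = D.Q := by
  let N' : Subgroup P := N.comap (D.G.subtype.comp M.ι)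
  have hN' : ∀ p, p ∈ N' ↔ (M.ι p : V ≃ₗ[ℚ] V) ∈ N := fun p => Iff.rfl
  rcases KLift.irreducible L N' (by
    intro k hk A α T hA n hn
    rw [hN'] at hn ⊢
    have h1 := conj_ι hA n
    have h2 := hc (k : V ≃ₗ[ℚ] V) ((H.C_iff k).1 hk) _ hn
    have h3 : (M.ι (α n) : V ≃ₗ[ℚ] V) = (k : V ≃ₗ[ℚ] V) * (M.ι n : V ≃ₗ[ℚ] V) * (k : V ≃ₗ[ℚ] V)⁻¹ := by
      have h4 : M.ι (α n) = k * M.ι n * k⁻¹ := by rw [h1, mul_inv_cancel_right]
      rw [h4]; rfl
    rw [h3]; exact h2) with h | h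
  · left
    intro n hn
    obtain ⟨p, rfl⟩ := (H.Q_iff n).1 (hN hn)
    rcases h p hn with e | e
    · left; rw [e, map_one]; rfl
    · right; rw [e, H.z_eq]; rfl
  · right
    apply le_antisymm hN
    intro e he
    obtain ⟨p, rfl⟩ := (H.Q_iff e).1 he
    have : p ∈ N' := by rw [h]; trivial
    exact this

/-- The group facts. -/
theorem mGroup (H : Link D M x₀) (L : Lift M θ) : MGroup D Spor.Co1 where
  z_mem := (H.Q_iff _).2 ⟨M.zc, H.z_eq⟩
  z_ne := by
    rw [H.z_eq]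
    intro h
    have h1 : M.ι M.zc = M.ι 1 := by
      rw [map_one]; exact Subtype.ext h
    exact M.zc_ne (ι_inj L h1)
  z_sq := by rw [H.z_eq]; exact congrArg Subtype.val M.z_mul
  Q_le := H.Q_le
  Q_card := H.Q_card L
  z_comm := by
    intro g hg
    rw [H.z_eq]
    exact congrArg Subtype.val (M.z_comm_K _ (H.mem_K hg))
  Q_comm := by
    intro x hx y hy
    obtain ⟨p, rfl⟩ := (H.Q_iff x).1 hx
    obtain ⟨q, rfl⟩ := (H.Q_iff y).1 hy
    rw [H.z_eq]
    rcases comm_cases M p q with e | e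
    · left
      have := congrArg (fun t => (M.ι t : V ≃ₗ[ℚ] V)) e
      simpa only [map_mul, Subgroup.coe_mul] using this
    · right
      have := congrArg (fun t => (M.ι t : V ≃ₗ[ℚ] V)) e
      simp only [map_mul, Subgroup.coe_mul] at this
      exact this
  Q_sq := by
    intro x hx
    obtain ⟨p, rfl⟩ := (H.Q_iff x).1 hx
    rw [H.z_eq]
    rcases L.sq p with e | e
    · left
      have := congrArg (fun t => (M.ι t : V ≃ₗ[ℚ] V)) e
      simpa only [map_mul, Subgroup.coe_mul, map_one, Subgroup.coe_one] using this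
    · right
      have := congrArg (fun t => (M.ι t : V ≃ₗ[ℚ] V)) e
      simp only [map_mul, Subgroup.coe_mul] at this
      exact this
  Q_center := by
    intro x hx h
    obtain ⟨p, rfl⟩ := (H.Q_iff x).1 hx
    rw [H.z_eq]
    rcases L.center p (fun q => by
      apply ι_inj L
      have := h _ (H.ι_mem_Q q)
      rw [map_mul, map_mul]
      exact Subtype.ext this) with e | e
    · left; rw [e, map_one]; rfl
    · right; rw [e]; rfl
  Q_irred := H.Q_irred L
  quot := by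
    obtain ⟨π, hπ, hk⟩ := exists_quot M
    let e : D.C →* M.K :=
      { toFun := fun g => ⟨⟨g, H.C_le g.2⟩, H.mem_K g.2⟩
        map_one' := rfl
        map_mul' := fun _ _ => rfl }
    refine ⟨π.comp e, ?_, ?_⟩
    · intro c
      obtain ⟨k, rfl⟩ := hπ c
      exact ⟨⟨(k : D.G), (H.C_iff _).1 k.2⟩, rfl⟩
    · intro g
      rw [MonoidHom.comp_apply, hk, H.Q_iff]
      constructor
      · rintro ⟨p, hp⟩
        exact ⟨p, congrArg Subtype.val hp⟩
      · rintro ⟨p, hp⟩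
        exact ⟨p, Subtype.ext hp⟩
  simple := Cfsg.Agent.S0399.result.1
  card := Cfsg.Agent.S0399.result.2

/-- The base orbit is the set of the axes of the short elements. -/
theorem S_eq (H : Link D M x₀) (L : Lift M θ) : D.S = M.S := by
  have ha₀ : D.a₀ = M.a x₀ := by rw [MData.a₀, H.u₀_eq, H.e₀_eq]; rfl
  have hact : ∀ (k : D.G) (_ : k ∈ M.K) (A α T)
      (_ : Acts M.Sh M.lam M.u M.X M.Θ M.ρ k A α T) (x : P) (_ : x ∈ M.Sh),
      k • M.a x = M.a (α x) := by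
    intro k _ A α T hA x hx
    have hu : M.u (M.lam (α x)) = M.u (A • M.lam x) := by
      rcases hA.act_lam x hx with h | h
      · rw [h]
      · rw [h, M.u_neg]
    rw [KS.a, KS.a, smul_add, smul_comm, hA.act_u, hA.act_X x hx, hu]
  ext s
  constructor
  · rintro ⟨g, hg, rfl⟩
    obtain ⟨A, α, T, hA, -⟩ := H.conj hg
    refine ⟨α x₀, hA.act_sh _ H.x₀_mem, ?_⟩
    rw [ha₀]
    exact (hact _ (H.mem_K hg) A α T hA x₀ H.x₀_mem).symm
  · rintro ⟨x, hx, rfl⟩
    obtain ⟨k, hk, A, α, T, hA, e⟩ := trans_Sh L x₀ x H.x₀_mem hx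
    refine ⟨(k : V ≃ₗ[ℚ] V), (H.C_iff k).1 hk, ?_⟩
    rw [ha₀, ← e]
    exact (hact k hk A α T hA x₀ H.x₀_mem).symm

theorem a₀_eq (H : Link D M x₀) : D.a₀ = M.a x₀ := by rw [MData.a₀, H.u₀_eq, H.e₀_eq]; rfl

theorem smul_a {k : D.G} {A : Co0} {α : P ≃* P} {T : Module.End ℚ W}
    (hA : Acts M.Sh M.lam M.u M.X M.Θ M.ρ k A α T) (x : P) (hx : x ∈ M.Sh) :
    k • M.a x = M.a (α x) := by
  have hu : M.u (M.lam (α x)) = M.u (A • M.lam x) := by
    rcases hA.act_lam x hx with h | h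
    · rw [h]
    · rw [h, M.u_neg]
  rw [KS.a, KS.a, smul_add, smul_comm, hA.act_u, hA.act_X x hx, hu]

theorem a₁_eq (H : Link D M x₀) : D.a₁ = M.a (M.zc * x₀) := by
  rw [MData.a₁, H.u₀_eq, H.e₀_eq, M.a_z x₀ H.x₀_mem]

/-- `σ` commutes with `C`. -/
theorem σ_comm (H : Link D M x₀) (g : V ≃ₗ[ℚ] V) (hg : g ∈ D.C) (w : V) :
    D.σ (g w) = g (D.σ w) := by
  obtain ⟨A, α, T, hA, -⟩ := H.conj hg
  have hu : ∀ v, g (M.u v) = M.u (A • v) := hA.act_u
  have hX : ∀ x ∈ M.Sh, g (M.X x) = M.X (α x) := hA.act_X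
  have hΘ : ∀ f v, g (M.Θ f (rat v)) = M.Θ (T f) (rat (A • v)) := hA.act_Θ
  have hw : w ∈ Submodule.span ℚ
      (Set.range M.u ∪ M.X '' M.Sh ∪ {w | ∃ f v, w = M.Θ f (rat v)}) := by
    rw [M.span]; trivial
  induction hw using Submodule.span_induction with
  | mem x hx =>
    rcases hx with (⟨v, rfl⟩ | ⟨y, hy, rfl⟩) | ⟨f, v, rfl⟩
    · rw [hu, H.σ_u, H.σ_u, hu]
    · rw [hX y hy, H.σ_X _ (hA.act_sh y hy), H.σ_X y hy, map_neg, hX y hy]
    · rw [hΘ, H.σ_Θ, H.σ_Θ, hΘ]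
  | zero => simp
  | add a b _ _ ha hb => rw [map_add, map_add, map_add, map_add, ha, hb]
  | smul c a _ ha => rw [map_smul, map_smul, map_smul, map_smul, ha]

theorem σ_isom (H : Link D M x₀) (v w : V) : M.B (D.σ v) (D.σ w) = M.B v w := by
  have key : ∀ v w, w ∈ Submodule.span ℚ
      (Set.range M.u ∪ M.X '' M.Sh ∪ {w | ∃ f v, w = M.Θ f (rat v)}) →
      v ∈ (Set.range M.u ∪ M.X '' M.Sh ∪ {w | ∃ f v, w = M.Θ f (rat v)}) →
      M.B (D.σ v) (D.σ w) = M.B v w := by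
    intro v w hw hv
    induction hw using Submodule.span_induction with
    | mem w hw =>
      rcases hv with (⟨a, rfl⟩ | ⟨y, hy, rfl⟩) | ⟨f, a, rfl⟩ <;>
        rcases hw with (⟨b, rfl⟩ | ⟨y', hy', rfl⟩) | ⟨f', b, rfl⟩
      · rw [H.σ_u, H.σ_u]
      · rw [H.σ_u, H.σ_X y' hy', map_neg, M.B_uX _ y' hy', neg_zero]
      · rw [H.σ_u, H.σ_Θ]
      · rw [H.σ_u, H.σ_X y hy, map_neg, LinearMap.neg_apply, M.B_comm, M.B_uX _ y hy, neg_zero]
      · rw [H.σ_X y hy, H.σ_X y' hy', map_neg, map_neg, LinearMap.neg_apply, neg_neg]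
      · rw [H.σ_X y hy, H.σ_Θ, map_neg, LinearMap.neg_apply, M.B_XΘ y hy, neg_zero]
      · rw [H.σ_u, H.σ_Θ]
      · rw [H.σ_X y' hy', H.σ_Θ, map_neg, M.B_comm, M.B_XΘ y' hy', neg_zero]
      · rw [H.σ_Θ, H.σ_Θ]
    | zero => simp
    | add a b _ _ ha hb => rw [map_add, map_add, map_add, ha, hb]
    | smul c a _ ha => rw [map_smul, map_smul, map_smul, ha]
  have hv : v ∈ Submodule.span ℚ
      (Set.range M.u ∪ M.X '' M.Sh ∪ {w | ∃ f v, w = M.Θ f (rat v)}) := by
    rw [M.span]; trivial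
  have hw : w ∈ Submodule.span ℚ
      (Set.range M.u ∪ M.X '' M.Sh ∪ {w | ∃ f v, w = M.Θ f (rat v)}) := by
    rw [M.span]; trivial
  induction hv using Submodule.span_induction with
  | mem x hx => exact key x w hw hx
  | zero => simp
  | add a b _ _ ha hb =>
    rw [map_add, map_add, map_add, LinearMap.add_apply, LinearMap.add_apply, ha, hb]
  | smul c a _ ha =>
    rw [map_smul, LinearMap.map_smul M.B, LinearMap.map_smul M.B, LinearMap.smul_apply,
      LinearMap.smul_apply, ha]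

/-- The lattice facts used for `fix_perp`. -/
structure PerpFacts : Prop where
  pm : ∀ (r : leechLattice) (_ : nrm r = 32) (A : Co0),
    (∀ s, nrm s = 32 → dot s r = 0 → A • s = s ∨ A • s = -s) → (A • r = r ∨ A • r = -r) →
    (∀ v : leechLattice, A • v = v) ∨ (∀ v : leechLattice, A • v = -v)
  span : ∀ (r : leechLattice) (_ : nrm r = 32) (x : leechLattice), (16 : ℤ) ∣ dot r x →
    x ∈ AddSubgroup.closure
      ({s : leechLattice | nrm s = 32 ∧ dot s r = 0} ∪ {x | ∃ z : leechLattice, x = 2 • z} ∪ {r})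

theorem fix_perp (H : Link D M x₀) (L : Lift M θ) (hp : PerpFacts) (g : V ≃ₗ[ℚ] V) (hg : g ∈ D.C)
    (h : ∀ s ∈ D.S, D.F D.a₀ s = 0 → g s = s) :
    g = 1 ∨ g = D.z ∨ g = D.t₀ ∨ g = D.z * D.t₀ := by
  rw [H.S_eq L, H.a₀_eq] at h
  have h' : ∀ x ∈ M.Sh, M.B (M.a x₀) (M.a x) = 0 → (⟨g, H.C_le hg⟩ : D.G) • M.a x = M.a x :=
    fun x hx he => h _ ⟨x, hx, rfl⟩ (by rw [H.F_eq]; exact he)
  obtain ⟨A, α, T, hA, hconj⟩ := H.conj hg
  have hfix : ∀ x ∈ M.Sh, M.B (M.a x₀) (M.a x) = 0 → α x = x := by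
    intro x hx he
    have h1 := h' x hx he
    rw [smul_a hA x hx] at h1
    exact M.a_inj _ _ (hA.act_sh x hx) hx h1
  have hpm : ∀ x ∈ M.Sh, α x = x → A • M.lam x = M.lam x ∨ A • M.lam x = -M.lam x := by
    intro x hx e
    rcases hA.act_lam x hx with e' | e' <;> rw [e] at e'
    · exact Or.inl e'.symm
    · right
      nth_rewrite 2 [e']
      rw [neg_neg]
  have horth : ∀ x ∈ M.Sh, dot (M.lam x) (M.lam x₀) = 0 → M.B (M.a x₀) (M.a x) = 0 := by
    intro x hx hd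
    have hd' : dot (M.lam x₀) (M.lam x) = 0 := by rw [← hd]; exact dotInt_comm _ _
    have hne : ∀ y, M.lam y = M.lam x₀ → x ≠ y := by
      intro y hy e
      rw [e, hy, KS.dot_self, M.lam_norm x₀ H.x₀_mem] at hd
      norm_num at hd
    rw [M.B_a_ne x₀ x H.x₀_mem hx (hne _ rfl) (hne _ (M.lam_z _)), hd']
    norm_num
  -- `A = ±1`
  have hA1 : (∀ v : leechLattice, A • v = v) ∨ (∀ v : leechLattice, A • v = -v) := by
    refine hp.pm (M.lam x₀) (M.lam_norm x₀ H.x₀_mem) A ?_ ?_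
    · intro s hs hd
      obtain ⟨x, hx, hxs⟩ := M.lam_surj s hs
      have hd' : dot (M.lam x) (M.lam x₀) = 0 := by
        rcases hxs with e | e
        · rw [← e]; exact hd
        · have h1 : dot (-M.lam x) (M.lam x₀) = 0 := by rw [← e]; exact hd
          have h2 : dot (-M.lam x) (M.lam x₀) = -dot (M.lam x) (M.lam x₀) := by
            show dotInt _ _ = _
            rw [AddSubgroup.coe_neg, dotInt_neg_left]
          rw [h2] at h1
          exact neg_eq_zero.1 h1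
      have h1 := hpm x hx (hfix x hx (horth x hx hd'))
      rcases hxs with e | e
      · rw [e]; exact h1
      · rw [e, co0_smul_neg]
        rcases h1 with e1 | e1
        · left; rw [e1]
        · right; rw [e1]
    · have h1 := hpm (M.zc * x₀) (M.Sh_z _ H.x₀_mem)
        (hfix _ (M.Sh_z _ H.x₀_mem) (M.B_a_z x₀ H.x₀_mem))
      rwa [M.lam_z] at h1
  -- `g` lies in the extraspecial group
  obtain ⟨q, hq⟩ := M.mem_ι_of_trivial _ (H.mem_K hg) (fun v => by
    rw [hA.act_u]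
    rcases hA1 with e | e
    · rw [e]
    · rw [e, M.u_neg])
  have hgq : g = (M.ι q : V ≃ₗ[ℚ] V) := congrArg Subtype.val hq
  -- `q` commutes with the short elements orthogonal to `x₀`
  obtain ⟨v, hv⟩ := L.surj q
  have hv' : Eqz M q (θ v) := hv
  have hcq : ∀ x ∈ M.Sh, M.B (M.a x₀) (M.a x) = 0 → q * x = x * q := by
    intro x hx he
    have h1 := h' x hx he
    rw [hq, M.ι_smul_a q x hx] at h1
    have h3 : q * x * q⁻¹ ∈ M.Sh := by
      rcases M.comm_or q x with e | e <;> rw [e]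
      · exact hx
      · exact M.Sh_z x hx
    have h2 := M.a_inj _ _ h3 hx h1
    exact mul_inv_eq_iff_eq_mul.1 h2
  have hzcomm : ∀ {x y x' y' : P}, Eqz M x x' → Eqz M y y' → x * y = y * x →
      x' * y' = y' * x' := by
    intro x y x' y' h1 h2 h3
    rcases h1 with rfl | rfl <;> rcases h2 with rfl | rfl
    · exact h3
    · rw [← mul_assoc, ← M.zc_comm, mul_assoc, mul_assoc] at h3
      exact mul_left_cancel h3
    · rw [mul_assoc, ← mul_assoc y, ← M.zc_comm y, mul_assoc] at h3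
      exact mul_left_cancel h3
    · have h4 : M.zc * x' * (M.zc * y') = x' * y' := by
        rw [mul_assoc, ← mul_assoc x', ← M.zc_comm x', mul_assoc, M.zc_zc]
      have h5 : M.zc * y' * (M.zc * x') = y' * x' := by
        rw [mul_assoc, ← mul_assoc y', ← M.zc_comm y', mul_assoc, M.zc_zc]
      rw [h4, h5] at h3
      exact h3
  have hx₀q : q * x₀ = x₀ * q := by
    have h1 := hcq _ (M.Sh_z _ H.x₀_mem) (M.B_a_z x₀ H.x₀_mem)
    exact hzcomm (Eqz.refl q) (Or.inr rfl : Eqz M (M.zc * x₀) x₀) h1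
  have hadd : ∀ v a b : leechLattice, dot v (a + b) = dot v a + dot v b := by
    intro v a b
    show dotInt _ _ = _
    rw [AddSubgroup.coe_add, dotInt_add_right]
  have hnegr : ∀ v a : leechLattice, dot v (-a) = -dot v a := by
    intro v a
    show dotInt _ _ = _
    rw [AddSubgroup.coe_neg, dotInt_neg_right]
  -- `v` is orthogonal modulo 2 to everything orthogonal to `lam x₀` modulo 2
  have key' : ∀ w ∈ AddSubgroup.closure
      ({s : leechLattice | nrm s = 32 ∧ dot s (M.lam x₀) = 0} ∪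
        {x | ∃ z : leechLattice, x = 2 • z} ∪ {M.lam x₀}), (16 : ℤ) ∣ dot v w := by
    intro w hw
    induction hw using AddSubgroup.closure_induction with
    | mem s hs =>
      rcases hs with (⟨hsn, hsd⟩ | ⟨t, rfl⟩) | hs
      · obtain ⟨x, hx, hxs⟩ := M.lam_surj s hsn
        rw [L.comm]
        have hd' : dot (M.lam x) (M.lam x₀) = 0 := by
          rcases hxs with e | e
          · rw [← e]; exact hsd
          · have h1 : dot (-M.lam x) (M.lam x₀) = 0 := by rw [← e]; exact hsd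
            have h2 : dot (-M.lam x) (M.lam x₀) = -dot (M.lam x) (M.lam x₀) := by
              show dotInt _ _ = _
              rw [AddSubgroup.coe_neg, dotInt_neg_left]
            rw [h2] at h1
            exact neg_eq_zero.1 h1
        have h2 := hcq x hx (horth x hx hd')
        have h3 : Eqz M (θ s) x := (θ_pm L hxs).trans (L.lam x hx)
        exact hzcomm hv' h3.symm h2
      · have h2 : dot v (2 • t) = 2 * dot v t := by
          rw [two_smul, hadd]; ring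
        rw [h2]
        have h3 : (8 : ℤ) ∣ dot v t := Cfsg.Agent.Leech.Basic.eight_dvd_dotInt v.2 t.2
        obtain ⟨c, hc⟩ := h3
        exact ⟨c, by rw [hc]; ring⟩
      · rw [Set.mem_singleton_iff.1 hs, L.comm]
        have h5 : Eqz M (θ (M.lam x₀)) x₀ := L.lam x₀ H.x₀_mem
        exact hzcomm hv' h5.symm hx₀q
    | zero =>
      have : dot v 0 = 0 := by
        have := hadd v 0 0
        rw [add_zero] at this
        linarith
      rw [this]; exact dvd_zero _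
    | add a b ha' hb' ha hb =>
      rw [hadd]
      exact dvd_add ha hb
    | neg a ha' ha =>
      rw [hnegr]
      exact (dvd_neg).2 ha
  have key : ∀ w, (16 : ℤ) ∣ dot (M.lam x₀) w → (16 : ℤ) ∣ dot v w := fun w hw =>
    key' w (hp.span (M.lam x₀) (M.lam_norm x₀ H.x₀_mem) w hw)
  have central : ∀ t : leechLattice, (∀ w, (16 : ℤ) ∣ dot t w) → θ t = 1 ∨ θ t = M.zc := by
    intro t ht
    apply L.center
    intro y
    obtain ⟨w, hw⟩ := L.surj y
    have h5 : Eqz M y (θ w) := hw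
    exact hzcomm (Eqz.refl _) h5.symm ((L.comm t w).1 (ht w))
  have h8 : ∀ a b : leechLattice, (8 : ℤ) ∣ dot a b := fun a b =>
    Cfsg.Agent.Leech.Basic.eight_dvd_dotInt a.2 b.2
  -- the four cases
  have hq4 : q = 1 ∨ q = M.zc ∨ q = x₀ ∨ q = M.zc * x₀ := by
    by_cases hall : ∀ w, (16 : ℤ) ∣ dot v w
    · rcases hv'.trans (by
        rcases central v hall with e | e
        · exact Or.inl e
        · exact Or.inr (by rw [e, mul_one]) : Eqz M (θ v) 1) with e | e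
      · exact Or.inl e
      · right; left; rw [e, mul_one]
    · push Not at hall
      obtain ⟨w₁, hw₁⟩ := hall
      have hw₁' : ¬ (16 : ℤ) ∣ dot (M.lam x₀) w₁ := fun h => hw₁ (key w₁ h)
      have hcen := central (v + M.lam x₀) (by
        intro w
        have hl : dot (v + M.lam x₀) w = dot v w + dot (M.lam x₀) w := by
          show dotInt _ _ = _
          rw [AddSubgroup.coe_add, dotInt_add_left]
        rw [hl]
        by_cases h1 : (16 : ℤ) ∣ dot (M.lam x₀) w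
        · exact dvd_add (key w h1) h1
        · have h2 : (16 : ℤ) ∣ dot (M.lam x₀) (w + w₁) := by
            rw [hadd]
            have e1 := h8 (M.lam x₀) w
            have e2 := h8 (M.lam x₀) w₁
            omega
          have h3 := key _ h2
          rw [hadd] at h3
          have e1 := h8 (M.lam x₀) w
          have e3 := h8 v w₁
          have e4 := h8 v w
          omega)
      have h5 : Eqz M (θ (M.lam x₀)) x₀ := L.lam x₀ H.x₀_mem
      have h6 : Eqz M (θ (v + M.lam x₀)) (θ v * θ (M.lam x₀)) := L.add v (M.lam x₀)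
      have h1 : Eqz M (θ (v + M.lam x₀)) (q * x₀) := h6.trans (hv'.symm.mul h5)
      have h2 : Eqz M (q * x₀) 1 := by
        refine h1.symm.trans ?_
        rcases hcen with e | e
        · exact Or.inl e
        · exact Or.inr (by rw [e, mul_one])
      have h3 := L.sh_sq x₀ H.x₀_mem
      right; right
      rcases h2 with e | e
      · left
        rw [← mul_one q, ← h3, ← mul_assoc, e, one_mul]
      · right
        rw [← mul_one q, ← h3, ← mul_assoc, e, mul_one]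
  rw [H.z_eq, H.t₀_eq, hgq]
  rcases hq4 with e | e | e | e
  · left; rw [e, map_one]; rfl
  · right; left; rw [e]; rfl
  · right; right; left; rw [e]
  · right; right; right; rw [e, map_mul]; rfl

/-- The facts about the action of `C`. -/
theorem mRep (H : Link D M x₀) (L : Lift M θ) (hp : PerpFacts)
    (hfin : Module.finrank ℚ V = 196884) : MRep D where
  finrank_eq := hfin
  F_symm := by
    intro x y
    rw [H.F_eq, H.F_eq, M.B_comm]
  C_isom := by
    intro g hg x y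
    rw [H.F_eq, H.F_eq]
    exact M.B_inv (⟨g, H.C_le hg⟩ : D.G) x y
  σ_isom := by
    intro x y
    rw [H.F_eq, H.F_eq, H.σ_isom]
  σ_comm := fun g hg x => H.σ_comm g hg x
  σ_u₀ := by rw [H.u₀_eq, H.σ_u]
  σ_e₀ := by rw [H.e₀_eq, map_smul, H.σ_X _ H.x₀_mem, smul_neg]
  z_u₀ := by rw [H.u₀_eq, H.z_eq]; exact M.z_u _
  z_e₀ := by
    rw [H.e₀_eq, map_smul, H.z_eq]
    congr 1
    exact M.z_X _ H.x₀_mem
  Q_u₀ := by
    intro q hq
    obtain ⟨p, rfl⟩ := (H.Q_iff q).1 hq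
    rw [H.u₀_eq]
    exact M.ι_u p _
  Q_e₀ := by
    intro q hq hne
    obtain ⟨p, rfl⟩ := (H.Q_iff q).1 hq
    rw [H.e₀_eq, map_smul]
    have h1 : (M.ι p : V ≃ₗ[ℚ] V) (M.X x₀) = M.X (p * x₀ * p⁻¹) := M.ι_X p x₀ H.x₀_mem
    rw [h1]
    rcases M.comm_or p x₀ with e | e
    · exfalso
      apply hne
      rw [H.t₀_eq]
      have h2 : p * x₀ = x₀ * p := mul_inv_eq_iff_eq_mul.1 e
      have := congrArg (fun t => (M.ι t : V ≃ₗ[ℚ] V)) h2
      simpa only [map_mul, Subgroup.coe_mul] using this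
    · rw [e, M.X_z _ H.x₀_mem, smul_neg]
  t₀_mem := by rw [H.t₀_eq]; exact H.ι_mem_Q _
  t₀_ne := by
    rw [H.t₀_eq]
    intro h
    have h1 : M.ι x₀ = M.ι 1 := by rw [map_one]; exact Subtype.ext h
    have h2 := ι_inj L h1
    obtain ⟨q, hq⟩ := exists_flip L x₀ H.x₀_mem
    rw [h2, mul_one, mul_inv_cancel, mul_one] at hq
    exact M.zc_ne hq.symm
  t₀_ne_z := by
    rw [H.t₀_eq, H.z_eq]
    intro h
    have h1 : M.ι x₀ = M.ι M.zc := Subtype.ext h
    have h2 := ι_inj L h1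
    obtain ⟨q, hq⟩ := exists_flip L x₀ H.x₀_mem
    rw [h2, ← M.zc_comm, mul_inv_cancel_right, M.zc_mul] at hq
    exact M.zc_ne hq
  t₀_sq := by
    rw [H.t₀_eq]
    have := congrArg (fun t => (M.ι t : V ≃ₗ[ℚ] V)) (L.sh_sq x₀ H.x₀_mem)
    simpa only [map_mul, Subgroup.coe_mul, map_one, Subgroup.coe_one] using this
  t₀_a₀ := by
    rw [H.t₀_eq, H.a₀_eq]
    have := M.ι_smul_a x₀ x₀ H.x₀_mem
    rw [mul_inv_cancel_right] at this
    exact this
  t₀_comm := by
    intro g hg h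
    obtain ⟨A, α, T, hA, hc⟩ := H.conj hg
    rw [H.t₀_eq, hc]
    rw [H.a₀_eq] at h
    have h1 : (⟨g, H.C_le hg⟩ : D.G) • M.a x₀ = M.a x₀ := h
    rw [smul_a hA x₀ H.x₀_mem] at h1
    rw [M.a_inj _ _ (hA.act_sh _ H.x₀_mem) H.x₀_mem h1]
  a₀_fix := by
    intro g hg h
    obtain ⟨A, α, T, hA, hc⟩ := H.conj hg
    rw [H.t₀_eq, hc] at h
    have h1 : M.ι (α x₀) = M.ι x₀ := Subtype.ext (mul_right_cancel h)
    have h2 := ι_inj L h1
    rw [H.a₀_eq]
    have h3 := smul_a hA x₀ H.x₀_mem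
    rw [h2] at h3
    exact h3
  S_card := by rw [H.S_eq L]; exact S_ncard M
  fix_perp := H.fix_perp L hp

/-- The field `stab` of `MOrbit`. -/
theorem stab (H : Link D M x₀) (L : Lift M θ) {O : Set V} (hO : M.TriData O) (hch : M.Chars)
    {τ : D.G} {x₁ : P} (hτ : M.TauData τ x₁) (hU : M.USpan)
    (hc : M.ConnData (τ • M.a x₁ - M.z • τ • M.a x₁)) (hsep : KS.Separated) (hrig : KS.LinesRigid)
    (g : V ≃ₗ[ℚ] V) (hg : g ∈ D.G) (h : ∀ s ∈ D.S, g s ∈ D.S) : g ∈ D.C := by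
  rw [H.S_eq L] at h
  have hfin : M.S.Finite := Set.finite_of_ncard_ne_zero (by rw [S_ncard M]; norm_num)
  have h2 : (fun x => g x) '' M.S = M.S :=
    Set.eq_of_subset_of_ncard_le (by rintro _ ⟨x, hx, rfl⟩; exact h x hx)
      (by rw [Set.ncard_image_of_injective _ g.injective]) hfin
  refine (H.C_iff ⟨g, hg⟩).1 (M.mem_K_of_stab hO hch hτ hU hc hsep hrig ⟨g, hg⟩ ?_ ?_)
  · intro x hx
    obtain ⟨y, hy, e⟩ := h _ ⟨x, hx, rfl⟩
    exact ⟨y, hy, e.symm⟩
  · intro y hy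
    have h3 : M.a y ∈ (fun x => g x) '' M.S := by rw [h2]; exact ⟨y, hy, rfl⟩
    obtain ⟨_, ⟨x, hx, rfl⟩, e⟩ := h3
    exact ⟨x, hx, e⟩

end Link

end Cfsg.Agent.MonsterX.KModel
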