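import Cfsg.Agent.MonsterX.Lat
import Cfsg.Agent.MonsterX.Model

/-!
The inner products of the `196560` axes: the facts `Model.MLat` from the structure `KSide.KS`.
-/

set_option autoImplicit false

namespace Cfsg.Agent.MonsterX.LatInst

open Cfsg Cfsg.Agent.MonsterX.KSide Cfsg.Agent.MonsterX.Lat

section

variable {G V P W : Type*} [Group G] [AddCommGroup V] [Module ℚ V]
  [DistribMulAction G V] [SMulCommClass G ℚ V] [Group P] [AddCommGroup W] [Module ℚ W]
  (M : KS G V P W)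

include M

/-- `(a_x, a_y) = 1` iff the minimal vectors have inner product `±16`. -/
theorem B_eq_one_iff {x y : P} (hx : x ∈ M.Sh) (hy : y ∈ M.Sh) :
    M.B (M.a x) (M.a y) = 1 ↔
      (dot (M.lam x) (M.lam y) = 16 ∨ dot (M.lam x) (M.lam y) = -16) := by
  by_cases h1 : y = x
  · subst h1
    rw [M.B_a_self y hy, KS.dot_self, M.lam_norm y hy]
    constructor
    · intro h; norm_num at h
    · intro h; omega
  by_cases h2 : y = M.zc * x
  · subst h2
    rw [M.B_a_z x hx, M.lam_z, KS.dot_self, M.lam_norm x hx]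
    constructor
    · intro h; norm_num at h
    · intro h; omega
  rw [M.B_a_ne x y hx hy h1 h2, div_eq_one_iff_eq (by norm_num)]
  constructor
  · intro h
    have h3 : (dot (M.lam x) (M.lam y)) ^ 2 = 256 := by exact_mod_cast h
    have h4 : (dot (M.lam x) (M.lam y) - 16) * (dot (M.lam x) (M.lam y) + 16) = 0 := by
      linarith [sq (dot (M.lam x) (M.lam y))]
    rcases mul_eq_zero.1 h4 with h5 | h5
    · left; omega
    · right; omega
  · rintro (h | h) <;> rw [h] <;> norm_num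

/-- Every minimal vector has a lift, up to sign. -/
theorem exists_lift (v : leechLattice) (hv : nrm v = 32) :
    ∃ x ∈ M.Sh, M.lam x = v ∨ M.lam x = -v := by
  obtain ⟨x, hx, h⟩ := M.lam_surj v hv
  refine ⟨x, hx, ?_⟩
  rcases h with h | h
  · exact Or.inl h.symm
  · right; rw [h, neg_neg]

/-- The relation of the graph on the axes. -/
theorem rel_of_dot {x y : P} (hx : x ∈ M.Sh) (hy : y ∈ M.Sh)
    (h : dot (M.lam x) (M.lam y) = 16 ∨ dot (M.lam x) (M.lam y) = -16) :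
    M.a y ∈ M.S ∧ M.B (M.a y) (M.a x) = 1 := by
  refine ⟨⟨y, hy, rfl⟩, ?_⟩
  rw [M.B_comm]
  exact (B_eq_one_iff M hx hy).2 h

/-- The graph `(a, c) = 1` on the `196560` axes is connected. -/
theorem conn_axes {x y : P} (hx : x ∈ M.Sh) (hy : y ∈ M.Sh) :
    Relation.ReflTransGen (fun a c => c ∈ M.S ∧ M.B c a = 1) (M.a x) (M.a y) := by
  have key : ∀ w, Relation.ReflTransGen Adj (M.lam x) w → nrm w = 32 ∧ ∀ y ∈ M.Sh,
      (M.lam y = w ∨ M.lam y = -w) →
      Relation.ReflTransGen (fun a c => c ∈ M.S ∧ M.B c a = 1) (M.a x) (M.a y) := by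
    intro w hw
    induction hw with
    | refl =>
      refine ⟨M.lam_norm x hx, fun y hy h => ?_⟩
      rcases M.lam_inj x hx y hy h with h | h
      · rw [h]
      · obtain ⟨w, hw1, hw2⟩ := exists_adj (M.lam x) (M.lam_norm x hx)
        obtain ⟨v, hv, hvw⟩ := exists_lift M w hw1
        have hd : dot (M.lam x) (M.lam v) = 16 ∨ dot (M.lam x) (M.lam v) = -16 := by
          rcases hvw with e | e <;> rw [e]
          · exact hw2
          · rw [dot_neg_right]; omega
        have hd' : dot (M.lam v) (M.lam y) = 16 ∨ dot (M.lam v) (M.lam y) = -16 := by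
          rw [h, M.lam_z, dot_comm]
          exact hd
        exact Relation.ReflTransGen.tail (b := M.a v)
          (Relation.ReflTransGen.single (rel_of_dot M hx hv hd)) (rel_of_dot M hv hy hd')
    | tail _ hs ih =>
      obtain ⟨ih1, ih2⟩ := ih
      refine ⟨hs.1, fun y hy h => ?_⟩
      obtain ⟨v, hv, hvw⟩ := exists_lift M _ ih1
      refine (ih2 v hv hvw).tail (rel_of_dot M hv hy ?_)
      have h2 := hs.2
      rcases h with e | e <;> rcases hvw with e' | e' <;> rw [e, e'] <;>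
        (try simp only [dot_neg_left, dot_neg_right]) <;> omega
  exact (key _ (conn _ _ (M.lam_norm x hx) (M.lam_norm y hy))).2 y hy (Or.inl rfl)

/-- The separation property. -/
theorem sep_axes {x c d : P} (hx : x ∈ M.Sh) (hc : c ∈ M.Sh) (hd : d ∈ M.Sh)
    (hxc : M.B (M.a c) (M.a x) = 1) (hxd : M.B (M.a d) (M.a x) = 1) (h1 : d ≠ c)
    (h2 : d ≠ M.zc * c) : ∃ e ∈ M.Sh, M.B (M.a e) (M.a x) = 1 ∧ e ≠ c ∧ e ≠ d ∧
      ¬ (M.B (M.a e) (M.a c) = 1 ↔ M.B (M.a e) (M.a d) = 1) := by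
  rw [B_eq_one_iff M hc hx, dot_comm] at hxc
  rw [B_eq_one_iff M hd hx, dot_comm] at hxd
  have hzc : M.zc * c ≠ c := M.zc_ne' c
  by_cases hcd : dot (M.lam c) (M.lam d) = 16 ∨ dot (M.lam c) (M.lam d) = -16
  · refine ⟨M.zc * c, M.Sh_z c hc, ?_, hzc, Ne.symm h2, ?_⟩
    · rw [B_eq_one_iff M (M.Sh_z c hc) hx, M.lam_z, dot_comm]; exact hxc
    · rw [B_eq_one_iff M (M.Sh_z c hc) hc, B_eq_one_iff M (M.Sh_z c hc) hd, M.lam_z,
        KS.dot_self, M.lam_norm c hc]
      intro h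
      have := h.2 hcd
      omega
  · push Not at hcd
    have hlam : ∀ y ∈ M.Sh, (M.lam y = M.lam c ∨ M.lam y = -M.lam c) → y = c ∨ y = M.zc * c :=
      fun y hy h => M.lam_inj c hc y hy h
    have hn1 : M.lam d ≠ M.lam c := fun h => by
      rcases hlam d hd (Or.inl h) with h' | h'
      · exact h1 h'
      · exact h2 h'
    have hn2 : M.lam d ≠ -M.lam c := fun h => by
      rcases hlam d hd (Or.inr h) with h' | h'
      · exact h1 h'
      · exact h2 h'
    obtain ⟨w, hw, g1, g2, g3, g4⟩ := exists_sep (M.lam x) (M.lam c) (M.lam d)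
      (M.lam_norm x hx) (M.lam_norm c hc) (M.lam_norm d hd) hxc hxd hcd.1 hcd.2 hn1 hn2
    obtain ⟨e, he, hew⟩ := exists_lift M w hw
    have e1 : dot (M.lam x) (M.lam e) = 16 ∨ dot (M.lam x) (M.lam e) = -16 := by
      rcases hew with h | h <;> rw [h] <;> (try simp only [dot_neg_right]) <;> omega
    have e2 : dot (M.lam c) (M.lam e) = 16 ∨ dot (M.lam c) (M.lam e) = -16 := by
      rcases hew with h | h <;> rw [h] <;> (try simp only [dot_neg_right]) <;> omega
    have e3 : ¬ (dot (M.lam e) (M.lam d) = 16 ∨ dot (M.lam e) (M.lam d) = -16) := by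
      rcases hew with h | h <;> rw [h] <;> (try simp only [dot_neg_left]) <;> omega
    refine ⟨e, he, ?_, ?_, ?_, ?_⟩
    · rw [B_eq_one_iff M he hx, dot_comm]; exact e1
    · rintro rfl
      rw [KS.dot_self, M.lam_norm e he] at e2
      omega
    · rintro rfl
      exact absurd e2 (by push Not; exact hcd)
    · rw [B_eq_one_iff M he hc, B_eq_one_iff M he hd, dot_comm (M.lam e) (M.lam c)]
      intro h
      exact e3 (h.1 e2)

end

/-- The facts `MLat` from the structure `KS`. -/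
theorem mlat {V : Type} [AddCommGroup V] [Module ℚ V] (D : Model.MData V)
    {G P W : Type*} [Group G] [DistribMulAction G V] [SMulCommClass G ℚ V] [Group P]
    [AddCommGroup W] [Module ℚ W] (M : KS G V P W) (x₀ : P) (hx₀ : x₀ ∈ M.Sh)
    (hF : ∀ v w, D.F v w = M.B v w) (hu : D.u₀ = M.u (M.lam x₀)) (he : D.e₀ = (2 : ℚ) • M.X x₀)
    (hS : D.S = M.S) (hσ : ∀ x ∈ M.Sh, D.σ (M.a x) = M.a (M.zc * x)) : Model.MLat D := by
  have ha₀ : D.a₀ = M.a x₀ := by rw [Model.MData.a₀, hu, he]; rfl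
  have ha₁ : D.a₁ = M.a (M.zc * x₀) := by rw [Model.MData.a₁, hu, he, M.a_z x₀ hx₀]
  refine ⟨?_, ?_, ?_, ?_, ?_⟩
  · rw [hF, ha₀]; exact M.B_a_self x₀ hx₀
  · rw [hF, ha₀, ha₁]; exact M.B_a_z x₀ hx₀
  · rw [hS]
    rintro _ ⟨y, hy, rfl⟩ h1 h2
    rw [ha₀] at h1
    rw [ha₁] at h2
    rw [hF, hF, ha₀, ha₁]
    have h1' : y ≠ x₀ := fun h => h1 (by rw [h])
    have h2' : y ≠ M.zc * x₀ := fun h => h2 (by rw [h])
    rw [M.B_a_ne y x₀ hy hx₀ h1'.symm
      (fun h => h2' (by rw [h, M.zc_zc])),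
      M.B_a_ne y (M.zc * x₀) hy (M.Sh_z x₀ hx₀) h2'.symm (fun h => h1' (mul_left_cancel h).symm),
      M.lam_z]
  · rw [hS]
    rintro _ ⟨y, hy, rfl⟩
    rw [ha₀]
    have h := conn_axes M hx₀ hy
    simpa only [hF] using h
  · rw [hS]
    rintro _ ⟨c, hc, rfl⟩ h1 _ ⟨d, hd, rfl⟩ h2 h3 h4
    rw [hF, ha₀] at h1 h2
    rw [hσ c hc] at h4
    obtain ⟨e, he, g1, g2, g3, g4⟩ := sep_axes M hx₀ hc hd h1 h2 (fun h => h3 (by rw [h]))
      (fun h => h4 (by rw [h]))
    refine ⟨M.a e, ⟨e, he, rfl⟩, ?_, ?_, ?_, ?_⟩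
    · rw [hF, ha₀]; exact g1
    · exact fun h => g2 (M.a_inj _ _ he hc h)
    · exact fun h => g3 (M.a_inj _ _ he hd h)
    · rw [hF, hF]; exact g4

end Cfsg.Agent.MonsterX.LatInst
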