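import Cfsg.Agent.MonsterX.Lat

/-!
Leech lattice inputs of `KSide`: `Separated` (orthogonal minimal vectors are separated by a third one)
and `USpan` (the `300`-part is spanned by the `u v`, `v` minimal).
-/

set_option autoImplicit false

namespace Cfsg.Agent.MonsterX.LatSep

open Cfsg Cfsg.Agent.MonsterX.KSide Cfsg.Agent.MonsterX.Lat Cfsg.Agent.Leech.Min
  Cfsg.Agent.Leech.Trans

theorem sep_base {p q : GolayPt} (hpq : p ≠ q) (w : leechLattice)
    (hw : nrm w = 32) (hs : (w : GolayPt → ℤ) p + (w : GolayPt → ℤ) q = 0) :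
    ∃ t : leechLattice, nrm t = 32 ∧ (t : GolayPt → ℤ) p + (t : GolayPt → ℤ) q = 4 ∧
      (dot t w = 0 ∨ dot t w = 8 ∨ dot t w = -8) := by
  -- the vectors `4 e_p + 4 e_m`
  have key : ∀ m, m ≠ p → m ≠ q →
      (4 * (w : GolayPt → ℤ) p + 4 * (w : GolayPt → ℤ) m = 0 ∨
        4 * (w : GolayPt → ℤ) p + 4 * (w : GolayPt → ℤ) m = 8 ∨
        4 * (w : GolayPt → ℤ) p + 4 * (w : GolayPt → ℤ) m = -8) →
      ∃ t : leechLattice, nrm t = 32 ∧ (t : GolayPt → ℤ) p + (t : GolayPt → ℤ) q = 4 ∧
        (dot t w = 0 ∨ dot t w = 8 ∨ dot t w = -8) := by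
    intro m hmp hmq h3
    refine ⟨lv p m 4 4 (Ne.symm hmp) four_or four_or, nrm_lv _ _ _ _ _ _ _, ?_, ?_⟩
    · rw [lv_coe, two_left, two_other hpq.symm (Ne.symm hmq)]; rfl
    · rwa [dot_lv]
  rcases (min_iff _).1 ⟨w.2, hw⟩ with h | h | h
  · obtain ⟨k, l, hkl, a, b, ha, hb, e⟩ := eq_two_of_type4 h
    by_cases hp0 : (w : GolayPt → ℤ) p = 0
    · obtain ⟨m, hm⟩ := exists_notMem {p, q, k, l}
        (lt_of_le_of_lt Finset.card_le_four (by decide))
      simp only [Finset.mem_insert, Finset.mem_singleton, not_or] at hm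
      have hm0 : (w : GolayPt → ℤ) m = 0 := by rw [e, two_other hm.2.2.1 hm.2.2.2]
      exact key m hm.1 hm.2.1 (Or.inl (by rw [hp0, hm0]; rfl))
    · -- `w = ±(4 e_p - 4 e_q)`
      have hq0 : (w : GolayPt → ℤ) q ≠ 0 := by omega
      have hpk : p = k ∨ p = l := by
        by_contra hcon
        push Not at hcon
        exact hp0 (by rw [e, two_other hcon.1 hcon.2])
      have hqk : q = k ∨ q = l := by
        by_contra hcon
        push Not at hcon
        exact hq0 (by rw [e, two_other hcon.1 hcon.2])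
      have hz : ∀ i, i ≠ p → i ≠ q → (w : GolayPt → ℤ) i = 0 := by
        intro i hi1 hi2
        rw [e]
        rcases hpk with rfl | rfl <;> rcases hqk with rfl | rfl
        · exact absurd rfl hpq
        · exact two_other hi1 hi2 _ _
        · exact two_other hi2 hi1 _ _
        · exact absurd rfl hpq
      obtain ⟨O, hO, hpO, hqO, -⟩ := exists_octad p q q
      obtain ⟨f, hf, hf2, -⟩ := exists_octad_vec hO
      refine ⟨f, hf, by rw [hf2 p hpO, hf2 q hqO]; rfl, Or.inl ?_⟩
      show dotInt _ _ = 0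
      unfold dotInt
      rw [Finset.sum_eq_add p q hpq]
      · rw [hf2 p hpO, hf2 q hqO, ← mul_add, hs, mul_zero]
      · intro i _ hi; rw [hz i hi.1 hi.2, mul_zero]
      · intro h'; exact absurd (Finset.mem_univ _) h'
      · intro h'; exact absurd (Finset.mem_univ _) h'
  · obtain ⟨A, hA, h2, h0, -⟩ := h
    have hc : A.card = 8 := Cfsg.Agent.Leech.Code.steiner.1 A hA
    have hval : ∀ i, (w : GolayPt → ℤ) i = 0 ∨ (w : GolayPt → ℤ) i = 2 ∨
        (w : GolayPt → ℤ) i = -2 := by
      intro i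
      by_cases hi : i ∈ A
      · exact Or.inr (h2 i hi)
      · exact Or.inl (h0 i hi)
    have h3 := hval p
    obtain ⟨m, hm⟩ := exists_notMem (A ∪ {p, q}) (by
      refine lt_of_le_of_lt (Finset.card_union_le _ _) ?_
      have : ({p, q} : Finset GolayPt).card ≤ 2 := Finset.card_le_two
      omega)
    simp only [Finset.mem_union, Finset.mem_insert, Finset.mem_singleton, not_or] at hm
    have hm0 := h0 m hm.1
    exact key m hm.2.1 hm.2.2 (by rw [hm0]; omega)
  · obtain ⟨k, hk, hk1, -⟩ := h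
    have hkp : k ≠ p := by
      rintro rfl
      have h4 := hk1 q (Ne.symm hpq)
      omega
    have hkq : k ≠ q := by
      rintro rfl
      have h4 := hk1 p hpq
      omega
    obtain ⟨m, hm⟩ := exists_notMem {p, q, k} (lt_of_le_of_lt Finset.card_le_three (by decide))
    simp only [Finset.mem_insert, Finset.mem_singleton, not_or] at hm
    have h3 := hk1 p (Ne.symm hkp)
    have h4 := hk1 m hm.2.2
    exact key m hm.1 hm.2.1 (by omega)

/-- Orthogonal minimal vectors are separated. -/
theorem separated : KS.Separated := by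
  intro v w hv hw hvw
  obtain ⟨p, hp⟩ := exists_notMem ∅ (by simp)
  obtain ⟨q, hq⟩ := exists_notMem {p} (by simp)
  simp only [Finset.mem_singleton] at hq
  have hpq : p ≠ q := Ne.symm hq
  obtain ⟨g, hg⟩ := co0_transitive_min v (lv p q 4 4 hpq four_or four_or) hv
    (sqNorm_lv _ _ _ _ _ _ _)
  have h1 : dot (g • v) (g • w) = 0 := by rw [dot_smul, hvw]
  rw [hg, dot_lv] at h1
  obtain ⟨t, ht, h2, h3⟩ := sep_base hpq (g • w) (by rw [nrm_smul, hw]) (by omega)
  have e1 : dot (g⁻¹ • t) v = 16 := by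
    rw [← dot_smul g, smul_inv_smul, hg, dot_lv']; omega
  have e2 : dot (g⁻¹ • t) w = dot t (g • w) := by
    rw [← dot_smul g, smul_inv_smul]
  refine ⟨g⁻¹ • t, by rw [nrm_smul, ht], ?_, ?_, ?_⟩
  · rw [e1, e2]; rcases h3 with h | h | h <;> rw [h] <;> norm_num
  · rw [e1]; norm_num
  · rw [e2]; rcases h3 with h | h | h <;> rw [h] <;> norm_num

/-! ### The span of the squares of the minimal vectors -/

/-- `v ⊗ v` -/
def T (v : leechLattice) : GolayPt × GolayPt → ℚ := fun ij => rat v ij.1 * rat v ij.2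

/-- `e_i ⊗ e_j + e_j ⊗ e_i` -/
def Esym (i j : GolayPt) : GolayPt × GolayPt → ℚ :=
  fun kl => (Pi.single i 1 : GolayPt → ℚ) kl.1 * (Pi.single j 1 : GolayPt → ℚ) kl.2 +
    (Pi.single j 1 : GolayPt → ℚ) kl.1 * (Pi.single i 1 : GolayPt → ℚ) kl.2

/-- The span of the `v ⊗ v`, `v` minimal. -/
def minSpan : Submodule ℚ (GolayPt × GolayPt → ℚ) :=
  Submodule.span ℚ (T '' {v | nrm v = 32})

theorem rat_lv {p q : GolayPt} (h : p ≠ q) {a b : ℤ} (ha : a = 4 ∨ a = -4)
    (hb : b = 4 ∨ b = -4) : rat (lv p q a b h ha hb) =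
      (a : ℚ) • (Pi.single p 1 : GolayPt → ℚ) + (b : ℚ) • (Pi.single q 1 : GolayPt → ℚ) := by
  funext i
  simp only [rat, lv_coe, Pi.add_apply, Pi.smul_apply, smul_eq_mul, Pi.single_apply]
  unfold two
  by_cases hp : i = p
  · subst hp
    simp [h]
  · by_cases hq : i = q
    · subst hq; simp [hp]
    · simp [hp, hq]

theorem T_lv_sub {p q : GolayPt} (h : p ≠ q) :
    T (lv p q 4 4 h four_or four_or) - T (lv p q 4 (-4) h four_or neg_four_or) =
      (32 : ℚ) • Esym p q := by
  funext kl
  simp only [T, Esym, rat_lv, Pi.sub_apply, Pi.add_apply, Pi.smul_apply, smul_eq_mul]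
  push_cast
  ring

theorem T_lv_add {p q : GolayPt} (h : p ≠ q) :
    T (lv p q 4 4 h four_or four_or) + T (lv p q 4 (-4) h four_or neg_four_or) =
      (16 : ℚ) • Esym p p + (16 : ℚ) • Esym q q := by
  funext kl
  simp only [T, Esym, rat_lv, Pi.add_apply, Pi.smul_apply, smul_eq_mul]
  push_cast
  ring

theorem T_mem {v : leechLattice} (h : nrm v = 32) : T v ∈ minSpan :=
  Submodule.subset_span ⟨v, h, rfl⟩

theorem Esym_mem (i j : GolayPt) : Esym i j ∈ minSpan := by
  have hne : ∀ p q : GolayPt, p ≠ q → Esym p q ∈ minSpan := by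
    intro p q h
    have h1 := minSpan.sub_mem (T_mem (nrm_lv p q 4 4 h four_or four_or))
      (T_mem (nrm_lv p q 4 (-4) h four_or neg_four_or))
    rw [T_lv_sub] at h1
    exact (minSpan.smul_mem_iff (by norm_num : (32 : ℚ) ≠ 0)).1 h1
  have hadd : ∀ p q : GolayPt, p ≠ q → Esym p p + Esym q q ∈ minSpan := by
    intro p q h
    have h1 := minSpan.add_mem (T_mem (nrm_lv p q 4 4 h four_or four_or))
      (T_mem (nrm_lv p q 4 (-4) h four_or neg_four_or))
    rw [T_lv_add, ← smul_add] at h1
    exact (minSpan.smul_mem_iff (by norm_num : (16 : ℚ) ≠ 0)).1 h1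
  by_cases h : i = j
  · subst h
    obtain ⟨k, hk⟩ := exists_notMem {i} (by simp)
    obtain ⟨l, hl⟩ := exists_notMem {i, k} (lt_of_le_of_lt Finset.card_le_two (by decide))
    simp only [Finset.mem_insert, Finset.mem_singleton, not_or] at hk hl
    have h1 := minSpan.sub_mem (minSpan.add_mem (hadd i k (Ne.symm hk)) (hadd i l (Ne.symm hl.1)))
      (hadd k l (Ne.symm hl.2))
    have h2 : Esym i i + Esym k k + (Esym i i + Esym l l) - (Esym k k + Esym l l) =
        (2 : ℚ) • Esym i i := by
      rw [two_smul]; abel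
    rw [h2] at h1
    exact (minSpan.smul_mem_iff (by norm_num : (2 : ℚ) ≠ 0)).1 h1
  · exact hne i j h

theorem T_eq (v : leechLattice) : T v =
    ∑ i, ∑ j, (rat v i * rat v j / 2) • Esym i j := by
  funext kl
  obtain ⟨k, l⟩ := kl
  simp only [T, Finset.sum_apply, Pi.smul_apply, smul_eq_mul, Esym, Pi.single_apply]
  have h1 : ∀ i j : GolayPt, rat v i * rat v j / 2 *
      ((if k = i then (1 : ℚ) else 0) * (if l = j then 1 else 0) +
        (if k = j then (1 : ℚ) else 0) * (if l = i then 1 else 0)) =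
      (if k = i then (if l = j then rat v i * rat v j / 2 else 0) else 0) +
        (if l = i then (if k = j then rat v i * rat v j / 2 else 0) else 0) := by
    intro i j
    split_ifs <;> ring
  simp only [h1, Finset.sum_add_distrib]
  have h2 : ∀ (a b : GolayPt), ∑ i, ∑ j, (if a = i then (if b = j then rat v i * rat v j / 2 else 0)
      else 0) = rat v a * rat v b / 2 := by
    intro a b
    rw [Finset.sum_eq_single a]
    · rw [Finset.sum_eq_single b]
      · rw [if_pos rfl, if_pos rfl]
      · intro j _ hj; rw [if_pos rfl, if_neg (Ne.symm hj)]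
      · intro h; exact absurd (Finset.mem_univ _) h
    · intro i _ hi
      exact Finset.sum_eq_zero fun j _ => if_neg (Ne.symm hi)
    · intro h; exact absurd (Finset.mem_univ _) h
  rw [h2, h2]
  ring

theorem T_mem_minSpan (v : leechLattice) : T v ∈ minSpan := by
  rw [T_eq]
  exact minSpan.sum_mem fun i _ => minSpan.sum_mem fun j _ => minSpan.smul_mem _ (Esym_mem i j)

theorem sum_T_mul (v w : leechLattice) : ∑ ij, T v ij * T w ij = ((dot v w : ℤ) : ℚ) ^ 2 := by
  have h : ((dot v w : ℤ) : ℚ) = ∑ i, rat v i * rat w i := by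
    show ((dotInt _ _ : ℤ) : ℚ) = _
    unfold dotInt rat
    push_cast
    rfl
  rw [h, sq, Finset.sum_mul_sum, Fintype.sum_prod_type]
  refine Finset.sum_congr rfl fun i _ => Finset.sum_congr rfl fun j _ => ?_
  simp only [T]
  ring

section

variable {G V P W : Type*} [Group G] [AddCommGroup V] [Module ℚ V]
  [DistribMulAction G V] [SMulCommClass G ℚ V] [Group P] [AddCommGroup W] [Module ℚ W]
  (M : KS G V P W)

include M

/-- A linear relation between the `v ⊗ v` holds for the `u v`. -/
theorem u_rel (c : leechLattice →₀ ℚ) (h : (c.sum fun v a => a • T v) = 0) :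
    (c.sum fun v a => a • M.u v) = 0 := by
  by_contra hne
  have h1 := M.B_pos _ hne
  have h2 : M.B (c.sum fun v a => a • M.u v) (c.sum fun v a => a • M.u v) = 0 := by
    have e1 : M.B (c.sum fun v a => a • M.u v) (c.sum fun v a => a • M.u v) =
        ∑ v ∈ c.support, ∑ w ∈ c.support, c v * c w * (((dot v w : ℤ) : ℚ) ^ 2 / 256) := by
      unfold Finsupp.sum
      rw [map_sum M.B, LinearMap.sum_apply]
      refine Finset.sum_congr rfl fun v _ => ?_
      rw [map_sum (M.B _)]
      refine Finset.sum_congr rfl fun w _ => ?_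
      rw [LinearMap.map_smul M.B, LinearMap.smul_apply, LinearMap.map_smul (M.B _), smul_eq_mul,
        smul_eq_mul, M.B_uu]
      ring
    have e2 : ∑ v ∈ c.support, ∑ w ∈ c.support, c v * c w * (((dot v w : ℤ) : ℚ) ^ 2 / 256) =
        (∑ ij, (c.sum fun v a => a • T v) ij * (c.sum fun v a => a • T v) ij) / 256 := by
      have e3 : ∀ ij, (c.sum fun v a => a • T v) ij = ∑ v ∈ c.support, c v * T v ij := by
        intro ij
        unfold Finsupp.sum
        rw [Finset.sum_apply]
        rfl
      simp only [e3]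
      simp only [Finset.sum_mul_sum]
      have e4 : ∑ ij, ∑ v ∈ c.support, ∑ w ∈ c.support, c v * T v ij * (c w * T w ij) =
          ∑ v ∈ c.support, ∑ w ∈ c.support, ∑ ij, c v * T v ij * (c w * T w ij) := by
        rw [Finset.sum_comm]
        exact Finset.sum_congr rfl fun v _ => Finset.sum_comm
      rw [e4, Finset.sum_div]
      refine Finset.sum_congr rfl fun v _ => ?_
      rw [Finset.sum_div]
      refine Finset.sum_congr rfl fun w _ => ?_
      rw [← sum_T_mul, Finset.sum_div, Finset.sum_div, Finset.mul_sum]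
      refine Finset.sum_congr rfl fun ij _ => ?_
      ring
    rw [e1, e2, h]
    simp
  rw [h2] at h1
  exact lt_irrefl _ h1

/-- `V_300` is spanned by the `u` of the minimal vectors. -/
theorem uSpan : M.USpan := by
  intro v
  have h1 := T_mem_minSpan v
  rw [minSpan, Finsupp.mem_span_image_iff_linearCombination] at h1
  obtain ⟨l, hl, hv⟩ := h1
  have h2 := u_rel M (l - Finsupp.single v 1) (by
    rw [Finsupp.sum_sub_index, Finsupp.sum_single_index]
    · have : (l.sum fun v a => a • T v) = T v := hv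
      rw [this, one_smul, sub_self]
    · rw [zero_smul]
    · intro a b c
      rw [sub_smul])
  rw [Finsupp.sum_sub_index, Finsupp.sum_single_index] at h2
  · rw [one_smul, sub_eq_zero] at h2
    rw [← h2]
    refine Submodule.sum_mem _ fun w hw => Submodule.smul_mem _ _ (Submodule.subset_span ?_)
    have hw2 : nrm w = 32 := (Finsupp.mem_supported ℚ l).1 hl hw
    obtain ⟨x, hx, h3⟩ := M.lam_surj w hw2
    refine ⟨x, hx, ?_⟩
    rcases h3 with h3 | h3
    · rw [h3]
    · rw [h3, M.u_neg]
  · rw [zero_smul]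
  · intro a b c
    rw [sub_smul]

end

end Cfsg.Agent.MonsterX.LatSep
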