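import Cfsg.Agent.MonsterX.KSLat
import Cfsg.Agent.MonsterX.LatSep
import Cfsg.Agent.MonsterX.LatInst
import Cfsg.Agent.MonsterX.KModel

/-!
Leech lattice inputs in the form used by `KModel`: `PerpFacts`, `Chars`, `MLat` and the span of the
axes.
-/

set_option autoImplicit false

namespace Cfsg.Agent.MonsterX.KSLatModel

open Cfsg Cfsg.Agent.MonsterX.KSide Cfsg.Agent.MonsterX.Lat Cfsg.Agent.MonsterX.KLift
  Cfsg.Agent.MonsterX.KModel Cfsg.Agent.MonsterX.Model

/-- The lattice facts used for `fix_perp`. -/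
theorem perpFacts : Link.PerpFacts where
  pm := fun r hr A h hr' => KSLat.pm_of_perp r hr A h hr'
  span := fun r hr x hx => KSLat.perp_span r hr x hx

section

variable {G V P W : Type*} [Group G] [AddCommGroup V] [Module ℚ V]
  [DistribMulAction G V] [SMulCommClass G ℚ V] [Group P] [AddCommGroup W] [Module ℚ W]
  {M : KS G V P W} {θ : leechLattice → P}

/-- Functions multiplicative on triangles are commutators. -/
theorem chars (L : Lift M θ) : M.Chars := by
  apply KSLat.chars_of M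
  · intro x hx y hy u hu h
    obtain ⟨w, hw, huw⟩ := M.lam_surj u hu
    have h1 : Eqz M (θ u) (θ (M.lam w)) := θ_pm L huw
    have h2 : Eqz M (θ (M.lam w)) w := L.lam w hw
    have h3 : Eqz M (θ u) (θ (M.lam x) * θ (M.lam y)) := by
      rcases h with h | h
      · rw [h, sub_eq_add_neg]
        have h4 : Eqz M (θ (M.lam x + -M.lam y)) (θ (M.lam x) * θ (-M.lam y)) := L.add _ _
        exact h4.trans ((Eqz.refl _).mul (θ_neg L _))
      · rw [h]; exact L.add _ _
    have h5 : Eqz M (θ (M.lam x) * θ (M.lam y)) (x * y) := Eqz.mul (L.lam x hx) (L.lam y hy)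
    have h6 : Eqz M (x * y) w := ((h3.trans h5).symm.trans (h1.trans h2))
    have hlw : M.lam w = u ∨ M.lam w = -u := by
      rcases huw with e | e
      · exact Or.inl e.symm
      · right; rw [e, neg_neg]
    rcases h6 with e | e
    · rw [e]; exact ⟨hw, hlw⟩
    · rw [e, M.lam_z]; exact ⟨M.Sh_z w hw, hlw⟩
  · intro y
    refine ⟨θ y, fun x hx => ?_⟩
    rw [mul_inv_eq_iff_eq_mul, L.comm (M.lam x) y]
    rcases L.lam x hx with e | e
    · rw [e]; exact eq_comm
    · rw [e, mul_assoc, ← mul_assoc (θ y), ← M.zc_comm, mul_assoc]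
      constructor
      · intro h; rw [h]
      · intro h; exact (mul_left_cancel h).symm

end

variable {V P W : Type} [AddCommGroup V] [Module ℚ V] [Group P] [AddCommGroup W] [Module ℚ W]
  {D : MData V} {M : KS ↥D.G V P W} {x₀ : P} {θ : leechLattice → P}

theorem σ_a (H : Link D M x₀) (x : P) (hx : x ∈ M.Sh) : D.σ (M.a x) = M.a (M.zc * x) := by
  rw [M.a_z x hx, KS.a, map_add, map_smul, H.σ_u, H.σ_X x hx, smul_neg, sub_eq_add_neg]

/-- The fields of `MLat`. -/
theorem mLat (H : Link D M x₀) (L : Lift M θ) : MLat D :=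
  LatInst.mlat D M x₀ H.x₀_mem H.F_eq H.u₀_eq H.e₀_eq (H.S_eq L) (σ_a H)

/-- The axes span (field `X_span` of `MOrbit`). -/
theorem X_span (H : Link D M x₀) (L : Lift M θ) (hd : D.d D.j₀ = D.a₀) (b : V) (hb : b ∈ D.X)
    (hspan : ∀ f v, M.Θ f (rat v) ∈ Submodule.span ℚ {t | ∃ k ∈ M.K, t = k • (b - M.z • b)}) :
    Submodule.span ℚ D.X = ⊤ := by
  have hX : ∀ k ∈ M.K, ∀ x ∈ D.X, k • x ∈ D.X := by
    rintro k hk _ ⟨j, g, hg, rfl⟩
    exact ⟨j, (k : V ≃ₗ[ℚ] V) * g, D.C.mul_mem ((H.C_iff k).1 hk) hg, rfl⟩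
  have hS : ∀ x ∈ M.Sh, M.a x ∈ D.X := by
    intro x hx
    have h1 : M.a x ∈ D.S := by rw [H.S_eq L]; exact ⟨x, hx, rfl⟩
    obtain ⟨g, hg, h2⟩ := h1
    exact ⟨D.j₀, g, hg, by rw [hd]; exact h2⟩
  have ha : ∀ x ∈ M.Sh, M.a x ∈ Submodule.span ℚ D.X := fun x hx => Submodule.subset_span (hS x hx)
  have hu : ∀ x ∈ M.Sh, M.u (M.lam x) ∈ Submodule.span ℚ D.X := by
    intro x hx
    have h1 := Submodule.add_mem _ (ha x hx) (ha _ (M.Sh_z x hx))
    rw [M.a_add x hx] at h1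
    exact (Submodule.smul_mem_iff _ (by norm_num : (2 : ℚ) ≠ 0)).1 h1
  have hXx : ∀ x ∈ M.Sh, M.X x ∈ Submodule.span ℚ D.X := by
    intro x hx
    have h1 := Submodule.sub_mem _ (ha x hx) (ha _ (M.Sh_z x hx))
    rw [M.a_sub x hx] at h1
    exact (Submodule.smul_mem_iff _ (by norm_num : (4 : ℚ) ≠ 0)).1 h1
  have hu' : ∀ v, M.u v ∈ Submodule.span ℚ D.X := by
    intro v
    refine (Submodule.span_le.2 ?_) (LatSep.uSpan M v)
    rintro w ⟨x, hx, rfl⟩
    exact hu x hx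
  have hΘ : ∀ f v, M.Θ f (rat v) ∈ Submodule.span ℚ D.X := by
    intro f v
    refine (Submodule.span_le.2 ?_) (hspan f v)
    rintro w ⟨k, hk, rfl⟩
    rw [SetLike.mem_coe, smul_sub]
    exact Submodule.sub_mem _ (Submodule.subset_span (hX k hk b hb))
      (Submodule.subset_span (hX k hk _ (hX M.z (M.ι_mem _) b hb)))
  rw [eq_top_iff, ← M.span, Submodule.span_le]
  rintro w ((⟨v, rfl⟩ | ⟨x, hx, rfl⟩) | ⟨f, v, rfl⟩)
  · exact hu' v
  · exact hXx x hx
  · exact hΘ f v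

end Cfsg.Agent.MonsterX.KSLatModel
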