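import Cfsg.Agent.SporadicStructure.OrthPairs
import Cfsg.Agent.SporadicStructure.MinShapes

/-!
# Permutations of the minimal lines of the rank-24 lattice preserving the absolute values of the
inner products are induced by elements of `Co0`.
-/

set_option autoImplicit false
open scoped Pointwise
open Cfsg

namespace Cfsg.Agent.MonsterX.LinesRigid

open Cfsg.Agent.SporadicStructure.LeechBase
open Cfsg.Agent.SporadicStructure.Co0Base
open Cfsg.Agent.SporadicStructure.MinShapes

theorem sum_two {p q : GolayPt} (hpq : p ≠ q) (a : ℤ) (F : GolayPt → ℤ) :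
    ∑ r, F r * (if r = p then 1 else if r = q then a else 0) = F p + a * F q := by
  have h : ∀ r, F r * (if r = p then 1 else if r = q then a else 0) =
      (if r = p then F r else 0) + (if r = q then a * F r else 0) := by
    intro r
    by_cases h1 : r = p
    · subst h1
      simp [hpq]
    · by_cases h2 : r = q
      · subst h2
        simp [h1, mul_comm]
      · simp [h1, h2]
  simp only [h, Finset.sum_add_distrib, Finset.sum_ite_eq', Finset.mem_univ, if_true]

/-- The vector `4 e_p + 4 a e_q`. -/
def dvf (p q : GolayPt) (a : ℤ) : GolayPt → ℤ :=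
  fun r => 4 * (if r = p then 1 else if r = q then a else 0)

theorem dvf_mem {p q : GolayPt} (hpq : p ≠ q) {a : ℤ} (ha : a = 1 ∨ a = -1) :
    dvf p q a ∈ leechLattice := by
  apply four_mul_mem
  have := sum_two hpq a (fun _ => 1)
  simp only [one_mul, mul_one] at this
  rw [this]
  rcases ha with rfl | rfl <;> norm_num

/-- The vector `4 e_p + 4 a e_q` as an element of the lattice. -/
def dv (p q : GolayPt) (a : ℤ) (hpq : p ≠ q) (ha : a = 1 ∨ a = -1) : leechLattice :=
  ⟨dvf p q a, dvf_mem hpq ha⟩

theorem dot_dv (x : GolayPt → ℤ) {p q : GolayPt} (hpq : p ≠ q) (a : ℤ) :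
    dotInt x (dvf p q a) = 4 * (x p + a * x q) := by
  rw [← sum_two hpq a x, Finset.mul_sum]
  simp only [dotInt, dvf]
  exact Finset.sum_congr rfl fun r _ => by ring

theorem dvf_self {p q : GolayPt} (a : ℤ) : dvf p q a p = 4 := by simp [dvf]

theorem dvf_snd {p q : GolayPt} (hpq : p ≠ q) (a : ℤ) : dvf p q a q = 4 * a := by
  simp [dvf, hpq.symm]

theorem dvf_other {p q r : GolayPt} (hp : r ≠ p) (hq : r ≠ q) (a : ℤ) : dvf p q a r = 0 := by
  simp [dvf, hp, hq]

theorem sq_dv {p q : GolayPt} (hpq : p ≠ q) {a : ℤ} (ha : a = 1 ∨ a = -1) :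
    sqNorm (dvf p q a) = 32 := by
  have h : sqNorm (dvf p q a) = dotInt (dvf p q a) (dvf p q a) := by
    simp only [sqNorm, dotInt, sq]
  rw [h, dot_dv _ hpq, dvf_self, dvf_snd hpq]
  rcases ha with rfl | rfl <;> norm_num

/-- A minimal vector with a coordinate `± 4` at `p`. -/
theorem eq_dv_of_four {y : GolayPt → ℤ} (hy : y ∈ leechLattice) (hn : sqNorm y = 32)
    {p : GolayPt} (hp : y p ^ 2 = 16) :
    ∃ (q : GolayPt) (b : ℤ), q ≠ p ∧ (b = 1 ∨ b = -1) ∧ (y = dvf p q b ∨ y = -dvf p q b) := by
  have hpar : (∀ i, y i ≡ 0 [ZMOD 2]) ∨ (∀ i, y i ≡ 1 [ZMOD 2]) := by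
    have h1 := Cfsg.Agent.SporadicStructure.OrthPairs.parity ⟨y, hy⟩
    rcases h1 with h | h
    · left; intro i; have := h i; unfold Int.ModEq; simpa using this
    · right; intro i; have := h i; unfold Int.ModEq; simpa using this
  rcases hpar with he | ho
  · rcases even_case hy hn he with ⟨T, S, hT, hS, rfl⟩ | ⟨O, S, hO, hS, hSe, rfl⟩
    · have hpT : p ∈ T := by
        by_contra h
        simp [vec, h] at hp
      obtain ⟨q, hq, hTq⟩ : ∃ q, q ≠ p ∧ T = {p, q} := by
        obtain ⟨a, b, hab, rfl⟩ := Finset.card_eq_two.1 hT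
        rw [Finset.mem_insert, Finset.mem_singleton] at hpT
        rcases hpT with rfl | rfl
        · exact ⟨b, hab.symm, rfl⟩
        · exact ⟨a, hab, Finset.pair_comm _ _⟩
      subst hTq
      by_cases h1 : p ∈ S <;> by_cases h2 : q ∈ S
      · refine ⟨q, 1, hq, Or.inl rfl, Or.inr ?_⟩
        funext r
        by_cases hr : r = p
        · subst hr; simp [vec, dvf, h1]
        · by_cases hr2 : r = q
          · subst hr2; simp [vec, dvf, h2, hr]
          · simp [vec, dvf, hr, hr2]
      · refine ⟨q, -1, hq, Or.inr rfl, Or.inr ?_⟩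
        funext r
        by_cases hr : r = p
        · subst hr; simp [vec, dvf, h1]
        · by_cases hr2 : r = q
          · subst hr2; simp [vec, dvf, h2, hr]
          · simp [vec, dvf, hr, hr2]
      · refine ⟨q, -1, hq, Or.inr rfl, Or.inl ?_⟩
        funext r
        by_cases hr : r = p
        · subst hr; simp [vec, dvf, h1]
        · by_cases hr2 : r = q
          · subst hr2; simp [vec, dvf, h2, hr]
          · simp [vec, dvf, hr, hr2]
      · refine ⟨q, 1, hq, Or.inl rfl, Or.inl ?_⟩
        funext r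
        by_cases hr : r = p
        · subst hr; simp [vec, dvf, h1]
        · by_cases hr2 : r = q
          · subst hr2; simp [vec, dvf, h2, hr]
          · simp [vec, dvf, hr, hr2]
    · exfalso
      unfold vec at hp
      split_ifs at hp <;> norm_num at hp
  · obtain ⟨j, d, hd, rfl⟩ := odd_case hy hn ho
    exfalso
    unfold odd at hp
    split_ifs at hp <;> norm_num at hp

/-! ### The setting -/

/-- Maps of the lattice preserving minimality and squares of inner products of minimal vectors. -/
structure Pres (f : leechLattice → leechLattice) : Prop where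
  nrm : ∀ x : leechLattice, sqNorm (x : GolayPt → ℤ) = 32 → sqNorm (f x : GolayPt → ℤ) = 32
  dot : ∀ x y : leechLattice, sqNorm (x : GolayPt → ℤ) = 32 → sqNorm (y : GolayPt → ℤ) = 32 →
    dotInt (f x : GolayPt → ℤ) (f y : GolayPt → ℤ) ^ 2 =
      dotInt (x : GolayPt → ℤ) (y : GolayPt → ℤ) ^ 2

theorem Pres.comp {f : leechLattice → leechLattice} (h : Pres f) (g : Co0) :
    Pres fun x => g • f x := by
  refine ⟨fun x hx => ?_, fun x y hx hy => ?_⟩
  · rw [co0_sqNorm]; exact h.nrm x hx
  · rw [co0_dotInt]; exact h.dot x y hx hy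

/-- The 22 points different from the two base points. -/
abbrev Pts : Type := {k : GolayPt // k ≠ none ∧ k ≠ some 0}

/-- The two base points. -/
def base (b : Bool) : GolayPt := if b then some 0 else none

/-- Signs. -/
def sg (b : Bool) : ℤ := if b then 1 else -1

theorem sg_cases (b : Bool) : sg b = 1 ∨ sg b = -1 := by cases b <;> simp [sg]

theorem base_ne (b : Bool) (k : Pts) : base b ≠ k.1 := by
  cases b
  · exact fun h => k.2.1 h.symm
  · exact fun h => k.2.2 h.symm

theorem base_inj {b c : Bool} (h : base b = base c) : b = c := by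
  cases b <;> cases c <;> first | rfl | (exfalso; revert h; decide)

theorem base_not (b : Bool) : base b ≠ base (!b) := by cases b <;> decide

/-- The standard vectors through a base point. -/
def tv (p : Bool) (k : Pts) (a : Bool) : leechLattice :=
  dv (base p) k.1 (sg a) (base_ne p k) (sg_cases a)

theorem tv_coe (p : Bool) (k : Pts) (a : Bool) :
    (tv p k a : GolayPt → ℤ) = dvf (base p) k.1 (sg a) := rfl

theorem tv_norm (p : Bool) (k : Pts) (a : Bool) : sqNorm (tv p k a : GolayPt → ℤ) = 32 :=
  sq_dv (base_ne p k) (sg_cases a)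

/-- The two vectors on the base points. -/
def rv (a : Bool) : leechLattice := dv none (some 0) (sg a) (by decide) (sg_cases a)

theorem rv_norm (a : Bool) : sqNorm (rv a : GolayPt → ℤ) = 32 :=
  sq_dv (by decide) (sg_cases a)

theorem dot_rv (x : GolayPt → ℤ) (a : Bool) :
    dotInt x (rv a : GolayPt → ℤ) = 4 * (x none + sg a * x (some 0)) :=
  dot_dv x (by decide) (sg a)

theorem dot_tv (x : GolayPt → ℤ) (p : Bool) (k : Pts) (a : Bool) :
    dotInt x (tv p k a : GolayPt → ℤ) = 4 * (x (base p) + sg a * x k.1) :=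
  dot_dv x (base_ne p k) (sg a)

theorem dot_neg (x y : GolayPt → ℤ) : dotInt x (-y) = -dotInt x y := by
  simp only [dotInt, Pi.neg_apply, mul_neg, Finset.sum_neg_distrib]

theorem neg_dot (x y : GolayPt → ℤ) : dotInt (-x) y = -dotInt x y := by
  simp only [dotInt, Pi.neg_apply, neg_mul, Finset.sum_neg_distrib]

theorem dot_dv_dv (p : Bool) (k : Pts) (a : Bool) (q : Bool) (l : Pts) (b : Bool) :
    dotInt (dvf (base p) k.1 (sg a)) (dvf (base q) l.1 (sg b)) =
      16 * ((if p = q then 1 else 0) + (if k = l then sg a * sg b else 0)) := by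
  rw [dot_dv _ (base_ne q l)]
  have h1 : dvf (base p) k.1 (sg a) (base q) = if p = q then 4 else 0 := by
    by_cases h : p = q
    · subst h; simp [dvf]
    · have h2 : base q ≠ base p := fun h3 => h (base_inj h3).symm
      rw [if_neg h, dvf_other h2 (base_ne q k)]
  have h2 : dvf (base p) k.1 (sg a) l.1 = if k = l then 4 * sg a else 0 := by
    by_cases h : k = l
    · subst h; rw [if_pos rfl, dvf_snd (base_ne p k)]
    · rw [if_neg h, dvf_other (base_ne p l).symm (fun h3 => h (Subtype.ext h3.symm))]
  rw [h1, h2]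
  by_cases h3 : p = q <;> by_cases h4 : k = l <;> simp [h3, h4] <;> ring

/-- Two points distinct from given ones. -/
theorem exists_third (k l : Pts) : ∃ m : Pts, m ≠ k ∧ m ≠ l := by
  by_contra hcon
  push Not at hcon
  have h : ∀ m : Pts, m = k ∨ m = l := fun m => by
    by_cases hm : m = k
    · exact Or.inl hm
    · exact Or.inr (hcon m hm)
  let a : Pts := ⟨some 1, by decide, by decide⟩
  let b : Pts := ⟨some 2, by decide, by decide⟩
  let c : Pts := ⟨some 3, by decide, by decide⟩
  have hab : a ≠ b := by decide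
  have hac : a ≠ c := by decide
  have hbc : b ≠ c := by decide
  rcases h a with h1 | h1 <;> rcases h b with h2 | h2 <;> rcases h c with h3 | h3 <;>
    first
    | exact hab (h1.trans h2.symm)
    | exact hac (h1.trans h3.symm)
    | exact hbc (h2.trans h3.symm)

section main

variable {f : leechLattice → leechLattice} (hf : Pres f)
  (hr : ∀ a, f (rv a) = rv a)

include hf hr

theorem base_sq (x : leechLattice) (hx : sqNorm (x : GolayPt → ℤ) = 32) (a : Bool) :
    ((f x : GolayPt → ℤ) none + sg a * (f x : GolayPt → ℤ) (some 0)) ^ 2 =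
      ((x : GolayPt → ℤ) none + sg a * (x : GolayPt → ℤ) (some 0)) ^ 2 := by
  have h := hf.dot x (rv a) hx (rv_norm a)
  rw [hr a, dot_rv, dot_rv] at h
  nlinarith

theorem img (p : Bool) (k : Pts) (a : Bool) : ∃ (P : Bool) (K : Pts) (B : Bool),
    ((f (tv p k a) : leechLattice) : GolayPt → ℤ) = dvf (base P) K.1 (sg B) ∨
      ((f (tv p k a) : leechLattice) : GolayPt → ℤ) = -dvf (base P) K.1 (sg B) := by
  have h1 := base_sq hf hr (tv p k a) (tv_norm p k a) true
  have h2 := base_sq hf hr (tv p k a) (tv_norm p k a) false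
  set y : GolayPt → ℤ := ((f (tv p k a) : leechLattice) : GolayPt → ℤ) with hy
  have hymem : y ∈ leechLattice := (f (tv p k a)).2
  have hyn : sqNorm y = 32 := hf.nrm _ (tv_norm p k a)
  have hval : ((tv p k a : leechLattice) : GolayPt → ℤ) none ^ 2 +
      ((tv p k a : leechLattice) : GolayPt → ℤ) (some 0) ^ 2 = 16 ∧
      ((tv p k a : leechLattice) : GolayPt → ℤ) none *
      ((tv p k a : leechLattice) : GolayPt → ℤ) (some 0) = 0 := by
    rw [tv_coe]
    cases p
    · have e1 : dvf (base false) k.1 (sg a) none = 4 := dvf_self (p := none) (sg a)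
      have e2 : dvf (base false) k.1 (sg a) (some 0) = 0 :=
        dvf_other (by decide) k.2.2.symm (sg a)
      rw [e1, e2]; norm_num
    · have e1 : dvf (base true) k.1 (sg a) (some 0) = 4 := dvf_self (p := some 0) (sg a)
      have e2 : dvf (base true) k.1 (sg a) none = 0 :=
        dvf_other (by decide) k.2.1.symm (sg a)
      rw [e1, e2]; norm_num
  obtain ⟨hv1, hv2⟩ := hval
  simp only [sg, if_true, Bool.false_eq_true, if_false] at h1 h2
  have h3 : y none * y (some 0) = 0 := by nlinarith
  have h4 : y none ^ 2 + y (some 0) ^ 2 = 16 := by nlinarith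
  rcases mul_eq_zero.1 h3 with h5 | h5
  · rw [h5] at h4
    obtain ⟨q, b, hq, hb, hyq⟩ := eq_dv_of_four hymem hyn (p := some 0) (by linarith)
    have hq1 : q ≠ none := by
      rintro rfl
      rcases hyq with h | h <;> rw [h] at h5 <;>
        rcases hb with rfl | rfl <;> simp [dvf] at h5
    refine ⟨true, ⟨q, hq1, hq⟩, decide (b = 1), ?_⟩
    have : sg (decide (b = 1)) = b := by rcases hb with rfl | rfl <;> simp [sg]
    rw [this]
    exact hyq
  · rw [h5] at h4
    obtain ⟨q, b, hq, hb, hyq⟩ := eq_dv_of_four hymem hyn (p := none) (by linarith)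
    have hq1 : q ≠ some 0 := by
      rintro rfl
      rcases hyq with h | h <;> rw [h] at h5 <;>
        rcases hb with rfl | rfl <;> simp [dvf] at h5
    refine ⟨false, ⟨q, hq, hq1⟩, decide (b = 1), ?_⟩
    have : sg (decide (b = 1)) = b := by rcases hb with rfl | rfl <;> simp [sg]
    rw [this]
    exact hyq

end main

section choice

variable {f : leechLattice → leechLattice} (hf : Pres f)
  (P : Bool → Pts → Bool → Bool) (K : Bool → Pts → Bool → Pts) (B : Bool → Pts → Bool → Bool)
  (hPKB : ∀ p k a,
    ((f (tv p k a) : leechLattice) : GolayPt → ℤ) = dvf (base (P p k a)) (K p k a).1 (sg (B p k a)) ∨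
      ((f (tv p k a) : leechLattice) : GolayPt → ℤ) =
        -dvf (base (P p k a)) (K p k a).1 (sg (B p k a)))

include hf hPKB

theorem rel (p : Bool) (k : Pts) (a : Bool) (q : Bool) (l : Pts) (b : Bool) :
    ((if P p k a = P q l b then 1 else 0 : ℤ) +
        (if K p k a = K q l b then sg (B p k a) * sg (B q l b) else 0)) ^ 2 =
      ((if p = q then 1 else 0) + (if k = l then sg a * sg b else 0)) ^ 2 := by
  have h := hf.dot (tv p k a) (tv q l b) (tv_norm p k a) (tv_norm q l b)
  rw [tv_coe p k a, tv_coe q l b, dot_dv_dv] at h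
  have h2 : dotInt ((f (tv p k a) : leechLattice) : GolayPt → ℤ)
      ((f (tv q l b) : leechLattice) : GolayPt → ℤ) ^ 2 =
      (16 * ((if P p k a = P q l b then 1 else 0) +
        (if K p k a = K q l b then sg (B p k a) * sg (B q l b) else 0))) ^ 2 := by
    rcases hPKB p k a with h1 | h1 <;> rcases hPKB q l b with h3 | h3 <;> rw [h1, h3] <;>
      simp only [dot_neg, neg_dot, dot_dv_dv] <;> ring
  rw [h2] at h
  nlinarith

theorem rel1 (p : Bool) {k l : Pts} (hkl : k ≠ l) (a b : Bool) :
    (P p k a = P p l b ∧ K p k a ≠ K p l b) ∨ (P p k a ≠ P p l b ∧ K p k a = K p l b) := by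
  have h := rel hf P K B hPKB p k a p l b
  rw [if_pos rfl, if_neg hkl] at h
  by_cases h1 : P p k a = P p l b <;> by_cases h2 : K p k a = K p l b
  · exfalso
    rw [if_pos h1, if_pos h2] at h
    rcases sg_cases (B p k a) with h3 | h3 <;> rcases sg_cases (B p l b) with h4 | h4 <;>
      rw [h3, h4] at h <;> norm_num at h
  · exact Or.inl ⟨h1, h2⟩
  · exact Or.inr ⟨h1, h2⟩
  · exfalso
    rw [if_neg h1, if_neg h2] at h
    norm_num at h

theorem rel4 {p q : Bool} (hpq : p ≠ q) (k : Pts) (a b : Bool) :
    (P p k a = P q k b ∧ K p k a ≠ K q k b) ∨ (P p k a ≠ P q k b ∧ K p k a = K q k b) := by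
  have h := rel hf P K B hPKB p k a q k b
  rw [if_neg hpq, if_pos rfl] at h
  have h0 : (0 + sg a * sg b) ^ 2 = 1 := by
    rcases sg_cases a with h3 | h3 <;> rcases sg_cases b with h4 | h4 <;> rw [h3, h4] <;> norm_num
  rw [h0] at h
  by_cases h1 : P p k a = P q k b <;> by_cases h2 : K p k a = K q k b
  · exfalso
    rw [if_pos h1, if_pos h2] at h
    rcases sg_cases (B p k a) with h3 | h3 <;> rcases sg_cases (B q k b) with h4 | h4 <;>
      rw [h3, h4] at h <;> norm_num at h
  · exact Or.inl ⟨h1, h2⟩
  · exact Or.inr ⟨h1, h2⟩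
  · exfalso
    rw [if_neg h1, if_neg h2] at h
    norm_num at h

theorem rel3 {p q : Bool} (hpq : p ≠ q) {k l : Pts} (hkl : k ≠ l) (a b : Bool)
    (h1 : P p k a = P q l b) : K p k a = K q l b := by
  have h := rel hf P K B hPKB p k a q l b
  rw [if_neg hpq, if_neg hkl] at h
  by_contra h2
  rw [if_pos h1, if_neg h2] at h
  norm_num at h

theorem rel2 (p : Bool) (k : Pts) (h1 : P p k true = P p k false) :
    K p k true = K p k false ∧ sg (B p k false) = -sg (B p k true) := by
  have h := rel hf P K B hPKB p k true p k false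
  rw [if_pos rfl, if_pos rfl, if_pos h1] at h
  by_cases h2 : K p k true = K p k false
  · refine ⟨h2, ?_⟩
    rw [if_pos h2] at h
    rcases sg_cases (B p k true) with h3 | h3 <;> rcases sg_cases (B p k false) with h4 | h4
    · exfalso; rw [h3, h4] at h; norm_num [sg] at h
    · rw [h3, h4]
    · rw [h3, h4]; norm_num
    · exfalso; rw [h3, h4] at h; norm_num [sg] at h
  · exfalso
    rw [if_neg h2] at h
    norm_num [sg] at h

/-- The base point attached to a type does not depend on the vector. -/
theorem P_const (p : Bool) (k l : Pts) (a b : Bool) : P p k a = P p l b := by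
  have key : ∀ (k l : Pts) (a b : Bool), k ≠ l → P p k a = P p l b := by
    intro k l a b hkl
    by_contra hne
    obtain ⟨m, hmk, hml⟩ := exists_third k l
    have r1 := rel1 hf P K B hPKB p hkl a b
    have r2 := rel1 hf P K B hPKB p hmk a a
    have r3 := rel1 hf P K B hPKB p hml a b
    have e1 : K p k a = K p l b := by
      rcases r1 with ⟨h, _⟩ | ⟨_, h⟩
      · exact absurd h hne
      · exact h
    rcases r2 with ⟨h2, h2'⟩ | ⟨h2, h2'⟩ <;> rcases r3 with ⟨h3, h3'⟩ | ⟨h3, h3'⟩
    · exact hne (h2.symm.trans h3)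
    · exact h2' (h3'.trans e1.symm)
    · exact h3' (h2'.trans e1)
    · revert h2 h3 hne
      cases P p k a <;> cases P p l b <;> cases P p m a <;> simp
  by_cases hkl : k = l
  · subst hkl
    obtain ⟨m, hmk, -⟩ := exists_third k k
    exact (key k m a a hmk.symm).trans (key m k a b hmk)
  · exact key k l a b hkl

theorem P_ne (k l : Pts) (a b : Bool) : P false k a ≠ P true l b := by
  intro hcon
  obtain ⟨m, hmk, -⟩ := exists_third k k
  obtain ⟨n, hnk, hnm⟩ := exists_third k m
  have h1 : ∀ (m : Pts), P false k a = P true m b := fun m =>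
    hcon.trans (P_const hf P K B hPKB true l m b b)
  have h2 := rel3 hf P K B hPKB (by decide : (false : Bool) ≠ true) hmk.symm a b (h1 m)
  have h3 := rel3 hf P K B hPKB (by decide : (false : Bool) ≠ true) hnk.symm a b (h1 n)
  rcases rel1 hf P K B hPKB true hnm b b with ⟨_, h⟩ | ⟨h, _⟩
  · exact h (h3.symm.trans h2)
  · exact h (P_const hf P K B hPKB true n m b b)

theorem K_const (p : Bool) (k : Pts) (a : Bool) : K p k a = K false k true := by
  have h1 : ∀ p, K p k false = K p k true := fun p =>
    (rel2 hf P K B hPKB p k (P_const hf P K B hPKB p k k true false)).1.symm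
  have h2 : K true k true = K false k true := by
    rcases rel4 hf P K B hPKB (by decide : (false : Bool) ≠ true) k true true with ⟨h, _⟩ | ⟨_, h⟩
    · exact absurd h (P_ne hf P K B hPKB k k true true)
    · exact h.symm
  cases p <;> cases a
  · exact h1 false
  · rfl
  · exact (h1 true).trans h2
  · exact h2

theorem K_inj {k l : Pts} (hkl : k ≠ l) : K false k true ≠ K false l true := by
  rcases rel1 hf P K B hPKB false hkl true true with ⟨_, h⟩ | ⟨h, _⟩
  · exact h
  · exact absurd (P_const hf P K B hPKB false k l true true) h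

theorem B_neg (p : Bool) (k : Pts) : sg (B p k false) = -sg (B p k true) :=
  (rel2 hf P K B hPKB p k (P_const hf P K B hPKB p k k true false)).2

end choice


/-! ### Consequences for all minimal vectors -/

section general

variable {f : leechLattice → leechLattice} (hf : Pres f) (hr : ∀ a, f (rv a) = rv a)

include hf hr

/-- There are a permutation `σ` of the points and signs `e` such that the products
`x_∞ x_q` and the sums of squares are preserved. -/
theorem exists_perm : ∃ (σ : Equiv.Perm GolayPt) (e : GolayPt → ℤ),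
    (∀ q, e q = 1 ∨ e q = -1) ∧ e none = 1 ∧
    ∀ x : leechLattice, sqNorm (x : GolayPt → ℤ) = 32 → ∀ q, q ≠ none →
      (x : GolayPt → ℤ) none * (x : GolayPt → ℤ) q =
        e q * ((f x : GolayPt → ℤ) (σ none) * (f x : GolayPt → ℤ) (σ q)) ∧
      (x : GolayPt → ℤ) none ^ 2 + (x : GolayPt → ℤ) q ^ 2 =
        (f x : GolayPt → ℤ) (σ none) ^ 2 + (f x : GolayPt → ℤ) (σ q) ^ 2 := by
  choose P K B hPKB using img hf hr
  let k0 : Pts := ⟨some 1, by decide, by decide⟩
  set c0 := P false k0 true with hc0
  set c1 := P true k0 true with hc1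
  have hc01 : c0 ≠ c1 := P_ne hf P K B hPKB k0 k0 true true
  let s : GolayPt → GolayPt := fun q =>
    if h : q ≠ none ∧ q ≠ some 0 then (K false ⟨q, h⟩ true).1
    else if q = none then base c0 else base c1
  have s0 : s none = base c0 := by simp [s]
  have s1 : s (some 0) = base c1 := by simp [s]
  have sk : ∀ k : Pts, s k.1 = (K false k true).1 := by
    intro k
    simp only [s]
    rw [dif_pos k.2]
  have hs : Function.Injective s := by
    intro p q hpq
    by_cases hp : p ≠ none ∧ p ≠ some 0
    · by_cases hq : q ≠ none ∧ q ≠ some 0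
      · by_contra hne
        have h1 := sk ⟨p, hp⟩
        have h2 := sk ⟨q, hq⟩
        simp only at h1 h2
        exact K_inj hf P K B hPKB (k := ⟨p, hp⟩) (l := ⟨q, hq⟩)
          (fun h => hne (congrArg Subtype.val h)) (Subtype.ext (by rw [← h1, ← h2, hpq]))
      · exfalso
        have h1 := sk ⟨p, hp⟩
        simp only at h1
        have h2 : q = none ∨ q = some 0 := by
          by_contra hcon
          push Not at hcon
          exact hq hcon
        rcases h2 with rfl | rfl
        · rw [s0, h1] at hpq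
          exact base_ne c0 _ hpq.symm
        · rw [s1, h1] at hpq
          exact base_ne c1 _ hpq.symm
    · have h3 : p = none ∨ p = some 0 := by
        by_contra hcon
        push Not at hcon
        exact hp hcon
      by_cases hq : q ≠ none ∧ q ≠ some 0
      · exfalso
        have h1 := sk ⟨q, hq⟩
        simp only at h1
        rcases h3 with rfl | rfl
        · rw [s0, h1] at hpq
          exact base_ne c0 _ hpq
        · rw [s1, h1] at hpq
          exact base_ne c1 _ hpq
      · have h2 : q = none ∨ q = some 0 := by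
          by_contra hcon
          push Not at hcon
          exact hq hcon
        rcases h3 with rfl | rfl <;> rcases h2 with rfl | rfl
        · rfl
        · exfalso; rw [s0, s1] at hpq; exact hc01 (base_inj hpq)
        · exfalso; rw [s0, s1] at hpq; exact hc01 (base_inj hpq).symm
        · rfl
  let σ : Equiv.Perm GolayPt := Equiv.ofBijective s (Finite.injective_iff_bijective.1 hs)
  have hσ : ∀ q, σ q = s q := fun q => rfl
  let e : GolayPt → ℤ := fun q =>
    if h : q ≠ none ∧ q ≠ some 0 then sg (B false ⟨q, h⟩ true) else 1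
  refine ⟨σ, e, ?_, ?_, ?_⟩
  · intro q
    by_cases h : q ≠ none ∧ q ≠ some 0
    · simp only [e]; rw [dif_pos h]; exact sg_cases _
    · simp only [e]; rw [dif_neg h]; exact Or.inl rfl
  · simp [e]
  · intro x hx q hq
    rw [hσ, hσ, s0]
    by_cases hq0 : q = some 0
    · subst hq0
      rw [s1]
      have e1 : e (some 0) = 1 := by simp [e]
      rw [e1, one_mul]
      have h1 := base_sq hf hr x hx true
      have h2 := base_sq hf hr x hx false
      simp only [sg, if_true, Bool.false_eq_true, if_false] at h1 h2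
      have h3 : (f x : GolayPt → ℤ) (base c0) * (f x : GolayPt → ℤ) (base c1) =
          (f x : GolayPt → ℤ) none * (f x : GolayPt → ℤ) (some 0) ∧
          (f x : GolayPt → ℤ) (base c0) ^ 2 + (f x : GolayPt → ℤ) (base c1) ^ 2 =
          (f x : GolayPt → ℤ) none ^ 2 + (f x : GolayPt → ℤ) (some 0) ^ 2 := by
        rcases hb0 : c0 with _ | _ <;> rcases hb1 : c1 with _ | _
        · exact absurd (hb0.trans hb1.symm) hc01
        · simp [base]
        · simp [base]; constructor <;> ring
        · exact absurd (hb0.trans hb1.symm) hc01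
      rw [h3.1, h3.2]
      constructor <;> nlinarith
    · have hk : q ≠ none ∧ q ≠ some 0 := ⟨hq, hq0⟩
      have hsk := sk ⟨q, hk⟩
      simp only at hsk
      rw [hsk]
      have e1 : e q = sg (B false ⟨q, hk⟩ true) := by simp only [e]; rw [dif_pos hk]
      rw [e1]
      have hd : ∀ a, ((f x : GolayPt → ℤ) (base c0) + sg (B false ⟨q, hk⟩ a) *
          (f x : GolayPt → ℤ) (K false ⟨q, hk⟩ true).1) ^ 2 =
          ((x : GolayPt → ℤ) none + sg a * (x : GolayPt → ℤ) q) ^ 2 := by
        intro a
        have h1 := hf.dot x (tv false ⟨q, hk⟩ a) hx (tv_norm _ _ _)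
        rw [dot_tv] at h1
        have hP : P false ⟨q, hk⟩ a = c0 := P_const hf P K B hPKB false _ _ _ _
        have hK : K false ⟨q, hk⟩ a = K false ⟨q, hk⟩ true := K_const hf P K B hPKB _ _ _
        have h2 : dotInt (f x : GolayPt → ℤ)
            ((f (tv false ⟨q, hk⟩ a) : leechLattice) : GolayPt → ℤ) ^ 2 =
            (4 * ((f x : GolayPt → ℤ) (base c0) + sg (B false ⟨q, hk⟩ a) *
              (f x : GolayPt → ℤ) (K false ⟨q, hk⟩ true).1)) ^ 2 := by
          rcases hPKB false ⟨q, hk⟩ a with h3 | h3 <;> rw [h3, hP, hK]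
          · rw [dot_dv _ (base_ne _ _)]
          · rw [dot_neg, dot_dv _ (base_ne _ _)]; ring
        rw [h2] at h1
        have h4 : base false = none := rfl
        rw [h4] at h1
        nlinarith
      have h1 := hd true
      have h2 := hd false
      rw [B_neg hf P K B hPKB] at h2
      simp only [sg, if_true, Bool.false_eq_true, if_false] at h1 h2
      rcases sg_cases (B false ⟨q, hk⟩ true) with h3 | h3 <;>
        simp only [sg] at h3 <;> simp only [h3, sg] at h1 h2 ⊢ <;> constructor <;> nlinarith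

end general


/-! ### Squares of coordinates and the code -/

theorem sq_step {xi xq yi yq : ℤ} {e : ℤ} (he : e = 1 ∨ e = -1) (h1 : xi * xq = e * (yi * yq))
    (h2 : xi ^ 2 + xq ^ 2 = yi ^ 2 + yq ^ 2) :
    (yi ^ 2 = xi ^ 2 ∧ yq ^ 2 = xq ^ 2) ∨ (yi ^ 2 = xq ^ 2 ∧ yq ^ 2 = xi ^ 2) := by
  have h3 : xi ^ 2 * xq ^ 2 = yi ^ 2 * yq ^ 2 := by
    have : (xi * xq) ^ 2 = (yi * yq) ^ 2 := by
      rw [h1]; rcases he with rfl | rfl <;> ring
    nlinarith
  have h4 : (yi ^ 2 - xi ^ 2) * (yi ^ 2 - xq ^ 2) = 0 := by nlinarith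
  rcases mul_eq_zero.1 h4 with h | h
  · left; constructor <;> linarith
  · right; constructor <;> linarith

/-- The word of the code as signs. -/
def eps (c : Finset GolayPt) (q : GolayPt) : ℤ := if q ∈ c then -1 else 1

theorem odd_eq (m : GolayPt) (c : Finset GolayPt) (q : GolayPt) :
    odd m c q = eps c q * (1 - 4 * if q = m then 1 else 0) := by
  unfold odd eps
  split_ifs <;> norm_num

theorem odd_mem' (m : GolayPt) {c : Finset GolayPt}
    (hc : c ∈ supports (golayCode : Set (GolayPt → ZMod 2))) : odd m c ∈ leechLattice :=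
  signChange_mem hc (minus3_mem m)

theorem sqNorm_odd (m : GolayPt) (c : Finset GolayPt) : sqNorm (odd m c) = 32 := by
  have h : ∀ q, odd m c q ^ 2 = 1 + 8 * if q = m then 1 else 0 := by
    intro q
    by_cases h1 : q ∈ c <;> by_cases h2 : q = m <;> simp [odd, h1, h2]
  simp only [sqNorm, h, Finset.sum_add_distrib, ← Finset.mul_sum, Finset.sum_ite_eq',
    Finset.mem_univ, if_true]
  rw [Finset.sum_const, card_pt]
  norm_num

/-- The vectors `odd m c` as lattice elements. -/
def ov (m : GolayPt) (c : Finset GolayPt)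
    (hc : c ∈ supports (golayCode : Set (GolayPt → ZMod 2))) : leechLattice :=
  ⟨odd m c, odd_mem' m hc⟩

theorem dot_ov (x : GolayPt → ℤ) (m : GolayPt) (c : Finset GolayPt) :
    dotInt x (odd m c) = ∑ q, eps c q * x q - 4 * (eps c m * x m) := by
  simp only [dotInt, odd_eq]
  have h : ∀ q, x q * (eps c q * (1 - 4 * if q = m then 1 else 0)) =
      eps c q * x q - 4 * (if q = m then eps c q * x q else 0) := by
    intro q
    by_cases h2 : q = m <;> simp [h2] <;> ring
  simp only [h, Finset.sum_sub_distrib, ← Finset.mul_sum, Finset.sum_ite_eq', Finset.mem_univ,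
    if_true]

/-- A nonzero integer vector has nonzero inner product with some sign vector of the code. -/
theorem exists_word (x : GolayPt → ℤ) (hx : x ≠ 0) :
    ∃ c ∈ supports (golayCode : Set (GolayPt → ZMod 2)), ∑ q, eps c q * x q ≠ 0 := by
  classical
  by_contra hcon
  push Not at hcon
  apply hx
  funext k
  have hE : ∀ (w : GolayPt → ZMod 2) (q : GolayPt),
      eps (support₂ w) q = if w q = 0 then 1 else -1 := by
    intro w q
    by_cases h : w q = 0
    · simp [eps, support₂, h]
    · simp [eps, support₂, h]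
  have hadd : ∀ (v w : GolayPt → ZMod 2) (q : GolayPt),
      (if (v + w) q = 0 then (1 : ℤ) else -1) =
        (if v q = 0 then 1 else -1) * (if w q = 0 then 1 else -1) := by
    intro v w q
    rw [Pi.add_apply]
    generalize v q = a
    generalize w q = b
    revert a b
    decide
  -- the sum over the code
  have hS : ∀ w : golayCode, ∑ q, (if w.1 q = 0 then (1 : ℤ) else -1) * x q = 0 := by
    intro w
    have := hcon (support₂ w.1) ((support₂_mem_supports w.1).2 w.2)
    simpa only [hE] using this
  have horth : ∀ q, q ≠ k → ∑ w : golayCode, (if w.1 k = 0 then (1 : ℤ) else -1) *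
      (if w.1 q = 0 then 1 else -1) = 0 := by
    intro q hq
    obtain ⟨t, ht⟩ := Cfsg.Agent.SporadicA.Co0Basic.separate q k hq
    let w0 : golayCode := ⟨qrWord t, Cfsg.Agent.SporadicA.Co0Basic.qrWord_mem t⟩
    have h1 := Fintype.sum_equiv (Equiv.addRight w0)
      (fun w : golayCode => (if (w + w0).1 k = 0 then (1 : ℤ) else -1) *
        (if (w + w0).1 q = 0 then 1 else -1))
      (fun w : golayCode => (if w.1 k = 0 then (1 : ℤ) else -1) *
        (if w.1 q = 0 then 1 else -1)) (fun w => rfl)
    have h2 : (if qrWord t k = 0 then (1 : ℤ) else -1) * (if qrWord t q = 0 then 1 else -1) = -1 := by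
      revert ht
      generalize qrWord t q = a
      generalize qrWord t k = b
      revert a b
      decide
    have h3 : ∀ w : golayCode, (if (w + w0).1 k = 0 then (1 : ℤ) else -1) *
        (if (w + w0).1 q = 0 then 1 else -1) = -((if w.1 k = 0 then (1 : ℤ) else -1) *
        (if w.1 q = 0 then 1 else -1)) := by
      intro w
      have e1 : (w + w0).1 = w.1 + qrWord t := rfl
      rw [e1, hadd, hadd]
      calc _ = ((if w.1 k = 0 then (1 : ℤ) else -1) * (if w.1 q = 0 then 1 else -1)) *
          ((if qrWord t k = 0 then (1 : ℤ) else -1) * (if qrWord t q = 0 then 1 else -1)) := by ring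
        _ = _ := by rw [h2]; ring
    rw [Fintype.sum_congr _ _ h3, Finset.sum_neg_distrib] at h1
    linarith
  have hsum : ∑ w : golayCode, (if w.1 k = 0 then (1 : ℤ) else -1) *
      ∑ q, (if w.1 q = 0 then (1 : ℤ) else -1) * x q = 0 :=
    Finset.sum_eq_zero fun w _ => by rw [hS w, mul_zero]
  have hswap : ∑ w : golayCode, (if w.1 k = 0 then (1 : ℤ) else -1) *
      ∑ q, (if w.1 q = 0 then (1 : ℤ) else -1) * x q =
      ∑ q, (∑ w : golayCode, (if w.1 k = 0 then (1 : ℤ) else -1) *
        (if w.1 q = 0 then 1 else -1)) * x q := by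
    simp only [Finset.mul_sum, Finset.sum_mul]
    rw [Finset.sum_comm]
    exact Finset.sum_congr rfl fun q _ => Finset.sum_congr rfl fun w _ => by ring
  rw [hswap, Finset.sum_eq_single k (fun q _ hq => by rw [horth q hq, zero_mul])
    (fun h => absurd (Finset.mem_univ k) h)] at hsum
  have hone : ∀ w : golayCode, (if w.1 k = 0 then (1 : ℤ) else -1) *
      (if w.1 k = 0 then 1 else -1) = 1 := by
    intro w
    split_ifs <;> norm_num
  rw [Fintype.sum_congr _ _ hone] at hsum
  simp only [Finset.sum_const, nsmul_eq_mul, mul_one] at hsum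
  have hcard : ((Finset.univ : Finset golayCode).card : ℤ) ≠ 0 := by
    have : (Finset.univ : Finset golayCode).Nonempty := ⟨0, Finset.mem_univ _⟩
    exact_mod_cast this.card_pos.ne'
  exact (mul_eq_zero.1 hsum).resolve_left hcard


theorem smul_symmDiff (σ : Equiv.Perm GolayPt) (A B : Finset GolayPt) :
    σ • symmDiff A B = symmDiff (σ • A) (σ • B) := by
  ext i
  simp only [Finset.mem_symmDiff, Finset.mem_smul_finset]
  constructor
  · rintro ⟨j, hj, rfl⟩
    rcases hj with ⟨h1, h2⟩ | ⟨h1, h2⟩
    · refine Or.inl ⟨⟨j, h1, rfl⟩, ?_⟩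
      rintro ⟨k, hk, hk'⟩
      exact h2 ((σ.injective hk') ▸ hk)
    · refine Or.inr ⟨⟨j, h1, rfl⟩, ?_⟩
      rintro ⟨k, hk, hk'⟩
      exact h2 ((σ.injective hk') ▸ hk)
  · rintro (⟨⟨j, hj, rfl⟩, h2⟩ | ⟨⟨j, hj, rfl⟩, h2⟩)
    · exact ⟨j, Or.inl ⟨hj, fun h => h2 ⟨j, h, rfl⟩⟩, rfl⟩
    · exact ⟨j, Or.inr ⟨hj, fun h => h2 ⟨j, h, rfl⟩⟩, rfl⟩

section final

variable {f : leechLattice → leechLattice} (hf : Pres f)
  (σ : Equiv.Perm GolayPt) (e : GolayPt → ℤ) (he : ∀ q, e q = 1 ∨ e q = -1) (he0 : e none = 1)
  (hprod : ∀ x : leechLattice, sqNorm (x : GolayPt → ℤ) = 32 → ∀ q, q ≠ none →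
      (x : GolayPt → ℤ) none * (x : GolayPt → ℤ) q =
        e q * ((f x : GolayPt → ℤ) (σ none) * (f x : GolayPt → ℤ) (σ q)) ∧
      (x : GolayPt → ℤ) none ^ 2 + (x : GolayPt → ℤ) q ^ 2 =
        (f x : GolayPt → ℤ) (σ none) ^ 2 + (f x : GolayPt → ℤ) (σ q) ^ 2)

include hf he hprod

theorem sq_eq (x : leechLattice) (hx : sqNorm (x : GolayPt → ℤ) = 32) (q : GolayPt) :
    (f x : GolayPt → ℤ) (σ q) ^ 2 = (x : GolayPt → ℤ) q ^ 2 := by
  have hstep : ∀ q, q ≠ none → _ := fun q hq =>
    sq_step (he q) (hprod x hx q hq).1 (hprod x hx q hq).2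
  have h0 : (f x : GolayPt → ℤ) (σ none) ^ 2 = (x : GolayPt → ℤ) none ^ 2 := by
    by_contra hne
    have h1 : ∀ q, q ≠ none → (f x : GolayPt → ℤ) (σ none) ^ 2 = (x : GolayPt → ℤ) q ^ 2 ∧
        (f x : GolayPt → ℤ) (σ q) ^ 2 = (x : GolayPt → ℤ) none ^ 2 := fun q hq =>
      (hstep q hq).resolve_left fun h => hne h.1
    have hn1 := hf.nrm x hx
    have hn2 : ∑ q, (f x : GolayPt → ℤ) (σ q) ^ 2 = 32 := by
      rw [← hn1, sqNorm]
      exact Equiv.sum_comp σ fun r => (f x : GolayPt → ℤ) r ^ 2
    have hx2 : ∑ q, (x : GolayPt → ℤ) q ^ 2 = 32 := hx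
    rw [← Finset.add_sum_erase Finset.univ _ (Finset.mem_univ (none : GolayPt)),
      Finset.sum_congr rfl (g := fun _ => (f x : GolayPt → ℤ) (σ none) ^ 2)
        (fun q hq => (h1 q (Finset.mem_erase.1 hq).1).1.symm)] at hx2
    rw [← Finset.add_sum_erase Finset.univ _ (Finset.mem_univ (none : GolayPt)),
      Finset.sum_congr rfl (g := fun _ => (x : GolayPt → ℤ) none ^ 2)
        (fun q hq => (h1 q (Finset.mem_erase.1 hq).1).2)] at hn2
    rw [Finset.sum_const, Finset.card_erase_of_mem (Finset.mem_univ _), card_pt,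
      nsmul_eq_mul] at hx2 hn2
    push_cast at hx2 hn2
    apply hne
    linarith
  by_cases hq : q = none
  · subst hq; exact h0
  · rcases hstep q hq with h | h
    · exact h.2
    · rw [h.2, ← h0, h.1]

include he0

theorem eq_of_ne (x : leechLattice) (hx : sqNorm (x : GolayPt → ℤ) = 32)
    (h0 : (x : GolayPt → ℤ) none ≠ 0) : ∃ s : ℤ, (s = 1 ∨ s = -1) ∧
      ∀ q, (f x : GolayPt → ℤ) (σ q) = s * (e q * (x : GolayPt → ℤ) q) := by
  have h1 := sq_eq hf σ e he hprod x hx none
  obtain ⟨s, hs, h2⟩ : ∃ s : ℤ, (s = 1 ∨ s = -1) ∧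
      (f x : GolayPt → ℤ) (σ none) = s * (x : GolayPt → ℤ) none := by
    rcases sq_eq_sq_iff_eq_or_eq_neg.1 h1 with h | h
    · exact ⟨1, Or.inl rfl, by rw [h, one_mul]⟩
    · exact ⟨-1, Or.inr rfl, by rw [h]; ring⟩
  refine ⟨s, hs, fun q => ?_⟩
  by_cases hq : q = none
  · subst hq; rw [h2, he0, one_mul]
  · have h3 := (hprod x hx q hq).1
    rw [h2] at h3
    have h4 : (x : GolayPt → ℤ) q = e q * (s * (f x : GolayPt → ℤ) (σ q)) := by
      apply mul_left_cancel₀ h0
      rw [h3]; ring
    rw [h4]
    rcases hs with rfl | rfl <;> rcases he q with h5 | h5 <;> rw [h5] <;> ring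

theorem main_step : ∃ g : Co0, ∀ x : leechLattice, sqNorm (x : GolayPt → ℤ) = 32 →
    f x = g • x ∨ f x = -(g • x) := by
  -- the support of the signs
  set D : Finset GolayPt := Finset.univ.filter fun q => e q = -1 with hD
  have hmemD : ∀ q, q ∈ D ↔ e q = -1 := by intro q; simp [hD]
  -- images of words
  have hword : ∀ c ∈ supports (golayCode : Set (GolayPt → ZMod 2)),
      σ • symmDiff c D ∈ supports (golayCode : Set (GolayPt → ZMod 2)) := by
    intro c hc
    have hx : sqNorm ((ov none c hc : leechLattice) : GolayPt → ℤ) = 32 := sqNorm_odd none c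
    have hne : ((ov none c hc : leechLattice) : GolayPt → ℤ) none ≠ 0 := by
      show odd none c none ≠ 0
      unfold odd; split_ifs <;> norm_num
    obtain ⟨s, hs, hfs⟩ := eq_of_ne hf σ e he he0 hprod _ hx hne
    have hmem := (mem_leechLattice_iff_mem_leechSet _).1 (f (ov none c hc)).2
    obtain ⟨m, _, _, hk⟩ := hmem
    have h3 := hk (3 * s)
    have hset : (Finset.univ.filter fun i =>
        ((f (ov none c hc) : leechLattice) : GolayPt → ℤ) i ≡ 3 * s [ZMOD 4]) =
        σ • symmDiff c D := by
      ext r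
      obtain ⟨q, rfl⟩ := σ.surjective r
      have h4 : σ q ∈ σ • symmDiff c D ↔ q ∈ symmDiff c D := by
        rw [show σ q = σ • q from rfl, Finset.smul_mem_smul_finset_iff]
      rw [h4, Finset.mem_filter, Finset.mem_symmDiff, hmemD, hfs q]
      have h5 : ((ov none c hc : leechLattice) : GolayPt → ℤ) q = odd none c q := rfl
      rw [h5, odd_eq]
      have h6 : (1 - 4 * if q = none then (1 : ℤ) else 0) = 1 ∨
          (1 - 4 * if q = none then (1 : ℤ) else 0) = -3 := by
        split_ifs <;> norm_num
      unfold eps Int.ModEq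
      constructor
      · rintro ⟨-, h⟩
        by_cases hqc : q ∈ c
        · left
          refine ⟨hqc, fun h7 => ?_⟩
          rw [if_pos hqc, h7] at h
          rcases hs with rfl | rfl <;> rcases h6 with h6 | h6 <;> rw [h6] at h <;>
            norm_num at h
        · right
          refine ⟨?_, hqc⟩
          rcases he q with h7 | h7
          · exfalso
            rw [if_neg hqc, h7] at h
            rcases hs with rfl | rfl <;> rcases h6 with h6 | h6 <;> rw [h6] at h <;>
              norm_num at h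
          · exact h7
      · intro h
        refine ⟨Finset.mem_univ _, ?_⟩
        rcases h with ⟨hqc, h7⟩ | ⟨h7, hqc⟩
        · have h8 : e q = 1 := (he q).resolve_right h7
          rw [if_pos hqc, h8]
          rcases hs with rfl | rfl <;> rcases h6 with h6 | h6 <;> rw [h6] <;> norm_num
        · rw [if_neg hqc, h7]
          rcases hs with rfl | rfl <;> rcases h6 with h6 | h6 <;> rw [h6] <;> norm_num
    rw [hset] at h3
    exact h3
  have hempty : (∅ : Finset GolayPt) ∈ supports (golayCode : Set (GolayPt → ZMod 2)) := by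
    rw [mem_supports_iff_ind]
    have : ind (∅ : Finset GolayPt) = 0 := by funext i; simp [ind]
    rw [this]; exact Submodule.zero_mem _
  have hσD : σ • D ∈ supports (golayCode : Set (GolayPt → ZMod 2)) := by
    have := hword ∅ hempty
    rwa [show symmDiff (∅ : Finset GolayPt) D = D from bot_symmDiff D] at this
  have hσ : σ ∈ M24 := by
    rw [mem_M24_iff_subset]
    intro c hc
    have h1 := Cfsg.Agent.SporadicA.GolayBase.symmDiff_mem_supports (hword c hc) hσD
    rwa [smul_symmDiff, symmDiff_symmDiff_cancel_right] at h1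
  let g : Co0 := monomial σ hσ (σ • D) hσD
  have hg : ∀ (x : leechLattice) (q : GolayPt),
      ((g • x : leechLattice) : GolayPt → ℤ) (σ q) = e q * (x : GolayPt → ℤ) q := by
    intro x q
    rw [monomial_smul, signedPerm_apply, Equiv.symm_apply_apply]
    have h4 : σ q ∈ σ • D ↔ e q = -1 := by
      rw [show σ q = σ • q from rfl, Finset.smul_mem_smul_finset_iff, hmemD]
    by_cases h : e q = -1
    · rw [if_pos (h4.2 h), h]; ring
    · rw [if_neg (fun h' => h (h4.1 h')), (he q).resolve_right h, one_mul]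
  refine ⟨g, fun x hx => ?_⟩
  -- the transformed image
  set z : GolayPt → ℤ := fun q => e q * (f x : GolayPt → ℤ) (σ q) with hz
  have key : ∃ s : ℤ, (s = 1 ∨ s = -1) ∧ ∀ q, z q = s * (x : GolayPt → ℤ) q := by
    by_cases h0 : (x : GolayPt → ℤ) none = 0
    · have hx0 : (x : GolayPt → ℤ) ≠ 0 := by
        intro h
        rw [h] at hx
        simp [sqNorm] at hx
      obtain ⟨c, hc, hSc⟩ := exists_word _ hx0
      have hdot : ∀ m, (∑ q, eps c q * z q - 4 * (eps c m * z m)) ^ 2 =
          (∑ q, eps c q * (x : GolayPt → ℤ) q - 4 * (eps c m * (x : GolayPt → ℤ) m)) ^ 2 := by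
        intro m
        have hne : ((ov m c hc : leechLattice) : GolayPt → ℤ) none ≠ 0 := by
          show odd m c none ≠ 0
          unfold odd; split_ifs <;> norm_num
        obtain ⟨s, hs, hfs⟩ := eq_of_ne hf σ e he he0 hprod (ov m c hc) (sqNorm_odd m c) hne
        have h1 := hf.dot x (ov m c hc) hx (sqNorm_odd m c)
        have h2 : dotInt (f x : GolayPt → ℤ) ((f (ov m c hc) : leechLattice) : GolayPt → ℤ) =
            s * dotInt z (odd m c) := by
          simp only [dotInt]
          rw [← Equiv.sum_comp σ, Finset.mul_sum]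
          refine Finset.sum_congr rfl fun q _ => ?_
          rw [hfs q, hz]
          show _ = s * (e q * (f x : GolayPt → ℤ) (σ q) * odd m c q)
          have h5 : ((ov m c hc : leechLattice) : GolayPt → ℤ) q = odd m c q := rfl
          rw [h5]; ring
        have h3 : dotInt (x : GolayPt → ℤ) ((ov m c hc : leechLattice) : GolayPt → ℤ) =
            dotInt (x : GolayPt → ℤ) (odd m c) := rfl
        rw [h2, h3, dot_ov, dot_ov] at h1
        rw [← h1]
        rcases hs with rfl | rfl <;> ring
      have hznone : z none = 0 := by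
        have h1 := sq_eq hf σ e he hprod x hx none
        rw [h0] at h1
        have h2 : (f x : GolayPt → ℤ) (σ none) = 0 := by
          have : (f x : GolayPt → ℤ) (σ none) ^ 2 = 0 := by rw [h1]; norm_num
          exact pow_eq_zero_iff (two_ne_zero) |>.1 this
        simp only [hz]
        rw [h2, mul_zero]
      have h1 := hdot none
      rw [h0, hznone] at h1
      simp only [mul_zero, sub_zero] at h1
      obtain ⟨s, hs, h2⟩ : ∃ s : ℤ, (s = 1 ∨ s = -1) ∧
          ∑ q, eps c q * z q = s * ∑ q, eps c q * (x : GolayPt → ℤ) q := by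
        rcases sq_eq_sq_iff_eq_or_eq_neg.1 h1 with h | h
        · exact ⟨1, Or.inl rfl, by rw [h, one_mul]⟩
        · exact ⟨-1, Or.inr rfl, by rw [h]; ring⟩
      refine ⟨s, hs, fun m => ?_⟩
      have h3 := hdot m
      have h4 : z m ^ 2 = (x : GolayPt → ℤ) m ^ 2 := by
        simp only [hz, mul_pow]
        rw [sq_eq hf σ e he hprod x hx m]
        rcases he m with h | h <;> rw [h] <;> ring
      have h5 : eps c m = 1 ∨ eps c m = -1 := by unfold eps; split_ifs <;> simp
      rw [h2] at h3
      apply mul_left_cancel₀ hSc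
      rcases hs with rfl | rfl <;> rcases h5 with h5 | h5 <;> rw [h5] at h3 <;> nlinarith
    · obtain ⟨s, hs, h1⟩ := eq_of_ne hf σ e he he0 hprod x hx h0
      refine ⟨s, hs, fun q => ?_⟩
      simp only [hz]
      rw [h1 q]
      rcases he q with h | h <;> rw [h] <;> ring
  obtain ⟨s, hs, hzx⟩ := key
  have hfx : ∀ q, (f x : GolayPt → ℤ) (σ q) = s * ((g • x : leechLattice) : GolayPt → ℤ) (σ q) := by
    intro q
    rw [hg x q]
    have h1 := hzx q
    simp only [hz] at h1
    have h2 : (f x : GolayPt → ℤ) (σ q) = e q * (e q * (f x : GolayPt → ℤ) (σ q)) := by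
      rcases he q with h | h <;> rw [h] <;> ring
    rw [h2, h1]; ring
  rcases hs with rfl | rfl
  · left
    apply Subtype.ext
    funext r
    obtain ⟨q, rfl⟩ := σ.surjective r
    rw [hfx q, one_mul]
  · right
    apply Subtype.ext
    funext r
    obtain ⟨q, rfl⟩ := σ.surjective r
    rw [hfx q]
    show _ = -((g • x : leechLattice) : GolayPt → ℤ) (σ q)
    ring

end final

/-- **Rigidity of the minimal lines.**  A map from the minimal vectors of the lattice to themselves
which preserves inner products up to sign is induced, up to signs, by an element of `Co0`. -/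
theorem lines_rigid (f : leechLattice → leechLattice)
    (hn : ∀ x : leechLattice, sqNorm (x : GolayPt → ℤ) = 32 → sqNorm (f x : GolayPt → ℤ) = 32)
    (hd : ∀ x y : leechLattice, sqNorm (x : GolayPt → ℤ) = 32 → sqNorm (y : GolayPt → ℤ) = 32 →
      |dotInt (f x : GolayPt → ℤ) (f y : GolayPt → ℤ)| =
        |dotInt (x : GolayPt → ℤ) (y : GolayPt → ℤ)|) :
    ∃ g : Co0, ∀ x : leechLattice, sqNorm (x : GolayPt → ℤ) = 32 →
      f x = g • x ∨ f x = -(g • x) := by
  have hf : Pres f := ⟨hn, fun x y hx hy => by rw [← sq_abs, hd x y hx hy, sq_abs]⟩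
  have h0 : dotInt (rv true : GolayPt → ℤ) (rv false : GolayPt → ℤ) = 0 := by
    rw [dot_rv]
    show 4 * (dvf none (some 0) (sg true) none + sg false * dvf none (some 0) (sg true) (some 0)) = 0
    rw [dvf_self, dvf_snd (by decide)]
    simp [sg]
  have h1 : dotInt (f (rv true) : GolayPt → ℤ) (f (rv false) : GolayPt → ℤ) = 0 := by
    have := hf.dot _ _ (rv_norm true) (rv_norm false)
    rw [h0] at this
    have h2 : dotInt (f (rv true) : GolayPt → ℤ) (f (rv false) : GolayPt → ℤ) ^ 2 = 0 := by
      rw [this]; norm_num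
    exact pow_eq_zero_iff (two_ne_zero) |>.1 h2
  obtain ⟨g₀, hg1, hg2⟩ := Cfsg.Agent.SporadicStructure.OrthPairs.co0_orth_pair_trans
    (f (rv true)) (f (rv false)) (rv true) (rv false) (hf.nrm _ (rv_norm true))
    (hf.nrm _ (rv_norm false)) (rv_norm true) (rv_norm false) h1 h0
  have hf' := hf.comp g₀
  have hr : ∀ a, g₀ • f (rv a) = rv a := by
    intro a
    cases a
    · exact hg2
    · exact hg1
  obtain ⟨σ, e, he, he0, hprod⟩ := exists_perm hf' hr
  obtain ⟨g, hg⟩ := main_step hf' σ e he he0 hprod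
  refine ⟨g₀⁻¹ * g, fun x hx => ?_⟩
  rcases hg x hx with h | h
  · left
    rw [mul_smul, ← h, inv_smul_smul]
  · right
    rw [mul_smul, ← co0_smul_neg, ← h, inv_smul_smul]

end Cfsg.Agent.MonsterX.LinesRigid
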