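import Cfsg.Agent.MonsterX.KLinkInst
import Cfsg.Agent.MonsterX.KSLatModel
import Cfsg.Agent.MonsterX.LinesRigid
import Cfsg.Agent.MonsterX.LatSep

/-!
# The fields of the interface `Model` for the concrete data, from the rows
-/

set_option autoImplicit false

namespace Cfsg.Agent.MonsterX.KFinal

open Cfsg Cfsg.Agent.MonsterX.Space Cfsg.Agent.MonsterX.KAsm Cfsg.Agent.MonsterX.KInst
open Cfsg.Agent.MonsterX.KLinkInst Cfsg.Agent.MonsterX.Model Cfsg.Agent.MonsterX.KModel

variable (R : Rows) (hx : R.g 14 * R.g 13 = x₀)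

include hx in
theorem mGroup : MGroup InstData.M Spor.Co1 := (link R hx).mGroup (lift R)

include hx in
theorem mRep : MRep InstData.M := (link R hx).mRep (lift R) KSLatModel.perpFacts finrank_eq

include hx in
theorem mLat : MLat InstData.M := KSLatModel.mLat (link R hx) (lift R)

end Cfsg.Agent.MonsterX.KFinal
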