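import Cfsg.Agent.MonsterX.KCompat
import Cfsg.Agent.MonsterX.KFinal

/-!
# The `K`-side of the concrete model, without hypotheses

`R` : the rows; `K` : the structure `KS`; `lft` : `Lift`; `lnk` : `Link`; the fields `MGroup`, `MRep`, `MLat` of
`Model` for `InstData.M`; `ker_C` : an element of `C` fixing all `u v` is in `Q`.
-/

set_option autoImplicit false

namespace Cfsg.Agent.MonsterX.KDone

open Cfsg Cfsg.Agent.MonsterX.Space Cfsg.Agent.MonsterX.KAsm Cfsg.Agent.MonsterX.KInst
open Cfsg.Agent.MonsterX.KLinkInst Cfsg.Agent.MonsterX.Model Cfsg.Agent.MonsterX.KModel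
open Cfsg.Agent.Monster.PauliBasic Cfsg.Agent.MonsterX.KSide Cfsg.Agent.MonsterX.KLift

/-- The rows. -/
noncomputable def R : Rows := KRowsInst.rows KCompat.compat

theorem hx : R.g 14 * R.g 13 = x₀ := KRowsInst.base_eq

/-- The structure. -/
noncomputable def K : KS G V (Pauli 12) (B 12 → ℚ) := ks R

/-- The lift of the lattice. -/
theorem lft : Lift K ShortQ.theta := lift R

/-- The link with the data of the model. -/
theorem lnk : Link InstData.M K x₀ := link R hx

theorem mGroup : MGroup InstData.M Spor.Co1 := KFinal.mGroup R hx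

theorem mRep : MRep InstData.M := KFinal.mRep R hx

theorem mLat : MLat InstData.M := KFinal.mLat R hx

/-- An element of `C` which fixes all `u v` is in `Q`. -/
theorem ker_C (k : V ≃ₗ[ℚ] V) (hk : k ∈ Conc.C) (h : ∀ v, k (USide.u v) = USide.u v) : k ∈ Conc.Q := by
  obtain ⟨p, hp⟩ := K.mem_ι_of_trivial ⟨k, Conc.C_le_G hk⟩ (Subgroup.mem_subgroupOf.2 hk) (fun v => h v)
  rw [mem_Q_iff R labFacts]
  exact ⟨p, congrArg Subtype.val hp⟩

end Cfsg.Agent.MonsterX.KDone
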