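import Cfsg.Agent.MonsterX.BabyIrr
import Cfsg.Agent.MonsterX.KModel
import Cfsg.Agent.MonsterX.MainPack

set_option autoImplicit false

/-!
The fields `irr`, `top`, `comm`, `sq` of `MainPack.MBaby` from the `K`-side structures `Link`, `Lift`.
-/

namespace Cfsg.Agent.MonsterX.BabyInst

open Cfsg Cfsg.Agent.MonsterX.KSide Cfsg.Agent.MonsterX.KLift Cfsg.Agent.MonsterX.KModel
open Cfsg.Agent.MonsterX.Model Cfsg.Agent.BabyM.CoTwoMod Cfsg.Agent.MonsterX.BabyIrr
open Cfsg.Agent.SporadicStructure.Co2RankThree (dt dt_comm)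
open Cfsg.Agent.SporadicA.Co0Basic (negCo0 negCo0_apply)

section

variable {G V P W : Type*} [Group G] [AddCommGroup V] [Module ℚ V]
  [DistribMulAction G V] [SMulCommClass G ℚ V] [Group P] [AddCommGroup W] [Module ℚ W]
  {M : KS G V P W} {θ : leechLattice → P}

/-- Two vectors with the same image in `P` modulo the centre are congruent. -/
theorem congr_of_eqz (L : Lift M θ) {v w : leechLattice} (h : Eqz M (θ v) (θ w)) :
    v - w ∈ dbl := by
  have h1 : Eqz M (θ (v - w)) (θ v * θ (-w)) := by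
    rw [sub_eq_add_neg]
    exact L.add v (-w)
  have h2 : Eqz M (θ v * θ (-w)) (θ w * θ w) := h.mul (θ_neg L w)
  have h3 : Eqz M (θ w * θ w) 1 := by
    rcases L.sq (θ w) with e | e
    · exact Or.inl e
    · right; rw [e, mul_one]
  have h4 := (h1.trans h2).trans h3
  rw [mem_dbl]
  apply L.ker
  rcases h4 with e | e
  · exact Or.inl e
  · right; rw [e, mul_one]

theorem eqz_of_congr (L : Lift M θ) {v w : leechLattice} (h : v - w ∈ dbl) :
    Eqz M (θ v) (θ w) := by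
  obtain ⟨z, hz⟩ := mem_dbl.1 h
  have h1 : v = 2 • z + w := by rw [← hz]; abel
  rw [h1]
  have h2 : Eqz M (θ (2 • z + w)) (θ (2 • z) * θ w) := L.add _ _
  have h3 := (θ_two L z).mul (Eqz.refl (M := M) (θ w))
  rw [one_mul] at h3
  exact h2.trans h3

/-- A vector representing an element of `P`. -/
noncomputable def vec (L : Lift M θ) (p : P) : leechLattice := (L.surj p).choose

theorem vec_spec (L : Lift M θ) (p : P) : Eqz M p (θ (vec L p)) := (L.surj p).choose_spec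

theorem vec_congr (L : Lift M θ) {p : P} {v : leechLattice} (h : Eqz M p (θ v)) :
    vec L p - v ∈ dbl := congr_of_eqz L ((vec_spec L p).symm.trans h)

theorem comm_iff_eqz {p q p' q' : P} (h : Eqz M p p') (h' : Eqz M q q') :
    p * q = q * p ↔ p' * q' = q' * p' := by
  have key : ∀ x y : P, (M.zc * x) * y = y * (M.zc * x) ↔ x * y = y * x := by
    intro x y
    rw [mul_assoc, ← mul_assoc y, ← M.zc_comm y, mul_assoc]
    exact mul_right_inj _
  have key' : ∀ x y : P, x * (M.zc * y) = (M.zc * y) * x ↔ x * y = y * x := by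
    intro x y
    rw [eq_comm, key y x, eq_comm]
  rcases h with rfl | rfl <;> rcases h' with rfl | rfl
  · exact Iff.rfl
  · exact key' _ _
  · exact key _ _
  · rw [key, key']

/-- An element of `Co0` acting trivially modulo two is `1` or `-1`. -/
theorem pm_of_trivial (A : Co0) (h : ∀ v : leechLattice, A • v - v ∈ dbl) :
    (∀ v : leechLattice, A • v = v) ∨ (∀ v : leechLattice, A • v = -v) := by
  have h1 : u0 - A • u0 ∈ dbl := by
    rw [← neg_sub]; exact neg_mem (h u0)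
  rcases eq_or_neg_of_congr dt_u0_u0
    (by rw [Cfsg.Agent.SporadicStructure.Co2RankThree.dt_smul, dt_u0_u0]) h1 with h2 | h2
  · left
    have h3 := faithful u0 dt_u0_u0 A h2 (fun x _ => dbl_le_rad u0 (h x))
    intro v
    rw [h3, one_smul]
  · right
    have h3 := faithful u0 dt_u0_u0 (negCo0 * A) (by
      rw [mul_smul, h2]
      show negCo0.1 (-u0) = u0
      rw [negCo0_apply, neg_neg]) (fun x _ => dbl_le_rad u0 (by
        have h4 : (negCo0 * A) • x = -(A • x) := by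
          rw [mul_smul]
          exact negCo0_apply _
        rw [h4]
        have h5 : -(A • x) - x = -(A • x - x) - (x + x) := by abel
        rw [h5]
        exact sub_mem (neg_mem (h x)) (add_self_mem _)))
    intro v
    have h4 : (negCo0 * A) • v = v := by rw [h3, one_smul]
    have h5 : (negCo0 * A) • v = -(A • v) := by
      rw [mul_smul]
      exact negCo0_apply _
    rw [h5] at h4
    exact neg_eq_iff_eq_neg.1 h4

end

variable {V P W : Type} [AddCommGroup V] [Module ℚ V] [Group P] [AddCommGroup W] [Module ℚ W]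
variable {D : MData V} {M : KS ↥D.G V P W} {x₀ : P} {θ : leechLattice → P}

open Classical in
/-- The map from `Q` to the lattice. -/
noncomputable def th (H : Link D M x₀) (L : Lift M θ) (q : V ≃ₗ[ℚ] V) : leechLattice :=
  if h : q ∈ D.Q then vec L ((H.Q_iff q).1 h).choose else 0

theorem th_ι (H : Link D M x₀) (L : Lift M θ) (p : P) :
    th H L (M.ι p : V ≃ₗ[ℚ] V) = vec L p := by
  have h : (M.ι p : V ≃ₗ[ℚ] V) ∈ D.Q := H.ι_mem_Q p
  unfold th
  rw [dif_pos h]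
  congr 1
  have h1 := ((H.Q_iff _).1 h).choose_spec
  exact Link.ι_inj L (Subtype.ext h1.symm)

theorem qData (H : Link D M x₀) (L : Lift M θ) : QData D.C D.z D.Q (th H L) where
  z_sq := (H.mGroup L).z_sq
  z_mem := (H.mGroup L).z_mem
  le := H.Q_le
  cent := (H.mGroup L).z_comm
  inv := by
    intro c hc q hq
    obtain ⟨p, rfl⟩ := (H.Q_iff q).1 hq
    obtain ⟨A, α, T, hA, hconj⟩ := H.conj hc
    rw [hconj p, mul_inv_cancel_right]
    exact H.ι_mem_Q _
  mul := by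
    intro q hq r hr
    obtain ⟨p, rfl⟩ := (H.Q_iff q).1 hq
    obtain ⟨p', rfl⟩ := (H.Q_iff r).1 hr
    have e1 : (M.ι p : V ≃ₗ[ℚ] V) * (M.ι p' : V ≃ₗ[ℚ] V) = (M.ι (p * p') : V ≃ₗ[ℚ] V) := by
      rw [map_mul]; rfl
    rw [e1, th_ι, th_ι, th_ι]
    apply vec_congr
    have h1 : Eqz M (θ (vec L p + vec L p')) (θ (vec L p) * θ (vec L p')) := L.add _ _
    exact ((vec_spec L p).mul (vec_spec L p')).trans h1.symm
  ker := by
    intro q hq h
    obtain ⟨p, rfl⟩ := (H.Q_iff q).1 hq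
    rw [th_ι] at h
    have h1 : Eqz M p 1 := by
      refine (vec_spec L p).trans ?_
      obtain ⟨w, hw⟩ := mem_dbl.1 h
      rw [hw]
      exact θ_two L w
    rcases h1 with e | e
    · left; rw [e, map_one]; rfl
    · right; rw [e, mul_one, H.z_eq]; rfl
  surj := by
    intro x
    refine ⟨(M.ι (θ x) : V ≃ₗ[ℚ] V), H.ι_mem_Q _, ?_⟩
    rw [th_ι]
    exact vec_congr L (Eqz.refl _)
  comm := by
    intro q hq r hr
    obtain ⟨p, rfl⟩ := (H.Q_iff q).1 hq
    obtain ⟨p', rfl⟩ := (H.Q_iff r).1 hr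
    rw [th_ι, th_ι]
    have h1 := L.comm (vec L p) (vec L p')
    have h2 := comm_iff_eqz (vec_spec L p) (vec_spec L p')
    have h3 : (M.ι p : V ≃ₗ[ℚ] V) * (M.ι p' : V ≃ₗ[ℚ] V) =
        (M.ι p' : V ≃ₗ[ℚ] V) * (M.ι p : V ≃ₗ[ℚ] V) ↔ p * p' = p' * p := by
      constructor
      · intro h
        apply Link.ι_inj L
        rw [map_mul, map_mul]
        exact Subtype.ext h
      · intro h
        have := congrArg (fun t => (M.ι t : V ≃ₗ[ℚ] V)) h
        simpa only [map_mul, Subgroup.coe_mul] using this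
    rw [h3, h2, ← h1]
    rfl
  act := by
    intro c hc
    obtain ⟨A, α, T, hA, hconj⟩ := H.conj hc
    refine ⟨A, fun q hq => ?_⟩
    obtain ⟨p, rfl⟩ := (H.Q_iff q).1 hq
    rw [hconj p, mul_inv_cancel_right, th_ι, th_ι]
    apply vec_congr
    exact ((vec_spec L p).map α (α_zc L α)).trans (act_θ L hA _).symm
  onto := by
    intro A
    obtain ⟨k, hk, α, T, A', hA, hpm⟩ := exists_acts M A
    refine ⟨(k : V ≃ₗ[ℚ] V), (H.C_iff k).1 hk, fun q hq => ?_⟩
    obtain ⟨p, rfl⟩ := (H.Q_iff q).1 hq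
    have h1 : (k : V ≃ₗ[ℚ] V) * (M.ι p : V ≃ₗ[ℚ] V) * (k : V ≃ₗ[ℚ] V)⁻¹ =
        (M.ι (α p) : V ≃ₗ[ℚ] V) := by
      have h2 : M.ι (α p) = k * M.ι p * k⁻¹ := by rw [conj_ι hA p, mul_inv_cancel_right]
      rw [h2]; rfl
    rw [h1, th_ι, th_ι]
    apply vec_congr
    exact (((vec_spec L p).map α (α_zc L α)).trans (act_θ L hA _).symm).trans (θ_pm L (hpm _))
  triv := by
    intro c hc h
    obtain ⟨A, α, T, hA, hconj⟩ := H.conj hc
    have h1 : ∀ v : leechLattice, A • v - v ∈ dbl := by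
      intro v
      have h2 := h (M.ι (θ v) : V ≃ₗ[ℚ] V) (H.ι_mem_Q _)
      rw [hconj, mul_inv_cancel_right, th_ι, th_ι] at h2
      have h3 : vec L (α (θ v)) - A • v ∈ dbl := vec_congr L (act_θ L hA v).symm
      have h4 : vec L (θ v) - v ∈ dbl := vec_congr L (Eqz.refl _)
      have h5 : A • v - v = (vec L (α (θ v)) - vec L (θ v)) - (vec L (α (θ v)) - A • v) +
          (vec L (θ v) - v) := by abel
      rw [h5]
      exact add_mem (sub_mem h2 h3) h4
    obtain ⟨p, hp⟩ := M.mem_ι_of_trivial _ (H.mem_K hc) (fun v => by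
      rw [hA.act_u]
      rcases pm_of_trivial A h1 with e | e
      · rw [e]
      · rw [e, M.u_neg])
    exact (H.Q_iff c).2 ⟨p, congrArg Subtype.val hp⟩

theorem t₀_mem (H : Link D M x₀) : D.t₀ ∈ D.Q := by
  rw [H.t₀_eq]; exact H.ι_mem_Q _

theorem th_t₀ (H : Link D M x₀) (L : Lift M θ) : th H L D.t₀ - M.lam x₀ ∈ dbl := by
  rw [H.t₀_eq, th_ι]
  apply vec_congr
  have h : Eqz M (θ (M.lam x₀)) x₀ := L.lam x₀ H.x₀_mem
  exact h.symm

theorem dt_lam (H : Link D M x₀) : dt (M.lam x₀) (M.lam x₀) = 32 := by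
  have h := M.lam_norm x₀ H.x₀_mem
  rw [← KS.dot_self] at h
  exact h

theorem mem_cent {Γ : Type*} [Group Γ] {t c : Γ} :
    c ∈ Subgroup.centralizer ({t} : Set Γ) ↔ c * t = t * c := SimpleCrit.mem_cent

/-- The field `irr` of `MBaby`. -/
theorem irr (H : Link D M x₀) (L : Lift M θ) (R : Subgroup (V ≃ₗ[ℚ] V)) (hRQ : R ≤ D.Q)
    (hRt : ∀ r ∈ R, r * D.t₀ = D.t₀ * r) (hz : D.z ∈ R) (ht : D.t₀ ∈ R)
    (hR : ∀ c ∈ D.C, c * D.t₀ = D.t₀ * c → ∀ r ∈ R, c * r * c⁻¹ ∈ R) :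
    (∀ r ∈ R, r = 1 ∨ r = D.z ∨ r = D.t₀ ∨ r = D.t₀ * D.z) ∨
      ∀ q ∈ D.Q, q * D.t₀ = D.t₀ * q → q ∈ R := by
  rcases (qData H L).irr (t₀_mem H) (dt_lam H) (th_t₀ H L) R hRQ
    (fun r hr => mem_cent.2 (hRt r hr)) hz ht
    (fun c hc hct r hr => hR c hc (mem_cent.1 hct) r hr) with h | h
  · exact Or.inl h
  · right
    intro q hq hqt
    rw [h]
    exact Subgroup.mem_inf.2 ⟨hq, mem_cent.2 hqt⟩

/-- The field `top` of `MBaby`. -/
theorem top (H : Link D M x₀) (L : Lift M θ) (R : Subgroup (V ≃ₗ[ℚ] V))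
    (hQR : ∀ q ∈ D.Q, q * D.t₀ = D.t₀ * q → q ∈ R) (hRC : R ≤ D.C)
    (hRt : ∀ r ∈ R, r * D.t₀ = D.t₀ * r)
    (hR : ∀ c ∈ D.C, c * D.t₀ = D.t₀ * c → ∀ r ∈ R, c * r * c⁻¹ ∈ R) :
    (R ≤ D.Q) ∨ ∀ c ∈ D.C, c * D.t₀ = D.t₀ * c → c ∈ R := by
  rcases (qData H L).top (t₀_mem H) (dt_lam H) (th_t₀ H L) R
    (fun q hq => hQR q (Subgroup.mem_inf.1 hq).1 (mem_cent.1 (Subgroup.mem_inf.1 hq).2)) hRC
    (fun r hr => mem_cent.2 (hRt r hr))
    (fun c hc hct r hr => hR c hc (mem_cent.1 hct) r hr) with h | h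
  · left
    rw [h]
    exact inf_le_left
  · right
    intro c hc hct
    rw [h]
    exact Subgroup.mem_inf.2 ⟨hc, mem_cent.2 hct⟩

/-- The field `comm` of `MBaby`. -/
theorem comm (H : Link D M x₀) (L : Lift M θ) :
    ∃ a ∈ D.Q, a * D.t₀ = D.t₀ * a ∧ ∃ b ∈ D.Q, b * D.t₀ = D.t₀ * b ∧
      a * b * a⁻¹ * b⁻¹ = D.z := by
  obtain ⟨a, ha, hat, b, hb, hbt, h⟩ :=
    (qData H L).commutator (t₀_mem H) (dt_lam H) (th_t₀ H L)
  exact ⟨a, ha, mem_cent.1 hat, b, hb, mem_cent.1 hbt, h⟩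

/-- The field `sq` of `MBaby`. -/
theorem sq (H : Link D M x₀) (L : Lift M θ) :
    ∃ a ∈ D.C, a * D.t₀ = D.t₀ * a ∧ ∃ c ∈ D.C, c * D.t₀ = D.t₀ * c ∧
      D.t₀ = a * (c * a * c⁻¹) := by
  obtain ⟨a, ha, hat, c, hc, hct, h⟩ :=
    (qData H L).exists_sq (t₀_mem H) (dt_lam H) (th_t₀ H L)
  exact ⟨a, H.Q_le ha, mem_cent.1 hat, c, hc, mem_cent.1 hct, h⟩

/-- The structure `MBaby` from the two remaining facts on `τ`. -/
theorem mBaby (H : Link D M x₀) (L : Lift M θ) (h1 : D.τ D.a₀ = D.a₀)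
    (h2 : ∃ q ∈ D.Q, q * D.t₀ = D.t₀ * q ∧ D.τ * q * D.τ⁻¹ ∈ D.C ∧ D.τ * q * D.τ⁻¹ ∉ D.Q) :
    MainPack.MBaby D where
  τ_a₀ := h1
  irr := irr H L
  top := top H L
  τ_q := h2
  comm := comm H L
  sq := sq H L

end Cfsg.Agent.MonsterX.BabyInst
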