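/-
Operator identities of the 196884-dimensional model (kernel checks): `τ x_δ = x_δ τ`, δ even, j = 1..6.
Words in the letters of `ProgTable`, the first letter acts first.
-/
import Cfsg.Agent.MonsterX.ProgEqBase

set_option autoImplicit false
set_option Elab.async false
set_option maxRecDepth 100000

namespace Cfsg.Agent.MonsterX.ProgEqD0

open Cfsg.Agent.MonsterX.ProgEqBase

theorem tau_d1_L : chkL [13, 40] [40, 13] = true := by decide +kernel
theorem tau_d1_A : chkT [13, 40] [40, 13] tsA = true := by decide +kernel
theorem tau_d1_B : chkT [13, 40] [40, 13] tsB = true := by decide +kernel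
theorem tau_d1_C : chkT [13, 40] [40, 13] tsC = true := by decide +kernel
theorem tau_d1_D : chkT [13, 40] [40, 13] tsD = true := by decide +kernel

/-- `τ` commutes with the even `x_δ` number 1. -/
theorem tau_d1 : SEq [13, 40] [40, 13] := seq_of tau_d1_L tau_d1_A tau_d1_B tau_d1_C tau_d1_D

theorem tau_d2_L : chkL [14, 40] [40, 14] = true := by decide +kernel
theorem tau_d2_A : chkT [14, 40] [40, 14] tsA = true := by decide +kernel
theorem tau_d2_B : chkT [14, 40] [40, 14] tsB = true := by decide +kernel
theorem tau_d2_C : chkT [14, 40] [40, 14] tsC = true := by decide +kernel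
theorem tau_d2_D : chkT [14, 40] [40, 14] tsD = true := by decide +kernel

/-- `τ` commutes with the even `x_δ` number 2. -/
theorem tau_d2 : SEq [14, 40] [40, 14] := seq_of tau_d2_L tau_d2_A tau_d2_B tau_d2_C tau_d2_D

theorem tau_d3_L : chkL [15, 40] [40, 15] = true := by decide +kernel
theorem tau_d3_A : chkT [15, 40] [40, 15] tsA = true := by decide +kernel
theorem tau_d3_B : chkT [15, 40] [40, 15] tsB = true := by decide +kernel
theorem tau_d3_C : chkT [15, 40] [40, 15] tsC = true := by decide +kernel
theorem tau_d3_D : chkT [15, 40] [40, 15] tsD = true := by decide +kernel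

/-- `τ` commutes with the even `x_δ` number 3. -/
theorem tau_d3 : SEq [15, 40] [40, 15] := seq_of tau_d3_L tau_d3_A tau_d3_B tau_d3_C tau_d3_D

theorem tau_d4_L : chkL [16, 40] [40, 16] = true := by decide +kernel
theorem tau_d4_A : chkT [16, 40] [40, 16] tsA = true := by decide +kernel
theorem tau_d4_B : chkT [16, 40] [40, 16] tsB = true := by decide +kernel
theorem tau_d4_C : chkT [16, 40] [40, 16] tsC = true := by decide +kernel
theorem tau_d4_D : chkT [16, 40] [40, 16] tsD = true := by decide +kernel

/-- `τ` commutes with the even `x_δ` number 4. -/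
theorem tau_d4 : SEq [16, 40] [40, 16] := seq_of tau_d4_L tau_d4_A tau_d4_B tau_d4_C tau_d4_D

theorem tau_d5_L : chkL [17, 40] [40, 17] = true := by decide +kernel
theorem tau_d5_A : chkT [17, 40] [40, 17] tsA = true := by decide +kernel
theorem tau_d5_B : chkT [17, 40] [40, 17] tsB = true := by decide +kernel
theorem tau_d5_C : chkT [17, 40] [40, 17] tsC = true := by decide +kernel
theorem tau_d5_D : chkT [17, 40] [40, 17] tsD = true := by decide +kernel

/-- `τ` commutes with the even `x_δ` number 5. -/
theorem tau_d5 : SEq [17, 40] [40, 17] := seq_of tau_d5_L tau_d5_A tau_d5_B tau_d5_C tau_d5_D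

theorem tau_d6_L : chkL [18, 40] [40, 18] = true := by decide +kernel
theorem tau_d6_A : chkT [18, 40] [40, 18] tsA = true := by decide +kernel
theorem tau_d6_B : chkT [18, 40] [40, 18] tsB = true := by decide +kernel
theorem tau_d6_C : chkT [18, 40] [40, 18] tsC = true := by decide +kernel
theorem tau_d6_D : chkT [18, 40] [40, 18] tsD = true := by decide +kernel

/-- `τ` commutes with the even `x_δ` number 6. -/
theorem tau_d6 : SEq [18, 40] [40, 18] := seq_of tau_d6_L tau_d6_A tau_d6_B tau_d6_C tau_d6_D

end Cfsg.Agent.MonsterX.ProgEqD0
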