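/-
Operator identities of the 196884-dimensional model (kernel checks): `τ x_δ = x_δ τ`, δ even, j = 7..11.
Words in the letters of `ProgTable`, the first letter acts first.
-/
import Cfsg.Agent.MonsterX.ProgEqBase

set_option autoImplicit false
set_option Elab.async false
set_option maxRecDepth 100000

namespace Cfsg.Agent.MonsterX.ProgEqD1

open Cfsg.Agent.MonsterX.ProgEqBase

theorem tau_d7_L : chkL [19, 40] [40, 19] = true := by decide +kernel
theorem tau_d7_A : chkT [19, 40] [40, 19] tsA = true := by decide +kernel
theorem tau_d7_B : chkT [19, 40] [40, 19] tsB = true := by decide +kernel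
theorem tau_d7_C : chkT [19, 40] [40, 19] tsC = true := by decide +kernel
theorem tau_d7_D : chkT [19, 40] [40, 19] tsD = true := by decide +kernel

/-- `τ` commutes with the even `x_δ` number 7. -/
theorem tau_d7 : SEq [19, 40] [40, 19] := seq_of tau_d7_L tau_d7_A tau_d7_B tau_d7_C tau_d7_D

theorem tau_d8_L : chkL [20, 40] [40, 20] = true := by decide +kernel
theorem tau_d8_A : chkT [20, 40] [40, 20] tsA = true := by decide +kernel
theorem tau_d8_B : chkT [20, 40] [40, 20] tsB = true := by decide +kernel
theorem tau_d8_C : chkT [20, 40] [40, 20] tsC = true := by decide +kernel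
theorem tau_d8_D : chkT [20, 40] [40, 20] tsD = true := by decide +kernel

/-- `τ` commutes with the even `x_δ` number 8. -/
theorem tau_d8 : SEq [20, 40] [40, 20] := seq_of tau_d8_L tau_d8_A tau_d8_B tau_d8_C tau_d8_D

theorem tau_d9_L : chkL [21, 40] [40, 21] = true := by decide +kernel
theorem tau_d9_A : chkT [21, 40] [40, 21] tsA = true := by decide +kernel
theorem tau_d9_B : chkT [21, 40] [40, 21] tsB = true := by decide +kernel
theorem tau_d9_C : chkT [21, 40] [40, 21] tsC = true := by decide +kernel
theorem tau_d9_D : chkT [21, 40] [40, 21] tsD = true := by decide +kernel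

/-- `τ` commutes with the even `x_δ` number 9. -/
theorem tau_d9 : SEq [21, 40] [40, 21] := seq_of tau_d9_L tau_d9_A tau_d9_B tau_d9_C tau_d9_D

theorem tau_d10_L : chkL [22, 40] [40, 22] = true := by decide +kernel
theorem tau_d10_A : chkT [22, 40] [40, 22] tsA = true := by decide +kernel
theorem tau_d10_B : chkT [22, 40] [40, 22] tsB = true := by decide +kernel
theorem tau_d10_C : chkT [22, 40] [40, 22] tsC = true := by decide +kernel
theorem tau_d10_D : chkT [22, 40] [40, 22] tsD = true := by decide +kernel

/-- `τ` commutes with the even `x_δ` number 10. -/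
theorem tau_d10 : SEq [22, 40] [40, 22] := seq_of tau_d10_L tau_d10_A tau_d10_B tau_d10_C tau_d10_D

theorem tau_d11_L : chkL [23, 40] [40, 23] = true := by decide +kernel
theorem tau_d11_A : chkT [23, 40] [40, 23] tsA = true := by decide +kernel
theorem tau_d11_B : chkT [23, 40] [40, 23] tsB = true := by decide +kernel
theorem tau_d11_C : chkT [23, 40] [40, 23] tsC = true := by decide +kernel
theorem tau_d11_D : chkT [23, 40] [40, 23] tsD = true := by decide +kernel

/-- `τ` commutes with the even `x_δ` number 11. -/
theorem tau_d11 : SEq [23, 40] [40, 23] := seq_of tau_d11_L tau_d11_A tau_d11_B tau_d11_C tau_d11_D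

end Cfsg.Agent.MonsterX.ProgEqD1
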