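/-
Operator identities of the 196884-dimensional model (kernel checks): `τ` commutes with the generators of M24.
Words in the letters of `ProgTable`, the first letter acts first.
-/
import Cfsg.Agent.MonsterX.ProgEqBase

set_option autoImplicit false
set_option Elab.async false
set_option maxRecDepth 100000

namespace Cfsg.Agent.MonsterX.ProgEqP

open Cfsg.Agent.MonsterX.ProgEqBase

theorem tau_pa_L : chkL [36, 40] [40, 36] = true := by decide +kernel
theorem tau_pa_A : chkT [36, 40] [40, 36] tsA = true := by decide +kernel
theorem tau_pa_B : chkT [36, 40] [40, 36] tsB = true := by decide +kernel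
theorem tau_pa_C : chkT [36, 40] [40, 36] tsC = true := by decide +kernel
theorem tau_pa_D : chkT [36, 40] [40, 36] tsD = true := by decide +kernel

/-- `τ` commutes with `pa`. -/
theorem tau_pa : SEq [36, 40] [40, 36] := seq_of tau_pa_L tau_pa_A tau_pa_B tau_pa_C tau_pa_D

theorem tau_pd_L : chkL [37, 40] [40, 37] = true := by decide +kernel
theorem tau_pd_A : chkT [37, 40] [40, 37] tsA = true := by decide +kernel
theorem tau_pd_B : chkT [37, 40] [40, 37] tsB = true := by decide +kernel
theorem tau_pd_C : chkT [37, 40] [40, 37] tsC = true := by decide +kernel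
theorem tau_pd_D : chkT [37, 40] [40, 37] tsD = true := by decide +kernel

/-- `τ` commutes with `pd`. -/
theorem tau_pd : SEq [37, 40] [40, 37] := seq_of tau_pd_L tau_pd_A tau_pd_B tau_pd_C tau_pd_D

theorem tau_pg_L : chkL [38, 40] [40, 38] = true := by decide +kernel
theorem tau_pg_A : chkT [38, 40] [40, 38] tsA = true := by decide +kernel
theorem tau_pg_B : chkT [38, 40] [40, 38] tsB = true := by decide +kernel
theorem tau_pg_C : chkT [38, 40] [40, 38] tsC = true := by decide +kernel
theorem tau_pg_D : chkT [38, 40] [40, 38] tsD = true := by decide +kernel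

/-- `τ` commutes with `pg`. -/
theorem tau_pg : SEq [38, 40] [40, 38] := seq_of tau_pg_L tau_pg_A tau_pg_B tau_pg_C tau_pg_D

end Cfsg.Agent.MonsterX.ProgEqP
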