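/-
Operator identities of the 196884-dimensional model (kernel checks): `τ³ = 1` and inverses.
Words in the letters of `ProgTable`, the first letter acts first.
-/
import Cfsg.Agent.MonsterX.ProgEqBase

set_option autoImplicit false
set_option Elab.async false
set_option maxRecDepth 100000

namespace Cfsg.Agent.MonsterX.ProgEqT

open Cfsg.Agent.MonsterX.ProgEqBase

theorem tau_tauInv_L : chkL [40, 41] [] = true := by decide +kernel
theorem tau_tauInv_A : chkT [40, 41] [] tsA = true := by decide +kernel
theorem tau_tauInv_B : chkT [40, 41] [] tsB = true := by decide +kernel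
theorem tau_tauInv_C : chkT [40, 41] [] tsC = true := by decide +kernel
theorem tau_tauInv_D : chkT [40, 41] [] tsD = true := by decide +kernel

/-- `τ⁻¹ τ = 1`. -/
theorem tau_tauInv : SEq [40, 41] [] := seq_of tau_tauInv_L tau_tauInv_A tau_tauInv_B tau_tauInv_C tau_tauInv_D

theorem tauInv_tau_L : chkL [41, 40] [] = true := by decide +kernel
theorem tauInv_tau_A : chkT [41, 40] [] tsA = true := by decide +kernel
theorem tauInv_tau_B : chkT [41, 40] [] tsB = true := by decide +kernel
theorem tauInv_tau_C : chkT [41, 40] [] tsC = true := by decide +kernel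
theorem tauInv_tau_D : chkT [41, 40] [] tsD = true := by decide +kernel

/-- `τ τ⁻¹ = 1`. -/
theorem tauInv_tau : SEq [41, 40] [] := seq_of tauInv_tau_L tauInv_tau_A tauInv_tau_B tauInv_tau_C tauInv_tau_D

theorem tau_cube_L : chkL [40, 40, 40] [] = true := by decide +kernel
theorem tau_cube_A : chkT [40, 40, 40] [] tsA = true := by decide +kernel
theorem tau_cube_B : chkT [40, 40, 40] [] tsB = true := by decide +kernel
theorem tau_cube_C : chkT [40, 40, 40] [] tsC = true := by decide +kernel
theorem tau_cube_D : chkT [40, 40, 40] [] tsD = true := by decide +kernel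

/-- `τ³ = 1`. -/
theorem tau_cube : SEq [40, 40, 40] [] := seq_of tau_cube_L tau_cube_A tau_cube_B tau_cube_C tau_cube_D

theorem d0_tau_L : chkL [12, 40] [41, 12] = true := by decide +kernel
theorem d0_tau_A : chkT [12, 40] [41, 12] tsA = true := by decide +kernel
theorem d0_tau_B : chkT [12, 40] [41, 12] tsB = true := by decide +kernel
theorem d0_tau_C : chkT [12, 40] [41, 12] tsC = true := by decide +kernel
theorem d0_tau_D : chkT [12, 40] [41, 12] tsD = true := by decide +kernel

/-- `τ x_0 = x_0 τ⁻¹` for the odd `x_0`. -/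
theorem d0_tau : SEq [12, 40] [41, 12] := seq_of d0_tau_L d0_tau_A d0_tau_B d0_tau_C d0_tau_D

end Cfsg.Agent.MonsterX.ProgEqT
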