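/-
Operator identities of the 196884-dimensional model (kernel checks): `τ x_c = y_c τ`, c = 0..5.
Words in the letters of `ProgTable`, the first letter acts first.
-/
import Cfsg.Agent.MonsterX.ProgEqBase

set_option autoImplicit false
set_option Elab.async false
set_option maxRecDepth 100000

namespace Cfsg.Agent.MonsterX.ProgEqX0

open Cfsg.Agent.MonsterX.ProgEqBase

theorem tau_x0_L : chkL [0, 40] [40, 24] = true := by decide +kernel
theorem tau_x0_A : chkT [0, 40] [40, 24] tsA = true := by decide +kernel
theorem tau_x0_B : chkT [0, 40] [40, 24] tsB = true := by decide +kernel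
theorem tau_x0_C : chkT [0, 40] [40, 24] tsC = true := by decide +kernel
theorem tau_x0_D : chkT [0, 40] [40, 24] tsD = true := by decide +kernel

/-- `τ x_c = y_c τ` for the basis code word number 0. -/
theorem tau_x0 : SEq [0, 40] [40, 24] := seq_of tau_x0_L tau_x0_A tau_x0_B tau_x0_C tau_x0_D

theorem tau_x1_L : chkL [1, 40] [40, 25] = true := by decide +kernel
theorem tau_x1_A : chkT [1, 40] [40, 25] tsA = true := by decide +kernel
theorem tau_x1_B : chkT [1, 40] [40, 25] tsB = true := by decide +kernel
theorem tau_x1_C : chkT [1, 40] [40, 25] tsC = true := by decide +kernel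
theorem tau_x1_D : chkT [1, 40] [40, 25] tsD = true := by decide +kernel

/-- `τ x_c = y_c τ` for the basis code word number 1. -/
theorem tau_x1 : SEq [1, 40] [40, 25] := seq_of tau_x1_L tau_x1_A tau_x1_B tau_x1_C tau_x1_D

theorem tau_x2_L : chkL [2, 40] [40, 26] = true := by decide +kernel
theorem tau_x2_A : chkT [2, 40] [40, 26] tsA = true := by decide +kernel
theorem tau_x2_B : chkT [2, 40] [40, 26] tsB = true := by decide +kernel
theorem tau_x2_C : chkT [2, 40] [40, 26] tsC = true := by decide +kernel
theorem tau_x2_D : chkT [2, 40] [40, 26] tsD = true := by decide +kernel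

/-- `τ x_c = y_c τ` for the basis code word number 2. -/
theorem tau_x2 : SEq [2, 40] [40, 26] := seq_of tau_x2_L tau_x2_A tau_x2_B tau_x2_C tau_x2_D

theorem tau_x3_L : chkL [3, 40] [40, 27] = true := by decide +kernel
theorem tau_x3_A : chkT [3, 40] [40, 27] tsA = true := by decide +kernel
theorem tau_x3_B : chkT [3, 40] [40, 27] tsB = true := by decide +kernel
theorem tau_x3_C : chkT [3, 40] [40, 27] tsC = true := by decide +kernel
theorem tau_x3_D : chkT [3, 40] [40, 27] tsD = true := by decide +kernel

/-- `τ x_c = y_c τ` for the basis code word number 3. -/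
theorem tau_x3 : SEq [3, 40] [40, 27] := seq_of tau_x3_L tau_x3_A tau_x3_B tau_x3_C tau_x3_D

theorem tau_x4_L : chkL [4, 40] [40, 28] = true := by decide +kernel
theorem tau_x4_A : chkT [4, 40] [40, 28] tsA = true := by decide +kernel
theorem tau_x4_B : chkT [4, 40] [40, 28] tsB = true := by decide +kernel
theorem tau_x4_C : chkT [4, 40] [40, 28] tsC = true := by decide +kernel
theorem tau_x4_D : chkT [4, 40] [40, 28] tsD = true := by decide +kernel

/-- `τ x_c = y_c τ` for the basis code word number 4. -/
theorem tau_x4 : SEq [4, 40] [40, 28] := seq_of tau_x4_L tau_x4_A tau_x4_B tau_x4_C tau_x4_D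

theorem tau_x5_L : chkL [5, 40] [40, 29] = true := by decide +kernel
theorem tau_x5_A : chkT [5, 40] [40, 29] tsA = true := by decide +kernel
theorem tau_x5_B : chkT [5, 40] [40, 29] tsB = true := by decide +kernel
theorem tau_x5_C : chkT [5, 40] [40, 29] tsC = true := by decide +kernel
theorem tau_x5_D : chkT [5, 40] [40, 29] tsD = true := by decide +kernel

/-- `τ x_c = y_c τ` for the basis code word number 5. -/
theorem tau_x5 : SEq [5, 40] [40, 29] := seq_of tau_x5_L tau_x5_A tau_x5_B tau_x5_C tau_x5_D

end Cfsg.Agent.MonsterX.ProgEqX0
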