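/-
Operator identities of the 196884-dimensional model (kernel checks): `τ x_c = y_c τ`, c = 6..11.
Words in the letters of `ProgTable`, the first letter acts first.
-/
import Cfsg.Agent.MonsterX.ProgEqBase

set_option autoImplicit false
set_option Elab.async false
set_option maxRecDepth 100000

namespace Cfsg.Agent.MonsterX.ProgEqX1

open Cfsg.Agent.MonsterX.ProgEqBase

theorem tau_x6_L : chkL [6, 40] [40, 30] = true := by decide +kernel
theorem tau_x6_A : chkT [6, 40] [40, 30] tsA = true := by decide +kernel
theorem tau_x6_B : chkT [6, 40] [40, 30] tsB = true := by decide +kernel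
theorem tau_x6_C : chkT [6, 40] [40, 30] tsC = true := by decide +kernel
theorem tau_x6_D : chkT [6, 40] [40, 30] tsD = true := by decide +kernel

/-- `τ x_c = y_c τ` for the basis code word number 6. -/
theorem tau_x6 : SEq [6, 40] [40, 30] := seq_of tau_x6_L tau_x6_A tau_x6_B tau_x6_C tau_x6_D

theorem tau_x7_L : chkL [7, 40] [40, 31] = true := by decide +kernel
theorem tau_x7_A : chkT [7, 40] [40, 31] tsA = true := by decide +kernel
theorem tau_x7_B : chkT [7, 40] [40, 31] tsB = true := by decide +kernel
theorem tau_x7_C : chkT [7, 40] [40, 31] tsC = true := by decide +kernel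
theorem tau_x7_D : chkT [7, 40] [40, 31] tsD = true := by decide +kernel

/-- `τ x_c = y_c τ` for the basis code word number 7. -/
theorem tau_x7 : SEq [7, 40] [40, 31] := seq_of tau_x7_L tau_x7_A tau_x7_B tau_x7_C tau_x7_D

theorem tau_x8_L : chkL [8, 40] [40, 32] = true := by decide +kernel
theorem tau_x8_A : chkT [8, 40] [40, 32] tsA = true := by decide +kernel
theorem tau_x8_B : chkT [8, 40] [40, 32] tsB = true := by decide +kernel
theorem tau_x8_C : chkT [8, 40] [40, 32] tsC = true := by decide +kernel
theorem tau_x8_D : chkT [8, 40] [40, 32] tsD = true := by decide +kernel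

/-- `τ x_c = y_c τ` for the basis code word number 8. -/
theorem tau_x8 : SEq [8, 40] [40, 32] := seq_of tau_x8_L tau_x8_A tau_x8_B tau_x8_C tau_x8_D

theorem tau_x9_L : chkL [9, 40] [40, 33] = true := by decide +kernel
theorem tau_x9_A : chkT [9, 40] [40, 33] tsA = true := by decide +kernel
theorem tau_x9_B : chkT [9, 40] [40, 33] tsB = true := by decide +kernel
theorem tau_x9_C : chkT [9, 40] [40, 33] tsC = true := by decide +kernel
theorem tau_x9_D : chkT [9, 40] [40, 33] tsD = true := by decide +kernel

/-- `τ x_c = y_c τ` for the basis code word number 9. -/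
theorem tau_x9 : SEq [9, 40] [40, 33] := seq_of tau_x9_L tau_x9_A tau_x9_B tau_x9_C tau_x9_D

theorem tau_x10_L : chkL [10, 40] [40, 34] = true := by decide +kernel
theorem tau_x10_A : chkT [10, 40] [40, 34] tsA = true := by decide +kernel
theorem tau_x10_B : chkT [10, 40] [40, 34] tsB = true := by decide +kernel
theorem tau_x10_C : chkT [10, 40] [40, 34] tsC = true := by decide +kernel
theorem tau_x10_D : chkT [10, 40] [40, 34] tsD = true := by decide +kernel

/-- `τ x_c = y_c τ` for the basis code word number 10. -/
theorem tau_x10 : SEq [10, 40] [40, 34] := seq_of tau_x10_L tau_x10_A tau_x10_B tau_x10_C tau_x10_D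

theorem tau_x11_L : chkL [11, 40] [40, 35] = true := by decide +kernel
theorem tau_x11_A : chkT [11, 40] [40, 35] tsA = true := by decide +kernel
theorem tau_x11_B : chkT [11, 40] [40, 35] tsB = true := by decide +kernel
theorem tau_x11_C : chkT [11, 40] [40, 35] tsC = true := by decide +kernel
theorem tau_x11_D : chkT [11, 40] [40, 35] tsD = true := by decide +kernel

/-- `τ x_c = y_c τ` for the basis code word number 11. -/
theorem tau_x11 : SEq [11, 40] [40, 35] := seq_of tau_x11_L tau_x11_A tau_x11_B tau_x11_C tau_x11_D

end Cfsg.Agent.MonsterX.ProgEqX1
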