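/-
Label planes and test masks for operator identities with the letter `xi` of the 196884-dimensional model:
blocks = 4 x 4 blocks of the matrix, 16 x 4 blocks of the spin part, single lanes of the other parts.
-/
import Cfsg.Agent.MonsterX.ProgEqBase

set_option autoImplicit false
set_option maxRecDepth 100000

namespace Cfsg.Agent.MonsterX.ProgEqXiBase

open Cfsg.Agent.Lib.PermNet Cfsg.Agent.Monster.VecEngine Cfsg.Agent.Monster Cfsg.Agent.Monster.VecSpace
open Cfsg.Agent.MonsterX.ProgBase Cfsg.Agent.MonsterX.ProgTable Cfsg.Agent.MonsterX.VecRel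
open Cfsg.Agent.MonsterX.Space Cfsg.Agent.MonsterX.SymRel Cfsg.Agent.MonsterX.ProgEqBase

/-- The lanes with their own label: everything below `2^17` except the first square. -/
noncomputable def own : ℕ := Nat.xor (Nat.sub (Nat.pow 2 131072) 1) (sq (Nat.sub (Nat.pow 2 1024) 1))

/-- The lanes from `2^17`. -/
noncomputable def mW : ℕ := Nat.sub (Nat.pow 2 262144) (Nat.pow 2 131072)

noncomputable def lx2 : ℕ := 0xfffffffffffffffffffffffffffffffff0000000f0000000f0000000f0000000f0fffffff0fffffff0fffffff0fffffff0f00000f0f00000f0f00000f0f00000f0f0fffff0f0fffff0f0fffff0f0fffff0f0f000f0f0f000f0f0f000f0f0f000f0f0f0fff0f0f0fff0f0f0fff0f0f0fff0f0f0f0f0f0f0f0f0f0f0f0f0f0f0f0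

noncomputable def lx3 : ℕ := 0xffffffffffffffffffffffffffffffffffffffffffffffffffffffffffffffffff000000ff000000ff000000ff000000ff000000ff000000ff000000ff000000ff00ffffff00ffffff00ffffff00ffffff00ffffff00ffffff00ffffff00ffffff00ff00ff00ff00ff00ff00ff00ff00ff00ff00ff00ff00ff00ff00ff00ff00

noncomputable def lx4 : ℕ := 0xffffffffffffffffffffffffffffffffffffffffffffffffffffffffffffffffffffffffffffffffffffffffffffffffffffffffffffffffffffffffffffffffffff0000ffff0000ffff0000ffff0000ffff0000ffff0000ffff0000ffff0000ffff0000ffff0000ffff0000ffff0000ffff0000ffff0000ffff0000ffff0000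

noncomputable def lx7 : ℕ := 0xf0f0f0f0f0f0f0f0f0f0f0f0f0f0f0f000f0f0f000f0f0f000f0f0f000f0f0f0fff0f0f0fff0f0f0fff0f0f0fff0f0f00000f0f00000f0f00000f0f00000f0f0fffff0f0fffff0f0fffff0f0fffff0f0000000f0000000f0000000f0000000f0fffffff0fffffff0fffffff0fffffff000000000000000000000000000000000

noncomputable def lx8 : ℕ := 0xff00ff00ff00ff00ff00ff00ff00ff00ff00ff00ff00ff00ff00ff00ff00ff000000ff000000ff000000ff000000ff000000ff000000ff000000ff000000ff00ffffff00ffffff00ffffff00ffffff00ffffff00ffffff00ffffff00ffffff000000000000000000000000000000000000000000000000000000000000000000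

noncomputable def lx9 : ℕ := 0xffff0000ffff0000ffff0000ffff0000ffff0000ffff0000ffff0000ffff0000ffff0000ffff0000ffff0000ffff0000ffff0000ffff0000ffff0000ffff000000000000000000000000000000000000000000000000000000000000000000000000000000000000000000000000000000000000000000000000000000000000

noncomputable def lx12 : ℕ := Nat.sub (Nat.pow 2 1024) 1

/-- Label bit `b` for a bit inside of the blocks. -/
noncomputable def lo (b l : ℕ) : ℕ := Nat.lor (Nat.land (plane 18 b) own) (sq l)

/-- Label bit `b` for the other bits. -/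
noncomputable def hi (b l : ℕ) : ℕ := Nat.lor (Nat.land (plane 18 b) (Nat.lor mW own)) (sq l)

/-- The labels. -/
noncomputable def lab : Pl :=
  .cons (lo 0 0) (.cons (lo 1 0) (.cons (hi 2 lx2) (.cons (hi 3 lx3) (.cons (hi 4 lx4) (.cons (lo 5 0)
  (.cons (lo 6 0) (.cons (lo 7 lx7) (.cons (lo 8 lx8) (.cons (hi 9 lx9) (.cons (hi 10 0) (.cons (hi 11 0)
  (.cons (hi 12 lx12) (.cons (hi 13 lx12) (.cons (hi 14 lx12) (.cons (hi 15 lx12) (.cons (hi 16 0) (.cons (hi 17 0)
  (.sgn 0))))))))))))))))))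

/-- First test mask of the spin part. -/
noncomputable def w0 : ℕ :=
  Nat.shiftLeft (Nat.mul 0x111111 (Nat.div (Nat.sub (Nat.pow 2 131072) 1) (Nat.sub (Nat.pow 2 512) 1))) 131072

/-- First test mask of the matrix. -/
noncomputable def m0 : ℕ := sq (Nat.mul 0x111111 (Nat.div (Nat.sub (Nat.pow 2 768) 1) (Nat.sub (Nat.pow 2 128) 1)))

/-- First lane of the `k`-th test in a block. -/
def off (k : ℕ) : ℕ := Nat.add (Nat.mod k 4) (Nat.mul 32 (Nat.div k 4))

/-- Test masks `k, …, k + n - 1` from the mask `m` of the first. -/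
noncomputable def tsX (m : ℕ) (k n : ℕ) : List Tst :=
  Nat.rec (motive := fun _ => ℕ → List Tst) (fun _ => [])
    (fun _ ih k => ⟨Nat.land (Nat.shiftLeft m (off k)) upM, h1⟩ :: ih (Nat.succ k)) n k

noncomputable def wm : ℕ := Nat.lor w0 m0

noncomputable def ts0 : List Tst := ⟨Nat.land (Nat.lor wm own) upM, h1⟩ :: tsX wm 1 7
noncomputable def ts1 : List Tst := tsX wm 8 8
noncomputable def ts2 : List Tst := tsX w0 16 8
noncomputable def ts3 : List Tst := tsX w0 24 8
noncomputable def ts4 : List Tst := tsX w0 32 8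
noncomputable def ts5 : List Tst := tsX w0 40 8
noncomputable def ts6 : List Tst := tsX w0 48 8
noncomputable def ts7 : List Tst := tsX w0 56 8

theorem tests_ok : tests 18 lab upM (ts0 ++ ts1 ++ ts2 ++ ts3 ++ ts4 ++ ts5 ++ ts6 ++ ts7) 0 = true := by
  decide +kernel

theorem labSym_ok : labSym lab = true := by decide +kernel

/-- The labels of two words agree. -/
noncomputable def chkL (w₁ w₂ : List ℕ) : Bool := sameLab U (ws w₁) (ws w₂) lab

/-- OPERATOR IDENTITY from kernel checks. -/
theorem seq_of {w₁ w₂ : List ℕ} (hL : chkL w₁ w₂ = true) (g0 : chkT w₁ w₂ ts0 = true) (g1 : chkT w₁ w₂ ts1 = true)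
    (g2 : chkT w₁ w₂ ts2 = true) (g3 : chkT w₁ w₂ ts3 = true) (g4 : chkT w₁ w₂ ts4 = true)
    (g5 : chkT w₁ w₂ ts5 = true) (g6 : chkT w₁ w₂ ts6 = true) (g7 : chkT w₁ w₂ ts7 = true) : SEq w₁ w₂ :=
  fun f hf => SymRel.semUL_eq (ws_good w₁) (ws_good w₂) tests_ok labSym_ok hL
    (testS_append (testS_append (testS_append (testS_append (testS_append (testS_append (testS_append
      g0 g1) g2) g3) g4) g5) g6) g7) f hf

end Cfsg.Agent.MonsterX.ProgEqXiBase
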