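/-
Operator identities with the letter `xi` of the 196884-dimensional model (kernel checks): `ξ² = 1`.
Words in the letters of `ProgTable`, the first letter acts first.
-/
import Cfsg.Agent.MonsterX.ProgEqXiBase

set_option autoImplicit false
set_option Elab.async false
set_option maxRecDepth 100000

namespace Cfsg.Agent.MonsterX.ProgEqXi

open Cfsg.Agent.MonsterX.ProgEqBase Cfsg.Agent.MonsterX.ProgEqXiBase

theorem xi_xi_L : ProgEqXiBase.chkL [39, 39] [] = true := by decide +kernel
theorem xi_xi_0 : chkT [39, 39] [] ts0 = true := by decide +kernel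
theorem xi_xi_1 : chkT [39, 39] [] ts1 = true := by decide +kernel
theorem xi_xi_2 : chkT [39, 39] [] ts2 = true := by decide +kernel
theorem xi_xi_3 : chkT [39, 39] [] ts3 = true := by decide +kernel
theorem xi_xi_4 : chkT [39, 39] [] ts4 = true := by decide +kernel
theorem xi_xi_5 : chkT [39, 39] [] ts5 = true := by decide +kernel
theorem xi_xi_6 : chkT [39, 39] [] ts6 = true := by decide +kernel
theorem xi_xi_7 : chkT [39, 39] [] ts7 = true := by decide +kernel

/-- `ξ² = 1`. -/
theorem xi_xi : SEq [39, 39] [] :=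
  ProgEqXiBase.seq_of xi_xi_L xi_xi_0 xi_xi_1 xi_xi_2 xi_xi_3 xi_xi_4 xi_xi_5 xi_xi_6 xi_xi_7

end Cfsg.Agent.MonsterX.ProgEqXi
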