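/-
Operator identities with the letter `xi` of the 196884-dimensional model (kernel checks): a conjugate of an element of Q.
Words in the letters of `ProgTable`, the first letter acts first.
-/
import Cfsg.Agent.MonsterX.ProgEqXiBase

set_option autoImplicit false
set_option Elab.async false
set_option maxRecDepth 100000

namespace Cfsg.Agent.MonsterX.ProgEqXiA

open Cfsg.Agent.MonsterX.ProgEqBase Cfsg.Agent.MonsterX.ProgEqXiBase

theorem xi_q_L : ProgEqXiBase.chkL [39, 36, 13, 14, 42, 39] [0, 1, 2, 3, 4, 7, 10, 13, 14, 17, 18, 19, 22] = true := by decide +kernel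
theorem xi_q_0 : chkT [39, 36, 13, 14, 42, 39] [0, 1, 2, 3, 4, 7, 10, 13, 14, 17, 18, 19, 22] ts0 = true := by decide +kernel
theorem xi_q_1 : chkT [39, 36, 13, 14, 42, 39] [0, 1, 2, 3, 4, 7, 10, 13, 14, 17, 18, 19, 22] ts1 = true := by decide +kernel
theorem xi_q_2 : chkT [39, 36, 13, 14, 42, 39] [0, 1, 2, 3, 4, 7, 10, 13, 14, 17, 18, 19, 22] ts2 = true := by decide +kernel
theorem xi_q_3 : chkT [39, 36, 13, 14, 42, 39] [0, 1, 2, 3, 4, 7, 10, 13, 14, 17, 18, 19, 22] ts3 = true := by decide +kernel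
theorem xi_q_4 : chkT [39, 36, 13, 14, 42, 39] [0, 1, 2, 3, 4, 7, 10, 13, 14, 17, 18, 19, 22] ts4 = true := by decide +kernel
theorem xi_q_5 : chkT [39, 36, 13, 14, 42, 39] [0, 1, 2, 3, 4, 7, 10, 13, 14, 17, 18, 19, 22] ts5 = true := by decide +kernel
theorem xi_q_6 : chkT [39, 36, 13, 14, 42, 39] [0, 1, 2, 3, 4, 7, 10, 13, 14, 17, 18, 19, 22] ts6 = true := by decide +kernel
theorem xi_q_7 : chkT [39, 36, 13, 14, 42, 39] [0, 1, 2, 3, 4, 7, 10, 13, 14, 17, 18, 19, 22] ts7 = true := by decide +kernel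

/-- `ξ pa⁻¹ x x pa ξ` is in Q. -/
theorem xi_q : SEq [39, 36, 13, 14, 42, 39] [0, 1, 2, 3, 4, 7, 10, 13, 14, 17, 18, 19, 22] :=
  ProgEqXiBase.seq_of xi_q_L xi_q_0 xi_q_1 xi_q_2 xi_q_3 xi_q_4 xi_q_5 xi_q_6 xi_q_7

end Cfsg.Agent.MonsterX.ProgEqXiA
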