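/-
Operator identities of the 196884-dimensional model (kernel checks): `x_c y_c τ y_c = τ`, c = 0..3.
Words in the letters of `ProgTable`, the first letter acts first.
-/
import Cfsg.Agent.MonsterX.ProgEqBase

set_option autoImplicit false
set_option Elab.async false
set_option maxRecDepth 100000

namespace Cfsg.Agent.MonsterX.ProgEqY0

open Cfsg.Agent.MonsterX.ProgEqBase

theorem tau_y0_L : chkL [24, 40, 24, 0] [40] = true := by decide +kernel
theorem tau_y0_A : chkT [24, 40, 24, 0] [40] tsA = true := by decide +kernel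
theorem tau_y0_B : chkT [24, 40, 24, 0] [40] tsB = true := by decide +kernel
theorem tau_y0_C : chkT [24, 40, 24, 0] [40] tsC = true := by decide +kernel
theorem tau_y0_D : chkT [24, 40, 24, 0] [40] tsD = true := by decide +kernel

/-- `x_c y_c τ y_c = τ`, i.e. `τ y_c τ⁻¹ = (x_c y_c)⁻¹`, for the basis code word number 0. -/
theorem tau_y0 : SEq [24, 40, 24, 0] [40] := seq_of tau_y0_L tau_y0_A tau_y0_B tau_y0_C tau_y0_D

theorem tau_y1_L : chkL [25, 40, 25, 1] [40] = true := by decide +kernel
theorem tau_y1_A : chkT [25, 40, 25, 1] [40] tsA = true := by decide +kernel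
theorem tau_y1_B : chkT [25, 40, 25, 1] [40] tsB = true := by decide +kernel
theorem tau_y1_C : chkT [25, 40, 25, 1] [40] tsC = true := by decide +kernel
theorem tau_y1_D : chkT [25, 40, 25, 1] [40] tsD = true := by decide +kernel

/-- `x_c y_c τ y_c = τ`, i.e. `τ y_c τ⁻¹ = (x_c y_c)⁻¹`, for the basis code word number 1. -/
theorem tau_y1 : SEq [25, 40, 25, 1] [40] := seq_of tau_y1_L tau_y1_A tau_y1_B tau_y1_C tau_y1_D

theorem tau_y2_L : chkL [26, 40, 26, 2] [40] = true := by decide +kernel
theorem tau_y2_A : chkT [26, 40, 26, 2] [40] tsA = true := by decide +kernel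
theorem tau_y2_B : chkT [26, 40, 26, 2] [40] tsB = true := by decide +kernel
theorem tau_y2_C : chkT [26, 40, 26, 2] [40] tsC = true := by decide +kernel
theorem tau_y2_D : chkT [26, 40, 26, 2] [40] tsD = true := by decide +kernel

/-- `x_c y_c τ y_c = τ`, i.e. `τ y_c τ⁻¹ = (x_c y_c)⁻¹`, for the basis code word number 2. -/
theorem tau_y2 : SEq [26, 40, 26, 2] [40] := seq_of tau_y2_L tau_y2_A tau_y2_B tau_y2_C tau_y2_D

theorem tau_y3_L : chkL [27, 40, 27, 3] [40] = true := by decide +kernel
theorem tau_y3_A : chkT [27, 40, 27, 3] [40] tsA = true := by decide +kernel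
theorem tau_y3_B : chkT [27, 40, 27, 3] [40] tsB = true := by decide +kernel
theorem tau_y3_C : chkT [27, 40, 27, 3] [40] tsC = true := by decide +kernel
theorem tau_y3_D : chkT [27, 40, 27, 3] [40] tsD = true := by decide +kernel

/-- `x_c y_c τ y_c = τ`, i.e. `τ y_c τ⁻¹ = (x_c y_c)⁻¹`, for the basis code word number 3. -/
theorem tau_y3 : SEq [27, 40, 27, 3] [40] := seq_of tau_y3_L tau_y3_A tau_y3_B tau_y3_C tau_y3_D

end Cfsg.Agent.MonsterX.ProgEqY0
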