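/-
Operator identities of the 196884-dimensional model (kernel checks): `x_c y_c τ y_c = τ`, c = 4..7.
Words in the letters of `ProgTable`, the first letter acts first.
-/
import Cfsg.Agent.MonsterX.ProgEqBase

set_option autoImplicit false
set_option Elab.async false
set_option maxRecDepth 100000

namespace Cfsg.Agent.MonsterX.ProgEqY1

open Cfsg.Agent.MonsterX.ProgEqBase

theorem tau_y4_L : chkL [28, 40, 28, 4] [40] = true := by decide +kernel
theorem tau_y4_A : chkT [28, 40, 28, 4] [40] tsA = true := by decide +kernel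
theorem tau_y4_B : chkT [28, 40, 28, 4] [40] tsB = true := by decide +kernel
theorem tau_y4_C : chkT [28, 40, 28, 4] [40] tsC = true := by decide +kernel
theorem tau_y4_D : chkT [28, 40, 28, 4] [40] tsD = true := by decide +kernel

/-- `x_c y_c τ y_c = τ`, i.e. `τ y_c τ⁻¹ = (x_c y_c)⁻¹`, for the basis code word number 4. -/
theorem tau_y4 : SEq [28, 40, 28, 4] [40] := seq_of tau_y4_L tau_y4_A tau_y4_B tau_y4_C tau_y4_D

theorem tau_y5_L : chkL [29, 40, 29, 5] [40] = true := by decide +kernel
theorem tau_y5_A : chkT [29, 40, 29, 5] [40] tsA = true := by decide +kernel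
theorem tau_y5_B : chkT [29, 40, 29, 5] [40] tsB = true := by decide +kernel
theorem tau_y5_C : chkT [29, 40, 29, 5] [40] tsC = true := by decide +kernel
theorem tau_y5_D : chkT [29, 40, 29, 5] [40] tsD = true := by decide +kernel

/-- `x_c y_c τ y_c = τ`, i.e. `τ y_c τ⁻¹ = (x_c y_c)⁻¹`, for the basis code word number 5. -/
theorem tau_y5 : SEq [29, 40, 29, 5] [40] := seq_of tau_y5_L tau_y5_A tau_y5_B tau_y5_C tau_y5_D

theorem tau_y6_L : chkL [30, 40, 30, 6] [40] = true := by decide +kernel
theorem tau_y6_A : chkT [30, 40, 30, 6] [40] tsA = true := by decide +kernel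
theorem tau_y6_B : chkT [30, 40, 30, 6] [40] tsB = true := by decide +kernel
theorem tau_y6_C : chkT [30, 40, 30, 6] [40] tsC = true := by decide +kernel
theorem tau_y6_D : chkT [30, 40, 30, 6] [40] tsD = true := by decide +kernel

/-- `x_c y_c τ y_c = τ`, i.e. `τ y_c τ⁻¹ = (x_c y_c)⁻¹`, for the basis code word number 6. -/
theorem tau_y6 : SEq [30, 40, 30, 6] [40] := seq_of tau_y6_L tau_y6_A tau_y6_B tau_y6_C tau_y6_D

theorem tau_y7_L : chkL [31, 40, 31, 7] [40] = true := by decide +kernel
theorem tau_y7_A : chkT [31, 40, 31, 7] [40] tsA = true := by decide +kernel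
theorem tau_y7_B : chkT [31, 40, 31, 7] [40] tsB = true := by decide +kernel
theorem tau_y7_C : chkT [31, 40, 31, 7] [40] tsC = true := by decide +kernel
theorem tau_y7_D : chkT [31, 40, 31, 7] [40] tsD = true := by decide +kernel

/-- `x_c y_c τ y_c = τ`, i.e. `τ y_c τ⁻¹ = (x_c y_c)⁻¹`, for the basis code word number 7. -/
theorem tau_y7 : SEq [31, 40, 31, 7] [40] := seq_of tau_y7_L tau_y7_A tau_y7_B tau_y7_C tau_y7_D

end Cfsg.Agent.MonsterX.ProgEqY1
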