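/-
Operator identities of the 196884-dimensional model (kernel checks): `x_c y_c τ y_c = τ`, c = 8..11.
Words in the letters of `ProgTable`, the first letter acts first.
-/
import Cfsg.Agent.MonsterX.ProgEqBase

set_option autoImplicit false
set_option Elab.async false
set_option maxRecDepth 100000

namespace Cfsg.Agent.MonsterX.ProgEqY2

open Cfsg.Agent.MonsterX.ProgEqBase

theorem tau_y8_L : chkL [32, 40, 32, 8] [40] = true := by decide +kernel
theorem tau_y8_A : chkT [32, 40, 32, 8] [40] tsA = true := by decide +kernel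
theorem tau_y8_B : chkT [32, 40, 32, 8] [40] tsB = true := by decide +kernel
theorem tau_y8_C : chkT [32, 40, 32, 8] [40] tsC = true := by decide +kernel
theorem tau_y8_D : chkT [32, 40, 32, 8] [40] tsD = true := by decide +kernel

/-- `x_c y_c τ y_c = τ`, i.e. `τ y_c τ⁻¹ = (x_c y_c)⁻¹`, for the basis code word number 8. -/
theorem tau_y8 : SEq [32, 40, 32, 8] [40] := seq_of tau_y8_L tau_y8_A tau_y8_B tau_y8_C tau_y8_D

theorem tau_y9_L : chkL [33, 40, 33, 9] [40] = true := by decide +kernel
theorem tau_y9_A : chkT [33, 40, 33, 9] [40] tsA = true := by decide +kernel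
theorem tau_y9_B : chkT [33, 40, 33, 9] [40] tsB = true := by decide +kernel
theorem tau_y9_C : chkT [33, 40, 33, 9] [40] tsC = true := by decide +kernel
theorem tau_y9_D : chkT [33, 40, 33, 9] [40] tsD = true := by decide +kernel

/-- `x_c y_c τ y_c = τ`, i.e. `τ y_c τ⁻¹ = (x_c y_c)⁻¹`, for the basis code word number 9. -/
theorem tau_y9 : SEq [33, 40, 33, 9] [40] := seq_of tau_y9_L tau_y9_A tau_y9_B tau_y9_C tau_y9_D

theorem tau_y10_L : chkL [34, 40, 34, 10] [40] = true := by decide +kernel
theorem tau_y10_A : chkT [34, 40, 34, 10] [40] tsA = true := by decide +kernel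
theorem tau_y10_B : chkT [34, 40, 34, 10] [40] tsB = true := by decide +kernel
theorem tau_y10_C : chkT [34, 40, 34, 10] [40] tsC = true := by decide +kernel
theorem tau_y10_D : chkT [34, 40, 34, 10] [40] tsD = true := by decide +kernel

/-- `x_c y_c τ y_c = τ`, i.e. `τ y_c τ⁻¹ = (x_c y_c)⁻¹`, for the basis code word number 10. -/
theorem tau_y10 : SEq [34, 40, 34, 10] [40] := seq_of tau_y10_L tau_y10_A tau_y10_B tau_y10_C tau_y10_D

theorem tau_y11_L : chkL [35, 40, 35, 11] [40] = true := by decide +kernel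
theorem tau_y11_A : chkT [35, 40, 35, 11] [40] tsA = true := by decide +kernel
theorem tau_y11_B : chkT [35, 40, 35, 11] [40] tsB = true := by decide +kernel
theorem tau_y11_C : chkT [35, 40, 35, 11] [40] tsC = true := by decide +kernel
theorem tau_y11_D : chkT [35, 40, 35, 11] [40] tsD = true := by decide +kernel

/-- `x_c y_c τ y_c = τ`, i.e. `τ y_c τ⁻¹ = (x_c y_c)⁻¹`, for the basis code word number 11. -/
theorem tau_y11 : SEq [35, 40, 35, 11] [40] := seq_of tau_y11_L tau_y11_A tau_y11_B tau_y11_C tau_y11_D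

end Cfsg.Agent.MonsterX.ProgEqY2
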