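import Cfsg.Agent.MonsterX.ConcMono
import Cfsg.Agent.MonsterX.CertTau
import Cfsg.Agent.MonsterX.ProgEqT
import Cfsg.Agent.MonsterX.ProgEqX0
import Cfsg.Agent.MonsterX.ProgEqX1
import Cfsg.Agent.MonsterX.ProgEqY0
import Cfsg.Agent.MonsterX.ProgEqY1
import Cfsg.Agent.MonsterX.ProgEqY2
import Cfsg.Agent.MonsterX.ProgEqD0
import Cfsg.Agent.MonsterX.ProgEqD1
import Cfsg.Agent.MonsterX.ProgEqP
import Cfsg.Agent.MonsterX.ProgEqXi
import Cfsg.Agent.MonsterX.ProgEqXiA

/-!
# The groups of the concrete model of the Monster: inverses of the letters, membership of words, `TauData`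
-/

set_option autoImplicit false

namespace Cfsg.Agent.MonsterX.ConcGrp

open Cfsg.Agent.Monster.VecEngine Cfsg.Agent.Monster.VecSpace Cfsg.Agent.MonsterX.ProgBase Cfsg.Agent.MonsterX.Space
open Cfsg.Agent.MonsterX.Conc Cfsg.Agent.MonsterX.ConcMono Cfsg.Agent.MonsterX.ProgM

/-- From the identities of `ProgEq` to group elements. -/
theorem W_eq_of_SEq {w₁ w₂ : List ℕ} (h : ProgEqBase.SEq w₁ w₂) : W w₁ = W w₂ := by
  apply LinearEquiv.ext
  intro v
  apply Subtype.ext
  rw [W_coe, W_coe]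
  exact h v.1 v.2

/-! ### Inverses -/

theorem w_tau_taui : W [40, 41] = 1 := (W_eq_of_SEq ProgEqT.tau_tauInv).trans W_nil

theorem w_taui_tau : W [41, 40] = 1 := (W_eq_of_SEq ProgEqT.tauInv_tau).trans W_nil

theorem w_tau_cube : W [40, 40, 40] = 1 := (W_eq_of_SEq ProgEqT.tau_cube).trans W_nil

theorem w_xi_sq : W [39, 39] = 1 := (W_eq_of_SEq ProgEqXi.xi_xi).trans W_nil

theorem w_xi_q : W [39, 36, 13, 14, 42, 39] = W [0, 1, 2, 3, 4, 7, 10, 13, 14, 17, 18, 19, 22] :=
  W_eq_of_SEq ProgEqXiA.xi_q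

theorem E_taui : E 41 = (E 40)⁻¹ := by
  have h := w_tau_taui
  rw [W_cons, W_single] at h
  exact eq_inv_of_mul_eq_one_left h

theorem τ_cube : τ * τ * τ = 1 := by
  have h := w_tau_cube
  rw [W_cons, W_cons, W_single] at h
  exact h

theorem ξ_sq : E 39 * E 39 = 1 := by
  have h := w_xi_sq
  rw [W_cons, W_single] at h
  exact h

/-- The number of the inverse letter. -/
def iv (n : ℕ) : ℕ :=
  if n = 36 then 42 else if n = 42 then 36 else if n = 37 then 43 else if n = 43 then 37 else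
  if n = 38 then 44 else if n = 44 then 38 else if n = 40 then 41 else if n = 41 then 40 else n

theorem E_z_sq : E 45 * E 45 = 1 := by
  have h : W [45, 45] = W [] := W_eq_of_same (by decide +kernel)
  rw [W_cons, W_single, W_nil] at h
  exact h

theorem E_iv_mul {n : ℕ} (h : n < 46) : E (iv n) * E n = 1 := by
  rcases Nat.lt_or_ge n 36 with h1 | h1
  · have : iv n = n := by
      unfold iv
      rw [if_neg (by omega), if_neg (by omega), if_neg (by omega), if_neg (by omega), if_neg (by omega),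
        if_neg (by omega), if_neg (by omega), if_neg (by omega)]
    rw [this]; exact sq_letter h1
  · have : n = 36 ∨ n = 37 ∨ n = 38 ∨ n = 39 ∨ n = 40 ∨ n = 41 ∨ n = 42 ∨ n = 43 ∨ n = 44 ∨ n = 45 := by omega
    rcases this with rfl | rfl | rfl | rfl | rfl | rfl | rfl | rfl | rfl | rfl
    · show E 42 * E 36 = 1
      rw [Inv.E_paInv, inv_mul_cancel]
    · show E 43 * E 37 = 1
      rw [Inv.E_pdInv, inv_mul_cancel]
    · show E 44 * E 38 = 1
      rw [Inv.E_pgInv, inv_mul_cancel]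
    · exact ξ_sq
    · show E 41 * E 40 = 1
      rw [E_taui, inv_mul_cancel]
    · show E 40 * E 41 = 1
      rw [E_taui, mul_inv_cancel]
    · show E 36 * E 42 = 1
      rw [Inv.E_paInv, mul_inv_cancel]
    · show E 37 * E 43 = 1
      rw [Inv.E_pdInv, mul_inv_cancel]
    · show E 38 * E 44 = 1
      rw [Inv.E_pgInv, mul_inv_cancel]
    · exact E_z_sq

theorem E_iv {n : ℕ} (h : n < 46) : E (iv n) = (E n)⁻¹ := eq_inv_of_mul_eq_one_left (E_iv_mul h)

/-- The inverse word. -/
def wiv (w : List ℕ) : List ℕ := (w.map iv).reverse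

theorem W_wiv {w : List ℕ} (h : ∀ n ∈ w, n < 46) : W (wiv w) = (W w)⁻¹ := by
  induction w with
  | nil => rw [show wiv [] = [] from rfl, W_nil, inv_one]
  | cons n w ih =>
    have e : wiv (n :: w) = wiv w ++ [iv n] := by simp [wiv]
    rw [e, W_append, W_single, W_cons, mul_inv_rev, ih fun m hm => h m (by simp [hm]), E_iv (h n (by simp))]

/-! ### Membership of words -/

/-- Letters of `Q`. -/
def inQ (n : ℕ) : Bool := Nat.ble n 23 || Nat.beq n 45

/-- Letters of `N`. -/
def inN (n : ℕ) : Bool := Nat.ble n 38 || (Nat.ble 42 n && Nat.ble n 45)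

/-- Letters of `N₀ = C_N(x_Ω)`. -/
def inN0 (n : ℕ) : Bool := (Nat.ble n 38 || (Nat.ble 42 n && Nat.ble n 45)) && !(Nat.beq n 12)

/-- Letters of `C`. -/
def inC (n : ℕ) : Bool := Nat.ble n 39 || (Nat.ble 42 n && Nat.ble n 45)

/-- Letters. -/
def inG (n : ℕ) : Bool := Nat.ble n 45

/-- `N₀ = C_N(x_Ω)`: all monomial letters except the odd `x_delta`. -/
noncomputable def N0 : Subgroup (V ≃ₗ[ℚ] V) := Subgroup.closure {g | ∃ n : ℕ, (n < 39 ∧ n ≠ 12) ∧ g = E n}

theorem E_mem_N0 {n : ℕ} (h : n < 39) (h' : n ≠ 12) : E n ∈ N0 := Subgroup.subset_closure ⟨n, ⟨h, h'⟩, rfl⟩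

theorem N0_le_N : N0 ≤ N := Subgroup.closure_mono fun _ ⟨n, h, e⟩ => ⟨n, h.1, e⟩

theorem z_mem_N0 : E 45 ∈ N0 := by
  have h := z_eq'
  rw [W_single] at h
  rw [h]
  apply W_mem
  intro n hn
  simp only [List.mem_cons, List.not_mem_nil, or_false] at hn
  exact E_mem_N0 (by omega) (by omega)

theorem E_mem_Q' {n : ℕ} (h : inQ n = true) : E n ∈ Q := by
  unfold inQ at h
  rw [Bool.or_eq_true] at h
  rcases h with h | h
  · exact E_mem_Q (Nat.lt_succ_of_le (Nat.le_of_ble_eq_true h))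
  · rw [Nat.eq_of_beq_eq_true h]; exact Inv.z_mem_Q

theorem mono_cases {n : ℕ} (h : (Nat.ble n 38 || (Nat.ble 42 n && Nat.ble n 45)) = true) :
    n < 39 ∨ 42 ≤ n ∧ n < 46 := by
  rw [Bool.or_eq_true, Bool.and_eq_true] at h
  rcases h with h | h
  · exact Or.inl (Nat.lt_succ_of_le (Nat.le_of_ble_eq_true h))
  · exact Or.inr ⟨Nat.le_of_ble_eq_true h.1, Nat.lt_succ_of_le (Nat.le_of_ble_eq_true h.2)⟩

theorem E_mem_N' {n : ℕ} (h : inN n = true) : E n ∈ N := Inv.E_mem_N' (mono_cases h)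

theorem E_mem_N0' {n : ℕ} (h : inN0 n = true) : E n ∈ N0 := by
  unfold inN0 at h
  rw [Bool.and_eq_true] at h
  have h12 : n ≠ 12 := by
    rintro rfl
    exact absurd h.2 (by decide)
  rcases mono_cases h.1 with h1 | ⟨h1, h2⟩
  · exact E_mem_N0 h1 h12
  · have : n = 42 ∨ n = 43 ∨ n = 44 ∨ n = 45 := by omega
    rcases this with rfl | rfl | rfl | rfl
    · rw [Inv.E_paInv]; exact N0.inv_mem (E_mem_N0 (by norm_num) (by norm_num))
    · rw [Inv.E_pdInv]; exact N0.inv_mem (E_mem_N0 (by norm_num) (by norm_num))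
    · rw [Inv.E_pgInv]; exact N0.inv_mem (E_mem_N0 (by norm_num) (by norm_num))
    · exact z_mem_N0

theorem E_mem_C' {n : ℕ} (h : inC n = true) : E n ∈ C := by
  unfold inC at h
  rw [Bool.or_eq_true, Bool.and_eq_true] at h
  rcases h with h | h
  · exact E_mem_C (Nat.lt_succ_of_le (Nat.le_of_ble_eq_true h))
  · exact N_le_C (Inv.E_mem_N' (Or.inr ⟨Nat.le_of_ble_eq_true h.1, Nat.lt_succ_of_le (Nat.le_of_ble_eq_true h.2)⟩))

theorem E_mem_G' {n : ℕ} (h : inG n = true) : E n ∈ G := by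
  have h1 : n < 46 := Nat.lt_succ_of_le (Nat.le_of_ble_eq_true h)
  rcases Nat.lt_or_ge n 41 with h2 | h2
  · exact E_mem_G h2
  · rcases Nat.eq_or_lt_of_le h2 with h3 | h3
    · rw [← h3, E_taui]; exact G.inv_mem τ_mem_G
    · exact C_le_G (N_le_C (Inv.E_mem_N' (Or.inr ⟨by omega, h1⟩)))

/-- WORDS IN `Q` (proof of the hypothesis: `rfl`). -/
theorem W_mem_Q {w : List ℕ} (h : w.all inQ = true) : W w ∈ Q :=
  W_mem fun n hn => E_mem_Q' (List.all_eq_true.1 h n hn)

theorem W_mem_N {w : List ℕ} (h : w.all inN = true) : W w ∈ N :=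
  W_mem fun n hn => E_mem_N' (List.all_eq_true.1 h n hn)

theorem W_mem_N0 {w : List ℕ} (h : w.all inN0 = true) : W w ∈ N0 :=
  W_mem fun n hn => E_mem_N0' (List.all_eq_true.1 h n hn)

theorem W_mem_C {w : List ℕ} (h : w.all inC = true) : W w ∈ C :=
  W_mem fun n hn => E_mem_C' (List.all_eq_true.1 h n hn)

theorem W_mem_G {w : List ℕ} (h : w.all inG = true) : W w ∈ G :=
  W_mem fun n hn => E_mem_G' (List.all_eq_true.1 h n hn)

theorem z_apply (v : V) (i : Lane U) : (z v).1 i = if ProgZ.hiM.testBit i.1 then - v.1 i else v.1 i := by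
  have h : (z v : Lane U → ℚ) = semU ℚ U ProgZ.z v.1 := E_coe 45 v
  rw [h]
  show (if ProgZ.hiM.testBit i.1 then - ext ℚ U v.1 i.1 else ext ℚ U v.1 i.1) = _
  rw [ext_coe]

/-- The central involution is not the identity. -/
theorem z_ne_one : z ≠ 1 := by
  intro h
  have hU : U.testBit 131072 = true := by decide +kernel
  have hup : upM.testBit 131072 = true := by decide +kernel
  have hhi : ProgZ.hiM.testBit 131072 = true := by decide +kernel
  have h1 := z_apply (upEquiv.symm fun _ => 1) ⟨131072, hU⟩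
  rw [h] at h1
  have h3 : (upEquiv.symm fun _ => 1 : V).1 ⟨131072, hU⟩ = 1 :=
    congrFun (upEquiv.apply_symm_apply fun _ => 1) ⟨131072, hup⟩
  have h2 : ((1 : V ≃ₗ[ℚ] V) (upEquiv.symm fun _ => 1)).1 ⟨131072, hU⟩ = 1 := h3
  rw [h2, h3, if_pos hhi] at h1
  norm_num at h1

/-! ### `τ` and the letters -/

theorem conj_of {a b : V ≃ₗ[ℚ] V} (h : τ * a = b * τ) : τ * a * τ⁻¹ = b := by
  rw [h, mul_inv_cancel_right]

theorem tau_x0 : τ * E 0 * τ⁻¹ = E 24 := by
  have h := W_eq_of_SEq ProgEqX0.tau_x0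
  rw [W_cons, W_single, W_cons, W_single] at h
  exact conj_of h

theorem tau_x1 : τ * E 1 * τ⁻¹ = E 25 := by
  have h := W_eq_of_SEq ProgEqX0.tau_x1
  rw [W_cons, W_single, W_cons, W_single] at h
  exact conj_of h

theorem tau_x2 : τ * E 2 * τ⁻¹ = E 26 := by
  have h := W_eq_of_SEq ProgEqX0.tau_x2
  rw [W_cons, W_single, W_cons, W_single] at h
  exact conj_of h

theorem tau_x3 : τ * E 3 * τ⁻¹ = E 27 := by
  have h := W_eq_of_SEq ProgEqX0.tau_x3
  rw [W_cons, W_single, W_cons, W_single] at h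
  exact conj_of h

theorem tau_x4 : τ * E 4 * τ⁻¹ = E 28 := by
  have h := W_eq_of_SEq ProgEqX0.tau_x4
  rw [W_cons, W_single, W_cons, W_single] at h
  exact conj_of h

theorem tau_x5 : τ * E 5 * τ⁻¹ = E 29 := by
  have h := W_eq_of_SEq ProgEqX0.tau_x5
  rw [W_cons, W_single, W_cons, W_single] at h
  exact conj_of h

theorem tau_x6 : τ * E 6 * τ⁻¹ = E 30 := by
  have h := W_eq_of_SEq ProgEqX1.tau_x6
  rw [W_cons, W_single, W_cons, W_single] at h
  exact conj_of h

theorem tau_x7 : τ * E 7 * τ⁻¹ = E 31 := by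
  have h := W_eq_of_SEq ProgEqX1.tau_x7
  rw [W_cons, W_single, W_cons, W_single] at h
  exact conj_of h

theorem tau_x8 : τ * E 8 * τ⁻¹ = E 32 := by
  have h := W_eq_of_SEq ProgEqX1.tau_x8
  rw [W_cons, W_single, W_cons, W_single] at h
  exact conj_of h

theorem tau_x9 : τ * E 9 * τ⁻¹ = E 33 := by
  have h := W_eq_of_SEq ProgEqX1.tau_x9
  rw [W_cons, W_single, W_cons, W_single] at h
  exact conj_of h

theorem tau_x10 : τ * E 10 * τ⁻¹ = E 34 := by
  have h := W_eq_of_SEq ProgEqX1.tau_x10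
  rw [W_cons, W_single, W_cons, W_single] at h
  exact conj_of h

theorem tau_x11 : τ * E 11 * τ⁻¹ = E 35 := by
  have h := W_eq_of_SEq ProgEqX1.tau_x11
  rw [W_cons, W_single, W_cons, W_single] at h
  exact conj_of h

theorem comm_xy0 : E 0 * E 24 = E 24 * E 0 := by
  have h : W [24, 0] = W [0, 24] := W_eq_of_same (by decide +kernel)
  rw [W_cons, W_single, W_cons, W_single] at h
  exact h

theorem tau_y0 : τ * E 24 * τ⁻¹ = E 0 * E 24 := by
  have h := W_eq_of_SEq ProgEqY0.tau_y0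
  rw [W_cons, W_cons, W_cons, W_single, W_single] at h
  -- `E c * E (24+c) * τ * E (24+c) = τ`
  have h1 : E 0 * E 24 * (τ * E 24) = τ := by rw [← mul_assoc]; exact h
  have h2 : E 0 * E 24 * (E 0 * E 24) = 1 := by
    calc E 0 * E 24 * (E 0 * E 24) = E 0 * (E 24 * E 0) * E 24 := by simp only [mul_assoc]
      _ = E 0 * (E 0 * E 24) * E 24 := by rw [comm_xy0]
      _ = (E 0 * E 0) * (E 24 * E 24) := by simp only [mul_assoc]
      _ = 1 := by rw [sq_letter (n := 0) (by norm_num), sq_letter (n := 24) (by norm_num), mul_one]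
  apply conj_of
  calc τ * E 24 = (E 0 * E 24 * (E 0 * E 24)) * (τ * E 24) := by rw [h2, one_mul]
    _ = E 0 * E 24 * (E 0 * E 24 * (τ * E 24)) := by simp only [mul_assoc]
    _ = E 0 * E 24 * τ := by rw [h1]

theorem comm_xy1 : E 1 * E 25 = E 25 * E 1 := by
  have h : W [25, 1] = W [1, 25] := W_eq_of_same (by decide +kernel)
  rw [W_cons, W_single, W_cons, W_single] at h
  exact h

theorem tau_y1 : τ * E 25 * τ⁻¹ = E 1 * E 25 := by
  have h := W_eq_of_SEq ProgEqY0.tau_y1
  rw [W_cons, W_cons, W_cons, W_single, W_single] at h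
  -- `E c * E (24+c) * τ * E (24+c) = τ`
  have h1 : E 1 * E 25 * (τ * E 25) = τ := by rw [← mul_assoc]; exact h
  have h2 : E 1 * E 25 * (E 1 * E 25) = 1 := by
    calc E 1 * E 25 * (E 1 * E 25) = E 1 * (E 25 * E 1) * E 25 := by simp only [mul_assoc]
      _ = E 1 * (E 1 * E 25) * E 25 := by rw [comm_xy1]
      _ = (E 1 * E 1) * (E 25 * E 25) := by simp only [mul_assoc]
      _ = 1 := by rw [sq_letter (n := 1) (by norm_num), sq_letter (n := 25) (by norm_num), mul_one]
  apply conj_of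
  calc τ * E 25 = (E 1 * E 25 * (E 1 * E 25)) * (τ * E 25) := by rw [h2, one_mul]
    _ = E 1 * E 25 * (E 1 * E 25 * (τ * E 25)) := by simp only [mul_assoc]
    _ = E 1 * E 25 * τ := by rw [h1]

theorem comm_xy2 : E 2 * E 26 = E 26 * E 2 := by
  have h : W [26, 2] = W [2, 26] := W_eq_of_same (by decide +kernel)
  rw [W_cons, W_single, W_cons, W_single] at h
  exact h

theorem tau_y2 : τ * E 26 * τ⁻¹ = E 2 * E 26 := by
  have h := W_eq_of_SEq ProgEqY0.tau_y2
  rw [W_cons, W_cons, W_cons, W_single, W_single] at h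
  -- `E c * E (24+c) * τ * E (24+c) = τ`
  have h1 : E 2 * E 26 * (τ * E 26) = τ := by rw [← mul_assoc]; exact h
  have h2 : E 2 * E 26 * (E 2 * E 26) = 1 := by
    calc E 2 * E 26 * (E 2 * E 26) = E 2 * (E 26 * E 2) * E 26 := by simp only [mul_assoc]
      _ = E 2 * (E 2 * E 26) * E 26 := by rw [comm_xy2]
      _ = (E 2 * E 2) * (E 26 * E 26) := by simp only [mul_assoc]
      _ = 1 := by rw [sq_letter (n := 2) (by norm_num), sq_letter (n := 26) (by norm_num), mul_one]
  apply conj_of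
  calc τ * E 26 = (E 2 * E 26 * (E 2 * E 26)) * (τ * E 26) := by rw [h2, one_mul]
    _ = E 2 * E 26 * (E 2 * E 26 * (τ * E 26)) := by simp only [mul_assoc]
    _ = E 2 * E 26 * τ := by rw [h1]

theorem comm_xy3 : E 3 * E 27 = E 27 * E 3 := by
  have h : W [27, 3] = W [3, 27] := W_eq_of_same (by decide +kernel)
  rw [W_cons, W_single, W_cons, W_single] at h
  exact h

theorem tau_y3 : τ * E 27 * τ⁻¹ = E 3 * E 27 := by
  have h := W_eq_of_SEq ProgEqY0.tau_y3
  rw [W_cons, W_cons, W_cons, W_single, W_single] at h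
  -- `E c * E (24+c) * τ * E (24+c) = τ`
  have h1 : E 3 * E 27 * (τ * E 27) = τ := by rw [← mul_assoc]; exact h
  have h2 : E 3 * E 27 * (E 3 * E 27) = 1 := by
    calc E 3 * E 27 * (E 3 * E 27) = E 3 * (E 27 * E 3) * E 27 := by simp only [mul_assoc]
      _ = E 3 * (E 3 * E 27) * E 27 := by rw [comm_xy3]
      _ = (E 3 * E 3) * (E 27 * E 27) := by simp only [mul_assoc]
      _ = 1 := by rw [sq_letter (n := 3) (by norm_num), sq_letter (n := 27) (by norm_num), mul_one]
  apply conj_of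
  calc τ * E 27 = (E 3 * E 27 * (E 3 * E 27)) * (τ * E 27) := by rw [h2, one_mul]
    _ = E 3 * E 27 * (E 3 * E 27 * (τ * E 27)) := by simp only [mul_assoc]
    _ = E 3 * E 27 * τ := by rw [h1]

theorem comm_xy4 : E 4 * E 28 = E 28 * E 4 := by
  have h : W [28, 4] = W [4, 28] := W_eq_of_same (by decide +kernel)
  rw [W_cons, W_single, W_cons, W_single] at h
  exact h

theorem tau_y4 : τ * E 28 * τ⁻¹ = E 4 * E 28 := by
  have h := W_eq_of_SEq ProgEqY1.tau_y4
  rw [W_cons, W_cons, W_cons, W_single, W_single] at h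
  -- `E c * E (24+c) * τ * E (24+c) = τ`
  have h1 : E 4 * E 28 * (τ * E 28) = τ := by rw [← mul_assoc]; exact h
  have h2 : E 4 * E 28 * (E 4 * E 28) = 1 := by
    calc E 4 * E 28 * (E 4 * E 28) = E 4 * (E 28 * E 4) * E 28 := by simp only [mul_assoc]
      _ = E 4 * (E 4 * E 28) * E 28 := by rw [comm_xy4]
      _ = (E 4 * E 4) * (E 28 * E 28) := by simp only [mul_assoc]
      _ = 1 := by rw [sq_letter (n := 4) (by norm_num), sq_letter (n := 28) (by norm_num), mul_one]
  apply conj_of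
  calc τ * E 28 = (E 4 * E 28 * (E 4 * E 28)) * (τ * E 28) := by rw [h2, one_mul]
    _ = E 4 * E 28 * (E 4 * E 28 * (τ * E 28)) := by simp only [mul_assoc]
    _ = E 4 * E 28 * τ := by rw [h1]

theorem comm_xy5 : E 5 * E 29 = E 29 * E 5 := by
  have h : W [29, 5] = W [5, 29] := W_eq_of_same (by decide +kernel)
  rw [W_cons, W_single, W_cons, W_single] at h
  exact h

theorem tau_y5 : τ * E 29 * τ⁻¹ = E 5 * E 29 := by
  have h := W_eq_of_SEq ProgEqY1.tau_y5
  rw [W_cons, W_cons, W_cons, W_single, W_single] at h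
  -- `E c * E (24+c) * τ * E (24+c) = τ`
  have h1 : E 5 * E 29 * (τ * E 29) = τ := by rw [← mul_assoc]; exact h
  have h2 : E 5 * E 29 * (E 5 * E 29) = 1 := by
    calc E 5 * E 29 * (E 5 * E 29) = E 5 * (E 29 * E 5) * E 29 := by simp only [mul_assoc]
      _ = E 5 * (E 5 * E 29) * E 29 := by rw [comm_xy5]
      _ = (E 5 * E 5) * (E 29 * E 29) := by simp only [mul_assoc]
      _ = 1 := by rw [sq_letter (n := 5) (by norm_num), sq_letter (n := 29) (by norm_num), mul_one]
  apply conj_of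
  calc τ * E 29 = (E 5 * E 29 * (E 5 * E 29)) * (τ * E 29) := by rw [h2, one_mul]
    _ = E 5 * E 29 * (E 5 * E 29 * (τ * E 29)) := by simp only [mul_assoc]
    _ = E 5 * E 29 * τ := by rw [h1]

theorem comm_xy6 : E 6 * E 30 = E 30 * E 6 := by
  have h : W [30, 6] = W [6, 30] := W_eq_of_same (by decide +kernel)
  rw [W_cons, W_single, W_cons, W_single] at h
  exact h

theorem tau_y6 : τ * E 30 * τ⁻¹ = E 6 * E 30 := by
  have h := W_eq_of_SEq ProgEqY1.tau_y6
  rw [W_cons, W_cons, W_cons, W_single, W_single] at h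
  -- `E c * E (24+c) * τ * E (24+c) = τ`
  have h1 : E 6 * E 30 * (τ * E 30) = τ := by rw [← mul_assoc]; exact h
  have h2 : E 6 * E 30 * (E 6 * E 30) = 1 := by
    calc E 6 * E 30 * (E 6 * E 30) = E 6 * (E 30 * E 6) * E 30 := by simp only [mul_assoc]
      _ = E 6 * (E 6 * E 30) * E 30 := by rw [comm_xy6]
      _ = (E 6 * E 6) * (E 30 * E 30) := by simp only [mul_assoc]
      _ = 1 := by rw [sq_letter (n := 6) (by norm_num), sq_letter (n := 30) (by norm_num), mul_one]
  apply conj_of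
  calc τ * E 30 = (E 6 * E 30 * (E 6 * E 30)) * (τ * E 30) := by rw [h2, one_mul]
    _ = E 6 * E 30 * (E 6 * E 30 * (τ * E 30)) := by simp only [mul_assoc]
    _ = E 6 * E 30 * τ := by rw [h1]

theorem comm_xy7 : E 7 * E 31 = E 31 * E 7 := by
  have h : W [31, 7] = W [7, 31] := W_eq_of_same (by decide +kernel)
  rw [W_cons, W_single, W_cons, W_single] at h
  exact h

theorem tau_y7 : τ * E 31 * τ⁻¹ = E 7 * E 31 := by
  have h := W_eq_of_SEq ProgEqY1.tau_y7
  rw [W_cons, W_cons, W_cons, W_single, W_single] at h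
  -- `E c * E (24+c) * τ * E (24+c) = τ`
  have h1 : E 7 * E 31 * (τ * E 31) = τ := by rw [← mul_assoc]; exact h
  have h2 : E 7 * E 31 * (E 7 * E 31) = 1 := by
    calc E 7 * E 31 * (E 7 * E 31) = E 7 * (E 31 * E 7) * E 31 := by simp only [mul_assoc]
      _ = E 7 * (E 7 * E 31) * E 31 := by rw [comm_xy7]
      _ = (E 7 * E 7) * (E 31 * E 31) := by simp only [mul_assoc]
      _ = 1 := by rw [sq_letter (n := 7) (by norm_num), sq_letter (n := 31) (by norm_num), mul_one]
  apply conj_of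
  calc τ * E 31 = (E 7 * E 31 * (E 7 * E 31)) * (τ * E 31) := by rw [h2, one_mul]
    _ = E 7 * E 31 * (E 7 * E 31 * (τ * E 31)) := by simp only [mul_assoc]
    _ = E 7 * E 31 * τ := by rw [h1]

theorem comm_xy8 : E 8 * E 32 = E 32 * E 8 := by
  have h : W [32, 8] = W [8, 32] := W_eq_of_same (by decide +kernel)
  rw [W_cons, W_single, W_cons, W_single] at h
  exact h

theorem tau_y8 : τ * E 32 * τ⁻¹ = E 8 * E 32 := by
  have h := W_eq_of_SEq ProgEqY2.tau_y8
  rw [W_cons, W_cons, W_cons, W_single, W_single] at h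
  -- `E c * E (24+c) * τ * E (24+c) = τ`
  have h1 : E 8 * E 32 * (τ * E 32) = τ := by rw [← mul_assoc]; exact h
  have h2 : E 8 * E 32 * (E 8 * E 32) = 1 := by
    calc E 8 * E 32 * (E 8 * E 32) = E 8 * (E 32 * E 8) * E 32 := by simp only [mul_assoc]
      _ = E 8 * (E 8 * E 32) * E 32 := by rw [comm_xy8]
      _ = (E 8 * E 8) * (E 32 * E 32) := by simp only [mul_assoc]
      _ = 1 := by rw [sq_letter (n := 8) (by norm_num), sq_letter (n := 32) (by norm_num), mul_one]
  apply conj_of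
  calc τ * E 32 = (E 8 * E 32 * (E 8 * E 32)) * (τ * E 32) := by rw [h2, one_mul]
    _ = E 8 * E 32 * (E 8 * E 32 * (τ * E 32)) := by simp only [mul_assoc]
    _ = E 8 * E 32 * τ := by rw [h1]

theorem comm_xy9 : E 9 * E 33 = E 33 * E 9 := by
  have h : W [33, 9] = W [9, 33] := W_eq_of_same (by decide +kernel)
  rw [W_cons, W_single, W_cons, W_single] at h
  exact h

theorem tau_y9 : τ * E 33 * τ⁻¹ = E 9 * E 33 := by
  have h := W_eq_of_SEq ProgEqY2.tau_y9
  rw [W_cons, W_cons, W_cons, W_single, W_single] at h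
  -- `E c * E (24+c) * τ * E (24+c) = τ`
  have h1 : E 9 * E 33 * (τ * E 33) = τ := by rw [← mul_assoc]; exact h
  have h2 : E 9 * E 33 * (E 9 * E 33) = 1 := by
    calc E 9 * E 33 * (E 9 * E 33) = E 9 * (E 33 * E 9) * E 33 := by simp only [mul_assoc]
      _ = E 9 * (E 9 * E 33) * E 33 := by rw [comm_xy9]
      _ = (E 9 * E 9) * (E 33 * E 33) := by simp only [mul_assoc]
      _ = 1 := by rw [sq_letter (n := 9) (by norm_num), sq_letter (n := 33) (by norm_num), mul_one]
  apply conj_of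
  calc τ * E 33 = (E 9 * E 33 * (E 9 * E 33)) * (τ * E 33) := by rw [h2, one_mul]
    _ = E 9 * E 33 * (E 9 * E 33 * (τ * E 33)) := by simp only [mul_assoc]
    _ = E 9 * E 33 * τ := by rw [h1]

theorem comm_xy10 : E 10 * E 34 = E 34 * E 10 := by
  have h : W [34, 10] = W [10, 34] := W_eq_of_same (by decide +kernel)
  rw [W_cons, W_single, W_cons, W_single] at h
  exact h

theorem tau_y10 : τ * E 34 * τ⁻¹ = E 10 * E 34 := by
  have h := W_eq_of_SEq ProgEqY2.tau_y10
  rw [W_cons, W_cons, W_cons, W_single, W_single] at h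
  -- `E c * E (24+c) * τ * E (24+c) = τ`
  have h1 : E 10 * E 34 * (τ * E 34) = τ := by rw [← mul_assoc]; exact h
  have h2 : E 10 * E 34 * (E 10 * E 34) = 1 := by
    calc E 10 * E 34 * (E 10 * E 34) = E 10 * (E 34 * E 10) * E 34 := by simp only [mul_assoc]
      _ = E 10 * (E 10 * E 34) * E 34 := by rw [comm_xy10]
      _ = (E 10 * E 10) * (E 34 * E 34) := by simp only [mul_assoc]
      _ = 1 := by rw [sq_letter (n := 10) (by norm_num), sq_letter (n := 34) (by norm_num), mul_one]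
  apply conj_of
  calc τ * E 34 = (E 10 * E 34 * (E 10 * E 34)) * (τ * E 34) := by rw [h2, one_mul]
    _ = E 10 * E 34 * (E 10 * E 34 * (τ * E 34)) := by simp only [mul_assoc]
    _ = E 10 * E 34 * τ := by rw [h1]

theorem comm_xy11 : E 11 * E 35 = E 35 * E 11 := by
  have h : W [35, 11] = W [11, 35] := W_eq_of_same (by decide +kernel)
  rw [W_cons, W_single, W_cons, W_single] at h
  exact h

theorem tau_y11 : τ * E 35 * τ⁻¹ = E 11 * E 35 := by
  have h := W_eq_of_SEq ProgEqY2.tau_y11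
  rw [W_cons, W_cons, W_cons, W_single, W_single] at h
  -- `E c * E (24+c) * τ * E (24+c) = τ`
  have h1 : E 11 * E 35 * (τ * E 35) = τ := by rw [← mul_assoc]; exact h
  have h2 : E 11 * E 35 * (E 11 * E 35) = 1 := by
    calc E 11 * E 35 * (E 11 * E 35) = E 11 * (E 35 * E 11) * E 35 := by simp only [mul_assoc]
      _ = E 11 * (E 11 * E 35) * E 35 := by rw [comm_xy11]
      _ = (E 11 * E 11) * (E 35 * E 35) := by simp only [mul_assoc]
      _ = 1 := by rw [sq_letter (n := 11) (by norm_num), sq_letter (n := 35) (by norm_num), mul_one]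
  apply conj_of
  calc τ * E 35 = (E 11 * E 35 * (E 11 * E 35)) * (τ * E 35) := by rw [h2, one_mul]
    _ = E 11 * E 35 * (E 11 * E 35 * (τ * E 35)) := by simp only [mul_assoc]
    _ = E 11 * E 35 * τ := by rw [h1]

theorem tau_d1 : τ * E 13 * τ⁻¹ = E 13 := by
  have h := W_eq_of_SEq ProgEqD0.tau_d1
  rw [W_cons, W_single, W_cons, W_single] at h
  exact conj_of h

theorem tau_d2 : τ * E 14 * τ⁻¹ = E 14 := by
  have h := W_eq_of_SEq ProgEqD0.tau_d2
  rw [W_cons, W_single, W_cons, W_single] at h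
  exact conj_of h

theorem tau_d3 : τ * E 15 * τ⁻¹ = E 15 := by
  have h := W_eq_of_SEq ProgEqD0.tau_d3
  rw [W_cons, W_single, W_cons, W_single] at h
  exact conj_of h

theorem tau_d4 : τ * E 16 * τ⁻¹ = E 16 := by
  have h := W_eq_of_SEq ProgEqD0.tau_d4
  rw [W_cons, W_single, W_cons, W_single] at h
  exact conj_of h

theorem tau_d5 : τ * E 17 * τ⁻¹ = E 17 := by
  have h := W_eq_of_SEq ProgEqD0.tau_d5
  rw [W_cons, W_single, W_cons, W_single] at h
  exact conj_of h

theorem tau_d6 : τ * E 18 * τ⁻¹ = E 18 := by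
  have h := W_eq_of_SEq ProgEqD0.tau_d6
  rw [W_cons, W_single, W_cons, W_single] at h
  exact conj_of h

theorem tau_d7 : τ * E 19 * τ⁻¹ = E 19 := by
  have h := W_eq_of_SEq ProgEqD1.tau_d7
  rw [W_cons, W_single, W_cons, W_single] at h
  exact conj_of h

theorem tau_d8 : τ * E 20 * τ⁻¹ = E 20 := by
  have h := W_eq_of_SEq ProgEqD1.tau_d8
  rw [W_cons, W_single, W_cons, W_single] at h
  exact conj_of h

theorem tau_d9 : τ * E 21 * τ⁻¹ = E 21 := by
  have h := W_eq_of_SEq ProgEqD1.tau_d9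
  rw [W_cons, W_single, W_cons, W_single] at h
  exact conj_of h

theorem tau_d10 : τ * E 22 * τ⁻¹ = E 22 := by
  have h := W_eq_of_SEq ProgEqD1.tau_d10
  rw [W_cons, W_single, W_cons, W_single] at h
  exact conj_of h

theorem tau_d11 : τ * E 23 * τ⁻¹ = E 23 := by
  have h := W_eq_of_SEq ProgEqD1.tau_d11
  rw [W_cons, W_single, W_cons, W_single] at h
  exact conj_of h

theorem tau_pa : τ * E 36 * τ⁻¹ = E 36 := by
  have h := W_eq_of_SEq ProgEqP.tau_pa
  rw [W_cons, W_single, W_cons, W_single] at h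
  exact conj_of h

theorem tau_pd : τ * E 37 * τ⁻¹ = E 37 := by
  have h := W_eq_of_SEq ProgEqP.tau_pd
  rw [W_cons, W_single, W_cons, W_single] at h
  exact conj_of h

theorem tau_pg : τ * E 38 * τ⁻¹ = E 38 := by
  have h := W_eq_of_SEq ProgEqP.tau_pg
  rw [W_cons, W_single, W_cons, W_single] at h
  exact conj_of h

theorem tau_d0 : E 12 * τ * (E 12)⁻¹ = τ⁻¹ := by
  have h := W_eq_of_SEq ProgEqT.d0_tau
  rw [W_cons, W_single, W_cons, W_single, E_taui] at h
  -- `τ * e = e * τ⁻¹`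
  have h1 : τ * E 12 = E 12 * τ⁻¹ := h
  have h2 : E 12 * E 12 = 1 := sq_letter (by norm_num)
  have h3 : (E 12)⁻¹ = E 12 := (eq_inv_of_mul_eq_one_left h2).symm
  rw [h3, mul_assoc, h1, ← mul_assoc, h2, one_mul]

theorem tau_conj_mem {n : ℕ} (h : n < 39) (h' : n ≠ 12) : τ * E n * τ⁻¹ ∈ N0 := by
  have key : ∀ {g : V ≃ₗ[ℚ] V} {S : V ≃ₗ[ℚ] V}, g = S → S ∈ N0 → g ∈ N0 := fun e hS => e ▸ hS
  interval_cases n
  · exact key tau_x0 (E_mem_N0 (by norm_num) (by norm_num))
  · exact key tau_x1 (E_mem_N0 (by norm_num) (by norm_num))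
  · exact key tau_x2 (E_mem_N0 (by norm_num) (by norm_num))
  · exact key tau_x3 (E_mem_N0 (by norm_num) (by norm_num))
  · exact key tau_x4 (E_mem_N0 (by norm_num) (by norm_num))
  · exact key tau_x5 (E_mem_N0 (by norm_num) (by norm_num))
  · exact key tau_x6 (E_mem_N0 (by norm_num) (by norm_num))
  · exact key tau_x7 (E_mem_N0 (by norm_num) (by norm_num))
  · exact key tau_x8 (E_mem_N0 (by norm_num) (by norm_num))
  · exact key tau_x9 (E_mem_N0 (by norm_num) (by norm_num))
  · exact key tau_x10 (E_mem_N0 (by norm_num) (by norm_num))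
  · exact key tau_x11 (E_mem_N0 (by norm_num) (by norm_num))
  · exact absurd rfl h'
  · exact key tau_d1 (E_mem_N0 (by norm_num) (by norm_num))
  · exact key tau_d2 (E_mem_N0 (by norm_num) (by norm_num))
  · exact key tau_d3 (E_mem_N0 (by norm_num) (by norm_num))
  · exact key tau_d4 (E_mem_N0 (by norm_num) (by norm_num))
  · exact key tau_d5 (E_mem_N0 (by norm_num) (by norm_num))
  · exact key tau_d6 (E_mem_N0 (by norm_num) (by norm_num))
  · exact key tau_d7 (E_mem_N0 (by norm_num) (by norm_num))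
  · exact key tau_d8 (E_mem_N0 (by norm_num) (by norm_num))
  · exact key tau_d9 (E_mem_N0 (by norm_num) (by norm_num))
  · exact key tau_d10 (E_mem_N0 (by norm_num) (by norm_num))
  · exact key tau_d11 (E_mem_N0 (by norm_num) (by norm_num))
  · exact key tau_y0 (N0.mul_mem (E_mem_N0 (by norm_num) (by norm_num)) (E_mem_N0 (by norm_num) (by norm_num)))
  · exact key tau_y1 (N0.mul_mem (E_mem_N0 (by norm_num) (by norm_num)) (E_mem_N0 (by norm_num) (by norm_num)))
  · exact key tau_y2 (N0.mul_mem (E_mem_N0 (by norm_num) (by norm_num)) (E_mem_N0 (by norm_num) (by norm_num)))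
  · exact key tau_y3 (N0.mul_mem (E_mem_N0 (by norm_num) (by norm_num)) (E_mem_N0 (by norm_num) (by norm_num)))
  · exact key tau_y4 (N0.mul_mem (E_mem_N0 (by norm_num) (by norm_num)) (E_mem_N0 (by norm_num) (by norm_num)))
  · exact key tau_y5 (N0.mul_mem (E_mem_N0 (by norm_num) (by norm_num)) (E_mem_N0 (by norm_num) (by norm_num)))
  · exact key tau_y6 (N0.mul_mem (E_mem_N0 (by norm_num) (by norm_num)) (E_mem_N0 (by norm_num) (by norm_num)))
  · exact key tau_y7 (N0.mul_mem (E_mem_N0 (by norm_num) (by norm_num)) (E_mem_N0 (by norm_num) (by norm_num)))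
  · exact key tau_y8 (N0.mul_mem (E_mem_N0 (by norm_num) (by norm_num)) (E_mem_N0 (by norm_num) (by norm_num)))
  · exact key tau_y9 (N0.mul_mem (E_mem_N0 (by norm_num) (by norm_num)) (E_mem_N0 (by norm_num) (by norm_num)))
  · exact key tau_y10 (N0.mul_mem (E_mem_N0 (by norm_num) (by norm_num)) (E_mem_N0 (by norm_num) (by norm_num)))
  · exact key tau_y11 (N0.mul_mem (E_mem_N0 (by norm_num) (by norm_num)) (E_mem_N0 (by norm_num) (by norm_num)))
  · exact key tau_pa (E_mem_N0 (by norm_num) (by norm_num))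
  · exact key tau_pd (E_mem_N0 (by norm_num) (by norm_num))
  · exact key tau_pg (E_mem_N0 (by norm_num) (by norm_num))

theorem inv_conj_of {a b : V ≃ₗ[ℚ] V} (h : τ * a * τ⁻¹ = b) : τ⁻¹ * b * τ = a := by
  rw [← h]; group

theorem taui_conj_mem {n : ℕ} (h : n < 39) (h' : n ≠ 12) : τ⁻¹ * E n * τ ∈ N0 := by
  have key : ∀ {g : V ≃ₗ[ℚ] V} {S : V ≃ₗ[ℚ] V}, g = S → S ∈ N0 → g ∈ N0 := fun e hS => e ▸ hS
  have hx : ∀ {x y : V ≃ₗ[ℚ] V}, τ * x * τ⁻¹ = y → τ * y * τ⁻¹ = x * y → y * y = 1 → y ∈ N0 → x ∈ N0 →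
      τ⁻¹ * x * τ ∈ N0 := by
    intro x y h1 h2 h3 hy hx
    have e1 : τ⁻¹ * y * τ = x := inv_conj_of h1
    have e2 : τ⁻¹ * (x * y) * τ = y := inv_conj_of h2
    have e3 : τ⁻¹ * x * τ = τ⁻¹ * (x * y) * τ * (τ⁻¹ * y * τ) := by
      calc τ⁻¹ * x * τ = τ⁻¹ * (x * (y * y)) * τ := by rw [h3, mul_one]
        _ = τ⁻¹ * (x * y) * τ * (τ⁻¹ * y * τ) := by group
    rw [e3, e1, e2]
    exact N0.mul_mem hy hx
  interval_cases n
  · exact hx tau_x0 tau_y0 (sq_letter (by norm_num)) (E_mem_N0 (by norm_num) (by norm_num)) (E_mem_N0 (by norm_num) (by norm_num))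
  · exact hx tau_x1 tau_y1 (sq_letter (by norm_num)) (E_mem_N0 (by norm_num) (by norm_num)) (E_mem_N0 (by norm_num) (by norm_num))
  · exact hx tau_x2 tau_y2 (sq_letter (by norm_num)) (E_mem_N0 (by norm_num) (by norm_num)) (E_mem_N0 (by norm_num) (by norm_num))
  · exact hx tau_x3 tau_y3 (sq_letter (by norm_num)) (E_mem_N0 (by norm_num) (by norm_num)) (E_mem_N0 (by norm_num) (by norm_num))
  · exact hx tau_x4 tau_y4 (sq_letter (by norm_num)) (E_mem_N0 (by norm_num) (by norm_num)) (E_mem_N0 (by norm_num) (by norm_num))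
  · exact hx tau_x5 tau_y5 (sq_letter (by norm_num)) (E_mem_N0 (by norm_num) (by norm_num)) (E_mem_N0 (by norm_num) (by norm_num))
  · exact hx tau_x6 tau_y6 (sq_letter (by norm_num)) (E_mem_N0 (by norm_num) (by norm_num)) (E_mem_N0 (by norm_num) (by norm_num))
  · exact hx tau_x7 tau_y7 (sq_letter (by norm_num)) (E_mem_N0 (by norm_num) (by norm_num)) (E_mem_N0 (by norm_num) (by norm_num))
  · exact hx tau_x8 tau_y8 (sq_letter (by norm_num)) (E_mem_N0 (by norm_num) (by norm_num)) (E_mem_N0 (by norm_num) (by norm_num))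
  · exact hx tau_x9 tau_y9 (sq_letter (by norm_num)) (E_mem_N0 (by norm_num) (by norm_num)) (E_mem_N0 (by norm_num) (by norm_num))
  · exact hx tau_x10 tau_y10 (sq_letter (by norm_num)) (E_mem_N0 (by norm_num) (by norm_num)) (E_mem_N0 (by norm_num) (by norm_num))
  · exact hx tau_x11 tau_y11 (sq_letter (by norm_num)) (E_mem_N0 (by norm_num) (by norm_num)) (E_mem_N0 (by norm_num) (by norm_num))
  · exact absurd rfl h'
  · exact key (inv_conj_of tau_d1) (E_mem_N0 (by norm_num) (by norm_num))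
  · exact key (inv_conj_of tau_d2) (E_mem_N0 (by norm_num) (by norm_num))
  · exact key (inv_conj_of tau_d3) (E_mem_N0 (by norm_num) (by norm_num))
  · exact key (inv_conj_of tau_d4) (E_mem_N0 (by norm_num) (by norm_num))
  · exact key (inv_conj_of tau_d5) (E_mem_N0 (by norm_num) (by norm_num))
  · exact key (inv_conj_of tau_d6) (E_mem_N0 (by norm_num) (by norm_num))
  · exact key (inv_conj_of tau_d7) (E_mem_N0 (by norm_num) (by norm_num))
  · exact key (inv_conj_of tau_d8) (E_mem_N0 (by norm_num) (by norm_num))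
  · exact key (inv_conj_of tau_d9) (E_mem_N0 (by norm_num) (by norm_num))
  · exact key (inv_conj_of tau_d10) (E_mem_N0 (by norm_num) (by norm_num))
  · exact key (inv_conj_of tau_d11) (E_mem_N0 (by norm_num) (by norm_num))
  · exact key (inv_conj_of tau_x0) (E_mem_N0 (by norm_num) (by norm_num))
  · exact key (inv_conj_of tau_x1) (E_mem_N0 (by norm_num) (by norm_num))
  · exact key (inv_conj_of tau_x2) (E_mem_N0 (by norm_num) (by norm_num))
  · exact key (inv_conj_of tau_x3) (E_mem_N0 (by norm_num) (by norm_num))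
  · exact key (inv_conj_of tau_x4) (E_mem_N0 (by norm_num) (by norm_num))
  · exact key (inv_conj_of tau_x5) (E_mem_N0 (by norm_num) (by norm_num))
  · exact key (inv_conj_of tau_x6) (E_mem_N0 (by norm_num) (by norm_num))
  · exact key (inv_conj_of tau_x7) (E_mem_N0 (by norm_num) (by norm_num))
  · exact key (inv_conj_of tau_x8) (E_mem_N0 (by norm_num) (by norm_num))
  · exact key (inv_conj_of tau_x9) (E_mem_N0 (by norm_num) (by norm_num))
  · exact key (inv_conj_of tau_x10) (E_mem_N0 (by norm_num) (by norm_num))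
  · exact key (inv_conj_of tau_x11) (E_mem_N0 (by norm_num) (by norm_num))
  · exact key (inv_conj_of tau_pa) (E_mem_N0 (by norm_num) (by norm_num))
  · exact key (inv_conj_of tau_pd) (E_mem_N0 (by norm_num) (by norm_num))
  · exact key (inv_conj_of tau_pg) (E_mem_N0 (by norm_num) (by norm_num))

theorem e_inv : (E 12)⁻¹ = E 12 := (eq_inv_of_mul_eq_one_left (sq_letter (by norm_num))).symm

theorem e_conj_of {n : ℕ} {w : List ℕ} (h : W [12, n, 12] = W w) (hw : w.all inN0 = true) :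
    E 12 * E n * E 12 ∈ N0 := by
  rw [W_cons, W_cons, W_single] at h
  rw [h]
  exact W_mem_N0 hw

theorem e_conj_mem {n : ℕ} (h : n < 39) (h' : n ≠ 12) : E 12 * E n * E 12 ∈ N0 := by
  interval_cases n
  · exact e_conj_of e0 rfl
  · exact e_conj_of e1 rfl
  · exact e_conj_of e2 rfl
  · exact e_conj_of e3 rfl
  · exact e_conj_of e4 rfl
  · exact e_conj_of e5 rfl
  · exact e_conj_of e6 rfl
  · exact e_conj_of e7 rfl
  · exact e_conj_of e8 rfl
  · exact e_conj_of e9 rfl
  · exact e_conj_of e10 rfl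
  · exact e_conj_of e11 rfl
  · exact absurd rfl h'
  · exact e_conj_of e13 rfl
  · exact e_conj_of e14 rfl
  · exact e_conj_of e15 rfl
  · exact e_conj_of e16 rfl
  · exact e_conj_of e17 rfl
  · exact e_conj_of e18 rfl
  · exact e_conj_of e19 rfl
  · exact e_conj_of e20 rfl
  · exact e_conj_of e21 rfl
  · exact e_conj_of e22 rfl
  · exact e_conj_of e23 rfl
  · exact e_conj_of e24 rfl
  · exact e_conj_of e25 rfl
  · exact e_conj_of e26 rfl
  · exact e_conj_of e27 rfl
  · exact e_conj_of e28 rfl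
  · exact e_conj_of e29 rfl
  · exact e_conj_of e30 rfl
  · exact e_conj_of e31 rfl
  · exact e_conj_of e32 rfl
  · exact e_conj_of e33 rfl
  · exact e_conj_of e34 rfl
  · exact e_conj_of e35 rfl
  · exact e_conj_of e36 rfl
  · exact e_conj_of e37 rfl
  · exact e_conj_of e38 rfl

theorem omega_comm {n : ℕ} (h : n < 39) (h' : n ≠ 12) : E n * E 0 = E 0 * E n := by
  have key : ∀ {m : ℕ}, W [0, m] = W [m, 0] → E m * E 0 = E 0 * E m := by
    intro m hm
    rw [W_cons, W_single, W_cons, W_single] at hm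
    exact hm
  interval_cases n
  · rfl
  · exact key omega1
  · exact key omega2
  · exact key omega3
  · exact key omega4
  · exact key omega5
  · exact key omega6
  · exact key omega7
  · exact key omega8
  · exact key omega9
  · exact key omega10
  · exact key omega11
  · exact absurd rfl h'
  · exact key omega13
  · exact key omega14
  · exact key omega15
  · exact key omega16
  · exact key omega17
  · exact key omega18
  · exact key omega19
  · exact key omega20
  · exact key omega21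
  · exact key omega22
  · exact key omega23
  · exact key omega24
  · exact key omega25
  · exact key omega26
  · exact key omega27
  · exact key omega28
  · exact key omega29
  · exact key omega30
  · exact key omega31
  · exact key omega32
  · exact key omega33
  · exact key omega34
  · exact key omega35
  · exact key omega36
  · exact key omega37
  · exact key omega38

theorem omega_e : E 12 * E 0 ≠ E 0 * E 12 := by
  intro h
  have h1 := omega12
  rw [W_cons, W_single, W_cons, W_cons, W_single] at h1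
  -- `E 12 * E 0 = E 45 * E 0 * E 12`
  rw [h] at h1
  have h2 : (1 : V ≃ₗ[ℚ] V) * (E 0 * E 12) = E 45 * (E 0 * E 12) := by rw [one_mul]; simpa only [mul_assoc] using h1
  exact z_ne_one (mul_right_cancel h2).symm

theorem N_eq : N = Subgroup.closure ({g | ∃ n : ℕ, (n < 39 ∧ n ≠ 12) ∧ g = E n} ∪ {E 12}) := by
  unfold N
  congr 1
  ext g
  constructor
  · rintro ⟨n, hn, rfl⟩
    by_cases h : n = 12
    · right; rw [h]; rfl
    · left; exact ⟨n, ⟨hn, h⟩, rfl⟩
  · rintro (⟨n, hn, rfl⟩ | h)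
    · exact ⟨n, hn.1, rfl⟩
    · rw [Set.mem_singleton_iff.1 h]; exact ⟨12, by norm_num, rfl⟩

/-- THE ACTION OF `τ` ON `N₀`, and the element `e = x_delta` (odd) inverting `τ`. -/
theorem tauData : CertOrb.TauData N N0 τ (E 12) := by
  rw [N_eq]
  refine CertTau.tauData_of_gens _ τ (E 12) (E 0) ?_ ?_ ?_ ?_ ?_ tau_d0 ?_ omega_e
  · rintro _ ⟨n, hn, rfl⟩; exact tau_conj_mem hn.1 hn.2
  · rintro _ ⟨n, hn, rfl⟩; exact taui_conj_mem hn.1 hn.2
  · rintro _ ⟨n, hn, rfl⟩; rw [e_inv]; exact e_conj_mem hn.1 hn.2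
  · rintro _ ⟨n, hn, rfl⟩; rw [e_inv]; exact e_conj_mem hn.1 hn.2
  · rw [sq_letter (by norm_num)]; exact Subgroup.one_mem _
  · rintro _ ⟨n, hn, rfl⟩; exact omega_comm hn.1 hn.2

end Cfsg.Agent.MonsterX.ConcGrp
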