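import Cfsg.Agent.MonsterX.InstData

/-!
# Evaluation of `W w (vecV x)` on lanes, the form with the base axis, `z` and `σ` on lanes
-/

set_option autoImplicit false

namespace Cfsg.Agent.MonsterX.InstEval

open Cfsg.Agent.Monster.VecEngine Cfsg.Agent.Monster.VecSpace Cfsg.Agent.MonsterX.Space
open Cfsg.Agent.MonsterX.ProgTable Cfsg.Agent.MonsterX.GensT Cfsg.Agent.MonsterX.ProgBase
open Cfsg.Agent.MonsterX.Conc Cfsg.Agent.MonsterX.Model Cfsg.Agent.MonsterX.InstData

/-! ### Running words -/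

theorem vecV_up_coe (n : ℕ) {x : Pl} (h : sym x = true) : (vecV (up n x) : Lane U → ℚ) = vecU ℚ U (up n x) := by
  rw [vecV_up, vecU_up, ← vecV_coe h]
  rfl

/-- THE RESULT OF A RUN: the planes `y` at the end are those of `2 ^ n • W w (vecV x)`. -/
theorem run_coe {n : ℕ} {w : List ℕ} {x : Pl} (hx : sym x = true) {k : Pl → Bool}
    (h : runL (w.map prog) (up n x) k = true) :
    ∃ y, (∀ i : Lane U, (2 : ℚ) ^ n * (W w (vecV x) : Lane U → ℚ) i = ((val y i.1 : ℤ) : ℚ)) ∧ k y = true := by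
  obtain ⟨y, hy, hk⟩ := runL_sound ℚ (m := 262144) two_ne_zero _ (fun P hP => (progs_goodT w P hP).good.ok) _ k h
  refine ⟨y, fun i => ?_, hk⟩
  have h1 : ((W w (vecV (up n x)) : V) : Lane U → ℚ) = vecU ℚ U y := by
    rw [W_coe, vecV_up_coe n hx, vecU_eq, vecU_eq, hy, res_semL ℚ fun P hP => (progs_goodT w P hP).good.pres]
  have h2 := congrArg (fun f => f i) h1
  rw [vecV_up, map_smul] at h2
  exact h2

/-- The value of the planes `y` in the lane `i` is `c`. -/
noncomputable def valIs (y : Pl) (i : ℕ) (c : ℤ) : Bool := decide (val y i = c)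

/-- The values of the planes `y` in the lanes of the list. -/
noncomputable def valsAre (y : Pl) (l : List (ℕ × ℤ)) : Bool :=
  List.rec (motive := fun _ => Bool) true (fun t _ ih => and (valIs y t.1 t.2) ih) l

theorem valsAre_spec {y : Pl} {l : List (ℕ × ℤ)} (h : valsAre y l = true) : ∀ t ∈ l, val y t.1 = t.2 := by
  induction l with
  | nil => simp
  | cons t l ih =>
    have h' : and (valIs y t.1 t.2) (valsAre y l) = true := h
    rw [Bool.and_eq_true] at h'
    intro s hs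
    rcases List.mem_cons.1 hs with rfl | hs
    · exact of_decide_eq_true h'.1
    · exact ih h'.2 s hs

/-- The kernel check of some lanes of `2 ^ n • W w (vecV x)`. -/
noncomputable def lanes (n : ℕ) (w : List ℕ) (x : Pl) (l : List (ℕ × ℤ)) : Bool :=
  runL (w.map prog) (up n x) fun y => valsAre y l

theorem lanes_sound {n : ℕ} {w : List ℕ} {x : Pl} {l : List (ℕ × ℤ)} (hx : sym x = true)
    (h : lanes n w x l = true) (i : Lane U) {c : ℤ} (hi : (i.1, c) ∈ l) :
    (W w (vecV x) : Lane U → ℚ) i = (c : ℚ) / 2 ^ n := by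
  obtain ⟨y, hy, hk⟩ := run_coe hx h
  rw [eq_div_iff (pow_ne_zero n two_ne_zero), mul_comm, hy i]
  exact_mod_cast valsAre_spec hk _ hi

/-! ### The form with the base axis -/

/-- The lane `(0, 0)` of the matrix. -/
noncomputable def l00 : Lane U := ⟨61440, by decide +kernel⟩

/-- The lane `(0, 1)` of the matrix. -/
noncomputable def l01 : Lane U := ⟨61441, by decide +kernel⟩

/-- The lane `(1, 0)` of the matrix. -/
noncomputable def l10 : Lane U := ⟨61472, by decide +kernel⟩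

/-- The lane `(1, 1)` of the matrix. -/
noncomputable def l11 : Lane U := ⟨61473, by decide +kernel⟩

/-- The lane of `X_{x_01}`. -/
noncomputable def lE : Lane U := ⟨62465, by decide +kernel⟩

theorem tb_single (k i : ℕ) : (Nat.shiftLeft 1 k).testBit i = decide (i = k) := by
  show ((1 : ℕ) <<< k).testBit i = _
  rw [Nat.testBit_shiftLeft]
  by_cases h : i = k
  · subst h; simp
  · by_cases h2 : k ≤ i
    · have h3 : 0 < i - k := by omega
      rw [decide_eq_false h, decide_eq_true (show i ≥ k from h2), Bool.true_and,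
        Nat.testBit_lt_two_pow (lt_of_lt_of_le one_lt_two (Nat.le_self_pow (by omega) 2))]
    · rw [decide_eq_false (show ¬ i ≥ k from h2), decide_eq_false h, Bool.false_and]

theorem tb_two (k l i : ℕ) : (Nat.lor (Nat.shiftLeft 1 k) (Nat.shiftLeft 1 l)).testBit i =
    (decide (i = k) || decide (i = l)) := by
  show ((Nat.shiftLeft 1 k) ||| (Nat.shiftLeft 1 l)).testBit i = _
  rw [Nat.testBit_or, tb_single, tb_single]

theorem u0_p : Nat.shiftLeft 0x300000003 61440 =
    Nat.lor (Nat.lor (Nat.shiftLeft 1 61440) (Nat.shiftLeft 1 61473))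
      (Nat.lor (Nat.shiftLeft 1 61441) (Nat.shiftLeft 1 61472)) :=
  Nat.eq_of_beq_eq_true (by decide +kernel)

theorem u0_s : Nat.shiftLeft 0x100000002 61440 = Nat.lor (Nat.shiftLeft 1 61441) (Nat.shiftLeft 1 61472) :=
  Nat.eq_of_beq_eq_true (by decide +kernel)

theorem val_u0B (i : ℕ) : val u0B i = (if i = 61440 then 1 else 0) + (if i = 61473 then 1 else 0) -
    (if i = 61441 then 1 else 0) - (if i = 61472 then 1 else 0) := by
  unfold u0B
  rw [u0_p, u0_s, val_cons, val_sgn]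
  unfold bt
  rw [show (Nat.lor (Nat.lor (Nat.shiftLeft 1 61440) (Nat.shiftLeft 1 61473))
      (Nat.lor (Nat.shiftLeft 1 61441) (Nat.shiftLeft 1 61472))).testBit i = _ from Nat.testBit_or .., tb_two, tb_two]
  by_cases h1 : i = 61440
  · subst h1; norm_num
  by_cases h2 : i = 61473
  · subst h2; norm_num
  by_cases h3 : i = 61441
  · subst h3; norm_num
  by_cases h4 : i = 61472
  · subst h4; norm_num
  simp [h1, h2, h3, h4]

theorem val_e0B (i : ℕ) : val e0B i = if i = 62465 then 2 else 0 := by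
  unfold e0B
  rw [val_cons, val_cons, val_sgn]
  unfold bt
  rw [tb_single]
  by_cases h : i = 62465
  · subst h; norm_num
  · simp [h]

theorem u₀_apply (i : Lane U) : (u₀ : Lane U → ℚ) i = (if i.1 = 61440 then 1 else 0) +
    (if i.1 = 61473 then 1 else 0) - (if i.1 = 61441 then 1 else 0) - (if i.1 = 61472 then 1 else 0) := by
  unfold u₀
  rw [vecV_coe sym_u0B]
  show ((val u0B i.1 : ℤ) : ℚ) = _
  rw [val_u0B]
  push_cast
  rfl

theorem e₀_apply (i : Lane U) : (e₀ : Lane U → ℚ) i = if i.1 = 62465 then 2 else 0 := by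
  unfold e₀
  rw [vecV_coe sym_e0B]
  show ((val e0B i.1 : ℤ) : ℚ) = _
  rw [val_e0B]
  push_cast
  rfl

theorem sum_ite_lane (j : Lane U) (f : Lane U → ℚ) : ∑ i : Lane U, (if i.1 = j.1 then (1 : ℚ) else 0) * f i = f j := by
  rw [Finset.sum_eq_single j]
  · simp
  · intro i _ h
    rw [if_neg fun h' => h (Subtype.ext h'), zero_mul]
  · intro h; exact absurd (Finset.mem_univ j) h

theorem F_u₀ (v : V) : F u₀ v = v.1 l00 + v.1 l11 - v.1 l01 - v.1 l10 := by
  rw [F_sum]
  have h : ∀ i : Lane U, (u₀ : Lane U → ℚ) i * v.1 i = (if i.1 = l00.1 then (1 : ℚ) else 0) * v.1 i +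
      (if i.1 = l11.1 then (1 : ℚ) else 0) * v.1 i - (if i.1 = l01.1 then (1 : ℚ) else 0) * v.1 i -
      (if i.1 = l10.1 then (1 : ℚ) else 0) * v.1 i := by
    intro i
    rw [u₀_apply]
    show _ * _ = (if i.1 = 61440 then (1 : ℚ) else 0) * v.1 i + (if i.1 = 61473 then (1 : ℚ) else 0) * v.1 i -
      (if i.1 = 61441 then (1 : ℚ) else 0) * v.1 i - (if i.1 = 61472 then (1 : ℚ) else 0) * v.1 i
    ring
  rw [Finset.sum_congr rfl fun i _ => h i, Finset.sum_sub_distrib, Finset.sum_sub_distrib, Finset.sum_add_distrib,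
    sum_ite_lane, sum_ite_lane, sum_ite_lane, sum_ite_lane]

theorem F_e₀ (v : V) : F e₀ v = 2 * v.1 lE := by
  rw [F_sum]
  have h : ∀ i : Lane U, (e₀ : Lane U → ℚ) i * v.1 i = 2 * ((if i.1 = lE.1 then (1 : ℚ) else 0) * v.1 i) := by
    intro i
    rw [e₀_apply]
    show _ * _ = 2 * ((if i.1 = 62465 then (1 : ℚ) else 0) * v.1 i)
    split_ifs <;> ring
  rw [Finset.sum_congr rfl fun i _ => h i, ← Finset.mul_sum, sum_ite_lane]

/-- the matrix of a vector of `V` is symmetric -/
theorem symm_l (v : V) : v.1 l10 = v.1 l01 := by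
  have h := mem_Vs_iff.1 v.2 l01
  have e : l10 = trL l01 := Subtype.ext (by show (61472 : ℕ) = trN.perm 61441; decide +kernel)
  rw [e, h]

/-- THE FORM WITH THE BASE AXIS -/
theorem F_a₀ (v : V) : F (vecV a0B) v = v.1 l00 + v.1 l11 - 2 * v.1 l01 + 2 * v.1 lE := by
  rw [← a₀_eq, map_add, LinearMap.add_apply, F_u₀, F_e₀, symm_l]
  ring

/-- THE FORM WITH THE PARTNER OF THE BASE AXIS -/
theorem F_a₁ (v : V) : F (vecV a1B) v = v.1 l00 + v.1 l11 - 2 * v.1 l01 - 2 * v.1 lE := by
  rw [← a₁_eq, map_sub, LinearMap.sub_apply, F_u₀, F_e₀, symm_l]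
  ring

/-- The kernel check of `F a₀ (W w x) = c / 2 ^ n`, `F a₁ (W w x) = c' / 2 ^ n`. -/
noncomputable def formIs (n : ℕ) (w : List ℕ) (x : Pl) (c c' : ℤ) : Bool :=
  runL (w.map prog) (up n x) fun y =>
    and (decide (val y 61440 + val y 61473 - 2 * val y 61441 + 2 * val y 62465 = c))
      (decide (val y 61440 + val y 61473 - 2 * val y 61441 - 2 * val y 62465 = c'))

theorem formIs_sound {n : ℕ} {w : List ℕ} {x : Pl} {c c' : ℤ} (hx : sym x = true) (h : formIs n w x c c' = true) :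
    F (vecV a0B) (W w (vecV x)) = (c : ℚ) / 2 ^ n ∧ F (vecV a1B) (W w (vecV x)) = (c' : ℚ) / 2 ^ n := by
  obtain ⟨y, hy, hk⟩ := run_coe hx h
  rw [Bool.and_eq_true] at hk
  have h1 := of_decide_eq_true hk.1
  have h2 := of_decide_eq_true hk.2
  have h3 : ((2 : ℚ) ^ n) ≠ 0 := pow_ne_zero n two_ne_zero
  have g0 := hy l00
  have g1 := hy l11
  have g2 := hy l01
  have g3 := hy lE
  constructor
  · rw [F_a₀, eq_div_iff h3, ← h1]
    push_cast
    rw [← show ((val y l00.1 : ℤ) : ℚ) = ((val y 61440 : ℤ) : ℚ) from rfl,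
      ← show ((val y l11.1 : ℤ) : ℚ) = ((val y 61473 : ℤ) : ℚ) from rfl,
      ← show ((val y l01.1 : ℤ) : ℚ) = ((val y 61441 : ℤ) : ℚ) from rfl,
      ← show ((val y lE.1 : ℤ) : ℚ) = ((val y 62465 : ℤ) : ℚ) from rfl, ← g0, ← g1, ← g2, ← g3]
    ring
  · rw [F_a₁, eq_div_iff h3, ← h2]
    push_cast
    rw [← show ((val y l00.1 : ℤ) : ℚ) = ((val y 61440 : ℤ) : ℚ) from rfl,
      ← show ((val y l11.1 : ℤ) : ℚ) = ((val y 61473 : ℤ) : ℚ) from rfl,
      ← show ((val y l01.1 : ℤ) : ℚ) = ((val y 61441 : ℤ) : ℚ) from rfl,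
      ← show ((val y lE.1 : ℤ) : ℚ) = ((val y 62465 : ℤ) : ℚ) from rfl, ← g0, ← g1, ← g2, ← g3]
    ring

/-! ### `z` and `σ` on lanes -/

theorem z_apply (v : V) (i : Lane U) : (z v : Lane U → ℚ) i = if ProgZ.hiM.testBit i.1 = true then - v.1 i else v.1 i := by
  unfold z
  rw [E_coe]
  show semU ℚ U ProgZ.z v.1 i = _
  show (if ProgZ.hiM.testBit i.1 = true then - ext ℚ U v.1 i.1 else ext ℚ U v.1 i.1) = _
  rw [ext_coe]

theorem σ_apply (v : V) (i : Lane U) : (σ v : Lane U → ℚ) i = if sigM.testBit i.1 = true then - v.1 i else v.1 i := by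
  unfold σ
  rw [EP_coe sigP_goodT]
  show (if sigM.testBit i.1 = true then - ext ℚ U v.1 i.1 else ext ℚ U v.1 i.1) = _
  rw [ext_coe]

/-- `z` fixes a vector iff it vanishes on the lanes from `2 ^ 17` on. -/
theorem z_fix_iff (v : V) : z v = v ↔ ∀ i : Lane U, ProgZ.hiM.testBit i.1 = true → v.1 i = 0 := by
  constructor
  · intro h i hi
    have h1 := congrArg (fun f : V => f.1 i) h
    simp only [z_apply, if_pos hi] at h1
    linarith
  · intro h
    apply Subtype.ext
    funext i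
    rw [z_apply]
    split_ifs with hi
    · rw [h i hi, neg_zero]
    · rfl

end Cfsg.Agent.MonsterX.InstEval
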