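import Cfsg.Agent.MonsterX.KSLatModel
import Cfsg.Agent.MonsterX.CertOrb
import Cfsg.Agent.S0400
import Cfsg.Agent.S1574

/-!
The inputs `TriData`, `TauData`, `ConnData` of the `K`-side of the Monster from the closedness of the set of axes
and explicit facts on two axes.

* `Pr M pr`: `pr` is the projection on the span of the vectors `u v`;
* `Cls M pr d n`: the set of axes `⋃ K d j` is closed under `G`, `n j` is the norm of the projection of `d j`, and these
  norms are different;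
* `TwoB`: facts on the axis `b` of type `2B`;
* `triData`, `tauData`, `connData`: the results.
-/

set_option autoImplicit false

namespace Cfsg.Agent.MonsterX.KRigid

open Cfsg Cfsg.Agent.LeechMat.Core Cfsg.Agent.MonsterX.KSide Cfsg.Agent.MonsterX.KLift
  Cfsg.Agent.MonsterX.Lat

variable {G V P W : Type*} [Group G] [AddCommGroup V] [Module ℚ V]
  [DistribMulAction G V] [SMulCommClass G ℚ V] [Group P] [AddCommGroup W] [Module ℚ W]

/-- Linear maps agreeing on `u`, `X` and `Θ` are equal. -/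
theorem lin_ext (M : KS G V P W) {Z : Type*} [AddCommGroup Z] [Module ℚ Z] {f g : V →ₗ[ℚ] Z}
    (h1 : ∀ v, f (M.u v) = g (M.u v)) (h2 : ∀ x ∈ M.Sh, f (M.X x) = g (M.X x))
    (h3 : ∀ t v, f (M.Θ t (rat v)) = g (M.Θ t (rat v))) : f = g := by
  apply LinearMap.ext_on M.span
  rintro w ((⟨v, rfl⟩ | ⟨x, hx, rfl⟩) | ⟨t, v, rfl⟩)
  · exact h1 v
  · exact h2 x hx
  · exact h3 t v

/-- `pr` is the projection on the span of the vectors `u v`. -/
structure Pr (M : KS G V P W) (pr : V →ₗ[ℚ] V) : Prop where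
  u : ∀ v, pr (M.u v) = M.u v
  X : ∀ x ∈ M.Sh, pr (M.X x) = 0
  Θ : ∀ f v, pr (M.Θ f (rat v)) = 0

namespace Pr

variable {M : KS G V P W} {pr : V →ₗ[ℚ] V}

theorem mem (h : Pr M pr) (v : V) : pr v ∈ Submodule.span ℚ (Set.range M.u) := by
  have hv : v ∈ Submodule.span ℚ
      (Set.range M.u ∪ M.X '' M.Sh ∪ {w | ∃ f v, w = M.Θ f (rat v)}) := by
    rw [M.span]; trivial
  induction hv using Submodule.span_induction with
  | mem x hx =>
    rcases hx with (⟨v, rfl⟩ | ⟨y, hy, rfl⟩) | ⟨f, v, rfl⟩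
    · rw [h.u]; exact Submodule.subset_span ⟨v, rfl⟩
    · rw [h.X y hy]; exact Submodule.zero_mem _
    · rw [h.Θ]; exact Submodule.zero_mem _
  | zero => rw [map_zero]; exact Submodule.zero_mem _
  | add x y _ _ hx hy => rw [map_add]; exact Submodule.add_mem _ hx hy
  | smul c x _ hx => rw [map_smul]; exact Submodule.smul_mem _ _ hx

theorem B (h : Pr M pr) (v : V) (w : leechLattice) : M.B v (M.u w) = M.B (pr v) (M.u w) := by
  have h1 : M.B.flip (M.u w) = (M.B.flip (M.u w)).comp pr := by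
    refine lin_ext M (fun v => ?_) (fun x hx => ?_) fun t v => ?_
    · rw [LinearMap.comp_apply, h.u]
    · rw [LinearMap.comp_apply, h.X x hx, map_zero, LinearMap.flip_apply, M.B_uX' x hx]
    · rw [LinearMap.comp_apply, h.Θ, map_zero, LinearMap.flip_apply, M.B_comm, M.B_uΘ]
  exact LinearMap.congr_fun h1 v

theorem K (h : Pr M pr) {k : G} (hk : k ∈ M.K) (v : V) : pr (k • v) = k • pr v := by
  obtain ⟨A, α, T, hA⟩ := M.acts k hk
  have h1 : pr.comp (DistribSMul.toLinearMap ℚ V k) =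
      (DistribSMul.toLinearMap ℚ V k).comp pr := by
    refine lin_ext M (fun v => ?_) (fun x hx => ?_) fun t v => ?_
    · show pr (k • M.u v) = k • pr (M.u v)
      rw [h.u, hA.act_u, h.u]
    · show pr (k • M.X x) = k • pr (M.X x)
      rw [h.X x hx, hA.act_X x hx, h.X _ (hA.act_sh x hx), smul_zero]
    · show pr (k • M.Θ t (rat v)) = k • pr (M.Θ t (rat v))
      rw [h.Θ, hA.act_Θ, h.Θ, smul_zero]
  exact LinearMap.congr_fun h1 v

/-- Elements of the span of the `u v` with the same inner products with all `u v` are equal. -/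
theorem ext_span {p q : V} (hp : p ∈ Submodule.span ℚ (Set.range M.u))
    (hq : q ∈ Submodule.span ℚ (Set.range M.u)) (hpq : ∀ w, M.B p (M.u w) = M.B q (M.u w)) : p = q := by
  by_contra hne
  have h0 : p - q ∈ Submodule.span ℚ (Set.range M.u) := Submodule.sub_mem _ hp hq
  have h1 : ∀ w, M.B (p - q) (M.u w) = 0 := by
    intro w
    rw [map_sub, LinearMap.sub_apply, hpq, sub_self]
  have h2 : ∀ t ∈ Submodule.span ℚ (Set.range M.u), M.B (p - q) t = 0 := by
    intro t ht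
    induction ht using Submodule.span_induction with
    | mem x hx => obtain ⟨v, rfl⟩ := hx; exact h1 v
    | zero => exact map_zero _
    | add x y _ _ hx hy => rw [map_add, hx, hy, add_zero]
    | smul c x _ hx => rw [map_smul, hx, smul_zero]
  exact (M.B_pos _ (sub_ne_zero.2 hne)).ne' (h2 _ h0)

theorem eq (h : Pr M pr) {v v' : V} (hv : ∀ w, M.B v (M.u w) = M.B v' (M.u w)) : pr v = pr v' :=
  ext_span (h.mem v) (h.mem v') fun w => by rw [← h.B, ← h.B, hv]

theorem norm_K (h : Pr M pr) {k : G} (hk : k ∈ M.K) (v : V) :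
    M.B (pr (k • v)) (pr (k • v)) = M.B (pr v) (pr v) := by
  rw [h.K hk, M.B_inv]

end Pr

/-- The axes: representatives `d j` of the `K`-orbits, and norms of the projections. -/
structure Cls (M : KS G V P W) (pr : V →ₗ[ℚ] V) {J : Type*} (d : J → V) (n : J → ℚ) : Prop where
  closed : ∀ (g : G) (j : J), ∃ i, ∃ k ∈ M.K, g • d j = k • d i
  norm : ∀ j, M.B (pr (d j)) (pr (d j)) = n j
  inj : Function.Injective n

variable {M : KS G V P W} {pr : V →ₗ[ℚ] V} {J : Type*} {d : J → V} {n : J → ℚ} {θ : leechLattice → P}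

/-- An element of `G` fixing all `u v` preserves the `K`-orbits of axes. -/
theorem Cls.orbit (h : Cls M pr d n) (hp : Pr M pr) {g : G} (hg : ∀ v, g • M.u v = M.u v) (j : J)
    {k : G} (hk : k ∈ M.K) : ∃ k' ∈ M.K, g • k • d j = k' • d j := by
  obtain ⟨i, k', hk', e⟩ := h.closed (g * k) j
  rw [mul_smul] at e
  have h1 : pr (k' • d i) = pr (k • d j) := by
    apply hp.eq
    intro w
    rw [← e, M.B_smul_left, inv_smul_eq_iff.2 (hg w).symm]
  have h2 : n i = n j := by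
    rw [← h.norm i, ← h.norm j, ← hp.norm_K hk' (d i), ← hp.norm_K hk (d j), h1]
  exact ⟨k', hk', by rw [e, h.inj h2]⟩

/-! ### Triangles -/

/-- The facts on the axis `b` of type `2B`: there are a subgroup `E` and a character `χ` of `E` such that the
coefficient of `X x` is zero or `x ∈ E` and the coefficient is `c χ(x)`; and there is one triangle in the support. -/
structure TwoB (M : KS G V P W) (b : V) (E : Set P) (χ : P → ℚ) (c : ℚ) : Prop where
  c_ne : c ≠ 0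
  mul : ∀ x ∈ E, ∀ y ∈ E, χ (x * y) = χ x * χ y
  sq : ∀ x ∈ E, χ x * χ x = 1
  val : ∀ x ∈ M.Sh, M.B b (M.X x) = 0 ∨ (x ∈ E ∧ M.B b (M.X x) = c * χ x)
  tri : ∃ x ∈ M.Sh, ∃ y ∈ M.Sh, x * y ∈ M.Sh ∧ M.B b (M.X x) ≠ 0 ∧ M.B b (M.X y) ≠ 0 ∧
    M.B b (M.X (x * y)) ≠ 0

theorem TwoB.prod {b : V} {E : Set P} {χ : P → ℚ} {c : ℚ} (h : TwoB M b E χ c) {x y : P} (hx : x ∈ M.Sh)
    (hy : y ∈ M.Sh) (hxy : x * y ∈ M.Sh) :
    M.B b (M.X x) * M.B b (M.X y) * M.B b (M.X (x * y)) = 0 ∨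
    M.B b (M.X x) * M.B b (M.X y) * M.B b (M.X (x * y)) = c ^ 3 := by
  rcases h.val x hx with h1 | ⟨hxE, h1⟩
  · left; rw [h1, zero_mul, zero_mul]
  rcases h.val y hy with h2 | ⟨hyE, h2⟩
  · left; rw [h2, mul_zero, zero_mul]
  rcases h.val _ hxy with h3 | ⟨_, h3⟩
  · left; rw [h3, mul_zero]
  right
  rw [h1, h2, h3, h.mul x hxE y hyE]
  have e : c * χ x * (c * χ y) * (c * (χ x * χ y)) = c ^ 3 * (χ x * χ x) * (χ y * χ y) := by ring
  rw [e, h.sq x hxE, h.sq y hyE, mul_one, mul_one]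

theorem sixteen_dvd (v : leechLattice) : (16 : ℤ) ∣ nrm v := Cfsg.Agent.Leech.Basic.sixteen_dvd_sqNorm v.2

theorem one_notMem (L : Lift M θ) : (1 : P) ∉ M.Sh := by
  intro h
  have h1 : Eqz M (θ (M.lam 1)) 1 := L.lam 1 h
  obtain ⟨w, hw⟩ := L.ker (M.lam 1) (by
    rcases h1 with e | e
    · exact Or.inl e
    · right; rw [e, mul_one])
  have h2 := M.lam_norm 1 h
  rw [hw, KSLat.nrm_two] at h2
  have h3 := sixteen_dvd w
  omega

theorem zc_notMem (L : Lift M θ) : M.zc ∉ M.Sh := by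
  intro h
  have h1 := M.Sh_z _ h
  rw [M.zc_mul] at h1
  exact one_notMem L h1

/-- The lattice vectors of a triangle of short elements have inner product `±16`. -/
theorem dot_of_tri (L : Lift M θ) {x y : P} (hx : x ∈ M.Sh) (hy : y ∈ M.Sh) (hxy : x * y ∈ M.Sh) :
    dot (M.lam x) (M.lam y) = 16 ∨ dot (M.lam x) (M.lam y) = -16 := by
  have h1 : Eqz M (θ (M.lam x + M.lam y)) (x * y) :=
    (show Eqz M (θ (M.lam x + M.lam y)) (θ (M.lam x) * θ (M.lam y)) from L.add _ _).trans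
      (Eqz.mul (L.lam x hx) (L.lam y hy))
  have h2 : Eqz M (θ (M.lam x + M.lam y + -M.lam (x * y))) 1 := by
    have h3 : Eqz M (θ (M.lam x + M.lam y + -M.lam (x * y)))
        (θ (M.lam x + M.lam y) * θ (-M.lam (x * y))) := L.add _ _
    have h4 : Eqz M (θ (-M.lam (x * y))) (x * y) := (θ_neg L _).trans (L.lam _ hxy)
    have h5 := h3.trans (h1.mul h4)
    rwa [L.sh_sq _ hxy] at h5
  obtain ⟨w, hw⟩ := L.ker _ (by
    rcases h2 with e | e
    · exact Or.inl e
    · right; rw [e, mul_one])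
  obtain ⟨a, ha⟩ : ∃ a, a = M.lam x := ⟨_, rfl⟩
  obtain ⟨b, hb⟩ : ∃ b, b = M.lam y := ⟨_, rfl⟩
  obtain ⟨c, hc⟩ : ∃ c, c = M.lam (x * y) := ⟨_, rfl⟩
  have hna : nrm a = 32 := by rw [ha]; exact M.lam_norm x hx
  have hnb : nrm b = 32 := by rw [hb]; exact M.lam_norm y hy
  have hnc : nrm c = 32 := by rw [hc]; exact M.lam_norm _ hxy
  rw [← ha, ← hb, ← hc] at hw
  rw [← ha, ← hb]
  have hw' : a + b + c = 2 • (w + c) := by
    rw [smul_add, ← hw, two_smul]; abel
  have e1 : nrm (a + b) - 2 * dot (a + b) c + nrm c = 4 * nrm w := by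
    rw [← KSLat.nrm_sub, ← KSLat.nrm_two, ← hw, sub_eq_add_neg]
  have e2 : nrm (a + b) + 2 * dot (a + b) c + nrm c = 4 * nrm (w + c) := by
    rw [← KSLat.nrm_add, ← KSLat.nrm_two, ← hw']
  have e3 : nrm (a + b) = 64 + 2 * dot a b := by
    rw [KSLat.nrm_add, hna, hnb]; ring
  have e4 : nrm (a - b) = 64 - 2 * dot a b := by
    rw [KSLat.nrm_sub, hna, hnb]; ring
  have d1 := sixteen_dvd w
  have d2 := sixteen_dvd (w + c)
  have p1 : 0 ≤ nrm (a + b) := sqNorm_nonneg _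
  have p2 : 0 ≤ nrm (a - b) := sqNorm_nonneg _
  -- `a ≠ ± b`
  have hne : ∀ s : leechLattice, (M.lam y = s ∨ M.lam y = -s) → s = M.lam x → False := by
    rintro s hs rfl
    rcases M.lam_inj x hx y hy hs with e | e
    · rw [e, L.sh_sq x hx] at hxy
      exact one_notMem L hxy
    · rw [e, ← mul_assoc, ← M.zc_comm, mul_assoc, L.sh_sq x hx, mul_one] at hxy
      exact zc_notMem L hxy
  have q1 : nrm (a + b) ≠ 0 := by
    intro h
    have h6 : a + b = 0 := Subtype.ext (sqNorm_eq_zero h)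
    refine hne (M.lam x) (Or.inr ?_) rfl
    rw [← ha, ← hb]
    exact eq_neg_of_add_eq_zero_right h6
  have q2 : nrm (a - b) ≠ 0 := by
    intro h
    have h6 : a - b = 0 := Subtype.ext (sqNorm_eq_zero h)
    refine hne (M.lam x) (Or.inl ?_) rfl
    rw [← ha, ← hb]
    exact (sub_eq_zero.1 h6).symm
  have q3 : dot a b ≠ 0 := by
    intro h
    have hw0 : w ≠ 0 := by
      rintro rfl
      have : nrm (0 : leechLattice) = 0 := KSLat.nrm_zero
      rw [smul_zero] at hw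
      have h6 : a + b = c := by
        have := congrArg (· + c) hw
        simpa using this
      rw [h6, hnc, h] at e3
      norm_num at e3
    have hw1 : w + c ≠ 0 := by
      intro h7
      rw [h7, smul_zero] at hw'
      have h6 : a + b = -c := eq_neg_of_add_eq_zero_left hw'
      rw [h6, nrm_neg, hnc, h] at e3
      norm_num at e3
    have l1 := KSLat.le_nrm hw0
    have l2 := KSLat.le_nrm hw1
    omega
  omega

/-- `K` is transitive on the triangles of short elements up to the centre. -/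
theorem trans_tri (L : Lift M θ) {x y x' y' : P} (hx : x ∈ M.Sh) (hy : y ∈ M.Sh) (hxy : x * y ∈ M.Sh)
    (hx' : x' ∈ M.Sh) (hy' : y' ∈ M.Sh) (hxy' : x' * y' ∈ M.Sh) :
    ∃ k ∈ M.K, ∃ A α T, Acts M.Sh M.lam M.u M.X M.Θ M.ρ k A α T ∧ Eqz M (α x) x' ∧ Eqz M (α y) y' := by
  -- signs
  have hs : ∀ a b : leechLattice, (dot a b = 16 ∨ dot a b = -16) → ∃ b', (b' = b ∨ b' = -b) ∧ dot a b' = -16 := by
    intro a b h
    rcases h with h | h
    · exact ⟨-b, Or.inr rfl, by rw [dot_neg_right, h]⟩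
    · exact ⟨b, Or.inl rfl, h⟩
  obtain ⟨b, hb, hdb⟩ := hs _ _ (dot_of_tri L hx hy hxy)
  obtain ⟨b', hb', hdb'⟩ := hs _ _ (dot_of_tri L hx' hy' hxy')
  obtain ⟨g₁, hg₁⟩ := Cfsg.Agent.S0400.result (M.lam x) (M.lam x') (M.lam_norm x hx) (M.lam_norm x' hx')
  have hnb : nrm b = 32 := by
    rcases hb with e | e <;> rw [e]
    · exact M.lam_norm y hy
    · rw [nrm_neg]; exact M.lam_norm y hy
  have hnb' : nrm b' = 32 := by
    rcases hb' with e | e <;> rw [e]
    · exact M.lam_norm y' hy'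
    · rw [nrm_neg]; exact M.lam_norm y' hy'
  obtain ⟨g₂, hg₂, hg₂'⟩ := Cfsg.Agent.S1574.result (M.lam x') (g₁ • b) b' (M.lam_norm x' hx')
    (by have := nrm_smul g₁ b; rw [hnb] at this; exact this) hnb'
    (by have := dot_smul g₁ (M.lam x) b; rw [hg₁, hdb] at this; exact this) hdb'
  obtain ⟨k, hk, α, T, A, hA, hpm⟩ := exists_acts M (g₂ * g₁)
  refine ⟨k, hk, A, α, T, hA, ?_, ?_⟩
  · have h1 : M.lam (α x) = M.lam x' ∨ M.lam (α x) = -M.lam x' := by
      have h2 : (g₂ * g₁) • M.lam x = M.lam x' := by rw [mul_smul, hg₁, hg₂]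
      rcases hA.act_lam x hx with e | e <;> rcases hpm (M.lam x) with e' | e' <;> rw [e, e', h2]
      · exact Or.inl rfl
      · exact Or.inr rfl
      · exact Or.inr rfl
      · left; rw [neg_neg]
    exact M.lam_inj x' hx' (α x) (hA.act_sh x hx) h1
  · have h1 : M.lam (α y) = M.lam y' ∨ M.lam (α y) = -M.lam y' := by
      have h2 : (g₂ * g₁) • b = b' := by rw [mul_smul, hg₂']
      have h3 : M.lam y = b ∨ M.lam y = -b := by
        rcases hb with e | e
        · exact Or.inl e.symm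
        · right; rw [e, neg_neg]
      have h4 : (g₂ * g₁) • M.lam y = b' ∨ (g₂ * g₁) • M.lam y = -b' := by
        rcases h3 with e | e
        · left; rw [e, h2]
        · right; rw [e, co0_smul_neg, h2]
      have h5 : b' = M.lam y' ∨ b' = -M.lam y' := hb'
      have pm : ∀ {s t : leechLattice}, (s = t ∨ s = -t) → ∀ {r : leechLattice}, (r = s ∨ r = -s) →
          (r = t ∨ r = -t) := by
        rintro s t (rfl | rfl) r (rfl | rfl)
        · exact Or.inl rfl
        · exact Or.inr rfl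
        · exact Or.inr rfl
        · left; rw [neg_neg]
      exact pm h5 (pm h4 (pm (hpm (M.lam y)) (hA.act_lam y hy)))
    exact M.lam_inj y' hy' (α y) (hA.act_sh y hy) h1

/-- `TriData` for the orbit of the axis of type `2B`. -/
theorem triData (L : Lift M θ) (hp : Pr M pr) (hU : M.USpan) (h : Cls M pr d n) {j : J} {E : Set P}
    {χ : P → ℚ} {c : ℚ} (h2 : TwoB M (d j) E χ c) : M.TriData {b | ∃ k ∈ M.K, b = k • d j} where
  stable := by
    rintro g hg _ ⟨k, hk, rfl⟩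
    have hgu : ∀ v, g • M.u v = M.u v := by
      intro v
      refine KS.fix_span g ?_ _ (hU v)
      rintro w ⟨x, hx, rfl⟩
      exact M.fixLines_u g hg x hx
    exact h.orbit hp hgu j hk
  prod := by
    refine ⟨c ^ 3, pow_ne_zero 3 h2.c_ne, ?_⟩
    rintro _ ⟨k, hk, rfl⟩ x hx y hy hxy
    obtain ⟨A, α, T, hA⟩ := M.acts k⁻¹ (M.K.inv_mem hk)
    have h3 : ∀ t ∈ M.Sh, M.B (k • d j) (M.X t) = M.B (d j) (M.X (α t)) := by
      intro t ht
      rw [M.B_smul_left, hA.act_X t ht]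
    rw [h3 x hx, h3 y hy, h3 _ hxy, map_mul]
    exact h2.prod (hA.act_sh x hx) (hA.act_sh y hy) (by rw [← map_mul]; exact hA.act_sh _ hxy)
  cover := by
    intro x hx y hy hxy
    obtain ⟨x₀, hx₀, y₀, hy₀, hxy₀, n1, n2, n3⟩ := h2.tri
    obtain ⟨k, hk, A, α, T, hA, e1, e2⟩ := trans_tri L hx₀ hy₀ hxy₀ hx hy hxy
    refine ⟨k • d j, ⟨k, hk, rfl⟩, ?_⟩
    have e3 : Eqz M (α (x₀ * y₀)) (x * y) := by rw [map_mul]; exact e1.mul e2
    have h4 : ∀ s ∈ M.Sh, ∀ t ∈ M.Sh, Eqz M (α s) t → M.B (d j) (M.X s) ≠ 0 → M.B (k • d j) (M.X t) ≠ 0 := by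
      intro s hs t ht e hne h5
      apply hne
      rw [← M.B_inv k, hA.act_X s hs]
      rcases e with e | e
      · rw [e, h5]
      · rw [e, M.X_z t ht, map_neg, h5, neg_zero]
    exact mul_ne_zero (mul_ne_zero (h4 _ hx₀ _ hx e1 n1) (h4 _ hy₀ _ hy e2 n2)) (h4 _ hxy₀ _ hxy e3 n3)

/-! ### The element `τ` -/

/-- Vectors of the same norm with inner product of maximal absolute value are equal up to sign. -/
theorem eq_or_of_dot_sq {v w : leechLattice} (hn : nrm v = nrm w) (h : (dot v w) ^ 2 = (nrm w) ^ 2) :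
    v = w ∨ v = -w := by
  rcases sq_eq_sq_iff_eq_or_eq_neg.1 h with h1 | h1
  · left
    have h2 : nrm (v - w) = 0 := by rw [KSLat.nrm_sub, hn, h1]; ring
    exact sub_eq_zero.1 (Subtype.ext (sqNorm_eq_zero h2))
  · right
    have h2 : nrm (v + w) = 0 := by rw [KSLat.nrm_add, hn, h1]; ring
    exact eq_neg_of_add_eq_zero_left (Subtype.ext (sqNorm_eq_zero h2))

/-- `TauData` from explicit facts. -/
theorem tauData (hp : Pr M pr) (hU : M.USpan) (h : Cls M pr d n) {τ : G} {x₁ : P} {i₀ : GolayPt}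
    {D : Subgroup G} {e : leechLattice} {j : J} {k₁ : G} (hx₁ : x₁ ∈ M.Sh) (hcube : τ * τ * τ = 1)
    (hz : ∀ v, M.z • τ • M.u v = τ • M.u v) (hz' : ∀ v, M.z • τ⁻¹ • M.u v = τ⁻¹ • M.u v)
    (hX : M.z • τ • M.X x₁ = -(τ • M.X x₁))
    (h1 : ∀ w : leechLattice, M.B (τ • M.a x₁) (M.u w) =
      (nrm w : ℚ) / 256 + (((w : GolayPt → ℤ) i₀ : ℤ) : ℚ) ^ 2 / 32)
    (h2 : ∀ w : leechLattice, M.B (τ⁻¹ • M.a x₁) (M.u w) =
      (nrm w : ℚ) / 256 + (((w : GolayPt → ℤ) i₀ : ℤ) : ℚ) ^ 2 / 32)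
    (he : (e : GolayPt → ℤ) = Pi.single i₀ 8)
    (hst : ∀ k ∈ M.K, ∀ A : Co0, (∀ v, k • M.u v = M.u (A • v)) → (A • e = e ∨ A • e = -e) → k ∈ D)
    (hD : ∀ k ∈ D, τ⁻¹ * k * τ ∈ M.K ∨ τ * k * τ ∈ M.K) (hk₁ : k₁ ∈ M.K)
    (hj : τ • M.a x₁ = k₁ • d j) : M.TauData τ x₁ where
  mem := hx₁
  cube := hcube
  zτu := hz
  zτu' := hz'
  zτX := hX
  small := by
    intro v hv
    rw [M.B_comm, M.B_smul_left, M.B_comm, h2, hv]
    have h3 : ((v : GolayPt → ℤ) i₀) ^ 2 ≤ 32 := by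
      have := sq_le_sqNorm (v : GolayPt → ℤ) i₀
      have h4 : sqNorm (v : GolayPt → ℤ) = 32 := hv
      rw [h4] at this
      exact this
    have h4 : (((v : GolayPt → ℤ) i₀ : ℤ) : ℚ) ^ 2 ≤ 32 := by exact_mod_cast h3
    push_cast
    linarith
  conj := by
    intro k hk hB
    obtain ⟨A, α, T, hA⟩ := M.acts k hk
    apply hD k
    refine hst k hk A hA.act_u ?_
    -- inner products with `e`
    have hdot : ∀ w : leechLattice, (dot e w : ℤ) = 8 * (w : GolayPt → ℤ) i₀ := by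
      intro w
      show dotInt (e : GolayPt → ℤ) (w : GolayPt → ℤ) = _
      rw [he]
      unfold dotInt
      rw [Finset.sum_eq_single i₀]
      · rw [Pi.single_eq_same]
      · intro i _ hi
        rw [Pi.single_eq_of_ne hi, zero_mul]
      · intro hi; exact absurd (Finset.mem_univ _) hi
    have key : ∀ w : leechLattice, (dot (A • e) w) ^ 2 = (dot e w) ^ 2 := by
      intro w
      have h3 := hB w
      have h4 : k⁻¹ • M.u w = M.u (A⁻¹ • w) := by
        rw [inv_smul_eq_iff, hA.act_u, smul_inv_smul]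
      rw [M.B_smul_left k, h4, h1, h1, nrm_smul] at h3
      have h5 : (((A⁻¹ • w : leechLattice) : GolayPt → ℤ) i₀) ^ 2 = ((w : GolayPt → ℤ) i₀) ^ 2 := by
        have : ((((A⁻¹ • w : leechLattice) : GolayPt → ℤ) i₀ : ℤ) : ℚ) ^ 2 =
            (((w : GolayPt → ℤ) i₀ : ℤ) : ℚ) ^ 2 := by linarith
        exact_mod_cast this
      have h6 : dot (A • e) w = dot e (A⁻¹ • w) := by
        have := dot_smul A e (A⁻¹ • w)
        rw [smul_inv_smul] at this
        exact this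
      rw [h6, hdot, hdot, mul_pow, mul_pow, h5]
    apply eq_or_of_dot_sq (nrm_smul A e)
    rw [key e, KS.dot_self]
  orbit := by
    intro g hg
    have hgu : ∀ v, g • M.u v = M.u v := M.fixS_u hU g hg
    obtain ⟨k', hk', e'⟩ := h.orbit hp hgu j hk₁
    refine ⟨k' * k₁⁻¹, M.K.mul_mem hk' (M.K.inv_mem hk₁), ?_⟩
    rw [hj, e', mul_smul, inv_smul_smul]

/-- The hypothesis `hD` of `tauData`. -/
theorem conj_of_tauData {D D₀ : Subgroup G} {τ e : G} (h : CertOrb.TauData D D₀ τ e) (hDK : D ≤ M.K)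
    (k : G) (hk : k ∈ D) : τ⁻¹ * k * τ ∈ M.K ∨ τ * k * τ ∈ M.K := by
  rcases h.cosets k hk with h1 | h1
  · exact Or.inl (hDK (h.conj' k h1))
  · right
    have h2 : τ * k * τ = (τ * (k * e) * τ⁻¹) * e⁻¹ := by
      have h3 : e⁻¹ * τ = τ⁻¹ * e⁻¹ := h.tau_inv_e.symm
      calc τ * k * τ = τ * (k * e) * (e⁻¹ * τ) := by group
        _ = τ * (k * e) * (τ⁻¹ * e⁻¹) := by rw [h3]
        _ = (τ * (k * e) * τ⁻¹) * e⁻¹ := by group
    rw [h2]
    exact M.K.mul_mem (hDK (h.conj _ h1)) (M.K.inv_mem (hDK h.e_mem))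

/-! ### Connectivity -/

/-- The elements of `K` linked with `1`. -/
def Lk (M : KS G V P W) (w : V) : Subgroup G where
  carrier := {k | k ∈ M.K ∧ ∀ ε : G → ℚ,
    (∀ k ∈ M.K, ∀ k' ∈ M.K, M.B (k • w) (k' • w) ≠ 0 → ε k = ε k') → ε k = ε 1}
  mul_mem' := by
    rintro a b ⟨ha, ha'⟩ ⟨hb, hb'⟩
    refine ⟨M.K.mul_mem ha hb, fun ε hε => ?_⟩
    have h1 := hb' (fun g => ε (a * g)) (fun k hk k' hk' hne => by
      refine hε _ (M.K.mul_mem ha hk) _ (M.K.mul_mem ha hk') ?_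
      rw [mul_smul, mul_smul, M.B_inv]
      exact hne)
    have h2 : ε (a * b) = ε (a * 1) := h1
    rw [h2, mul_one]
    exact ha' ε hε
  one_mem' := ⟨M.K.one_mem, fun _ _ => rfl⟩
  inv_mem' := by
    rintro a ⟨ha, ha'⟩
    refine ⟨M.K.inv_mem ha, fun ε hε => ?_⟩
    have h1 := ha' (fun g => ε (a⁻¹ * g)) (fun k hk k' hk' hne => by
      refine hε _ (M.K.mul_mem (M.K.inv_mem ha) hk) _ (M.K.mul_mem (M.K.inv_mem ha) hk') ?_
      rw [mul_smul, mul_smul, M.B_inv]
      exact hne)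
    have h2 : ε (a⁻¹ * a) = ε (a⁻¹ * 1) := h1
    rw [inv_mul_cancel, mul_one] at h2
    exact h2.symm

theorem Lk_le (w : V) : Lk M w ≤ M.K := fun _ hk => hk.1

theorem mem_Lk_of {w : V} {h g : G} (hh : h ∈ Lk M w) (hg : g ∈ M.K) (hne : M.B (h • w) (g • w) ≠ 0) :
    g ∈ Lk M w :=
  ⟨hg, fun ε hε => (hε h hh.1 g hg hne).symm.trans (hh.2 ε hε)⟩

/-- `ConnData` from generators. -/
theorem connData {w : V} (hne : w ≠ 0) {A : Set G} (hA : M.K ≤ Subgroup.closure A) (hl : ∀ g ∈ A, g ∈ Lk M w)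
    (hspan : ∀ f v, M.Θ f (rat v) ∈ Submodule.span ℚ {t | ∃ k ∈ M.K, t = k • w}) : M.ConnData w where
  ne := hne
  conn ε hε _ hk := ((Subgroup.closure_le _).2 hl (hA hk)).2 ε hε
  span := hspan

end Cfsg.Agent.MonsterX.KRigid
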