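import Cfsg.Agent.MonsterX.KInst
import Cfsg.Agent.MonsterX.InstEval
import Cfsg.Agent.MonsterX.KRigid

/-!
# The letters are linked: the connectivity input for the `98304`-part

`ev₀` is the unit vector of the lane `180163`; for each letter `n < 40` of `C` the element `E n` is in the subgroup
`KRigid.Lk` of the elements linked with `1`.
-/

set_option autoImplicit false
set_option Elab.async false

namespace Cfsg.Agent.MonsterX.KConn

open Cfsg Cfsg.Agent.Monster.VecEngine Cfsg.Agent.Monster.VecSpace Cfsg.Agent.MonsterX.Space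
open Cfsg.Agent.MonsterX.ProgTable Cfsg.Agent.MonsterX.ProgBase
open Cfsg.Agent.MonsterX.Conc hiding G
open Cfsg.Agent.MonsterX.InstData Cfsg.Agent.MonsterX.InstEval Cfsg.Agent.MonsterX.KAsm
open Cfsg.Agent.MonsterX.KInst Cfsg.Agent.MonsterX.KSide Cfsg.Agent.MonsterX.KRigid

/-! ### Unit vectors -/

/-- The planes of plus or minus the unit vector of a lane. -/
noncomputable def eP (k : ℕ) (s : Bool) : Pl :=
  .cons (Nat.shiftLeft 1 k) (.sgn (if s then Nat.shiftLeft 1 k else 0))

theorem val_eP (k : ℕ) (s : Bool) (i : ℕ) : val (eP k s) i = if i = k then (if s then -1 else 1) else 0 := by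
  unfold eP
  rw [val_cons, val_sgn]
  cases s
  · simp only [Bool.false_eq_true, if_false]
    unfold bt
    rw [tb_single, Nat.zero_testBit]
    by_cases h : i = k <;> simp [h]
  · simp only [if_true]
    unfold bt
    rw [tb_single]
    by_cases h : i = k <;> simp [h]

/-- The unit vector of a lane. -/
noncomputable def ev (k : ℕ) : V := vecV (eP k false)

theorem vecV_eP (k : ℕ) (s : Bool) : vecV (eP k s) = (if s then (-1 : ℚ) else 1) • ev k := by
  unfold ev vecV
  rw [← map_smul]
  congr 1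
  funext i
  show ((val (eP k s) i.1 : ℤ) : ℚ) = (if s then (-1 : ℚ) else 1) * ((val (eP k false) i.1 : ℤ) : ℚ)
  rw [val_eP, val_eP]
  cases s <;> by_cases h : i.1 = k <;> simp [h]

theorem ev_apply {k : ℕ} (h : sym (eP k false) = true) (i : Lane U) : (ev k).1 i = if i.1 = k then 1 else 0 := by
  unfold ev
  rw [vecV_coe h]
  show ((val (eP k false) i.1 : ℤ) : ℚ) = _
  rw [val_eP]
  by_cases h : i.1 = k <;> simp [h]

theorem F_ev {k : ℕ} (hk : U.testBit k = true) (h : sym (eP k false) = true) (v : V) :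
    F (ev k) v = v.1 ⟨k, hk⟩ := by
  rw [F_sum]
  let j : Lane U := ⟨k, hk⟩
  have h1 : ∀ i : Lane U, (ev k).1 i * v.1 i = (if i.1 = j.1 then (1 : ℚ) else 0) * v.1 i := fun i => by
    rw [ev_apply h]
  exact (Finset.sum_congr rfl fun i _ => h1 i).trans (sum_ite_lane j v.1)

/-! ### The checks -/

/-- The lane `k` of `2 ^ n • W w (vecV x)` is not zero. -/
noncomputable def laneNe (n : ℕ) (w : List ℕ) (x : Pl) (k : ℕ) : Bool :=
  runL (w.map prog) (up n x) fun y => !decide (val y k = 0)

theorem laneNe_sound {n : ℕ} {w : List ℕ} {x : Pl} (hx : sym x = true) {k : ℕ} (hk : U.testBit k = true)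
    (h : laneNe n w x k = true) : (W w (vecV x) : V).1 ⟨k, hk⟩ ≠ 0 := by
  obtain ⟨y, hy, h1⟩ := run_coe hx h
  intro h0
  have h2 := hy ⟨k, hk⟩
  rw [h0, mul_zero] at h2
  have h3 : val y k = 0 := by exact_mod_cast h2.symm
  rw [h3] at h1
  exact absurd h1 (by decide)

/-- The base lane. -/
def L₀ : ℕ := 180163

/-- The word `g` maps the unit vector of `L₀` to plus or minus the unit vector of `k`, and the lane `k` of the image
of the unit vector of `L₀` under the word `h` is not zero. -/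
noncomputable def lnk (n : ℕ) (h g : List ℕ) (k : ℕ) : Bool :=
  and (U.testBit k) (and (sym (eP k false)) (and (laneNe n h (eP L₀ false) k)
    (or (check (g.map prog) (eP L₀ false) (([] : List ℕ).map prog) (eP k false))
      (check (g.map prog) (eP L₀ false) (([] : List ℕ).map prog) (eP k true)))))

theorem sym₀ : sym (eP L₀ false) = true := by decide +kernel

theorem lnk_sound {n : ℕ} {h g : List ℕ} {k : ℕ} (H : lnk n h g k = true) : F (W h (ev L₀)) (W g (ev L₀)) ≠ 0 := by
  unfold lnk at H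
  rw [Bool.and_eq_true, Bool.and_eq_true, Bool.and_eq_true, Bool.or_eq_true] at H
  obtain ⟨hk, hs, h1, h2⟩ := H
  have h3 : F (W h (ev L₀)) (ev k) ≠ 0 := by
    rw [F_symm, F_ev hk hs]
    exact laneNe_sound sym₀ hk h1
  have h4 : W g (ev L₀) = ev k ∨ W g (ev L₀) = (-1 : ℚ) • ev k := by
    rcases h2 with h2 | h2
    · left
      have := W_eq_of_check h2
      rw [W_nil] at this
      exact this
    · right
      have h5 := W_eq_of_check h2
      rw [W_nil] at h5
      exact h5.trans (vecV_eP k true)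
  rcases h4 with h4 | h4
  · rw [h4]; exact h3
  · rw [h4, map_smul]
    exact smul_ne_zero (by norm_num) h3

theorem c0 : lnk 0 [] [0] 180163 = true := by decide +kernel
theorem cD : MatAct.all 11 (fun n => lnk 0 [] [13 + n] 180163) = true := by decide +kernel
theorem cY : MatAct.all 12 (fun n => lnk 0 [] [24 + n] 180163) = true := by decide +kernel
theorem a1 : lnk 6 [4, 39, 36, 37, 36] [] 180163 = true := by decide +kernel
theorem b1 : lnk 6 [4, 39, 36, 37, 36] [1] 179651 = true := by decide +kernel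
theorem a2 : lnk 6 [6, 10, 12, 39, 37] [] 180163 = true := by decide +kernel
theorem b2 : lnk 6 [6, 10, 12, 39, 37] [2] 178627 = true := by decide +kernel
theorem a3 : lnk 6 [1, 12, 37, 8, 39, 38, 37, 36, 38] [] 180163 = true := by decide +kernel
theorem b3 : lnk 6 [1, 12, 37, 8, 39, 38, 37, 36, 38] [3] 177603 = true := by decide +kernel
theorem a4 : lnk 6 [6, 9, 12, 38, 39, 38, 37, 36, 38, 36] [] 180163 = true := by decide +kernel
theorem b4 : lnk 6 [6, 9, 12, 38, 39, 38, 37, 36, 38, 36] [4] 176611 = true := by decide +kernel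
theorem a5 : lnk 6 [12, 38, 7, 36, 37, 39, 36, 36, 38, 37] [] 180163 = true := by decide +kernel
theorem b5 : lnk 6 [12, 38, 7, 36, 37, 39, 36, 36, 38, 37] [5] 176067 = true := by decide +kernel
theorem a6 : lnk 6 [12, 37, 6, 36, 38, 39, 36, 38, 37, 37, 37] [] 180163 = true := by decide +kernel
theorem b6 : lnk 6 [12, 37, 6, 36, 38, 39, 36, 38, 37, 37, 37] [6] 171971 = true := by decide +kernel
theorem a7 : lnk 6 [5, 36, 36, 39, 38, 36, 36, 38, 36] [] 180163 = true := by decide +kernel
theorem b7 : lnk 6 [5, 36, 36, 39, 38, 36, 36, 38, 36] [7] 196547 = true := by decide +kernel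
theorem a8 : lnk 6 [12, 36, 39, 38, 36, 38, 36, 38] [] 180163 = true := by decide +kernel
theorem b8 : lnk 6 [12, 36, 39, 38, 36, 38, 36, 38] [8] 147395 = true := by decide +kernel
theorem a9 : lnk 6 [12, 39] [] 180163 = true := by decide +kernel
theorem b9 : lnk 6 [12, 39] [9] 180099 = true := by decide +kernel
theorem a10 : lnk 6 [3, 7, 11, 39, 36] [] 180163 = true := by decide +kernel
theorem b10 : lnk 6 [3, 7, 11, 39, 36] [10] 196387 = true := by decide +kernel
theorem a11 : lnk 6 [3, 8, 12, 37, 4, 39, 36, 37] [] 180163 = true := by decide +kernel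
theorem b11 : lnk 6 [3, 8, 12, 37, 4, 39, 36, 37] [11] 143011 = true := by decide +kernel
theorem b12 : lnk 6 [1, 12, 39] [12, 1] 245187 = true := by decide +kernel
theorem b37 : lnk 6 [9, 8, 6, 5, 3] [37] 132483 = true := by decide +kernel
theorem b36 : lnk 6 [39, 37, 37, 12, 11, 2] [36] 136100 = true := by decide +kernel
theorem b38 : lnk 12 [39, 37, 37, 39, 37, 39, 4] [38] 183121 = true := by decide +kernel


/-! ### The letters -/

section

variable (R : Rows)

theorem W_mem_C {w : List ℕ} (h : ∀ n ∈ w, n < 40) : W w ∈ C := W_mem fun n hn => E_mem_C (h n hn)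

/-- The subgroup of the elements of `C` linked with `1`. -/
noncomputable def LE : Subgroup (V ≃ₗ[ℚ] V) := (Lk (ks R) (ev L₀)).map (Subgroup.subtype InstData.M.G)

theorem mem_LE {g : V ≃ₗ[ℚ] V} : g ∈ LE R ↔ ∃ x : G, x ∈ Lk (ks R) (ev L₀) ∧ (x : V ≃ₗ[ℚ] V) = g := Iff.rfl

theorem mem_of_link {g h : V ≃ₗ[ℚ] V} (hg : g ∈ LE R) (hh : h ∈ C) (H : F (g (ev L₀)) (h (ev L₀)) ≠ 0) :
    h ∈ LE R := by
  obtain ⟨x, hx, rfl⟩ := (mem_LE R).1 hg
  exact (mem_LE R).2 ⟨⟨h, C_le_G hh⟩, mem_Lk_of hx (Subgroup.mem_subgroupOf.2 hh) H, rfl⟩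

theorem mem_fwd {n : ℕ} {h g : List ℕ} {k : ℕ} (H : lnk n h g k = true) (hg' : ∀ n ∈ g, n < 40)
    (hh : W h ∈ LE R) : W g ∈ LE R := mem_of_link R hh (W_mem_C hg') (lnk_sound H)

theorem mem_bwd {n : ℕ} {h g : List ℕ} {k : ℕ} (H : lnk n h g k = true) (hh' : ∀ n ∈ h, n < 40)
    (hg : W g ∈ LE R) : W h ∈ LE R :=
  mem_of_link R hg (W_mem_C hh') (by rw [F_symm]; exact lnk_sound H)

theorem W_nil_mem : W [] ∈ LE R := by rw [W_nil]; exact (LE R).one_mem

theorem mem_two {n m : ℕ} {h : List ℕ} {k k' i : ℕ} (H : lnk n h [] k = true) (H' : lnk m h [i] k' = true)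
    (hh : ∀ n ∈ h, n < 40) (hi : i < 40) : E i ∈ LE R := by
  rw [← W_single]
  exact mem_fwd R H' (by simpa using hi) (mem_bwd R H hh (W_nil_mem R))

theorem E_mem_one {n k i : ℕ} (H : lnk n [] [i] k = true) (hi : i < 40) : E i ∈ LE R := by
  rw [← W_single]
  exact mem_fwd R H (by simpa using hi) (W_nil_mem R)

theorem E_lt12 : ∀ n < 12, E n ∈ LE R := by
  intro n hn
  obtain rfl | rfl | rfl | rfl | rfl | rfl | rfl | rfl | rfl | rfl | rfl | rfl :
    n = 0 ∨ n = 1 ∨ n = 2 ∨ n = 3 ∨ n = 4 ∨ n = 5 ∨ n = 6 ∨ n = 7 ∨ n = 8 ∨ n = 9 ∨ n = 10 ∨ n = 11 := by omega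
  · exact E_mem_one R c0 (by norm_num)
  · exact mem_two R a1 b1 (by decide) (by norm_num)
  · exact mem_two R a2 b2 (by decide) (by norm_num)
  · exact mem_two R a3 b3 (by decide) (by norm_num)
  · exact mem_two R a4 b4 (by decide) (by norm_num)
  · exact mem_two R a5 b5 (by decide) (by norm_num)
  · exact mem_two R a6 b6 (by decide) (by norm_num)
  · exact mem_two R a7 b7 (by decide) (by norm_num)
  · exact mem_two R a8 b8 (by decide) (by norm_num)
  · exact mem_two R a9 b9 (by decide) (by norm_num)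
  · exact mem_two R a10 b10 (by decide) (by norm_num)
  · exact mem_two R a11 b11 (by decide) (by norm_num)

theorem W_12_39 : E 39 * E 12 ∈ LE R := by
  have h := mem_bwd R a9 (by decide) (W_nil_mem R)
  rw [W_cons, W_single] at h
  exact h

theorem E_12 : E 12 ∈ LE R := by
  have h1 : W [1, 12, 39] ∈ LE R := by
    rw [W_cons, W_cons, W_single]
    exact (LE R).mul_mem (W_12_39 R) (E_lt12 R 1 (by norm_num))
  have h2 := mem_fwd R b12 (by decide) h1
  rw [W_cons, W_single] at h2
  exact ((LE R).mul_mem_cancel_left (E_lt12 R 1 (by norm_num))).1 h2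

theorem E_39 : E 39 ∈ LE R := ((LE R).mul_mem_cancel_right (E_12 R)).1 (W_12_39 R)

theorem E_lt36 : ∀ n < 36, E n ∈ LE R := by
  intro n hn
  rcases Nat.lt_or_ge n 12 with h | h
  · exact E_lt12 R n h
  rcases Nat.eq_or_lt_of_le h with h1 | h1
  · rw [← h1]; exact E_12 R
  rcases Nat.lt_or_ge n 24 with h2 | h2
  · have h3 := MatAct.all_spec cD (show n - 13 < 11 by omega)
    rw [show 13 + (n - 13) = n by omega] at h3
    exact E_mem_one R h3 (by omega)
  · have h3 := MatAct.all_spec cY (show n - 24 < 12 by omega)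
    rw [show 24 + (n - 24) = n by omega] at h3
    exact E_mem_one R h3 (by omega)

theorem E_37 : E 37 ∈ LE R := by
  rw [← W_single]
  exact mem_fwd R b37 (by decide) (W_mem (by
    intro n hn
    simp only [List.mem_cons, List.not_mem_nil, or_false] at hn
    exact E_lt36 R n (by omega)))

theorem E_36 : E 36 ∈ LE R := by
  rw [← W_single]
  refine mem_fwd R b36 (by decide) (W_mem ?_)
  intro n hn
  simp only [List.mem_cons, List.not_mem_nil, or_false] at hn
  rcases hn with rfl | rfl | rfl | rfl | rfl | rfl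
  · exact E_39 R
  · exact E_37 R
  · exact E_37 R
  all_goals exact E_lt36 R _ (by norm_num)

theorem E_38 : E 38 ∈ LE R := by
  rw [← W_single]
  refine mem_fwd R b38 (by decide) (W_mem ?_)
  intro n hn
  simp only [List.mem_cons, List.not_mem_nil, or_false] at hn
  rcases hn with rfl | rfl | rfl | rfl | rfl | rfl | rfl
  · exact E_39 R
  · exact E_37 R
  · exact E_37 R
  · exact E_39 R
  · exact E_37 R
  · exact E_39 R
  · exact E_lt36 R _ (by norm_num)

theorem E_mem : ∀ n < 40, E n ∈ LE R := by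
  intro n hn
  rcases Nat.lt_or_ge n 36 with h | h
  · exact E_lt36 R n h
  obtain rfl | rfl | rfl | rfl : n = 36 ∨ n = 37 ∨ n = 38 ∨ n = 39 := by omega
  · exact E_36 R
  · exact E_37 R
  · exact E_38 R
  · exact E_39 R

/-- Every element of `C` is linked with `1`. -/
theorem C_le : C ≤ LE R := by
  refine (Subgroup.closure_le _).2 ?_
  rintro _ ⟨n, hn, rfl⟩
  exact E_mem R n hn

/-- **Connectivity**, for a nonzero multiple `w = c • ev L₀` of the unit vector. -/
theorem conn {w : V} {c : ℚ} (hw : w = c • ev L₀) (hc : c ≠ 0) (ε : G → ℚ)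
    (hε : ∀ k ∈ (ks R).K, ∀ k' ∈ (ks R).K, (ks R).B (k • w) (k' • w) ≠ 0 → ε k = ε k') :
    ∀ k ∈ (ks R).K, ε k = ε 1 := by
  intro k hk
  obtain ⟨x, hx, e⟩ := (mem_LE R).1 (C_le R (Subgroup.mem_subgroupOf.1 hk))
  have e' : x = k := Subtype.ext e
  rw [e'] at hx
  refine hx.2 ε fun k hk k' hk' hne => hε k hk k' hk' ?_
  have h1 : ∀ t : G, t • w = c • t • ev L₀ := fun t => by rw [hw, smul_comm]
  rw [h1, h1, (ks R).B.map_smul₂, map_smul]
  exact smul_ne_zero hc (smul_ne_zero hc hne)

end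

end Cfsg.Agent.MonsterX.KConn
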