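import Cfsg.Agent.MonsterX.KInst
import Cfsg.Agent.MonsterX.KRigid
import Cfsg.Agent.MonsterX.InstEval

/-!
# The axis of type `2B` of the concrete model

`d 1 = (1/4) • vecV T`: eight diagonal entries of the matrix (an octad) and 120 short lanes.  The labels of these lanes
become diagonal under the circuit `circ`, and the coefficients are given by the signs: the fact `TwoB`.
-/

set_option autoImplicit false
set_option maxRecDepth 100000

namespace Cfsg.Agent.MonsterX.KRigTwo

open Cfsg Cfsg.Agent.Monster.VecEngine Cfsg.Agent.Monster Cfsg.Agent.Monster.VecSpace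
open Cfsg.Agent.MonsterX.ProgBase Cfsg.Agent.MonsterX.ProgTable Cfsg.Agent.MonsterX.Space Cfsg.Agent.MonsterX.Conc
open Cfsg.Agent.MonsterX.Short Cfsg.Agent.MonsterX.KX Cfsg.Agent.MonsterX.LabPl
open Cfsg.Agent.Monster.PauliBasic Cfsg.Agent.Monster.PauliClif Cfsg.Agent.Monster.PauliGates
open Cfsg.Agent.Monster.PauliPlanes Cfsg.Agent.Monster.PauliBits
open Cfsg.Agent.MonsterX.KRows Cfsg.Agent.MonsterX.KAsm Cfsg.Agent.MonsterX.InstData
open Cfsg.Agent.MonsterX.KInst Cfsg.Agent.MonsterX.KSide Cfsg.Agent.MonsterX.KRigid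

/-- The circuit. -/
def circ : List (Gate 12) := [.CNOT 1 2 (by decide), .H 1, .X 4, .X 7]

/-- The labels after the circuit. -/
noncomputable def L : List ℕ := conjPlL circ lab

/-- `x` and not `y`. -/
noncomputable def nd (x y : ℕ) : ℕ := Nat.xor x (Nat.land x y)

theorem testBit_nd (x y i : ℕ) : (nd x y).testBit i = (x.testBit i && !(y.testBit i)) := by
  show (x ^^^ (x &&& y)).testBit i = _
  rw [Nat.testBit_xor, Nat.testBit_and]
  cases x.testBit i <;> cases y.testBit i <;> rfl

/-- `x` and none of the elements of the list. -/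
noncomputable def nds (x : ℕ) (l : List ℕ) : ℕ :=
  List.rec (motive := fun _ => ℕ → ℕ) (fun x => x) (fun y _ ih x => ih (nd x y)) l x

theorem nds_cons (x y : ℕ) (l : List ℕ) : nds x (y :: l) = nds (nd x y) l := rfl

theorem testBit_nds {x : ℕ} {l : List ℕ} {i : ℕ} (h : (nds x l).testBit i = true) :
    x.testBit i = true ∧ ∀ y ∈ l, y.testBit i = false := by
  induction l generalizing x with
  | nil => exact ⟨h, by simp⟩
  | cons y l ih =>
    rw [nds_cons] at h
    obtain ⟨h1, h2⟩ := ih h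
    rw [testBit_nd, Bool.and_eq_true] at h1
    refine ⟨h1.1, fun y' hy' => ?_⟩
    rcases List.mem_cons.1 hy' with rfl | hy'
    · simpa using h1.2
    · exact h2 y' hy'

/-- The 120 short lanes. -/
noncomputable def mX : ℕ :=
  nds SL [get L 12, get L 13, get L 14, get L 15, get L 16, get L 17, get L 18, get L 19, get L 20, get L 21,
    get L 22, get L 23, get L 2, get L 10, Nat.xor (get L 0) (get L 3), Nat.xor (get L 1) (Nat.xor (get L 7) (get L 8))]

/-- The negative ones among them. -/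
noncomputable def mS : ℕ := nd mX (get L 24)

/-- The eight diagonal lanes. -/
noncomputable def mD : ℕ := Nat.lor (Nat.shiftLeft 0x8000000040000000200000001 61440)
  (Nat.shiftLeft 0x8000000040000000200000001 61836)

/-- The planes of `4 d 1`. -/
noncomputable def T : Pl := .cons (Nat.lor mX mD) (.sgn mS)

theorem d_one_check : check ([42, 39, 40].map prog) (up 7 a0B) [] (up 5 T) = true := by decide +kernel

theorem d_one : d 1 = (4 : ℚ)⁻¹ • vecV T := by
  have h := W_eq_of_check (w₂ := []) d_one_check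
  rw [W_nil, vecV_up, vecV_up, map_smul] at h
  have h1 : (d 1 : V) = W [42, 39, 40] (vecV a0B) := rfl
  have h2 : ((2 : ℚ) ^ 7) • d 1 = (2 : ℚ) ^ 5 • vecV T := by rw [h1, h]; rfl
  have h3 : d 1 = ((2 : ℚ) ^ 7)⁻¹ • (2 : ℚ) ^ 5 • vecV T := by
    rw [← h2, smul_smul, inv_mul_cancel₀ (by norm_num), one_smul]
  rw [h3, smul_smul]
  norm_num

theorem sym_T : sym T = true := by decide +kernel

theorem SL_mD : Nat.land SL mD = 0 := KRows.eq_of_beq (by decide +kernel)

/-- The form with the vector of a lane. -/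
theorem F_Xlab' (i : Lane U) (hi : SL.testBit i.1 = true) (v : V) : F v (Xv (labP 12 lab i.1)) = v.1 i := by
  rw [F_sum, Xv_lab labFacts i hi]
  unfold e1
  rw [Finset.sum_eq_single i]
  · rw [if_pos rfl, mul_one]
  · intro k _ hk; rw [if_neg hk, mul_zero]
  · intro h; exact absurd (Finset.mem_univ _) h

theorem val_T (i : ℕ) (hi : SL.testBit i = true) : val T i = bt mX i - 2 * bt mS i := by
  have h1 : mD.testBit i = false := by simpa using disj SL_mD hi
  have h : bt (Nat.lor mX mD) i = bt mX i := by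
    unfold bt
    rw [show (Nat.lor mX mD).testBit i = (mX.testBit i || mD.testBit i) from Nat.testBit_or .., h1, Bool.or_false]
  unfold T
  rw [val_cons, val_sgn, h]
  ring

theorem d_one_lane (i : Lane U) (hi : SL.testBit i.1 = true) :
    (d 1).1 i = 4⁻¹ * ((bt mX i.1 - 2 * bt mS i.1 : ℤ) : ℚ) := by
  have h1 : (d 1).1 i = 4⁻¹ * (vecV T : Lane U → ℚ) i := by
    rw [d_one]; rfl
  have h2 : (vecV T : Lane U → ℚ) i = ((val T i.1 : ℤ) : ℚ) := by
    rw [vecV_coe sym_T]; rfl
  rw [h1, h2, val_T _ hi]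

/-- The subgroup (as a set). -/
def E : Set (Pauli 12) := {x | (conjL circ x).a = 0}

/-- The character. -/
noncomputable def χ (x : Pauli 12) : ℚ := sg ℚ (conjL circ x).s

theorem lab_L (i : ℕ) : conjL circ (labP 12 lab i) = labP 12 L i :=
  (labP_conjPlL circ length_lab i).symm

theorem lane_val (i : Lane U) (hi : SL.testBit i.1 = true) :
    F (d 1) (Xv (labP 12 lab i.1)) = 0 ∨
      (labP 12 lab i.1 ∈ E ∧ F (d 1) (Xv (labP 12 lab i.1)) = -4⁻¹ * χ (labP 12 lab i.1)) := by
  rw [F_Xlab' i hi, d_one_lane i hi]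
  by_cases h : mX.testBit i.1 = true
  · right
    obtain ⟨-, h1⟩ := testBit_nds h
    constructor
    · show (conjL circ (labP 12 lab i.1)).a = 0
      rw [lab_L]
      funext k
      show bit (get L (12 + k)) i.1 = 0
      have h2 : (get L (12 + k)).testBit i.1 = false := by
        apply h1
        fin_cases k <;> simp
      unfold bit
      rw [h2]
      simp
    · unfold χ
      rw [lab_L]
      show _ = -4⁻¹ * sg ℚ (bit (get L 24) i.1)
      unfold bt mS bit
      rw [testBit_nd, h]
      cases (get L 24).testBit i.1 <;> norm_num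
  · left
    have h1 : mX.testBit i.1 = false := by simpa using h
    unfold bt mS
    rw [testBit_nd, h1]
    norm_num

theorem χ_z (x : Pauli 12) : χ (Pauli.z 12 * x) = -χ x := by
  unfold χ
  rw [map_mul]
  have h : conjL circ (Pauli.z 12) = Pauli.z 12 := aut_z _
  rw [h]
  show sg ℚ (1 + (conjL circ x).s + (0 : B 12) ⬝ᵥ _) = _
  rw [zero_dotProduct, add_zero, sg_add, sg_one, neg_one_mul]

theorem E_z {x : Pauli 12} (h : x ∈ E) : Pauli.z 12 * x ∈ E := by
  show (conjL circ (Pauli.z 12 * x)).a = 0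
  rw [map_mul, show conjL circ (Pauli.z 12) = Pauli.z 12 from aut_z _]
  show (0 : B 12) + (conjL circ x).a = 0
  rw [show (conjL circ x).a = 0 from h, add_zero]

theorem val_Sh (x : Pauli 12) (hx : x ∈ Sh) : F (d 1) (Xv x) = 0 ∨ (x ∈ E ∧ F (d 1) (Xv x) = -4⁻¹ * χ x) := by
  obtain ⟨i, hi, rfl | rfl⟩ := eq_or labFacts x hx
  · exact lane_val i hi
  · rw [Xv_z, map_neg, χ_z]
    rcases lane_val i hi with h | ⟨h1, h2⟩
    · left; rw [h, neg_zero]
    · right; exact ⟨E_z h1, by rw [h2]; ring⟩

theorem χ_mul (x : Pauli 12) (_ : x ∈ E) (y : Pauli 12) (hy : y ∈ E) : χ (x * y) = χ x * χ y := by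
  unfold χ
  rw [map_mul, Pauli.mul_s, sg_add, sg_add, show (conjL circ y).a = 0 from hy, dotProduct_zero, sg_zero, mul_one]

/-! ### A triangle -/

theorem tri_s : (labP 12 lab 17408 * labP 12 lab 17409).s = (labP 12 lab 62496).s := by decide +kernel

theorem tri_a : ∀ k, (labP 12 lab 17408 * labP 12 lab 17409).a k = (labP 12 lab 62496).a k := by decide +kernel

theorem tri_b : ∀ k, (labP 12 lab 17408 * labP 12 lab 17409).b k = (labP 12 lab 62496).b k := by decide +kernel

theorem tri_eq : labP 12 lab 17408 * labP 12 lab 17409 = labP 12 lab 62496 :=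
  Pauli.ext tri_s (funext tri_a) (funext tri_b)

theorem lane_ne {k : ℕ} (hk : SL.testBit k = true) (h : mX.testBit k = true) :
    F (d 1) (Xv (labP 12 lab k)) ≠ 0 := by
  let i : Lane U := ⟨k, U_of_SL hk⟩
  have h1 : F (d 1) (Xv (labP 12 lab k)) = (d 1).1 i := F_Xlab' i hk (d 1)
  have h2 : (d 1).1 i = 4⁻¹ * ((bt mX k - 2 * bt mS k : ℤ) : ℚ) := d_one_lane i hk
  rw [h1, h2]
  unfold bt mS
  rw [testBit_nd, h]
  cases (get L 24).testBit k <;> norm_num

theorem tri_mask : and (and (Nat.testBit SL 17408) (Nat.testBit mX 17408))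
    (and (and (Nat.testBit SL 17409) (Nat.testBit mX 17409)) (and (Nat.testBit SL 62496) (Nat.testBit mX 62496)))
      = true := by decide +kernel

/-- **The facts on the axis of type `2B`.** -/
theorem twoB (R : Rows) : TwoB (ks R) (d 1) E χ (-4⁻¹) where
  c_ne := by norm_num
  mul := χ_mul
  sq x _ := sg_mul_self ℚ _
  val := val_Sh
  tri := by
    have h := tri_mask
    rw [Bool.and_eq_true, Bool.and_eq_true, Bool.and_eq_true, Bool.and_eq_true, Bool.and_eq_true] at h
    obtain ⟨⟨a1, a2⟩, ⟨b1, b2⟩, c1, c2⟩ := h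
    refine ⟨labP 12 lab 17408, labFacts.sh _ a1, labP 12 lab 17409, labFacts.sh _ b1, ?_, lane_ne a1 a2,
      lane_ne b1 b2, ?_⟩
    · show labP 12 lab 17408 * labP 12 lab 17409 ∈ Sh
      rw [tri_eq]; exact labFacts.sh _ c1
    · show F (d 1) (Xv (labP 12 lab 17408 * labP 12 lab 17409)) ≠ 0
      rw [tri_eq]; exact lane_ne c1 c2

end Cfsg.Agent.MonsterX.KRigTwo
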