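import Cfsg.Agent.SporadicStructure.StdCross
import Cfsg.Agent.SporadicA.Co0Card
import Cfsg.Agent.SporadicA.M24Trans
import Cfsg.Agent.S1569

/-!
# The stabiliser of the standard frame (Monster, project R19)

`A ∈ Co0` fixing the class of `8 e_∞` modulo `2 Λ` is a signed permutation of the Golay group, and the
signed permutations are generated by the `12` sign changes at a basis of the code and by the three standard
generators of `M24`.
-/

set_option autoImplicit false
open scoped Pointwise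

namespace Cfsg.Agent.MonsterX.FrameStab

open Cfsg
open Cfsg.Agent.SporadicStructure.StdCross Cfsg.Agent.SporadicStructure.Co0Base
open Cfsg.Agent.SporadicA.Co0Card

theorem stdCross_eq : stdCross = cross (v0 : GolayPt → ℤ) := by
  have hc := Cfsg.Agent.S1569.result _ v0.2 sqNorm_v0
  have hfin : (cross (v0 : GolayPt → ℤ)).Finite := by
    apply Set.finite_of_ncard_ne_zero
    rw [hc]; norm_num
  exact Set.eq_of_subset_of_ncard_le stdCross_subset_cross (by rw [hc, ncard_stdCross]) hfin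

/-- An element of `Co0` fixing the class of the standard frame preserves the standard frame. -/
theorem preserves_of_congr (A : Co0) (h : ∃ w : leechLattice, v0 - A • v0 = 2 • w) :
    PreservesCross A := by
  obtain ⟨w, hw⟩ := h
  have h0 : ((A • v0 : leechLattice) : GolayPt → ℤ) ∈ cross (v0 : GolayPt → ℤ) := by
    refine ⟨(A • v0).2, co0_sqNorm A v0, w, w.2, ?_⟩
    have := congrArg (fun u : leechLattice => (u : GolayPt → ℤ)) hw
    simpa using this
  intro v hv
  rw [stdCross_eq] at hv ⊢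
  have h1 := smul_mem_cross A v0 v hv
  rw [cross_eq_of_mem h0] at h1
  exact h1

open Cfsg.Agent.SporadicA.M24Gens

/-- masks of the basis of the code used by the model -/
def cb : List ℕ :=
  [16777215, 2422785, 4845570, 3610628, 7221256, 7903248, 5621792, 1009728, 2019456, 4038912, 8077824,
    5405696]

/-- the standard generators of the code in terms of the basis `cb` -/
def qcomb : List (List ℕ) :=
  [[1, 2, 3, 4, 5, 7, 9, 10], [2, 3, 4, 5, 6, 8, 10, 11], [3, 4, 5, 6, 7, 9, 11], [4, 5, 6, 7, 8, 10],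
    [5, 6, 7, 8, 9, 11], [1, 6, 7, 8, 9, 10], [2, 7, 8, 9, 10, 11], [1, 3, 8, 9, 10, 11],
    [2, 4, 9, 10, 11], [3, 5, 10, 11], [1, 4, 6, 11], [1, 2, 5, 7], [2, 3, 6, 8], [3, 4, 7, 9],
    [1, 4, 5, 8, 10], [1, 2, 5, 6, 9, 11], [2, 3, 6, 7, 10], [1, 3, 4, 7, 8, 11], [2, 4, 5, 8, 9],
    [1, 3, 5, 6, 9, 10], [1, 2, 4, 6, 7, 10, 11], [1, 2, 3, 5, 7, 8, 11], [1, 2, 3, 4, 6, 8, 9], [0]]

/-- xor of a list of basis masks -/
def cbSum (L : List ℕ) : ℕ := L.foldr (fun u m => cb.getD u 0 ^^^ m) 0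

theorem qcomb_lt : ∀ t < 24, ∀ u ∈ qcomb.getD t [], u < 12 := by decide +kernel

theorem cbSum_qcomb : ∀ t < 24, cbSum (qcomb.getD t []) = qmask t := by decide +kernel

/-- `A` changes the signs at the points of the word `w`. -/
def IsSignW (A : Co0) (w : GolayPt → ZMod 2) : Prop :=
  ∀ (v : leechLattice) (p : GolayPt), ((A • v : leechLattice) : GolayPt → ℤ) p =
    if w p = 0 then (v : GolayPt → ℤ) p else -(v : GolayPt → ℤ) p

/-- `A` changes the signs at the points of the mask `m`. -/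
def IsSign (A : Co0) (m : ℕ) : Prop :=
  ∀ (v : leechLattice) (p : GolayPt), ((A • v : leechLattice) : GolayPt → ℤ) p =
    if m.testBit (pidx p) then -(v : GolayPt → ℤ) p else (v : GolayPt → ℤ) p

/-- `A` permutes the coordinates by `σ`. -/
def IsPerm (A : Co0) (σ : Equiv.Perm GolayPt) : Prop :=
  ∀ (v : leechLattice) (p : GolayPt), ((A • v : leechLattice) : GolayPt → ℤ) p =
    (v : GolayPt → ℤ) (σ.symm p)

theorem isSign_iff (A : Co0) (m : ℕ) : IsSign A m ↔ IsSignW A (word m) := by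
  have h : ∀ (p : GolayPt) (a b : ℤ), (if m.testBit (pidx p) then a else b) =
      if word m p = 0 then b else a := by
    intro p a b
    unfold word
    cases m.testBit (pidx p) <;> simp
  unfold IsSign IsSignW
  simp only [h]

theorem isSignW_zero : IsSignW 1 0 := by
  intro v p
  simp

theorem isSignW_add {A B : Co0} {w x : GolayPt → ZMod 2} (hA : IsSignW A w) (hB : IsSignW B x) :
    IsSignW (A * B) (w + x) := by
  intro v p
  rw [mul_smul, hA, hB, Pi.add_apply]
  have : ∀ a b : ZMod 2, (a = 0 ∨ a = 1) ∧ (b = 0 ∨ b = 1) := by decide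
  obtain ⟨ha | ha, hb | hb⟩ := this (w p) (x p) <;> rw [ha, hb]
  · simp
  · simp
  · simp
  · have h2 : (1 + 1 : ZMod 2) = 0 := by decide
    simp [h2]

theorem isPerm_one : IsPerm 1 1 := by
  intro v p
  rw [one_smul]
  rfl

theorem isPerm_mul {A B : Co0} {σ τ : Equiv.Perm GolayPt} (hA : IsPerm A σ) (hB : IsPerm B τ) :
    IsPerm (A * B) (σ * τ) := by
  intro v p
  rw [mul_smul, hA, hB]
  rfl

theorem isPerm_inv {A : Co0} {σ : Equiv.Perm GolayPt} (hA : IsPerm A σ) : IsPerm A⁻¹ σ⁻¹ := by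
  intro v p
  have h := hA (A⁻¹ • v) (σ p)
  rw [smul_inv_smul, Equiv.symm_apply_apply] at h
  rw [← h]
  rfl

theorem sign_mem (H : Subgroup Co0) (hs : ∀ i < 12, ∃ A ∈ H, IsSign A (cb.getD i 0))
    {w : GolayPt → ZMod 2} (hw : w ∈ golayCode) : ∃ A ∈ H, IsSignW A w := by
  have hcomb : ∀ L : List ℕ, (∀ u ∈ L, u < 12) → ∃ A ∈ H, IsSignW A (word (cbSum L)) := by
    intro L
    induction L with
    | nil =>
      intro _
      exact ⟨1, H.one_mem, by rw [show cbSum [] = 0 from rfl, word_zero]; exact isSignW_zero⟩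
    | cons u L ih =>
      intro hL
      obtain ⟨A, hA, hA'⟩ := ih fun x hx => hL x (List.mem_cons_of_mem _ hx)
      obtain ⟨B, hB, hB'⟩ := hs u (hL u List.mem_cons_self)
      refine ⟨B * A, H.mul_mem hB hA, ?_⟩
      rw [show cbSum (u :: L) = cb.getD u 0 ^^^ cbSum L from rfl, word_xor]
      exact isSignW_add ((isSign_iff _ _).1 hB') hA'
  have hq : ∀ t < 24, ∃ A ∈ H, IsSignW A (word (qmask t)) := by
    intro t ht
    rw [← cbSum_qcomb t ht]
    exact hcomb _ (qcomb_lt t ht)
  unfold golayCode at hw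
  induction hw using Submodule.span_induction with
  | mem w hw =>
    rcases hw with ⟨t, rfl⟩ | hw
    · rw [qrWord_eq_word]
      exact hq _ (lt_trans (ZMod.val_lt t) (by norm_num))
    · rw [Set.mem_singleton_iff] at hw
      rw [hw, one_eq_word]
      exact hq 23 (by norm_num)
  | zero => exact ⟨1, H.one_mem, isSignW_zero⟩
  | add a b _ _ ha hb =>
    obtain ⟨A, hA, hA'⟩ := ha
    obtain ⟨B, hB, hB'⟩ := hb
    exact ⟨A * B, H.mul_mem hA hB, isSignW_add hA' hB'⟩
  | smul c a _ ha =>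
    have : c = 0 ∨ c = 1 := by revert c; decide
    rcases this with rfl | rfl
    · rw [zero_smul]; exact ⟨1, H.one_mem, isSignW_zero⟩
    · rw [one_smul]; exact ha

theorem perm_mem' (H : Subgroup Co0)
    (h1 : ∃ A ∈ H, IsPerm A (Equiv.optionCongr (Equiv.addRight (1 : ZMod 23))))
    (h2 : ∃ A ∈ H, IsPerm A projInv) (h3 : ∃ A ∈ H, IsPerm A cubeTwist)
    {σ : Equiv.Perm GolayPt} (hσ : σ ∈ M24) : ∃ A ∈ H, IsPerm A σ := by
  rw [← Cfsg.Agent.SporadicA.M24Trans.closure_eq] at hσ
  unfold Cfsg.Agent.SporadicA.M24Chain.K at hσ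
  induction hσ using Subgroup.closure_induction with
  | mem x hx =>
    rcases hx with rfl | rfl | rfl
    · exact h1
    · exact h2
    · exact h3
  | one => exact ⟨1, H.one_mem, isPerm_one⟩
  | mul x y _ _ hx hy =>
    obtain ⟨A, hA, hA'⟩ := hx
    obtain ⟨B, hB, hB'⟩ := hy
    exact ⟨A * B, H.mul_mem hA hB, isPerm_mul hA' hB'⟩
  | inv x _ hx =>
    obtain ⟨A, hA, hA'⟩ := hx
    exact ⟨A⁻¹, H.inv_mem hA, isPerm_inv hA'⟩

/-- The sign changes at the basis of the code and the three standard permutations generate the stabiliser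
of the standard cross. -/
theorem mem_of_preserves (H : Subgroup Co0) (hs : ∀ i < 12, ∃ A ∈ H, IsSign A (cb.getD i 0))
    (h1 : ∃ A ∈ H, IsPerm A (Equiv.optionCongr (Equiv.addRight (1 : ZMod 23))))
    (h2 : ∃ A ∈ H, IsPerm A projInv) (h3 : ∃ A ∈ H, IsPerm A cubeTwist)
    (A : Co0) (hA : PreservesCross A) : A ∈ H := by
  obtain ⟨σ, hσ, c, ⟨w, hw, rfl⟩, h⟩ := exists_signedPerm A hA
  obtain ⟨B, hB, hB'⟩ := perm_mem' H h1 h2 h3 hσ
  obtain ⟨C, hC, hC'⟩ := sign_mem H hs hw
  have : A = C * B := by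
    apply co0_ext
    intro v
    apply Subtype.ext
    funext p
    rw [h, mul_smul, hC', hB', signedPerm_apply]
    by_cases hp : w p = 0
    · rw [if_pos hp, if_neg]
      simp [support₂, hp]
    · rw [if_neg hp, if_pos]
      simp [support₂, hp]
  rw [this]
  exact H.mul_mem hC hB

/-- Elements of `Co0` fixing the class of the standard frame lie in the group generated by the sign changes
at the basis of the code and the three standard permutations. -/
theorem mem_of_congr (H : Subgroup Co0) (hs : ∀ i < 12, ∃ A ∈ H, IsSign A (cb.getD i 0))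
    (h1 : ∃ A ∈ H, IsPerm A (Equiv.optionCongr (Equiv.addRight (1 : ZMod 23))))
    (h2 : ∃ A ∈ H, IsPerm A projInv) (h3 : ∃ A ∈ H, IsPerm A cubeTwist)
    (A : Co0) (hA : ∃ w : leechLattice, v0 - A • v0 = 2 • w) : A ∈ H :=
  mem_of_preserves H hs h1 h2 h3 A (preserves_of_congr A hA)

/-! ### Fixing the class of the standard frame -/

/-- `A` fixes the class of `8 e_∞` modulo twice the lattice. -/
def FixesFrame (A : Co0) : Prop := ∃ w : leechLattice, v0 - A • v0 = 2 • w

theorem fixesFrame_one : FixesFrame 1 := ⟨0, by rw [one_smul, sub_self, smul_zero]⟩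

theorem fixesFrame_mul {A B : Co0} (hA : FixesFrame A) (hB : FixesFrame B) : FixesFrame (A * B) := by
  obtain ⟨w, hw⟩ := hA
  obtain ⟨x, hx⟩ := hB
  refine ⟨w + A • x, ?_⟩
  have h1 : A • v0 - A • B • v0 = 2 • (A • x) := by
    rw [← co0_smul_sub, hx]
    exact map_nsmul (co0AddHom A) 2 x
  rw [mul_smul, smul_add, ← hw, ← h1]
  abel

theorem fixesFrame_inv {A : Co0} (hA : FixesFrame A) : FixesFrame A⁻¹ := by
  obtain ⟨w, hw⟩ := hA
  refine ⟨-(A⁻¹ • w), ?_⟩
  have h1 : A⁻¹ • v0 - A⁻¹ • A • v0 = 2 • (A⁻¹ • w) := by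
    rw [← co0_smul_sub, hw]
    exact map_nsmul (co0AddHom A⁻¹) 2 w
  rw [inv_smul_smul] at h1
  rw [smul_neg, ← h1]
  abel

theorem fixesFrame_of_preserves {A : Co0} (hA : PreservesCross A) : FixesFrame A := by
  have h := hA v0 ⟨none, 8, Or.inl rfl, rfl⟩
  rw [stdCross_eq] at h
  obtain ⟨_, _, z, hz, hxy⟩ := h
  refine ⟨⟨z, hz⟩, Subtype.ext ?_⟩
  have : ((v0 - A • v0 : leechLattice) : GolayPt → ℤ) = (v0 : GolayPt → ℤ) - (A • v0 : leechLattice) :=
    rfl
  rw [this, hxy]
  simp

theorem preserves_iff (A : Co0) : PreservesCross A ↔ FixesFrame A :=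
  ⟨fixesFrame_of_preserves, preserves_of_congr A⟩

theorem preserves_of_sign {A : Co0} {m : ℕ} (hA : IsSign A m) : PreservesCross A := by
  rintro v ⟨i, s, hs, hv⟩
  refine ⟨i, if m.testBit (pidx i) then -s else s, ?_, ?_⟩
  · split_ifs
    · rcases hs with rfl | rfl
      · right; rfl
      · left; norm_num
    · exact hs
  · funext p
    rw [hA v p, hv, Pi.single_apply, Pi.single_apply]
    by_cases hp : p = i
    · subst hp
      simp
    · simp [hp]

theorem preserves_of_perm {A : Co0} {σ : Equiv.Perm GolayPt} (hA : IsPerm A σ) : PreservesCross A := by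
  rintro v ⟨i, s, hs, hv⟩
  refine ⟨σ i, s, hs, ?_⟩
  funext p
  rw [hA v p, hv, Pi.single_apply, Pi.single_apply]
  by_cases hp : p = σ i
  · subst hp
    simp
  · have : σ.symm p ≠ i := by
      rintro rfl
      simp at hp
    simp [hp, this]

end Cfsg.Agent.MonsterX.FrameStab
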