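import Cfsg.Agent.MonsterX.KLift
import Cfsg.Agent.SporadicA.Co0Mono
import Cfsg.Agent.SporadicA.Co1Simple
import Cfsg.Agent.SporadicA.M24Trans
import Cfsg.Agent.SporadicStructure.Co0Base
import Cfsg.Agent.Monster.PauliRep
import Cfsg.Agent.MonsterX.FrameStab

/-!
# The span of the orbit of a unit vector of the tensor part, abstract form

`mem_of_mem`: a `K`-invariant subspace containing one vector `Θ f₀ (8 e_i)` with `f₀` cyclic contains all `Θ f v`.
`preserves_of_smul`: an element of `Co0` mapping `8 e_i` to `± 8 e_i` preserves the standard frame.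
-/

set_option autoImplicit false

namespace Cfsg.Agent.MonsterX.KSpanAbs

open Cfsg Cfsg.Agent.MonsterX.KSide Cfsg.Agent.MonsterX.KLift
  Cfsg.Agent.Monster.PauliBasic Cfsg.Agent.Monster.PauliRep Cfsg.Agent.LeechMat.Core
open Cfsg.Agent.SporadicA.Co0Mono (permCo0 permCo0_smul)
open Cfsg.Agent.SporadicStructure.Co0Base (e8 e8_coe)

/-- `Co0` is transitive on the vectors `8 e_i`. -/
theorem exists_e8 (i j : GolayPt) : ∃ A : Co0, A • e8 i = e8 j := by
  have htr : MulAction.IsPretransitive M24 GolayPt := by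
    have h5 := Cfsg.Agent.SporadicA.M24Trans.five_transitive
    have : MulAction.IsMultiplyPretransitive M24 GolayPt 1 :=
      MulAction.isMultiplyPretransitive_of_le (n := 5) (by norm_num) (by
        rw [Nat.card_eq_fintype_card]; decide)
    exact MulAction.is_one_pretransitive_iff.1 this
  obtain ⟨σ, hσ⟩ := MulAction.exists_smul_eq M24 i j
  refine ⟨permCo0 σ, ?_⟩
  apply Subtype.ext
  funext p
  rw [permCo0_smul]
  show (Pi.single i 8 : GolayPt → ℤ) ((σ : Equiv.Perm GolayPt).symm p) = (Pi.single j 8 : GolayPt → ℤ) p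
  have h : (σ : Equiv.Perm GolayPt) i = j := hσ
  rw [Pi.single_apply, Pi.single_apply]
  by_cases hp : p = j
  · rw [if_pos hp, if_pos]
    rw [hp, ← h, Equiv.symm_apply_apply]
  · rw [if_neg hp, if_neg]
    intro h'
    apply hp
    rw [← h, ← h', Equiv.apply_symm_apply]

theorem rat_e8 (i : GolayPt) : rat (e8 i) = (8 : ℚ) • Pi.single i 1 := by
  funext p
  show (((Pi.single i 8 : GolayPt → ℤ) p : ℤ) : ℚ) = (8 : ℚ) * (Pi.single i 1 : GolayPt → ℚ) p
  rw [Pi.single_apply, Pi.single_apply]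
  split_ifs <;> norm_num

section

variable {G V P W : Type*} [Group G] [AddCommGroup V] [Module ℚ V]
  [DistribMulAction G V] [SMulCommClass G ℚ V] [Group P] [AddCommGroup W] [Module ℚ W]

/-- A `K`-invariant subspace containing a vector `Θ f₀ (8 e_i)` with `f₀` cyclic contains all `Θ f v`. -/
theorem mem_of_mem (M : KS G V P W) {f₀ : W} (hf₀ : Submodule.span ℚ (Set.range fun p => M.ρ p f₀) = ⊤)
    (N : Submodule ℚ V) (hN : ∀ k ∈ M.K, ∀ v ∈ N, k • v ∈ N) {i₀ : GolayPt}
    (h₀ : M.Θ f₀ (rat (e8 i₀)) ∈ N) (f : W) (v : GolayPt → ℚ) : M.Θ f v ∈ N := by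
  have h1 : ∀ f, M.Θ f (rat (e8 i₀)) ∈ N := by
    intro f
    have hf : f ∈ Submodule.span ℚ (Set.range fun p => M.ρ p f₀) := by rw [hf₀]; trivial
    induction hf using Submodule.span_induction with
    | mem x hx =>
      obtain ⟨p, rfl⟩ := hx
      show M.Θ (M.ρ p f₀) _ ∈ N
      rw [← M.ι_Θ]
      exact hN _ (M.ι_mem p) _ h₀
    | zero => rw [map_zero, LinearMap.zero_apply]; exact N.zero_mem
    | add x y _ _ hx hy => rw [map_add, LinearMap.add_apply]; exact N.add_mem hx hy
    | smul c x _ hx => rw [map_smul, LinearMap.smul_apply]; exact N.smul_mem _ hx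
  have h2 : ∀ j f, M.Θ f (rat (e8 j)) ∈ N := by
    intro j f
    obtain ⟨A, hA⟩ := exists_e8 j i₀
    obtain ⟨k, hk, α, T, A', hacts, hpm⟩ := exists_acts M A
    have h3 : k • M.Θ f (rat (e8 j)) ∈ N := by
      rw [hacts.act_Θ]
      rcases hpm (e8 j) with e | e <;> rw [e, hA]
      · exact h1 _
      · rw [rat_neg, map_neg]
        exact N.neg_mem (h1 _)
    have h4 := hN k⁻¹ (M.K.inv_mem hk) _ h3
    rwa [inv_smul_smul] at h4
  have h3 : v = ∑ i, (v i / 8) • rat (e8 i) := by
    funext p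
    rw [Finset.sum_apply]
    rw [Finset.sum_eq_single p]
    · rw [rat_e8, Pi.smul_apply, Pi.smul_apply, Pi.single_eq_same]
      simp only [smul_eq_mul]
      ring
    · intro q _ hq
      rw [rat_e8, Pi.smul_apply, Pi.smul_apply, Pi.single_eq_of_ne (Ne.symm hq), smul_zero, smul_zero]
    · intro h; exact absurd (Finset.mem_univ _) h
  rw [h3, map_sum]
  refine N.sum_mem fun i _ => ?_
  rw [map_smul]
  exact N.smul_mem _ (h2 i f)

/-- The form with the orbit of a vector. -/
theorem mem_span_orbit (M : KS G V P W) {f₀ : W} (hf₀ : Submodule.span ℚ (Set.range fun p => M.ρ p f₀) = ⊤)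
    {i₀ : GolayPt} {w : V} {c : ℚ} (hc : c ≠ 0) (hw : w = c • M.Θ f₀ (rat (e8 i₀))) (f : W) (v : GolayPt → ℚ) :
    M.Θ f v ∈ Submodule.span ℚ {t | ∃ k ∈ M.K, t = k • w} := by
  refine mem_of_mem M hf₀ _ ?_ (i₀ := i₀) ?_ f v
  · intro k hk x hx
    induction hx using Submodule.span_induction with
    | mem x hx =>
      obtain ⟨l, hl, rfl⟩ := hx
      exact Submodule.subset_span ⟨k * l, M.K.mul_mem hk hl, by rw [mul_smul]⟩
    | zero => rw [smul_zero]; exact Submodule.zero_mem _
    | add x y _ _ hx hy => rw [smul_add]; exact Submodule.add_mem _ hx hy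
    | smul c x _ hx => rw [smul_comm]; exact Submodule.smul_mem _ _ hx
  · have h1 : w ∈ Submodule.span ℚ {t | ∃ k ∈ M.K, t = k • w} :=
      Submodule.subset_span ⟨1, M.K.one_mem, by rw [one_smul]⟩
    have h2 : M.Θ f₀ (rat (e8 i₀)) = c⁻¹ • w := by
      rw [hw, smul_smul, inv_mul_cancel₀ hc, one_smul]
    rw [h2]
    exact Submodule.smul_mem _ _ h1

end

/-! ### Unit vectors are cyclic for the Pauli group -/

/-- The images of a unit vector under the Pauli group span. -/
theorem cyclic {n : ℕ} (b : B n) {ρ : Pauli n →* Module.End ℚ (B n → ℚ)} (hρ : ∀ p f, ρ p f = rho ℚ p f) :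
    Submodule.span ℚ (Set.range fun p => ρ p (Pi.single b 1)) = ⊤ := by
  rw [eq_top_iff]
  intro f _
  have h : f = ∑ e, f e • Pi.single e (1 : ℚ) := by
    funext t
    rw [Finset.sum_apply, Finset.sum_eq_single t]
    · rw [Pi.smul_apply, Pi.single_eq_same, smul_eq_mul, mul_one]
    · intro q _ hq
      rw [Pi.smul_apply, Pi.single_eq_of_ne (Ne.symm hq), smul_zero]
    · intro h; exact absurd (Finset.mem_univ _) h
  rw [h]
  refine Submodule.sum_mem _ fun e _ => Submodule.smul_mem _ _ (Submodule.subset_span ⟨⟨0, b + e, 0⟩, ?_⟩)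
  show ρ _ _ = _
  rw [hρ, rho_single]
  have h1 : b + (b + e) = e := by rw [add_comm b e, add_comm b, add_add_cancel]
  show Pi.single (b + (b + e)) _ = _
  rw [h1]
  congr 1
  show sg ℚ (0 + (0 : B n) ⬝ᵥ b) * 1 = 1
  rw [zero_dotProduct, add_zero, sg_zero, one_mul]

/-! ### Stabilisers of `8 e_i` up to sign -/

open Cfsg.Agent.SporadicA.Co0Card Cfsg.Agent.MonsterX.FrameStab Cfsg.Agent.SporadicStructure.StdCross in
/-- An element of `Co0` mapping `8 e_i` to `± 8 e_i` preserves the standard frame. -/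
theorem preserves_of_smul {A : Co0} {e : leechLattice} {i : GolayPt} (he : (e : GolayPt → ℤ) = Pi.single i 8)
    (h : A • e = e ∨ A • e = -e) : PreservesCross A := by
  apply preserves_of_congr
  have he' : e = e8 i := Subtype.ext he
  obtain ⟨x, hx⟩ := Cfsg.Agent.SporadicA.Co1Simple.e8_sub none i
  have h0 : v0 = e + 2 • x := by
    rw [he']
    exact (show v0 = e8 none from rfl).trans hx
  have h1 : A • v0 = A • e + 2 • (A • x) := by
    rw [h0, co0_smul_add, two_smul, co0_smul_add, ← two_smul ℕ]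
  rcases h with h | h
  · refine ⟨x - A • x, ?_⟩
    rw [h1, h, smul_sub, h0]
    abel
  · refine ⟨e + x - A • x, ?_⟩
    rw [h1, h, smul_sub, smul_add, h0]
    rw [two_smul ℕ e]
    abel

end Cfsg.Agent.MonsterX.KSpanAbs
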