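import Cfsg.Agent.MonsterX.KDone
import Cfsg.Agent.MonsterX.KSpanAbs

/-!
# Field `stab` of the concrete model: the span and the stabiliser of `8 e_i`

* `d2_hi`: the part of `d 2` in the tensor lanes is `2` times the unit vector of the lane `180163`;
* `w_eq`: `d 2 - z d 2 = (1/2) Θ f₀ (8 e_i)`, `f₀` a unit vector, `i` the point of the slot `3`;
* `span`: the field `span` of `ConnData` for `w = d 2 - z d 2`; `X_span`: the field of `MOrbit`;
* `hst`: an element of `C` which induces an element of `Co0` mapping `8 e_i` to `± 8 e_i` is in `N`.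
-/

set_option autoImplicit false
set_option maxRecDepth 100000

namespace Cfsg.Agent.MonsterX.KStabSpan

open Cfsg Cfsg.Agent.Monster.VecEngine Cfsg.Agent.Monster Cfsg.Agent.Monster.VecSpace
open Cfsg.Agent.MonsterX.ProgBase Cfsg.Agent.MonsterX.ProgTable Cfsg.Agent.MonsterX.Space
open Cfsg.Agent.MonsterX.InstData Cfsg.Agent.MonsterX.InstEval Cfsg.Agent.MonsterX.Conc
open Cfsg.Agent.Monster.PauliBasic Cfsg.Agent.Monster.PauliRep Cfsg.Agent.Monster.TensorProg
open Cfsg.Agent.MonsterX.KRows Cfsg.Agent.MonsterX.KSide Cfsg.Agent.MonsterX.KLift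
open Cfsg.Agent.SporadicStructure.Co0Base (e8 e8_coe)

/-! ### The tensor part of `d 2` -/

theorem UW_bl : UW.testBit 180163 = true := by
  rw [testBit_UW]; decide

/-- The lane of the tensor part of `d 2`. -/
noncomputable def bl : Lane U := ⟨180163, U_of_UW UW_bl⟩

/-- The planes of `2 ^ 8` times the unit vector of the lane `180163`. -/
noncomputable def target : Pl := up 8 (.cons (Nat.shiftLeft 1 180163) (.sgn 0))

theorem run_d2 : runL ((bj 2).map prog) (up 7 a0B) (fun y => eqP (norm (msk ProgZ.hiM y)) target) = true := by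
  decide +kernel

theorem val_target (i : ℕ) : val target i = if i = 180163 then 256 else 0 := by
  unfold target
  rw [val_up, val_cons, val_sgn]
  unfold bt
  rw [tb_single]
  by_cases h : i = 180163
  · subst h; norm_num
  · simp [h]

/-- The tensor part of `d 2`. -/
theorem d2_hi (i : Lane U) (hi : ProgZ.hiM.testBit i.1 = true) :
    (InstData.d 2 : Lane U → ℚ) i = if i.1 = 180163 then 2 else 0 := by
  obtain ⟨y, hy, hk⟩ := run_coe (n := 7) (w := bj 2) sym_a0B run_d2
  have h1 : (2 : ℚ) ^ 7 * (InstData.d 2 : Lane U → ℚ) i = ((val y i.1 : ℤ) : ℚ) := hy i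
  have h2 : val y i.1 = if i.1 = 180163 then 256 else 0 := by
    have h3 := val_msk ProgZ.hiM y i.1
    rw [if_pos hi] at h3
    rw [← h3, ← val_norm, eq_of_eqP hk, val_target]
  rw [h2] at h1
  by_cases h : i.1 = 180163
  · rw [if_pos h] at h1 ⊢
    push_cast at h1
    linarith
  · rw [if_neg h] at h1 ⊢
    push_cast at h1
    linarith

/-- `d 2 - z d 2` is `4` times a unit vector. -/
theorem sub_z : InstData.d 2 - Conc.z (InstData.d 2) = (4 : ℚ) • (⟨e1 bl, by
    rw [← Θ_single bl UW_bl]; exact (Θ _ _).2⟩ : V) := by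
  apply Subtype.ext
  funext i
  show (InstData.d 2 : Lane U → ℚ) i - (Conc.z (InstData.d 2) : Lane U → ℚ) i = 4 * e1 bl i
  rw [z_apply]
  by_cases hi : ProgZ.hiM.testBit i.1 = true
  · rw [if_pos hi]
    show (InstData.d 2 : Lane U → ℚ) i - -(InstData.d 2 : Lane U → ℚ) i = _
    rw [d2_hi i hi]
    unfold e1
    by_cases h : i.1 = 180163
    · have h1 : i = bl := Subtype.ext h
      rw [if_pos h, if_pos h1]; norm_num
    · have h1 : ¬ i = bl := fun h' => h (congrArg Subtype.val h')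
      rw [if_neg h, if_neg h1]; norm_num
  · rw [if_neg hi, sub_self]
    unfold e1
    rw [if_neg, mul_zero]
    intro h
    apply hi
    rw [h]
    exact KLinkInst.hi_of_UW UW_bl

/-- The unit vector in the spin space. -/
noncomputable def f₀ : B 12 → ℚ := Pi.single (PauliBits.vec 12 (180163 / 32)) 1

/-- The point. -/
def i₀ : GolayPt := ptS 3

/-- `w = d 2 - z d 2`. -/
noncomputable def w : V := InstData.M.d (2 : Fin 12) - KDone.K.z • InstData.M.d (2 : Fin 12)

theorem w_eq : w = (1 / 2 : ℚ) • KDone.K.Θ f₀ (rat (e8 i₀)) := by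
  have h1 : w = InstData.d 2 - Conc.z (InstData.d 2) := by
    have h2 : Conc.z = ((KDone.K.z : InstData.M.G) : V ≃ₗ[ℚ] V) := KDone.lnk.z_eq
    rw [h2]
    rfl
  rw [h1, sub_z, KSpanAbs.rat_e8, map_smul, smul_smul]
  have h3 : (1 / 2 : ℚ) * 8 = 4 := by norm_num
  rw [h3]
  congr 1
  apply Subtype.ext
  exact (Θ_single bl UW_bl).symm

theorem w_ne : w ≠ 0 := by
  intro h
  have h1 : w = InstData.d 2 - Conc.z (InstData.d 2) := by
    have h2 : Conc.z = ((KDone.K.z : InstData.M.G) : V ≃ₗ[ℚ] V) := KDone.lnk.z_eq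
    rw [h2]
    rfl
  rw [h1, sub_z] at h
  have h2 := congrArg (fun x : V => x.1 bl) h
  have h3 : (4 : ℚ) * e1 bl bl = 0 := h2
  unfold e1 at h3
  rw [if_pos rfl] at h3
  norm_num at h3

/-- **The field `span` of `ConnData`.** -/
theorem span (f : B 12 → ℚ) (v : leechLattice) :
    KDone.K.Θ f (rat v) ∈ Submodule.span ℚ {t | ∃ k ∈ KDone.K.K, t = k • w} :=
  KSpanAbs.mem_span_orbit KDone.K (KSpanAbs.cyclic _ fun _ _ => rfl) (by norm_num) w_eq f (rat v)

/-- **The field `X_span` of `MOrbit`.** -/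
theorem X_span : Submodule.span ℚ InstData.M.X = ⊤ :=
  KSLatModel.X_span KDone.lnk KDone.lft InstData.d_j₀ (InstData.M.d (2 : Fin 12))
    ⟨(2 : Fin 12), 1, InstData.M.C.one_mem, rfl⟩ span

/-! ### The stabiliser of `8 e_i` up to sign -/

/-- **The hypothesis `hst` of `tauData`.** -/
theorem hst {e : leechLattice} {i : GolayPt} (he : (e : GolayPt → ℤ) = Pi.single i 8) (k : InstData.M.G)
    (hk : k ∈ KDone.K.K) (A : Co0) (hA : ∀ v, k • KDone.K.u v = KDone.K.u (A • v))
    (h : A • e = e ∨ A • e = -e) : k ∈ Conc.N.subgroupOf InstData.M.G := by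
  obtain ⟨m, hm, hmA⟩ := UOnto.onto_N A (KSpanAbs.preserves_of_smul he h)
  rw [Subgroup.mem_subgroupOf]
  have hkC : (k : V ≃ₗ[ℚ] V) ∈ Conc.C := Subgroup.mem_subgroupOf.1 hk
  have h1 : m⁻¹ * (k : V ≃ₗ[ℚ] V) ∈ Conc.Q := by
    apply KDone.ker_C _ (Conc.C.mul_mem (Conc.C.inv_mem (Conc.N_le_C hm)) hkC)
    intro v
    have h2 : (k : V ≃ₗ[ℚ] V) (USide.u v) = m (USide.u v) := (hA v).trans (hmA v).symm
    rw [LinearEquiv.mul_apply, h2, ← LinearEquiv.mul_apply, inv_mul_cancel]
    rfl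
  have h3 := Conc.N.mul_mem hm (Conc.Q_le_N h1)
  rwa [mul_inv_cancel_left] at h3

end Cfsg.Agent.MonsterX.KStabSpan
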