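import Cfsg.Agent.MonsterX.KStabCls
import Cfsg.Agent.MonsterX.KStabSpan
import Cfsg.Agent.MonsterX.KConn
import Cfsg.Agent.MonsterX.KRigTwo
import Cfsg.Agent.MonsterX.ConcGrp
import Cfsg.Agent.MonsterX.LinesRigid

/-!
# The field `stab` of `MOrbit InstData.M`

`TauIn`: the facts on `τ` and one short element `x₁`; `stab`: the field, from `closed` and `TauIn`.
-/

set_option autoImplicit false

namespace Cfsg.Agent.MonsterX.KStab

open Cfsg Cfsg.Agent.MonsterX.Space Cfsg.Agent.MonsterX.KSide Cfsg.Agent.MonsterX.KLift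
open Cfsg.Agent.MonsterX.KRigid Cfsg.Agent.MonsterX.KInst Cfsg.Agent.MonsterX.KStabSpan
open Cfsg.Agent.Monster.PauliBasic Cfsg.Agent.SporadicStructure.Co0Base

theorem linesRigid : KS.LinesRigid := fun f hn hd =>
  LinesRigid.lines_rigid f hn fun x y hx hy => (sq_eq_sq_iff_abs_eq_abs _ _).1 (hd x y hx hy)

/-- The triality element. -/
noncomputable def τ : InstData.M.G := ⟨Conc.τ, Conc.τ_mem_G⟩

theorem cube : τ * τ * τ = 1 := Subtype.ext ConcGrp.τ_cube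

/-- The facts on `τ` and the short element `x₁`. -/
structure TauIn (x₁ : Pauli 12) : Prop where
  mem : x₁ ∈ KDone.K.Sh
  hz : ∀ v, KDone.K.z • τ • KDone.K.u v = τ • KDone.K.u v
  hz' : ∀ v, KDone.K.z • τ⁻¹ • KDone.K.u v = τ⁻¹ • KDone.K.u v
  hX : KDone.K.z • τ • KDone.K.X x₁ = -(τ • KDone.K.X x₁)
  h1 : ∀ w : leechLattice, KDone.K.B (τ • KDone.K.a x₁) (KDone.K.u w) =
    (nrm w : ℚ) / 256 + (((w : GolayPt → ℤ) i₀ : ℤ) : ℚ) ^ 2 / 32
  h2 : ∀ w : leechLattice, KDone.K.B (τ⁻¹ • KDone.K.a x₁) (KDone.K.u w) =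
    (nrm w : ℚ) / 256 + (((w : GolayPt → ℤ) i₀ : ℤ) : ℚ) ^ 2 / 32
  hj : τ • KDone.K.a x₁ = InstData.M.d (2 : Fin 12)

/-- The elements of `N` are conjugated into `C` by `τ` up to the other element of the coset. -/
theorem conjN {k : V ≃ₗ[ℚ] V} (hk : k ∈ Conc.N) : Conc.τ⁻¹ * k * Conc.τ ∈ Conc.C ∨ Conc.τ * k * Conc.τ ∈ Conc.C := by
  have h := ConcGrp.tauData
  rcases h.cosets k hk with h1 | h1
  · exact Or.inl (Conc.N_le_C (h.conj' k h1))
  · right
    have h2 : Conc.τ * k * Conc.τ = (Conc.τ * (k * Conc.E 12) * Conc.τ⁻¹) * (Conc.E 12)⁻¹ := by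
      have h3 : (Conc.E 12)⁻¹ * Conc.τ = Conc.τ⁻¹ * (Conc.E 12)⁻¹ := h.tau_inv_e.symm
      calc Conc.τ * k * Conc.τ = Conc.τ * (k * Conc.E 12) * ((Conc.E 12)⁻¹ * Conc.τ) := by group
        _ = Conc.τ * (k * Conc.E 12) * (Conc.τ⁻¹ * (Conc.E 12)⁻¹) := by rw [h3]
        _ = (Conc.τ * (k * Conc.E 12) * Conc.τ⁻¹) * (Conc.E 12)⁻¹ := by group
    rw [h2]
    exact Conc.C.mul_mem (Conc.N_le_C (h.conj _ h1)) (Conc.C.inv_mem (Conc.N_le_C h.e_mem))

theorem hD (k : InstData.M.G) (hk : k ∈ Conc.N.subgroupOf InstData.M.G) :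
    τ⁻¹ * k * τ ∈ KDone.K.K ∨ τ * k * τ ∈ KDone.K.K := by
  rcases conjN (Subgroup.mem_subgroupOf.1 hk) with h | h
  · exact Or.inl (Subgroup.mem_subgroupOf.2 h)
  · exact Or.inr (Subgroup.mem_subgroupOf.2 h)

/-- `w` is a multiple of the unit vector of the lane `180163`. -/
theorem w_ev : KStabSpan.w = (4 : ℚ) • KConn.ev KConn.L₀ := by
  have h1 : KStabSpan.w = InstData.d 2 - Conc.z (InstData.d 2) := by
    have h2 : Conc.z = ((KDone.K.z : InstData.M.G) : V ≃ₗ[ℚ] V) := KDone.lnk.z_eq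
    rw [h2]
    rfl
  rw [h1, KStabSpan.sub_z]
  congr 1
  apply Subtype.ext
  funext i
  rw [KConn.ev_apply KConn.sym₀]
  show KRows.e1 bl i = _
  unfold KRows.e1
  by_cases h : i = bl
  · have h' : i.1 = KConn.L₀ := by rw [h]; rfl
    rw [if_pos h, if_pos h']
  · have h' : ¬ i.1 = KConn.L₀ := fun h' => h (Subtype.ext h')
    rw [if_neg h, if_neg h']

/-- **Connectivity.** -/
theorem conn : KDone.K.ConnData KStabSpan.w where
  ne := KStabSpan.w_ne
  conn ε hε := KConn.conn KDone.R w_ev (by norm_num) ε hε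
  span := KStabSpan.span

section

variable (hc : ∀ j, ∀ g ∈ InstData.M.C, ∃ k, ∃ h ∈ InstData.M.C, InstData.M.τ (g (InstData.M.d j)) = h (InstData.M.d k))

include hc

theorem cls : Cls KDone.K KStabCls.pr (fun j : Fin 12 => InstData.M.d j) KStabCls.n :=
  KStabCls.cls (KStabCls.closed_G hc ConcGrp.τ_cube)

/-- **Triangles.** -/
theorem tri : KDone.K.TriData {b | ∃ k ∈ KDone.K.K, b = k • InstData.M.d (1 : Fin 12)} :=
  triData KDone.lft KStabCls.hpr (LatSep.uSpan KDone.K) (cls hc) (KRigTwo.twoB KDone.R)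

/-- **The element `τ`.** -/
theorem tau {x₁ : Pauli 12} (H : TauIn x₁) : KDone.K.TauData τ x₁ :=
  tauData KStabCls.hpr (LatSep.uSpan KDone.K) (cls hc) (e := e8 i₀) (i₀ := i₀) (k₁ := 1) (j := (2 : Fin 12))
    H.mem cube H.hz H.hz' H.hX H.h1 H.h2 rfl
    (fun k hk A hA h => KStabSpan.hst (e := e8 i₀) (i := i₀) rfl k hk A hA h) hD KDone.K.K.one_mem
    (by rw [H.hj, one_smul])

/-- **The field `stab` of `MOrbit`**, from `closed` and the facts on `τ`. -/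
theorem stab {x₁ : Pauli 12} (H : TauIn x₁) : ∀ g ∈ InstData.M.G,
    (∀ s ∈ InstData.M.S, g s ∈ InstData.M.S ∧ g (InstData.M.σ s) = InstData.M.σ (g s)) → g ∈ InstData.M.C := by
  intro g hg h
  refine KDone.lnk.stab KDone.lft (tri hc) (KSLatModel.chars KDone.lft) (tau hc H) (LatSep.uSpan KDone.K) ?_
    LatSep.separated linesRigid g hg fun s hs => (h s hs).1
  rw [H.hj]
  exact conn

end

end Cfsg.Agent.MonsterX.KStab
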