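import Cfsg.Agent.MonsterX.RelAll
import Cfsg.Agent.MonsterX.ConcGrp

/-!
# Fields of `MOrbit`, `MExtra`, `MBaby` on the triality element

`τ_z_mem, τ_z_ne, τ_q, τ_a₀, fixed, z_d₁`.
-/

set_option autoImplicit false
set_option maxRecDepth 100000
set_option Elab.async false

namespace Cfsg.Agent.MonsterX.FieldsO

open Cfsg.Agent.Monster.VecEngine Cfsg.Agent.Monster.VecSpace Cfsg.Agent.MonsterX.Space
open Cfsg.Agent.MonsterX.ProgTable Cfsg.Agent.MonsterX.GensT Cfsg.Agent.MonsterX.ProgBase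
open Cfsg.Agent.MonsterX.Conc Cfsg.Agent.MonsterX.Model Cfsg.Agent.MonsterX.InstData
open Cfsg.Agent.MonsterX.ConcMono Cfsg.Agent.MonsterX.TauRel Cfsg.Agent.MonsterX.RelAll

/-- FIELD `τ_z` of `MOrbit`. -/
theorem τ_z_mem : M.τ * M.z * M.τ⁻¹ ∈ M.Q := by
  have h : τ * z * τ⁻¹ = E 0 := τ_z
  show τ * z * τ⁻¹ ∈ Q
  rw [h]
  exact E_mem_Q (by norm_num)

theorem E0_ne_one : E 0 ≠ 1 := by
  intro h
  have h1 := τ_z
  rw [h, mul_inv_eq_one] at h1
  have h2 : z = 1 := by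
    have : τ * z = τ * 1 := by rw [h1, mul_one]
    exact mul_left_cancel this
  exact ConcGrp.z_ne_one h2

theorem E0_ne_z : E 0 ≠ z := by
  intro h
  have h1 := τ_x0
  rw [h, z_sq] at h1
  have h2 := τ_z
  rw [h1] at h2
  exact E0_ne_one h2.symm

/-- FIELD `τ_z_ne` of `MOrbit`. -/
theorem τ_z_ne : M.τ * M.z * M.τ⁻¹ ≠ M.z := by
  have h : τ * z * τ⁻¹ = E 0 := τ_z
  show τ * z * τ⁻¹ ≠ z
  rw [h]
  exact E0_ne_z

theorem E3_t₀ : E 3 * t₀ = t₀ * E 3 := by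
  have h : W [3, 13, 14] = W [13, 14, 3] := W_eq_of_same (by decide +kernel)
  have e1 : W [3, 13, 14] = t₀ * E 3 := W_cons 3 [13, 14]
  have e2 : W ([13, 14] ++ [3]) = E 3 * t₀ := by rw [W_append, W_single]; rfl
  have e3 : W [13, 14, 3] = W ([13, 14] ++ [3]) := rfl
  rw [e1, e3, e2] at h
  exact h.symm

theorem E15_E3 : E 15 * E 3 = z * E 3 * E 15 := by
  have h : W [3, 15] = W [15, 3, 45] := W_eq_of_same (by decide +kernel)
  rw [W2, W_cons, W2] at h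
  exact h

theorem E15_E27 : E 15 * E 27 = E 0 * E 27 * E 15 := by
  have h1 : τ * E 3 * τ⁻¹ = E 27 := by
    rw [τ_x (c := 3) (by norm_num), mul_inv_cancel_right]
  have h2 : τ * E 15 * τ⁻¹ = E 15 := by
    rw [τ_d (n := 15) (by norm_num) (by norm_num), mul_inv_cancel_right]
  have h3 : τ * (E 15 * E 3) * τ⁻¹ = (τ * E 15 * τ⁻¹) * (τ * E 3 * τ⁻¹) := by group
  have h4 : τ * (z * E 3 * E 15) * τ⁻¹ = (τ * z * τ⁻¹) * (τ * E 3 * τ⁻¹) * (τ * E 15 * τ⁻¹) := by group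
  rw [← E15_E3, h3, h1, h2, RelAll.τ_z] at h4
  exact h4

/-- `y_3` is not in `Q`. -/
theorem E27_not_mem (hQ : ∀ x ∈ Q, ∀ y ∈ Q, x * y = y * x ∨ x * y = y * x * z) : E 27 ∉ Q := by
  intro h
  have h1 := hQ (E 15) (E_mem_Q (by norm_num)) (E 27) h
  rw [E15_E27] at h1
  have hz : E 27 * E 15 * z = z * E 27 * E 15 := by
    rw [mul_assoc, z_comm_C _ (E_mem_C (n := 15) (by norm_num)), ← mul_assoc,
      z_comm_C _ (E_mem_C (n := 27) (by norm_num))]
  rcases h1 with h1 | h1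
  · have h2 := mul_right_cancel h1
    have h3 : E 0 * E 27 = 1 * E 27 := by rw [h2, one_mul]
    exact E0_ne_one (mul_right_cancel h3)
  · rw [hz] at h1
    exact E0_ne_z (mul_right_cancel (mul_right_cancel h1))

/-- Field `τ_q` of `MBaby`. -/
theorem τ_q' (hQ : ∀ x ∈ M.Q, ∀ y ∈ M.Q, x * y = y * x ∨ x * y = y * x * M.z) :
    ∃ q ∈ M.Q, q * M.t₀ = M.t₀ * q ∧ M.τ * q * M.τ⁻¹ ∈ M.C ∧ M.τ * q * M.τ⁻¹ ∉ M.Q := by
  have h1 : τ * E 3 * τ⁻¹ = E 27 := by
    rw [τ_x (c := 3) (by norm_num), mul_inv_cancel_right]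
  refine ⟨E 3, E_mem_Q (by norm_num), E3_t₀, ?_, ?_⟩
  · show τ * E 3 * τ⁻¹ ∈ C
    rw [h1]
    exact E_mem_C (by norm_num)
  · show τ * E 3 * τ⁻¹ ∉ Q
    rw [h1]
    exact E27_not_mem hQ

/-- FIELD `τ_q` of `MOrbit`. -/
theorem τ_q (hQ : ∀ x ∈ M.Q, ∀ y ∈ M.Q, x * y = y * x ∨ x * y = y * x * M.z) :
    ∃ q ∈ M.Q, M.τ * q * M.τ⁻¹ ∈ M.C ∧ M.τ * q * M.τ⁻¹ ∉ M.Q := by
  obtain ⟨q, h1, -, h2⟩ := τ_q' hQ
  exact ⟨q, h1, h2⟩

/-- FIELD `τ_a₀` of `MBaby`. -/
theorem τ_a₀ : M.τ M.a₀ = M.a₀ := by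
  rw [M_a₀]
  show τ (vecV a0B) = vecV a0B
  have h : W [40] (vecV a0B) = vecV a0B := W_fix_of_up (n := 4) (by decide +kernel)
  rwa [W_single] at h

/-! ### The fixed vector -/

/-- The planes of the identity matrix. -/
noncomputable def idB : Pl := .cons (Nat.shiftLeft 0x8000000040000000200000001000000008000000040000000200000001000000008000000040000000200000001000000008000000040000000200000001000000008000000040000000200000001000000008000000040000000200000001 61440) (.sgn 0)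

theorem fix_idB : ∀ n < 41, E n (vecV idB) = vecV idB := by
  intro n hn
  rw [← W_single]
  refine W_fix_of_up (n := 4) ?_
  interval_cases n <;> decide +kernel

theorem sym_idB : sym idB = true := by decide +kernel

theorem idB_ne : vecV idB ≠ 0 := by
  intro h
  have hU : U.testBit 61440 = true := by decide +kernel
  have h1 := congrArg (fun v : V => v.1 ⟨61440, hU⟩) h
  have h2 : (vecV idB : Lane U → ℚ) ⟨61440, hU⟩ = 1 := by
    rw [vecV_coe sym_idB]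
    show ((val idB 61440 : ℤ) : ℚ) = 1
    have : val idB 61440 = 1 := by decide +kernel
    rw [this, Int.cast_one]
  have h3 : (vecV idB : Lane U → ℚ) ⟨61440, hU⟩ = 0 := h1
  rw [h2] at h3
  exact one_ne_zero h3

/-- FIELD `fixed` of `MExtra`. -/
theorem fixed : ∃ v : V, v ≠ 0 ∧ (∀ g ∈ M.C, g v = v) ∧ M.τ v = v := by
  refine ⟨vecV idB, idB_ne, fun g hg => ?_, fix_idB 40 (by norm_num)⟩
  change g ∈ C at hg
  unfold C at hg
  induction hg using Subgroup.closure_induction with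
  | mem g hg =>
    obtain ⟨n, hn, rfl⟩ := hg
    exact fix_idB n (by omega)
  | one => rfl
  | mul a b _ _ ha hb =>
    rw [LinearEquiv.mul_apply, hb, ha]
  | inv a _ ha =>
    have h1 : a⁻¹ (a (vecV idB)) = vecV idB := a.symm_apply_apply _
    rwa [ha] at h1

/-- `z` fixes the representative of the second orbit (helper929's `hz1`). -/
theorem z_d₁ : M.z (M.d M.j₁) = M.d M.j₁ := by
  have e : M.d M.j₁ = W (bj 1) (vecV a0B) := M_d (1 : Fin 12)
  have e2 : bj 1 = [42, 39, 40] := by decide +kernel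
  have h : W [42, 39, 40, 45] (vecV a0B) = W [42, 39, 40] (vecV a0B) := W_eq_of_up (n := 4) (by decide +kernel)
  have h2 : W ([42, 39, 40] ++ [45]) = E 45 * W [42, 39, 40] := by rw [W_append, W_single]
  have h3 : W [42, 39, 40, 45] = W ([42, 39, 40] ++ [45]) := rfl
  rw [h3, h2] at h
  rw [e, e2]
  exact h

end Cfsg.Agent.MonsterX.FieldsO
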