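import Cfsg.Agent.MonsterX.KStabSpan
import Cfsg.Agent.MonsterX.KRigid
import Cfsg.Agent.MonsterX.FieldsO

/-!
# Field `stab` of the concrete model: the facts on `τ`

`tau`, `k₀`, `x₁` (`a x₁ = k₀ a₀`, `k₀ = W [42, 39, 42, 39]`, `τ a x₁ = d 2`) and the hypotheses `hcube`, `hz`, `hz'`,
`hX`, `h1`, `h2`, `hj` of `KRigid.tauData`, with `i₀ = KStabSpan.i₀`.
-/

set_option autoImplicit false
set_option maxRecDepth 100000

namespace Cfsg.Agent.MonsterX.KStabTau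

open Cfsg Cfsg.Agent.Monster.VecEngine Cfsg.Agent.Monster Cfsg.Agent.Monster.VecSpace
open Cfsg.Agent.MonsterX.ProgBase Cfsg.Agent.MonsterX.ProgTable Cfsg.Agent.MonsterX.Space
open Cfsg.Agent.MonsterX.InstData Cfsg.Agent.MonsterX.InstEval Cfsg.Agent.MonsterX.Conc
open Cfsg.Agent.Monster.PauliBasic Cfsg.Agent.MonsterX.KRows Cfsg.Agent.MonsterX.KSide Cfsg.Agent.MonsterX.KLift
open Cfsg.Agent.MonsterX.USide Cfsg.Agent.MonsterX.MatAct Cfsg.Agent.MonsterX.CoGens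
open Cfsg.Agent.MonsterX.KStabSpan (i₀)
open Cfsg.Agent.SporadicA.M24Gens (pidx)
open Cfsg.Agent.LeechMat.Core

/-! ### The elements -/

/-- `τ` as an element of the group. -/
noncomputable def tau : InstData.M.G := ⟨τ, Conc.τ_mem_G⟩

theorem cube : tau * tau * tau = 1 := Subtype.ext ConcGrp.τ_cube

/-- The word `[42, 39, 42, 39]`. -/
def w₀ : List ℕ := [42, 39, 42, 39]

theorem w₀_mem : W w₀ ∈ Conc.C := ConcGrp.W_mem_C (by decide)

/-- The element of the word `[42, 39, 42, 39]`. -/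
noncomputable def k₀ : InstData.M.G := ⟨W w₀, Conc.C_le_G w₀_mem⟩

theorem k₀_mem : k₀ ∈ KDone.K.K := (KDone.lnk.C_iff k₀).2 w₀_mem

theorem exists_x₁ : ∃ x ∈ KDone.K.Sh, KDone.K.a x = k₀ • KDone.K.a KLinkInst.x₀ ∧
    KDone.K.X x = k₀ • KDone.K.X KLinkInst.x₀ := by
  obtain ⟨A, α, T, hA⟩ := KDone.K.acts k₀ k₀_mem
  exact ⟨α KLinkInst.x₀, hA.act_sh _ KDone.lnk.x₀_mem, (KModel.Link.smul_a hA _ KDone.lnk.x₀_mem).symm,
    (hA.act_X _ KDone.lnk.x₀_mem).symm⟩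

/-- The short element with `a x₁ = k₀ a₀`. -/
noncomputable def x₁ : Pauli 12 := exists_x₁.choose

theorem x₁_mem : x₁ ∈ KDone.K.Sh := exists_x₁.choose_spec.1

theorem a_x₀ : KDone.K.a KLinkInst.x₀ = vecV a0B := by
  rw [← InstData.M_a₀]
  show KDone.K.u _ + (2 : ℚ) • KDone.K.X _ = InstData.M.u₀ + InstData.M.e₀
  rw [KDone.lnk.u₀_eq, KDone.lnk.e₀_eq]

theorem a_x₁ : KDone.K.a x₁ = W w₀ (vecV a0B) := by
  rw [← a_x₀]
  exact exists_x₁.choose_spec.2.1

theorem X_x₁ : (2 : ℚ) • KDone.K.X x₁ = W w₀ (vecV e0B) := by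
  have h : KDone.K.X x₁ = k₀ • KDone.K.X KLinkInst.x₀ := exists_x₁.choose_spec.2.2
  have h2 : (2 : ℚ) • KDone.K.X KLinkInst.x₀ = vecV e0B := by
    rw [← KDone.lnk.e₀_eq]; rfl
  rw [h, ← h2]
  show (2 : ℚ) • (W w₀ (KDone.K.X KLinkInst.x₀)) = W w₀ ((2 : ℚ) • KDone.K.X KLinkInst.x₀)
  rw [map_smul]

/-- `τ a x₁ = d 2`. -/
theorem hj : tau • KDone.K.a x₁ = (1 : InstData.M.G) • InstData.M.d (2 : Fin 12) := by
  rw [one_smul, a_x₁, M_d]
  show τ (W w₀ (vecV a0B)) = W (bj 2) (vecV a0B)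
  have h : bj 2 = w₀ ++ [40] := by
    have h' : decide (bj 2 = w₀ ++ [40]) = true := by decide +kernel
    exact of_decide_eq_true h'
  rw [h, W_append, W_single]
  rfl

/-! ### The element `z` -/

theorem E12_comm_z : E 12 * z = z * E 12 := by
  have h := KDone.mGroup.z_comm (E 12) (E_mem_C (by norm_num))
  exact h

theorem τ_z_mem' : τ⁻¹ * z * τ ∈ Q := by
  have h1 : E 12 * τ * (E 12)⁻¹ = τ⁻¹ := ConcGrp.tau_d0
  have h2 : τ * z * τ⁻¹ ∈ Q := FieldsO.τ_z_mem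
  have hE : E 12 ∈ Q := E_mem_Q (by norm_num)
  have h3 : τ = E 12 * τ⁻¹ * (E 12)⁻¹ := by
    calc τ = (τ⁻¹)⁻¹ := (inv_inv _).symm
      _ = (E 12 * τ * (E 12)⁻¹)⁻¹ := by rw [h1]
      _ = E 12 * τ⁻¹ * (E 12)⁻¹ := by group
  have h4 : τ⁻¹ * z * τ = E 12 * (τ * z * τ⁻¹) * (E 12)⁻¹ := by
    calc τ⁻¹ * z * τ = (E 12 * τ * (E 12)⁻¹) * z * (E 12 * τ⁻¹ * (E 12)⁻¹) := by rw [h1, ← h3]
      _ = E 12 * τ * ((E 12)⁻¹ * (z * E 12)) * τ⁻¹ * (E 12)⁻¹ := by group
      _ = E 12 * τ * ((E 12)⁻¹ * (E 12 * z)) * τ⁻¹ * (E 12)⁻¹ := by rw [E12_comm_z]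
      _ = _ := by group
  rw [h4]
  exact Q.mul_mem (Q.mul_mem hE h2) (Q.inv_mem hE)

/-- Elements of `Q` fix the vectors `u v`. -/
theorem Q_fix {q : V ≃ₗ[ℚ] V} (hq : q ∈ Q) (v : leechLattice) : q (KDone.K.u v) = KDone.K.u v := by
  obtain ⟨p, hp⟩ := (KDone.lnk.Q_iff q).1 hq
  rw [hp]
  exact KDone.K.ι_u p v

theorem z_eq : z = ((KDone.K.z : InstData.M.G) : V ≃ₗ[ℚ] V) := KDone.lnk.z_eq

/-- Hypothesis `hz` of `tauData`. -/
theorem hz (v : leechLattice) : KDone.K.z • tau • KDone.K.u v = tau • KDone.K.u v := by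
  have h1 : z (τ (KDone.K.u v)) = τ (KDone.K.u v) := by
    have h2 := Q_fix τ_z_mem' v
    have h3 : τ ((τ⁻¹ * z * τ) (KDone.K.u v)) = z (τ (KDone.K.u v)) := by
      show (τ * (τ⁻¹ * z * τ)) (KDone.K.u v) = _
      have h4 : τ * (τ⁻¹ * z * τ) = z * τ := by group
      rw [h4]
      rfl
    rw [← h3, h2]
  rw [z_eq] at h1
  exact h1

/-- Hypothesis `hz'` of `tauData`. -/
theorem hz' (v : leechLattice) : KDone.K.z • tau⁻¹ • KDone.K.u v = tau⁻¹ • KDone.K.u v := by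
  have h1 : z (τ⁻¹ (KDone.K.u v)) = τ⁻¹ (KDone.K.u v) := by
    have h2 := Q_fix FieldsO.τ_z_mem v
    have h3 : τ⁻¹ ((τ * z * τ⁻¹) (KDone.K.u v)) = z (τ⁻¹ (KDone.K.u v)) := by
      show (τ⁻¹ * (τ * z * τ⁻¹)) (KDone.K.u v) = _
      have h4 : τ⁻¹ * (τ * z * τ⁻¹) = z * τ⁻¹ := by group
      rw [h4]
      rfl
    rw [← h3]
    exact congrArg _ h2
  rw [z_eq] at h1
  exact h1

/-- The planes of `-e₀`. -/
noncomputable def e0N : Pl := .cons 0 (.cons (Nat.shiftLeft 1 62465) (.sgn (Nat.shiftLeft 1 62465)))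

theorem e0N_eq : vecV e0N = -vecV e0B := by
  have h : vecV e0B + vecV e0N = 0 := by
    rw [← vecV_add]
    have h1 : vecV (add e0B e0N 0) = vecV (.sgn 0) := vecV_congr (by decide +kernel)
    rw [h1]
    unfold vecV
    have h2 : vecU ℚ U (.sgn 0) = 0 := by
      funext i
      show ((val (.sgn 0) i.1 : ℤ) : ℚ) = 0
      rw [val_sgn]
      unfold bt
      rw [Nat.zero_testBit]
      simp
    rw [h2, map_zero]
  exact (neg_eq_of_add_eq_zero_right h).symm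

theorem hX_chk : check ([42, 39, 42, 39, 40, 45].map prog) (up 7 e0B) ([42, 39, 42, 39, 40].map prog) (up 7 e0N) =
    true := by decide +kernel

/-- Hypothesis `hX` of `tauData`. -/
theorem hX : KDone.K.z • tau • KDone.K.X x₁ = -(tau • KDone.K.X x₁) := by
  have h1 : W [42, 39, 42, 39, 40, 45] (vecV e0B) = W [42, 39, 42, 39, 40] (vecV e0N) := W_eq_of_up hX_chk
  have h2 : W (w₀ ++ [40] ++ [45]) (vecV e0B) = z (τ (W w₀ (vecV e0B))) := by
    rw [W_append, W_append, W_single, W_single]; rfl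
  have h3 : W (w₀ ++ [40]) (vecV e0N) = -(τ (W w₀ (vecV e0B))) := by
    rw [W_append, W_single, e0N_eq, map_neg]; rfl
  have h4 : z (τ (W w₀ (vecV e0B))) = -(τ (W w₀ (vecV e0B))) := by
    rw [← h2, ← h3]; exact h1
  rw [← X_x₁, map_smul, map_smul] at h4
  have h5 : z (τ (KDone.K.X x₁)) = -(τ (KDone.K.X x₁)) := by
    refine smul_right_injective V (two_ne_zero : (2 : ℚ) ≠ 0) ?_
    show (2 : ℚ) • z (τ (KDone.K.X x₁)) = (2 : ℚ) • -(τ (KDone.K.X x₁))
    rw [smul_neg]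
    exact h4
  rw [z_eq] at h5
  exact h5

/-! ### The matrices of `τ a x₁` and `τ⁻¹ a x₁` -/

/-- The diagonal lanes. -/
noncomputable def dgM : ℕ :=
  Nat.shiftLeft (Nat.div (Nat.sub (Nat.pow 2 (33 * 24)) 1) (Nat.sub (Nat.pow 2 33) 1)) 61440

/-- The planes of `2 ^ 7` times the matrix `1/16 + (1/2) E₃₃`. -/
noncomputable def target : Pl :=
  .cons 0 (.cons 0 (.cons 0 (.cons dgM (.cons 0 (.cons 0 (.cons (Nat.shiftLeft 1 61539) (.sgn 0)))))))

theorem run_p : runL ((w₀ ++ [40]).map prog) (up 7 a0B)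
    (fun y => eqP (norm (msk matM y)) (norm target)) = true := by
  decide +kernel

theorem run_m : runL ((w₀ ++ [41]).map prog) (up 7 a0B)
    (fun y => eqP (norm (msk matM y)) (norm target)) = true := by
  decide +kernel

theorem lane_val (p q : GolayPt) : (lane p q).1 = 61440 + (32 * slS p + slS q) := rfl

theorem dg_test : ∀ a < 24, ∀ b < 24, dgM.testBit (61440 + (32 * a + b)) = decide (a = b) := by
  decide +kernel

theorem slS_inj {p q : GolayPt} (h : slS p = slS q) : p = q := by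
  rw [← ptS_slS p, ← ptS_slS q, h]

theorem slS_i₀ : slS i₀ = 3 := slS_ptS 3 (by norm_num)

theorem val_target (p q : GolayPt) : val target (lane p q).1 =
    if p = q then (if p = i₀ then 72 else 8) else 0 := by
  have h1 : dgM.testBit (lane p q).1 = decide (slS p = slS q) := by
    rw [lane_val]; exact dg_test _ (slS_lt p) _ (slS_lt q)
  have h2 : (Nat.shiftLeft 1 61539).testBit (lane p q).1 = decide (p = i₀ ∧ q = i₀) := by
    rw [tb_single, lane_val, decide_eq_decide]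
    have hp := slS_lt p
    have hq := slS_lt q
    constructor
    · intro h
      have e1 : slS p = 3 := by omega
      have e2 : slS q = 3 := by omega
      exact ⟨slS_inj (by rw [e1, slS_i₀]), slS_inj (by rw [e2, slS_i₀])⟩
    · rintro ⟨rfl, rfl⟩
      rw [slS_i₀]
  unfold target
  simp only [val_cons, val_sgn]
  unfold bt
  rw [h1, h2, Nat.zero_testBit]
  by_cases h : p = q
  · subst h
    by_cases h' : p = i₀
    · simp [h']
    · simp [h']
  · have h3 : ¬ slS p = slS q := fun h' => h (slS_inj h')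
    have h4 : ¬ (p = i₀ ∧ q = i₀) := fun h' => h (h'.1.trans h'.2.symm)
    simp [h, h3, h4]

/-- Matrix lanes from the check. -/
theorem mat_of_run {w : List ℕ}
    (h : runL (w.map prog) (up 7 a0B) (fun y => eqP (norm (msk matM y)) (norm target)) = true) (p q : GolayPt) :
    (W w (vecV a0B) : Lane U → ℚ) (lane p q) = if p = q then (1 / 16 + if p = i₀ then 1 / 2 else 0) else 0 := by
  obtain ⟨y, hy, hk⟩ := run_coe (n := 7) (w := w) sym_a0B h
  have h1 := hy (lane p q)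
  have h2 : val y (lane p q).1 = val target (lane p q).1 := by
    have h3 := val_msk matM y (lane p q).1
    have h5 : matM.testBit (lane p q).1 = true := (ln_U p q).2
    rw [if_pos h5] at h3
    rw [← h3, ← val_norm, eq_of_eqP hk, val_norm]
  rw [h2, val_target] at h1
  by_cases h3 : p = q
  · rw [if_pos h3] at h1 ⊢
    by_cases h4 : p = i₀
    · rw [if_pos h4] at h1 ⊢
      push_cast at h1
      linarith
    · rw [if_neg h4] at h1 ⊢
      push_cast at h1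
      linarith
  · rw [if_neg h3] at h1 ⊢
    push_cast at h1
    linarith

theorem nrm_rt (w : leechLattice) : ((nrm w : ℤ) : ℚ) = ∑ p, rt w p ^ 2 := by
  show ((sqNorm (w : GolayPt → ℤ) : ℤ) : ℚ) = _
  rw [sqNorm_eq_dotInt, dot_rt]
  exact Finset.sum_congr rfl fun p _ => (sq _).symm

theorem F_u {g : V} (hg : ∀ p q, g.1 (lane p q) = if p = q then (1 / 16 + if p = i₀ then 1 / 2 else 0) else 0)
    (w : leechLattice) :
    F g (USide.u w) = ((nrm w : ℤ) : ℚ) / 256 + (((w : GolayPt → ℤ) i₀ : ℤ) : ℚ) ^ 2 / 32 := by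
  rw [F_symm]
  show F (uq (rt w)) g = _
  rw [F_uq, nrm_rt]
  have h1 : ∀ p, ∑ q, rt w p * rt w q / 16 * g.1 (lane p q) =
      rt w p ^ 2 / 256 + if p = i₀ then rt w p ^ 2 / 32 else 0 := by
    intro p
    rw [Finset.sum_eq_single p]
    · rw [hg, if_pos rfl]
      by_cases h : p = i₀
      · rw [if_pos h, if_pos h]; ring
      · rw [if_neg h, if_neg h]; ring
    · intro q _ hq
      rw [hg, if_neg (Ne.symm hq), mul_zero]
    · intro h; exact absurd (Finset.mem_univ _) h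
  rw [Finset.sum_congr rfl fun p _ => h1 p, Finset.sum_add_distrib, Finset.sum_ite_eq' Finset.univ i₀,
    if_pos (Finset.mem_univ _), Finset.sum_div]

/-- Hypothesis `h1` of `tauData`. -/
theorem h1 (w : leechLattice) : KDone.K.B (tau • KDone.K.a x₁) (KDone.K.u w) =
    ((nrm w : ℤ) : ℚ) / 256 + (((w : GolayPt → ℤ) i₀ : ℤ) : ℚ) ^ 2 / 32 := by
  rw [← KDone.lnk.F_eq, a_x₁]
  have h2 : tau • (W w₀ (vecV a0B)) = W (w₀ ++ [40]) (vecV a0B) := by
    rw [W_append, W_single]; rfl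
  rw [h2]
  exact F_u (mat_of_run run_p) w

/-- Hypothesis `h2` of `tauData`. -/
theorem h2 (w : leechLattice) : KDone.K.B (tau⁻¹ • KDone.K.a x₁) (KDone.K.u w) =
    ((nrm w : ℤ) : ℚ) / 256 + (((w : GolayPt → ℤ) i₀ : ℤ) : ℚ) ^ 2 / 32 := by
  rw [← KDone.lnk.F_eq, a_x₁]
  have h2 : tau⁻¹ • (W w₀ (vecV a0B)) = W (w₀ ++ [41]) (vecV a0B) := by
    rw [W_append, W_single, ConcGrp.E_taui]; rfl
  rw [h2]
  exact F_u (mat_of_run run_m) w

end Cfsg.Agent.MonsterX.KStabTau
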