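import Cfsg.Agent.MonsterX.CertCovD
import Cfsg.Agent.MonsterX.KModel
import Cfsg.Agent.MonsterX.Lat

/-!
# The stabiliser of the line of the base axis, from the `K`-side
-/

set_option autoImplicit false

namespace Cfsg.Agent.MonsterX.CertLine

open Cfsg Cfsg.Agent.MonsterX.Space Cfsg.Agent.MonsterX.Conc Cfsg.Agent.MonsterX.InstData
open Cfsg.Agent.MonsterX.FrameAct Cfsg.Agent.MonsterX.FrameConc Cfsg.Agent.MonsterX.FrameCover
open Cfsg.Agent.MonsterX.CertCov Cfsg.Agent.MonsterX.CertCovD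
open Cfsg.Agent.MonsterX.KSide Cfsg.Agent.MonsterX.KModel Cfsg.Agent.MonsterX.Psi

variable {P W₀ : Type} [Group P] [AddCommGroup W₀] [Module ℚ W₀]

/-- The field `LineStab` from the structure of the `K`-side. -/
theorem lineStab {u : leechLattice → V} (U : ULink u) {M : KS ↥InstData.M.G V P W₀} {x₀ : P}
    (H : Link InstData.M M x₀) (hu : M.u = u) (hl : codeL (M.lam x₀) = 6) : LineStab U := by
  intro h hh
  obtain ⟨A, α, T, hA, -⟩ := H.conj (g := (h : V ≃ₗ[ℚ] V)) h.2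
  have hR : R u h A := by
    intro v
    rw [← hu]
    exact hA.act_u v
  have e1 : y₁ U = cl U.ind (M.lam x₀) := (coded U.ind).inj _ _ (by
    show 6 = codeL (M.lam x₀)
    rw [hl])
  rw [e1, smul_cl U.ind hR, cl_eq_iff] at hh
  have hn := M.lam_norm x₀ H.x₀_mem
  have hn' : nrm (A • M.lam x₀) = 32 := by
    rw [← hn]
    exact Cfsg.Agent.MonsterX.Lat.nrm_smul A _
  have h2 : A • M.lam x₀ = M.lam x₀ ∨ A • M.lam x₀ = -M.lam x₀ := by
    obtain ⟨w, hw⟩ := codeL_eq_iff.1 hh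
    exact eq_or_neg hn' hn (psi_eq_iff.2 ⟨w, hw⟩)
  have h3 : α x₀ = x₀ ∨ α x₀ = M.zc * x₀ := by
    apply M.lam_inj x₀ H.x₀_mem _ (hA.act_sh _ H.x₀_mem)
    rcases hA.act_lam x₀ H.x₀_mem with e | e <;> rcases h2 with e' | e' <;> rw [e, e']
    · exact Or.inl rfl
    · exact Or.inr rfl
    · exact Or.inr rfl
    · exact Or.inl (neg_neg _)
  have h4 := Link.smul_a hA x₀ H.x₀_mem
  rw [← M_a₀, ← M_a₁, H.a₀_eq, H.a₁_eq]
  rcases h3 with e | e
  · left
    rw [e] at h4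
    exact h4
  · right
    rw [e] at h4
    exact h4

end Cfsg.Agent.MonsterX.CertLine
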