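import Cfsg.Agent.MonsterX.Model

/-!
The fields `T_sub`, `trans₂`, `t_d` (and the reduction of `order_le`) from a table of representatives of the
`L j`-orbits on `S`.

`L j ≤ C` fixes `d j`; the vectors `(u j i)⁻¹ a₀` (`u j i ∈ C`) represent the `L j`-orbits on `S`.  All checks are on
the pairs `(a₀, y j i)`, `y j i = u j i (d j)`.
-/

set_option autoImplicit false

namespace Cfsg.Agent.MonsterX.CertPairs

open Cfsg.Agent.MonsterX.Model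

variable {W : Type} [AddCommGroup W] [Module ℚ W]

/-- Representatives of the `L j`-orbits on `S`. -/
structure PairTab (M : MData W) where
  /-- index set of the representatives for `d j` -/
  I : M.J → Type
  /-- the elements moving the representatives to `a₀` -/
  u : ∀ j, I j → (W ≃ₗ[ℚ] W)
  u_mem : ∀ j i, u j i ∈ M.C
  cov : ∀ j, ∀ s ∈ M.S, ∃ i : I j, ∃ l ∈ M.C, l (M.d j) = M.d j ∧ s = l ((u j i)⁻¹ M.a₀)

variable {M : MData W} (T : PairTab M)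

/-- the second vector of the pair -/
def PairTab.y (j : M.J) (i : T.I j) : W := T.u j i (M.d j)

theorem PairTab.F_eq (hC : ∀ g ∈ M.C, ∀ x y, M.F (g x) (g y) = M.F x y) (j : M.J) (i : T.I j) {l : W ≃ₗ[ℚ] W}
    (hl : l ∈ M.C) (hd : l (M.d j) = M.d j) :
    M.F (l ((T.u j i)⁻¹ M.a₀)) (M.d j) = M.F M.a₀ (T.y j i) := by
  have h1 := hC (T.u j i * l⁻¹) (M.C.mul_mem (T.u_mem j i) (M.C.inv_mem hl)) (l ((T.u j i)⁻¹ M.a₀)) (M.d j)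
  rw [← h1]
  have e1 : (T.u j i * l⁻¹) (l ((T.u j i)⁻¹ M.a₀)) = M.a₀ := by
    show (T.u j i) (l⁻¹ (l ((T.u j i)⁻¹ M.a₀))) = M.a₀
    have : l⁻¹ (l ((T.u j i)⁻¹ M.a₀)) = (T.u j i)⁻¹ M.a₀ := l.symm_apply_apply _
    rw [this]
    exact (T.u j i).apply_symm_apply _
  have e2 : (T.u j i * l⁻¹) (M.d j) = T.y j i := by
    show (T.u j i) (l⁻¹ (M.d j)) = _
    have : l⁻¹ (M.d j) = M.d j := by
      have h := congrArg (fun x => l⁻¹ x) hd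
      have h' : l⁻¹ (l (M.d j)) = M.d j := l.symm_apply_apply _
      simpa [h'] using h.symm
    rw [this]; rfl
  rw [e1, e2]

/-- The field `T_sub`. -/
theorem PairTab.T_sub (hC : ∀ g ∈ M.C, ∀ x y, M.F (g x) (g y) = M.F x y)
    (hσ : ∀ g ∈ M.C, ∀ x, M.σ (g x) = g (M.σ x)) (hσa : M.σ M.a₀ = M.a₁)
    (h : ∀ j, j ≠ M.j₀ → ∀ i, M.F M.a₀ (T.y j i) = 1 → M.F M.a₁ (T.y j i) ≠ 1) :
    ∀ j, j ≠ M.j₀ → ∀ s ∈ M.S, M.F s (M.d j) = 1 → M.F (M.σ s) (M.d j) ≠ 1 := by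
  intro j hj s hs h1 h2
  obtain ⟨i, l, hl, hd, rfl⟩ := T.cov j s hs
  rw [T.F_eq hC j i hl hd] at h1
  refine h j hj i h1 ?_
  rw [hσ l hl, hσ _ (M.C.inv_mem (T.u_mem j i)), hσa] at h2
  have h3 := hC (T.u j i * l⁻¹) (M.C.mul_mem (T.u_mem j i) (M.C.inv_mem hl)) (l ((T.u j i)⁻¹ M.a₁)) (M.d j)
  rw [h2] at h3
  have e1 : (T.u j i * l⁻¹) (l ((T.u j i)⁻¹ M.a₁)) = M.a₁ := by
    show (T.u j i) (l⁻¹ (l ((T.u j i)⁻¹ M.a₁))) = M.a₁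
    have : l⁻¹ (l ((T.u j i)⁻¹ M.a₁)) = (T.u j i)⁻¹ M.a₁ := l.symm_apply_apply _
    rw [this]
    exact (T.u j i).apply_symm_apply _
  have e2 : (T.u j i * l⁻¹) (M.d j) = T.y j i := by
    show (T.u j i) (l⁻¹ (M.d j)) = _
    have : l⁻¹ (M.d j) = M.d j := by
      have h := congrArg (fun x => l⁻¹ x) hd
      have h' : l⁻¹ (l (M.d j)) = M.d j := l.symm_apply_apply _
      simpa [h'] using h.symm
    rw [this]; rfl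
  rw [e1, e2] at h3
  exact h3

/-- The field `trans₂`. -/
theorem PairTab.trans₂ (hC : ∀ g ∈ M.C, ∀ x y, M.F (g x) (g y) = M.F x y)
    (h : ∀ j i, M.F M.a₀ (T.y j i) = 0 → ∃ g ∈ M.G, g M.a₀ = M.a₀ ∧ g (T.y j i) = M.a₁) :
    ∀ j, ∀ b ∈ M.S, M.F b (M.d j) = 0 → ∃ g ∈ M.G, g b = M.a₀ ∧ g (M.d j) = M.a₁ := by
  intro j b hb h1
  have hCG : M.C ≤ M.G := fun x hx => Subgroup.subset_closure (Or.inl hx)
  obtain ⟨i, l, hl, hd, rfl⟩ := T.cov j b hb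
  rw [T.F_eq hC j i hl hd] at h1
  obtain ⟨g, hg, hg0, hg1⟩ := h j i h1
  refine ⟨g * (T.u j i * l⁻¹), M.G.mul_mem hg (M.G.mul_mem (hCG (T.u_mem j i)) (M.G.inv_mem (hCG hl))), ?_, ?_⟩
  · show g ((T.u j i) (l⁻¹ (l ((T.u j i)⁻¹ M.a₀)))) = M.a₀
    have : l⁻¹ (l ((T.u j i)⁻¹ M.a₀)) = (T.u j i)⁻¹ M.a₀ := l.symm_apply_apply _
    rw [this]
    have h2 : (T.u j i) ((T.u j i)⁻¹ M.a₀) = M.a₀ := (T.u j i).apply_symm_apply _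
    rw [h2, hg0]
  · show g ((T.u j i) (l⁻¹ (M.d j))) = M.a₁
    have : l⁻¹ (M.d j) = M.d j := by
      have h := congrArg (fun x => l⁻¹ x) hd
      have h' : l⁻¹ (l (M.d j)) = M.d j := l.symm_apply_apply _
      simpa [h'] using h.symm
    rw [this]
    exact hg1

/-- The involution of `g a₀` depends on the vector only. -/
theorem conj_t₀ (h : ∀ g ∈ M.C, g M.a₀ = M.a₀ → g * M.t₀ = M.t₀ * g) {g k : W ≃ₗ[ℚ] W} (hg : g ∈ M.C) (hk : k ∈ M.C)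
    (e : g M.a₀ = k M.a₀) : g * M.t₀ * g⁻¹ = k * M.t₀ * k⁻¹ := by
  have h1 : (k⁻¹ * g) M.a₀ = M.a₀ := by
    show k⁻¹ (g M.a₀) = M.a₀
    rw [e]
    exact k.symm_apply_apply _
  have h2 := h _ (M.C.mul_mem (M.C.inv_mem hk) hg) h1
  calc g * M.t₀ * g⁻¹ = k * ((k⁻¹ * g) * M.t₀) * g⁻¹ := by group
    _ = k * (M.t₀ * (k⁻¹ * g)) * g⁻¹ := by rw [h2]
    _ = k * M.t₀ * k⁻¹ := by group

/-- The field `t_d`. -/
theorem PairTab.t_d (hC : ∀ g ∈ M.C, ∀ x y, M.F (g x) (g y) = M.F x y)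
    (ht : ∀ g ∈ M.C, g M.a₀ = M.a₀ → g * M.t₀ = M.t₀ * g)
    (h : ∀ j i, M.F M.a₀ (T.y j i) = 0 → M.t₀ (T.y j i) = T.y j i) :
    ∀ j, ∀ g ∈ M.C, M.F (g M.a₀) (M.d j) = 0 → (g * M.t₀ * g⁻¹) (M.d j) = M.d j := by
  intro j g hg h1
  obtain ⟨i, l, hl, hd, e⟩ := T.cov j (g M.a₀) ⟨g, hg, rfl⟩
  rw [e, T.F_eq hC j i hl hd] at h1
  have h2 := h j i h1
  have hk : l * (T.u j i)⁻¹ ∈ M.C := M.C.mul_mem hl (M.C.inv_mem (T.u_mem j i))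
  rw [conj_t₀ ht hg hk e]
  have hd' : l⁻¹ (M.d j) = M.d j := by
    have h := congrArg (fun x => l⁻¹ x) hd
    have h' : l⁻¹ (l (M.d j)) = M.d j := l.symm_apply_apply _
    simpa [h'] using h.symm
  have e1 : (l * (T.u j i)⁻¹)⁻¹ (M.d j) = T.y j i := by
    rw [mul_inv_rev, inv_inv]
    show (T.u j i) (l⁻¹ (M.d j)) = _
    rw [hd']; rfl
  show (l * (T.u j i)⁻¹) (M.t₀ ((l * (T.u j i)⁻¹)⁻¹ (M.d j))) = M.d j
  rw [e1, h2]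
  show l ((T.u j i)⁻¹ ((T.u j i) (M.d j))) = M.d j
  have h3 : (T.u j i)⁻¹ ((T.u j i) (M.d j)) = M.d j := (T.u j i).symm_apply_apply _
  rw [h3, hd]

/-- Reduction of `order_le`: it is enough to bound the orders of `t₀ t_{y j i}`, where `w j a₀ = d j`. -/
theorem PairTab.order_le (hC : ∀ g ∈ M.C, ∀ x y, M.F (g x) (g y) = M.F x y)
    (ht : ∀ g ∈ M.G, g M.a₀ = M.a₀ → g * M.t₀ = M.t₀ * g)
    (w : M.J → (W ≃ₗ[ℚ] W)) (hw : ∀ j, w j ∈ M.G) (hwd : ∀ j, w j M.a₀ = M.d j)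
    (h : ∀ j i, ∃ n : ℕ, 0 < n ∧ n ≤ 6 ∧
      (M.t₀ * ((T.u j i * w j) * M.t₀ * (T.u j i * w j)⁻¹)) ^ n = 1) :
    ∀ j, ∃ g ∈ M.G, g M.a₀ = M.d j ∧ ∀ k ∈ M.C, ∃ n : ℕ, 0 < n ∧ n ≤ 6 ∧
      ((k * M.t₀ * k⁻¹) * (g * M.t₀ * g⁻¹)) ^ n = 1 := by
  intro j
  refine ⟨w j, hw j, hwd j, fun k hk => ?_⟩
  have hCG : M.C ≤ M.G := fun x hx => Subgroup.subset_closure (Or.inl hx)
  obtain ⟨i, l, hl, hd, e⟩ := T.cov j (k M.a₀) ⟨k, hk, rfl⟩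
  obtain ⟨n, hn0, hn, hn1⟩ := h j i
  refine ⟨n, hn0, hn, ?_⟩
  set u := T.u j i with hu
  have huC : u ∈ M.C := T.u_mem j i
  have h1 : k * M.t₀ * k⁻¹ = (l * u⁻¹) * M.t₀ * (l * u⁻¹)⁻¹ :=
    conj_t₀ (fun g hg => ht g (hCG hg)) hk (M.C.mul_mem hl (M.C.inv_mem huC)) e
  -- `l` centralises the involution of `d j`
  have h2 : ((w j)⁻¹ * l * w j) * M.t₀ = M.t₀ * ((w j)⁻¹ * l * w j) := by
    refine ht _ (M.G.mul_mem (M.G.mul_mem (M.G.inv_mem (hw j)) (hCG hl)) (hw j)) ?_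
    show (w j)⁻¹ (l (w j M.a₀)) = M.a₀
    rw [hwd, hd, ← hwd]
    exact (w j).symm_apply_apply _
  have h3 : w j * M.t₀ * (w j)⁻¹ = (l * u⁻¹) * ((u * w j) * M.t₀ * (u * w j)⁻¹) * (l * u⁻¹)⁻¹ := by
    calc w j * M.t₀ * (w j)⁻¹ = w j * (M.t₀ * ((w j)⁻¹ * l * w j)) * ((w j)⁻¹ * l * w j)⁻¹ * (w j)⁻¹ := by group
      _ = w j * (((w j)⁻¹ * l * w j) * M.t₀) * ((w j)⁻¹ * l * w j)⁻¹ * (w j)⁻¹ := by rw [h2]
      _ = _ := by group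
  have h4 : (k * M.t₀ * k⁻¹) * (w j * M.t₀ * (w j)⁻¹) =
      (l * u⁻¹) * (M.t₀ * ((u * w j) * M.t₀ * (u * w j)⁻¹)) * (l * u⁻¹)⁻¹ := by
    rw [h1, h3]; group
  rw [h4, conj_pow, hn1]; group

end Cfsg.Agent.MonsterX.CertPairs
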