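import Cfsg.Agent.MonsterX.CertCovC
import Cfsg.Agent.MonsterX.CertPairs

/-!
# The pair table of the concrete model

`LineStab U` : an element of `C` fixing the class `y₁` of the base axis maps `a₀` to `a₀` or to `a₁`.
`pairTab` : the structure `PairTab` of `CertPairs`, index set `Fin (nr j) × Bool`, words `uw j m` and `uw j m ++ [1]`.
-/

set_option autoImplicit false
set_option maxRecDepth 100000

namespace Cfsg.Agent.MonsterX.CertCovD

open Cfsg Cfsg.Agent.MonsterX.Space Cfsg.Agent.MonsterX.Conc Cfsg.Agent.MonsterX.InstData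
open Cfsg.Agent.MonsterX.FrameGam Cfsg.Agent.MonsterX.FrameAct Cfsg.Agent.MonsterX.FrameConc
open Cfsg.Agent.MonsterX.CertCov Cfsg.Agent.MonsterX.CertCovB Cfsg.Agent.MonsterX.CertUTab
open Cfsg.Agent.MonsterX.CertPairs Cfsg.Agent.MonsterX.CertCovC

variable {u : leechLattice → V} (U : ULink u)

/-- The stabiliser of the class of the base axis. -/
def LineStab : Prop := ∀ h : C, h • y₁ U = y₁ U →
  (h : V ≃ₗ[ℚ] V) (vecV a0B) = vecV a0B ∨ (h : V ≃ₗ[ℚ] V) (vecV a0B) = vecV a1B

theorem x1_a1 : W [1] (vecV a1B) = vecV a0B := by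
  have h : W [1] (vecV a1B) = W [] (vecV a0B) := W_eq_of_up (n := 0) (by decide +kernel)
  rw [h, W_nil]
  rfl

/-- The words of the pair table. -/
def word (j m : ℕ) (b : Bool) : List ℕ := uw j m ++ (if b then [1] else [])

theorem word_ok {j m : ℕ} {b : Bool} (h : (uw j m).all okC = true) : (word j m b).all okC = true := by
  unfold word
  rw [List.all_append, h]
  cases b <;> rfl

theorem okAll : (List.range 12).all (fun j => (us j).all fun w => w.all okC) = true := by decide

theorem uw_ok (j m : ℕ) : (uw j m).all okC = true := by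
  unfold uw
  rcases lt_or_ge m (us j).length with hm | hm
  · rcases lt_or_ge j 12 with hj | hj
    · have h1 := List.all_eq_true.1 okAll j (List.mem_range.2 hj)
      have h2 : (us j).getD m [] ∈ us j := by
        rw [List.getD_eq_getElem _ _ hm]
        exact List.getElem_mem hm
      exact List.all_eq_true.1 h1 _ h2
    · have h1 : us j = [] := by
        unfold us
        exact List.getD_eq_default _ _ (by simpa [uT] using hj)
      rw [h1]; rfl
  · rw [List.getD_eq_default _ _ hm]; rfl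

/-- **The coverage of `S`.** -/
theorem cov_S (H : LineStab U) {j : ℕ} (hj : j < 12) {g : V ≃ₗ[ℚ] V} (hg : g ∈ C) :
    ∃ m, m < nr j ∧ ∃ b : Bool, ∃ l ∈ C, l (W (bj j) (vecV a0B)) = W (bj j) (vecV a0B) ∧
      g (vecV a0B) = l ((W (word j m b))⁻¹ (vecV a0B)) := by
  obtain ⟨m, hm, hw, l, hl, h1⟩ := cov U j hj _ (onLane_smul U ⟨g, hg⟩ (onLane_y₁ U))
  rw [← mul_smul] at h1
  have h2 := H _ h1
  have e1 : (((prodF EC (uw j m) * l * ⟨g, hg⟩ : C)) : V ≃ₗ[ℚ] V) (vecV a0B) =
      W (uw j m) ((l : V ≃ₗ[ℚ] V) (g (vecV a0B))) := by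
    rw [← prodF_coe U hw]
    rfl
  rw [e1] at h2
  refine ⟨m, hm, ?_⟩
  have key : ∀ b : Bool, W (word j m b) ((l : V ≃ₗ[ℚ] V) (g (vecV a0B))) = vecV a0B →
      ∃ b : Bool, ∃ l ∈ C, l (W (bj j) (vecV a0B)) = W (bj j) (vecV a0B) ∧
      g (vecV a0B) = l ((W (word j m b))⁻¹ (vecV a0B)) := by
    intro b hb
    refine ⟨b, (l : V ≃ₗ[ℚ] V)⁻¹, C.inv_mem l.2, (Fx _).inv_mem hl, ?_⟩
    have h3 : (W (word j m b))⁻¹ (vecV a0B) = (l : V ≃ₗ[ℚ] V) (g (vecV a0B)) := by
      have h4 := congrArg (fun x => (W (word j m b))⁻¹ x) hb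
      have h5 : (W (word j m b))⁻¹ ((W (word j m b)) ((l : V ≃ₗ[ℚ] V) (g (vecV a0B)))) =
          (l : V ≃ₗ[ℚ] V) (g (vecV a0B)) := (W (word j m b)).symm_apply_apply _
      exact h4.symm.trans h5
    rw [h3]
    exact ((l : V ≃ₗ[ℚ] V).symm_apply_apply _).symm
  rcases h2 with h2 | h2
  · exact key false (by unfold word; simpa using h2)
  · refine key true ?_
    unfold word
    rw [if_pos rfl, W_append, LinearEquiv.mul_apply, h2, x1_a1]

/-- **The pair table.** -/
noncomputable def pairTab (H : LineStab U) : PairTab InstData.M where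
  I := fun j : Fin 12 => Fin (nr j.1) × Bool
  u := fun (j : Fin 12) i => W (word j.1 i.1.1 i.2)
  u_mem := by
    intro j i
    change Fin 12 at j
    have h := word_ok (b := i.2) (uw_ok j.1 i.1.1)
    rw [M_C, ← prodF_coe U h]
    exact (prodF EC _ : C).2
  cov := by
    intro j s hs
    change Fin 12 at j
    obtain ⟨g, hg, rfl⟩ := hs
    rw [M_C] at hg
    obtain ⟨m, hm, b, l, hl, h1, h2⟩ := cov_S U H j.2 hg
    refine ⟨(⟨m, hm⟩, b), l, hl, h1, ?_⟩
    rw [M_a₀]
    exact h2

end Cfsg.Agent.MonsterX.CertCovD
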