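import Cfsg.Agent.MonsterX.FieldsP
import Cfsg.Agent.MonsterX.CertCovD

/-!
# `CertCovD.pairTab` has the words of `CertUTab`

So `FieldsP.trans₂ (words U H)`, `FieldsP.t_d (words U H)`, `FieldsP.T_sub (words U H)`, `FieldsP.val (words U H)`.
-/

set_option autoImplicit false

namespace Cfsg.Agent.MonsterX.FieldsPW

open Cfsg Cfsg.Agent.MonsterX.Space Cfsg.Agent.MonsterX.FieldsP

/-- The words of `CertCovD.pairTab`. -/
noncomputable def words {u : leechLattice → V} (U : FrameConc.ULink u) (H : CertCovD.LineStab U) :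
    Words (CertCovD.pairTab U H) where
  m := fun _ i => i.1.1
  b := fun _ i => i.2
  lt := fun _ i => i.1.2
  eq := fun _ _ => rfl

end Cfsg.Agent.MonsterX.FieldsPW
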