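import Cfsg.Agent.MonsterX.InstEval

/-!
# The fields `z_d`, `exists_moved` of `MTrans` for the concrete model
-/

set_option autoImplicit false
set_option Elab.async false

namespace Cfsg.Agent.MonsterX.FieldsT1

open Cfsg.Agent.Monster.VecEngine Cfsg.Agent.Monster.VecSpace Cfsg.Agent.MonsterX.Space
open Cfsg.Agent.MonsterX.ProgTable Cfsg.Agent.MonsterX.ProgBase
open Cfsg.Agent.MonsterX.Conc Cfsg.Agent.MonsterX.Model Cfsg.Agent.MonsterX.InstData Cfsg.Agent.MonsterX.InstEval

theorem z_ne_of_lane {n : ℕ} {w : List ℕ} {i : ℕ} {c : ℤ} (hU : U.testBit i = true) (hi : ProgZ.hiM.testBit i = true)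
    (hc : c ≠ 0) (h : lanes n w a0B [(i, c)] = true) : z (W w (vecV a0B)) ≠ W w (vecV a0B) := by
  intro hz
  have h1 := (z_fix_iff _).1 hz ⟨i, hU⟩ hi
  rw [lanes_sound sym_a0B h ⟨i, hU⟩ (List.mem_singleton.2 rfl)] at h1
  rcases div_eq_zero_iff.1 h1 with h2 | h2
  · exact hc (by exact_mod_cast h2)
  · exact pow_ne_zero n two_ne_zero h2

theorem z_2 : z (W (bj 2) (vecV a0B)) ≠ W (bj 2) (vecV a0B) :=
  z_ne_of_lane (n := 7) (i := 180163) (c := 256) (by decide +kernel) (by decide +kernel) (by decide) (by decide +kernel)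

theorem z_3 : z (W (bj 3) (vecV a0B)) ≠ W (bj 3) (vecV a0B) :=
  z_ne_of_lane (n := 7) (i := 137769) (c := -32) (by decide +kernel) (by decide +kernel) (by decide) (by decide +kernel)

theorem z_4 : z (W (bj 4) (vecV a0B)) ≠ W (bj 4) (vecV a0B) :=
  z_ne_of_lane (n := 7) (i := 142851) (c := -32) (by decide +kernel) (by decide +kernel) (by decide) (by decide +kernel)

theorem z_5 : z (W (bj 5) (vecV a0B)) ≠ W (bj 5) (vecV a0B) :=
  z_ne_of_lane (n := 7) (i := 131599) (c := 8) (by decide +kernel) (by decide +kernel) (by decide) (by decide +kernel)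

theorem z_6 : z (W (bj 6) (vecV a0B)) ≠ W (bj 6) (vecV a0B) :=
  z_ne_of_lane (n := 7) (i := 131147) (c := -8) (by decide +kernel) (by decide +kernel) (by decide) (by decide +kernel)

theorem z_7 : z (W (bj 7) (vecV a0B)) ≠ W (bj 7) (vecV a0B) :=
  z_ne_of_lane (n := 7) (i := 131082) (c := 4) (by decide +kernel) (by decide +kernel) (by decide) (by decide +kernel)

theorem z_8 : z (W (bj 8) (vecV a0B)) ≠ W (bj 8) (vecV a0B) :=
  z_ne_of_lane (n := 7) (i := 131271) (c := 8) (by decide +kernel) (by decide +kernel) (by decide) (by decide +kernel)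

theorem z_9 : z (W (bj 9) (vecV a0B)) ≠ W (bj 9) (vecV a0B) :=
  z_ne_of_lane (n := 7) (i := 132117) (c := -4) (by decide +kernel) (by decide +kernel) (by decide) (by decide +kernel)

theorem z_10 : z (W (bj 10) (vecV a0B)) ≠ W (bj 10) (vecV a0B) :=
  z_ne_of_lane (n := 7) (i := 131076) (c := 4) (by decide +kernel) (by decide +kernel) (by decide) (by decide +kernel)

theorem z_11 : z (W (bj 11) (vecV a0B)) ≠ W (bj 11) (vecV a0B) :=
  z_ne_of_lane (n := 7) (i := 131372) (c := 8) (by decide +kernel) (by decide +kernel) (by decide) (by decide +kernel)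

/-- field `z_d` of `MTrans` -/
theorem z_d : ∀ j, M.z (M.d j) = M.d j → j = M.j₀ ∨ j = M.j₁ := by
  intro j
  change Fin 12 at j
  change z (W (bj j.1) (vecV a0B)) = W (bj j.1) (vecV a0B) → j = (0 : Fin 12) ∨ j = (1 : Fin 12)
  fin_cases j
  · intro _; exact Or.inl rfl
  · intro _; exact Or.inr rfl
  · intro h; exact absurd h z_2
  · intro h; exact absurd h z_3
  · intro h; exact absurd h z_4
  · intro h; exact absurd h z_5
  · intro h; exact absurd h z_6
  · intro h; exact absurd h z_7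
  · intro h; exact absurd h z_8
  · intro h; exact absurd h z_9
  · intro h; exact absurd h z_10
  · intro h; exact absurd h z_11

theorem F_2 : formIs 7 (bj 2) a0B 0 32 = true := by decide +kernel

/-- field `exists_moved` of `MTrans` -/
theorem exists_moved : ∃ j, ∃ g ∈ M.C, M.F M.a₀ (g (M.d j)) = 0 ∧ M.z (M.d j) ≠ M.d j := by
  refine ⟨(2 : Fin 12), 1, M.C.one_mem, ?_, z_2⟩
  rw [M_a₀]
  show F (vecV a0B) (W (bj 2) (vecV a0B)) = 0
  rw [(formIs_sound sym_a0B F_2).1]
  norm_num

end Cfsg.Agent.MonsterX.FieldsT1
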