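import Cfsg.Agent.MonsterX.InstEval

/-!
# The field `moves` of `MTrans` for the concrete model
-/

set_option autoImplicit false
set_option Elab.async false

namespace Cfsg.Agent.MonsterX.FieldsT2

open Cfsg.Agent.Monster.VecEngine Cfsg.Agent.Monster.VecSpace Cfsg.Agent.MonsterX.Space
open Cfsg.Agent.MonsterX.ProgTable Cfsg.Agent.MonsterX.ProgBase
open Cfsg.Agent.MonsterX.Conc Cfsg.Agent.MonsterX.Model Cfsg.Agent.MonsterX.InstData Cfsg.Agent.MonsterX.InstEval

theorem moves_of {n : ℕ} {b h iv : List ℕ} {i : ℕ} {c c' : ℤ}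
    (h1 : check ((h ++ (iv ++ b)).map prog) (up n u0B) (h.map prog) (up n u0B) = true)
    (hU : U.testBit i = true) (hc : c ≠ c') (h2 : lanes n (h ++ iv) u0B [(i, c)] = true)
    (h3 : lanes n (h ++ (iv ++ [13, 14])) u0B [(i, c')] = true) :
    (W b * t₀ * (W b)⁻¹) (W h u₀) ≠ W h u₀ := by
  have e1 : W b (W (h ++ iv) u₀) = W h u₀ := by
    have := W_eq_of_up h1
    rw [← List.append_assoc, W_append (h ++ iv) b, LinearEquiv.mul_apply] at this
    exact this
  intro hf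
  have e2 : W b (t₀ (W (h ++ iv) u₀)) = W b (W (h ++ iv) u₀) := by
    have e3 : (W b)⁻¹ (W b (W (h ++ iv) u₀)) = W (h ++ iv) u₀ := (W b).symm_apply_apply _
    conv_rhs => rw [e1, ← hf, ← e1]
    rw [LinearEquiv.mul_apply, LinearEquiv.mul_apply, e3]
  have e4 : t₀ (W (h ++ iv) u₀) = W (h ++ iv) u₀ := (W b).injective e2
  have e5 : t₀ (W (h ++ iv) u₀) = W (h ++ (iv ++ [13, 14])) u₀ := by
    rw [← List.append_assoc, W_append (h ++ iv) [13, 14]]
    rfl
  rw [e5] at e4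
  have e6 := congrArg (fun v : V => v.1 ⟨i, hU⟩) e4
  change (W (h ++ (iv ++ [13, 14])) (vecV u0B) : Lane U → ℚ) ⟨i, hU⟩ = (W (h ++ iv) (vecV u0B) : Lane U → ℚ) ⟨i, hU⟩ at e6
  rw [lanes_sound sym_u0B h2 ⟨i, hU⟩ (List.mem_singleton.2 rfl),
    lanes_sound sym_u0B h3 ⟨i, hU⟩ (List.mem_singleton.2 rfl)] at e6
  rw [div_left_inj' (pow_ne_zero n two_ne_zero)] at e6
  exact hc (by exact_mod_cast e6.symm)

theorem W_mem_C_of {w : List ℕ} (h : ∀ m ∈ w, m < 40) : W w ∈ C := W_mem fun m hm => E_mem_C (h m hm)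

theorem move_1 : (W (bj 1) * t₀ * (W (bj 1))⁻¹) (W [37] u₀) ≠ W [37] u₀ :=
  moves_of (n := 4) (iv := [41, 39, 36]) (i := 1562) (c := 16) (c' := -16) (by decide +kernel) (by decide +kernel)
    (by decide) (by decide +kernel) (by decide +kernel)

theorem move_2 : (W (bj 2) * t₀ * (W (bj 2))⁻¹) (W [] u₀) ≠ W [] u₀ :=
  moves_of (n := 4) (iv := [41, 39, 36, 39, 36]) (i := 10764) (c := -16) (c' := 16) (by decide +kernel) (by decide +kernel)
    (by decide) (by decide +kernel) (by decide +kernel)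

theorem move_3 : (W (bj 3) * t₀ * (W (bj 3))⁻¹) (W [] u₀) ≠ W [] u₀ :=
  moves_of (n := 4) (iv := [41, 39, 36, 39, 44, 41, 39, 36]) (i := 2953) (c := 2) (c' := -2) (by decide +kernel) (by decide +kernel)
    (by decide) (by decide +kernel) (by decide +kernel)

theorem move_4 : (W (bj 4) * t₀ * (W (bj 4))⁻¹) (W [37] u₀) ≠ W [37] u₀ :=
  moves_of (n := 4) (iv := [41, 39, 43, 42, 39, 44, 41, 39, 36]) (i := 1544) (c := 1) (c' := -1) (by decide +kernel) (by decide +kernel)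
    (by decide) (by decide +kernel) (by decide +kernel)

theorem move_5 : (W (bj 5) * t₀ * (W (bj 5))⁻¹) (W [] u₀) ≠ W [] u₀ :=
  moves_of (n := 6) (iv := [41, 39, 25, 42, 39, 43, 41, 39, 36, 41, 39, 36]) (i := 2945) (c := 2) (c' := -2) (by decide +kernel) (by decide +kernel)
    (by decide) (by decide +kernel) (by decide +kernel)

theorem move_6 : (W (bj 6) * t₀ * (W (bj 6))⁻¹) (W [] u₀) ≠ W [] u₀ :=
  moves_of (n := 6) (iv := [41, 39, 42, 39, 42, 44, 42, 41, 39, 36, 41, 39, 36]) (i := 1544) (c := 8) (c' := -8) (by decide +kernel) (by decide +kernel)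
    (by decide) (by decide +kernel) (by decide +kernel)

theorem move_7 : (W (bj 7) * t₀ * (W (bj 7))⁻¹) (W [] u₀) ≠ W [] u₀ :=
  moves_of (n := 6) (iv := [41, 39, 44, 39, 37, 41, 39, 43, 42, 39, 44, 41, 39, 36]) (i := 0) (c := -1) (c' := 1) (by decide +kernel) (by decide +kernel)
    (by decide) (by decide +kernel) (by decide +kernel)

theorem move_8 : (W (bj 8) * t₀ * (W (bj 8))⁻¹) (W [36] u₀) ≠ W [36] u₀ :=
  moves_of (n := 5) (iv := [41, 39, 42, 42, 39, 43, 41, 39, 36, 41, 39, 36]) (i := 2945) (c := -2) (c' := 2) (by decide +kernel) (by decide +kernel)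
    (by decide) (by decide +kernel) (by decide +kernel)

theorem move_9 : (W (bj 9) * t₀ * (W (bj 9))⁻¹) (W [] u₀) ≠ W [] u₀ :=
  moves_of (n := 6) (iv := [41, 39, 43, 39, 36, 41, 39, 36, 39, 44, 41, 39, 36]) (i := 1562) (c := -2) (c' := 2) (by decide +kernel) (by decide +kernel)
    (by decide) (by decide +kernel) (by decide +kernel)

theorem move_10 : (W (bj 10) * t₀ * (W (bj 10))⁻¹) (W [] u₀) ≠ W [] u₀ :=
  moves_of (n := 6) (iv := [41, 39, 42, 42, 39, 36, 41, 39, 36, 39, 44, 41, 39, 36]) (i := 1544) (c := -2) (c' := 2) (by decide +kernel) (by decide +kernel)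
    (by decide) (by decide +kernel) (by decide +kernel)

theorem move_11 : (W (bj 11) * t₀ * (W (bj 11))⁻¹) (W [] u₀) ≠ W [] u₀ :=
  moves_of (n := 6) (iv := [41, 39, 43, 39, 42, 42, 41, 39, 36, 39, 44, 41, 39, 36]) (i := 1560) (c := -2) (c' := 2) (by decide +kernel) (by decide +kernel)
    (by decide) (by decide +kernel) (by decide +kernel)

/-- field `moves` of `MTrans` (the words are in `G`: see the integration file) -/
theorem moves (hG : ∀ j : ℕ, W (bj j) ∈ M.G) : ∀ j, j ≠ M.j₀ → ∃ g ∈ M.G, g M.a₀ = M.d j ∧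
    ∃ h ∈ M.C, (g * M.t₀ * g⁻¹) (h M.u₀) ≠ h M.u₀ := by
  have key : ∀ (j : Fin 12) (h : List ℕ), (∀ m ∈ h, m < 40) →
      (W (bj j.1) * t₀ * (W (bj j.1))⁻¹) (W h u₀) ≠ W h u₀ → ∃ g ∈ M.G, g M.a₀ = M.d j ∧
        ∃ h ∈ M.C, (g * M.t₀ * g⁻¹) (h M.u₀) ≠ h M.u₀ := fun j h hh hm =>
    ⟨W (bj j.1), hG j.1, (M_d' j).symm, W h, W_mem_C_of hh, hm⟩
  intro j
  change Fin 12 at j
  intro hj
  change j ≠ (0 : Fin 12) at hj
  fin_cases j
  · exact absurd rfl hj
  · exact key 1 [37] (by decide) move_1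
  · exact key 2 [] (by decide) move_2
  · exact key 3 [] (by decide) move_3
  · exact key 4 [37] (by decide) move_4
  · exact key 5 [] (by decide) move_5
  · exact key 6 [] (by decide) move_6
  · exact key 7 [] (by decide) move_7
  · exact key 8 [36] (by decide) move_8
  · exact key 9 [] (by decide) move_9
  · exact key 10 [] (by decide) move_10
  · exact key 11 [] (by decide) move_11

end Cfsg.Agent.MonsterX.FieldsT2
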