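import Cfsg.Agent.MonsterX.ProgM.Inv
import Cfsg.Agent.MonsterX.FieldsT1
import Cfsg.Agent.MonsterX.FieldsT2

/-!
# The words `bj` are in `G`; the field `moves` of `MTrans` without hypotheses
-/

set_option autoImplicit false

namespace Cfsg.Agent.MonsterX.FieldsT4

open Cfsg.Agent.Monster.VecEngine Cfsg.Agent.Monster.VecSpace Cfsg.Agent.MonsterX.Space
open Cfsg.Agent.MonsterX.ProgTable Cfsg.Agent.MonsterX.ProgBase
open Cfsg.Agent.MonsterX.Conc Cfsg.Agent.MonsterX.Model Cfsg.Agent.MonsterX.InstData Cfsg.Agent.MonsterX.InstEval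

/-- The letters of `G` except `τ⁻¹`. -/
noncomputable def inG (n : ℕ) : Bool := or (Nat.blt n 41) (and (Nat.ble 42 n) (Nat.blt n 46))

theorem E_mem_G' {n : ℕ} (h : inG n = true) : E n ∈ G := by
  have h' : or (Nat.blt n 41) (and (Nat.ble 42 n) (Nat.blt n 46)) = true := h
  rw [Bool.or_eq_true, Bool.and_eq_true] at h'
  rcases h' with h1 | ⟨h1, h2⟩
  · exact E_mem_G (Nat.le_of_ble_eq_true h1)
  · exact C_le_G (N_le_C (ProgM.Inv.E_mem_N' (Or.inr ⟨Nat.le_of_ble_eq_true h1, Nat.le_of_ble_eq_true h2⟩)))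

theorem W_mem_G {w : List ℕ} (h : w.all inG = true) : W w ∈ G :=
  W_mem fun n hn => E_mem_G' (List.all_eq_true.1 h n hn)

theorem nthW_nil (j : ℕ) : nthW [] j = [] := rfl

theorem nthW_zero (w : List ℕ) (l : List (List ℕ)) : nthW (w :: l) 0 = w := rfl

theorem nthW_succ (w : List ℕ) (l : List (List ℕ)) (j : ℕ) : nthW (w :: l) (j + 1) = nthW l j := rfl

theorem nthW_mem (l : List (List ℕ)) (j : ℕ) : nthW l j ∈ l ∨ nthW l j = [] := by
  induction l generalizing j with
  | nil => exact Or.inr rfl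
  | cons w l ih =>
    cases j with
    | zero => exact Or.inl (by rw [nthW_zero]; simp)
    | succ j =>
      rw [nthW_succ]
      rcases ih j with h | h
      · exact Or.inl (List.mem_cons_of_mem _ h)
      · exact Or.inr h

theorem bjTab_ok : (bjTab.all fun w => w.all inG) = true := by decide +kernel

/-- The words of the orbit representatives are in `G`. -/
theorem bj_mem (j : ℕ) : W (bj j) ∈ M.G := by
  rcases nthW_mem bjTab j with h | h
  · exact W_mem_G (List.all_eq_true.1 bjTab_ok _ h)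
  · show W (nthW bjTab j) ∈ G
    rw [h, W_nil]
    exact G.one_mem

/-- field `moves` of `MTrans` -/
theorem moves : ∀ j, j ≠ M.j₀ → ∃ g ∈ M.G, g M.a₀ = M.d j ∧
    ∃ h ∈ M.C, (g * M.t₀ * g⁻¹) (h M.u₀) ≠ h M.u₀ := FieldsT2.moves bj_mem

theorem trans_aux (j : Fin 12) : ∃ g ∈ M.G, g (M.d j) = M.a₀ := by
  refine ⟨(W (bj j.1))⁻¹, M.G.inv_mem (bj_mem _), ?_⟩
  rw [M_d' j]
  exact (W (bj j.1)).symm_apply_apply _

/-- field `trans` of `MOrbit` -/
theorem trans : ∀ j, ∃ g ∈ M.G, g (M.d j) = M.a₀ := trans_aux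

end Cfsg.Agent.MonsterX.FieldsT4
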