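import Cfsg.Agent.MonsterX.Conc

/-!
# The action of the letters `0 … 39` on the `24 × 24` symmetric matrices

`un a b` is the unit vector of the matrix entry `(a, b)` (numbers of points `< 24`).  `chk P sc nz ng` is a kernel check
which shows `P (4 ^ sc • un a b) = ∑ c(a,a') c(b,b') • un a' b'`, where `c(a,a')` is `0`, `1` or `-1`.
-/

set_option autoImplicit false
set_option maxRecDepth 100000

namespace Cfsg.Agent.MonsterX.MatAct

open Cfsg.Agent.Lib.PermNet Cfsg.Agent.Monster.VecEngine Cfsg.Agent.Monster Cfsg.Agent.Monster.VecSpace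
open Cfsg.Agent.MonsterX.ProgBase Cfsg.Agent.MonsterX.Space

/-! ### Loops -/

/-- Check `f k` for all `k < m`. -/
noncomputable def all (m : ℕ) (f : ℕ → Bool) : Bool :=
  Nat.rec (motive := fun _ => Bool) true (fun k ih => and (f k) ih) m

theorem all_spec {m : ℕ} {f : ℕ → Bool} (h : all m f = true) {k : ℕ} (hk : k < m) : f k = true := by
  induction m with
  | zero => omega
  | succ m ih =>
    have h' : and (f m) (all m f) = true := h
    rw [Bool.and_eq_true] at h'
    rcases Nat.lt_succ_iff_lt_or_eq.1 hk with h1 | rfl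
    · exact ih h'.2 h1
    · exact h'.1

/-- Add the vectors given by `g j`, `j < m`, `nz j`. -/
noncomputable def foldK (m : ℕ) (nz : ℕ → Bool) (g : ℕ → Pl → (Pl → Bool) → Bool) : Pl → (Pl → Bool) → Bool :=
  Nat.rec (motive := fun _ => Pl → (Pl → Bool) → Bool) (fun x k => k x)
    (fun j ih x k => Bool.rec (ih x k) (g j x fun y => ih y k) (nz j)) m

theorem foldK_sound {m : ℕ} {nz : ℕ → Bool} {g : ℕ → Pl → (Pl → Bool) → Bool} {G : ℕ → ℕ → ℚ}
    (hg : ∀ j x k, g j x k = true → ∃ y, vec ℚ y = vec ℚ x + G j ∧ k y = true) (x : Pl) (k : Pl → Bool)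
    (h : foldK m nz g x k = true) :
    ∃ y, vec ℚ y = vec ℚ x + ∑ j ∈ Finset.range m, (if nz j then G j else 0) ∧ k y = true := by
  induction m generalizing x with
  | zero => exact ⟨x, by simp, h⟩
  | succ m ih =>
    have h' : (Bool.rec (foldK m nz g x k) (g m x fun y => foldK m nz g y k) (nz m) : Bool) = true := h
    rw [Finset.sum_range_succ]
    cases hn : nz m with
    | false =>
      rw [hn] at h'
      obtain ⟨y, hy, hk⟩ := ih x h'
      exact ⟨y, by rw [hy]; simp, hk⟩
    | true =>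
      rw [hn] at h'
      obtain ⟨y, hy, hk⟩ := hg m x _ h'
      obtain ⟨y', hy', hk'⟩ := ih y hk
      exact ⟨y', by rw [hy', hy]; simp; abel, hk'⟩

/-! ### Unit vectors -/

/-- The slots of the points. -/
def slotT : List ℕ := [0, 1, 2, 3, 4, 8, 12, 5, 16, 13, 6, 14, 7, 20, 9, 17, 18, 10, 21, 19, 22, 23, 15, 11]

/-- The lane of the matrix entry `(a, b)`. -/
def ln (a b : ℕ) : ℕ := 61440 + (32 * slotT.getD a 0 + slotT.getD b 0)

/-- The unit plane. -/
noncomputable def bp (a b : ℕ) : ℕ := Nat.shiftLeft 1 (ln a b)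

/-- The unit vector of the matrix entry `(a, b)`. -/
def un (a b : ℕ) : ℕ → ℚ := fun i => if i = ln a b then 1 else 0

theorem testBit_bp (a b i : ℕ) : (bp a b).testBit i = decide (i = ln a b) := by
  show (1 <<< ln a b).testBit i = _
  rw [Nat.one_shiftLeft, Nat.testBit_two_pow]
  by_cases h : i = ln a b
  · subst h; simp
  · simp [h, Ne.symm h]

/-- Plus or minus the unit vector, as planes. -/
noncomputable def sgnP (a b : ℕ) (s : Bool) : Pl := Bool.rec (.cons (bp a b) (.sgn 0)) (.sgn (bp a b)) s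

theorem bt_bp (a b i : ℕ) : (bt (bp a b) i : ℚ) = un a b i := by
  unfold bt un
  rw [testBit_bp]
  by_cases h : i = ln a b <;> simp [h]

theorem bt_zero (i : ℕ) : bt 0 i = 0 := by simp [bt]

theorem vec_sgnP (a b : ℕ) (s : Bool) : vec ℚ (sgnP a b s) = (if s then (-1 : ℚ) else 1) • un a b := by
  funext i
  cases s
  · show ((bt (bp a b) i + 2 * -bt 0 i : ℤ) : ℚ) = _
    rw [bt_zero]
    push_cast
    rw [bt_bp]
    simp
  · show ((-bt (bp a b) i : ℤ) : ℚ) = _
    push_cast
    rw [bt_bp]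
    simp

/-- Add `±` a unit vector. -/
noncomputable def stp (a b : ℕ) (s : Bool) (x : Pl) (k : Pl → Bool) : Bool := go (add (sgnP a b s) x 0) k

theorem stp_sound {a b : ℕ} {s : Bool} {x : Pl} {k : Pl → Bool} (h : stp a b s x k = true) :
    ∃ y, vec ℚ y = vec ℚ x + (if s then (-1 : ℚ) else 1) • un a b ∧ k y = true := by
  have h' : go (add (sgnP a b s) x 0) k = true := h
  rw [go_eq] at h'
  refine ⟨_, ?_, h'⟩
  rw [vec_norm, ← vec_sgnP]
  funext i
  show ((val (add (sgnP a b s) x 0) i : ℤ) : ℚ) = (val x i : ℚ) + (val (sgnP a b s) i : ℚ)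
  rw [val_add, bt_zero]
  push_cast
  ring

/-- The vector `4 ^ sc` times a unit vector. -/
noncomputable def start (a b : ℕ) (sc : Bool) : Pl :=
  Bool.rec (.cons (bp a b) (.sgn 0)) (.cons 0 (.cons 0 (.cons (bp a b) (.sgn 0)))) sc

theorem vec_start (a b : ℕ) (sc : Bool) : vec ℚ (start a b sc) = (if sc then (4 : ℚ) else 1) • un a b := by
  funext i
  cases sc
  · show ((bt (bp a b) i + 2 * -bt 0 i : ℤ) : ℚ) = _
    rw [bt_zero]
    push_cast
    rw [bt_bp]
    simp
  · show ((bt 0 i + 2 * (bt 0 i + 2 * (bt (bp a b) i + 2 * -bt 0 i)) : ℤ) : ℚ) = _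
    rw [bt_zero]
    push_cast
    rw [bt_bp]
    simp
    ring

/-- The coefficient `0`, `1` or `-1`. -/
def cf (nz ng : Bool) : ℚ := if nz then (if ng then -1 else 1) else 0

/-- The check for one matrix entry. -/
noncomputable def chk1 (P : Prog) (sc : Bool) (nz ng : ℕ → ℕ → Bool) (a b : ℕ) : Bool :=
  run P (start a b sc) fun y => foldK 24 (nz a) (fun a' => foldK 24 (nz b) fun b' =>
    stp a' b' (xor (ng a a') (ng b b'))) (.sgn 0) fun z => eqP (norm y) (norm z)

theorem chk1_sound {m : ℕ} {P : Prog} (hP : P.ok m = true) {sc : Bool} {nz ng : ℕ → ℕ → Bool} {a b : ℕ}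
    (h : chk1 P sc nz ng a b = true) :
    sem ℚ P ((if sc then (4 : ℚ) else 1) • un a b) =
      ∑ a' ∈ Finset.range 24, ∑ b' ∈ Finset.range 24, (cf (nz a a') (ng a a') * cf (nz b b') (ng b b')) • un a' b' := by
  obtain ⟨y, hy, hk⟩ := run_sound ℚ two_ne_zero P hP _ _ h
  obtain ⟨z, hz, hk'⟩ := foldK_sound (G := fun a' => ∑ b' ∈ Finset.range 24,
      if nz b b' then (if xor (ng a a') (ng b b') then (-1 : ℚ) else 1) • un a' b' else 0)
    (fun a' x k hx => foldK_sound (G := fun b' => (if xor (ng a a') (ng b b') then (-1 : ℚ) else 1) • un a' b')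
      (fun b' x k hx => stp_sound hx) x k hx) _ _ hk
  rw [vec_start] at hy
  rw [← hy, ← vec_norm ℚ y, eq_of_eqP hk', vec_norm, hz]
  have h0 : vec ℚ (.sgn 0) = 0 := by
    funext i
    show ((-bt 0 i : ℤ) : ℚ) = 0
    rw [bt_zero]; simp
  rw [h0, zero_add]
  refine Finset.sum_congr rfl fun a' _ => ?_
  unfold cf
  cases nz a a'
  · simp
  · simp only [if_true]
    refine Finset.sum_congr rfl fun b' _ => ?_
    cases nz b b' <;> cases ng a a' <;> cases ng b b' <;> simp

/-- The check for all matrix entries. -/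
noncomputable def chk (P : Prog) (sc : Bool) (nz ng : ℕ → ℕ → Bool) : Bool :=
  all 24 fun a => all 24 fun b => chk1 P sc nz ng a b

/-! ### The checks -/

open ProgTable

/-- masks of the basis of the code -/
def cbT : List ℕ :=
  [16777215, 2422785, 4845570, 3610628, 7221256, 7903248, 5621792, 1009728, 2019456, 4038912, 8077824,
    5405696]

/-- the tetrads -/
def tetT : List ℕ := [0, 0, 0, 0, 1, 2, 3, 1, 4, 3, 1, 3, 1, 5, 2, 4, 4, 2, 5, 4, 5, 5, 3, 2]

def tabS : List ℕ := [1, 2, 3, 4, 5, 6, 7, 8, 9, 10, 11, 12, 13, 14, 15, 16, 17, 18, 19, 20, 21, 22, 0, 23]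
def tabI : List ℕ := [23, 22, 11, 15, 17, 9, 19, 13, 20, 5, 16, 2, 21, 7, 18, 3, 10, 4, 14, 6, 8, 12, 1, 0]
def tabC : List ℕ := [0, 18, 6, 3, 2, 21, 1, 5, 16, 12, 7, 19, 8, 9, 17, 15, 13, 11, 4, 22, 10, 20, 14, 23]

/-- The nonzero entries for the letter `n`. -/
def nzT (n a a' : ℕ) : Bool :=
  if n < 36 then Nat.beq a a' else if n = 36 then Nat.beq (tabS.getD a 0) a' else
  if n = 37 then Nat.beq (tabC.getD a 0) a' else if n = 38 then Nat.beq (tabI.getD a 0) a' else
  Nat.beq (tetT.getD a 0) (tetT.getD a' 0)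

/-- The negative entries for the letter `n`. -/
def ngT (n a a' : ℕ) : Bool :=
  if n < 24 then false else if n < 36 then (cbT.getD (n - 24) 0).testBit a else if n < 39 then false else
  xor (Nat.beq a a') (Nat.ble 4 a)

end Cfsg.Agent.MonsterX.MatAct
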