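import Cfsg.Agent.MonsterX.FrameStab
import Cfsg.Agent.MonsterX.MatAct
import Cfsg.Agent.Leech.Xi
import Cfsg.Agent.SporadicA.GolayBase

/-!
# The elements of `Co0` induced by the letters `0 … 39` of the Monster model

`A n = 1` for `n < 24`, the sign change at the word `n - 24` of the basis for `24 ≤ n < 36`, the permutations
`x ↦ x + 1` (`36`), `cubeTwist` (`37`), `projInv` (`38`), Conway's map for the sextet of `{0, 1, 2, 3}` with sign
changes on `{0, 1, 2, 3}` (`39`).
-/

set_option autoImplicit false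

namespace Cfsg.Agent.MonsterX.CoGens

open Cfsg Cfsg.Agent.Leech.Code Cfsg.Agent.Leech.Basic Cfsg.Agent.Leech.Co0Elts
  Cfsg.Agent.Leech.Xi Cfsg.Agent.SporadicA Cfsg.Agent.SporadicA.M24Gens
  Cfsg.Agent.MonsterX.FrameStab Cfsg.Agent.MonsterX.MatAct

/-- A lattice vector with rational coordinates. -/
abbrev rt (v : leechLattice) : GolayPt → ℚ := fun i => ((v : GolayPt → ℤ) i : ℚ)

/-! ### Sign changes -/

/-- The words of the basis. -/
def cw (i : ℕ) : Finset GolayPt := GolayBase.fin (cb.getD i 0)

theorem cb_code : ∀ i < 12, GolayBase.isCode (cb.getD i 0) = true ∧ cb.getD i 0 < 2 ^ 24 := by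
  decide +kernel

theorem cw_mem (i : ℕ) (hi : i < 12) : cw i ∈ Words :=
  (GolayBase.fin_mem_supports_iff (cb_code i hi).2).2 (cb_code i hi).1

/-- The sign change at a word of the basis. -/
noncomputable def sg (i : ℕ) : Co0 := if h : i < 12 then sgn (cw i) (cw_mem i h) else 1

theorem sg_coe {i : ℕ} (hi : i < 12) (v : leechLattice) (p : GolayPt) :
    ((sg i • v : leechLattice) : GolayPt → ℤ) p =
      if (cb.getD i 0).testBit (pidx p) then -(v : GolayPt → ℤ) p else (v : GolayPt → ℤ) p := by
  unfold sg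
  rw [dif_pos hi, sgn_coe, sgnMap_apply]
  have h : p ∈ cw i ↔ (cb.getD i 0).testBit (pidx p) = true := GolayBase.mem_fin
  by_cases hp : p ∈ cw i
  · rw [if_pos hp, if_pos (h.1 hp)]
  · rw [if_neg hp, if_neg (fun h' => hp (h.2 h'))]

theorem isSign_sg {i : ℕ} (hi : i < 12) : IsSign (sg i) (cb.getD i 0) := fun v p => sg_coe hi v p

/-! ### Permutations -/

/-- The permutation `x ↦ x + 1`. -/
def shiftP : Equiv.Perm GolayPt := Equiv.optionCongr (Equiv.addRight (1 : ZMod 23))

/-- The element `x ↦ x + 1`. -/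
noncomputable def pS : Co0 := perm shiftP shift_mem

/-- The element of `cubeTwist`. -/
noncomputable def pC : Co0 := perm cubeTwist cubeTwist_mem

/-- The element of `projInv`. -/
noncomputable def pI : Co0 := perm projInv projInv_mem

theorem isPerm_pS : IsPerm pS (Equiv.optionCongr (Equiv.addRight (1 : ZMod 23))) := fun _ _ => rfl

theorem isPerm_pC : IsPerm pC cubeTwist := fun _ _ => rfl

theorem isPerm_pI : IsPerm pI projInv := fun _ _ => rfl

/-! ### The sextet -/

/-- masks of the tetrads of the sextet of `{0, 1, 2, 3}` -/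
def masks : List ℕ := [15, 5264, 8536096, 4196928, 622848, 3416064]

/-- the sextet of `{0, 1, 2, 3}` -/
def S₀ : Finset (Finset GolayPt) := (masks.map GolayBase.fin).toFinset

theorem mem_S₀ {t : Finset GolayPt} : t ∈ S₀ ↔ ∃ m ∈ masks, GolayBase.fin m = t := by
  unfold S₀
  rw [List.mem_toFinset, List.mem_map]

theorem masks_lt : ∀ m ∈ masks, m < 2 ^ 24 := by decide +kernel

theorem masks_card : ∀ m ∈ masks, GolayBase.popcount m = 4 := by decide +kernel

theorem masks_pair : ∀ a ∈ masks, ∀ b ∈ masks, a ≠ b →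
    GolayBase.isCode (a ||| b) = true ∧ GolayBase.popcount (a ||| b) = 8 ∧ a ||| b < 2 ^ 24 := by
  decide +kernel

theorem masks_nodup : masks.Nodup := by decide +kernel

theorem S₀_mem : S₀ ∈ sextets := by
  refine ⟨?_, fun t ht => ?_, fun t ht u hu htu => ?_⟩
  · unfold S₀
    rw [List.toFinset_card_of_nodup]
    · rfl
    · refine (List.nodup_map_iff_inj_on masks_nodup).2 fun a ha b hb h => ?_
      exact GolayBase.fin_injective (masks_lt a ha) (masks_lt b hb) h
  · obtain ⟨m, hm, rfl⟩ := mem_S₀.1 ht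
    rw [GolayBase.card_fin, masks_card m hm]
  · obtain ⟨a, ha, rfl⟩ := mem_S₀.1 ht
    obtain ⟨b, hb, rfl⟩ := mem_S₀.1 hu
    obtain ⟨h1, h2, h3⟩ := masks_pair a ha b hb fun h => htu (h ▸ rfl)
    rw [← GolayBase.fin_or]
    exact (GolayBase.fin_mem_octads_iff h3).2 ⟨h1, h2⟩

/-- the tetrad `{0, 1, 2, 3}` -/
def T₀ : Finset GolayPt := GolayBase.fin 15

theorem T₀_mem : T₀ ∈ S₀ := mem_S₀.2 ⟨15, by decide, rfl⟩

/-- Conway's map of the model -/
noncomputable def xiA : Co0 := xi S₀ T₀ S₀_mem T₀_mem

theorem mem_T₀ (p : GolayPt) : p ∈ T₀ ↔ ¬ 4 ≤ pidx p := by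
  revert p; decide +kernel

/-- Two points are in the same tetrad iff they have the same number. -/
theorem mem_tet (p q : GolayPt) : q ∈ tet S₀ p ↔ tetT.getD (pidx q) 0 = tetT.getD (pidx p) 0 := by
  obtain ⟨t, ht, hp⟩ := sextet_exists S₀_mem p
  rw [tet_eq S₀_mem ht hp]
  obtain ⟨m, hm, rfl⟩ := mem_S₀.1 ht
  rw [GolayBase.mem_fin] at hp ⊢
  have key : ∀ m ∈ masks, ∀ p q : GolayPt, m.testBit (GolayBase.idx p) = true →
      (m.testBit (GolayBase.idx q) = true ↔ tetT.getD (pidx q) 0 = tetT.getD (pidx p) 0) := by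
    decide +kernel
  exact key m hm p q hp

theorem xiA_coe (v : leechLattice) (p : GolayPt) :
    2 * rt (xiA • v) p = (if 4 ≤ pidx p then 1 else -1) *
      (2 * rt v p - ∑ q, if tetT.getD (pidx q) 0 = tetT.getD (pidx p) 0 then rt v q else 0) := by
  have h1 : ((xiA • v : leechLattice) : GolayPt → ℤ) p = xiMap S₀ T₀ v p := rfl
  have h2 : (2 : ℚ) * (hsum S₀ (v : GolayPt → ℤ) p : ℚ) =
      ∑ q, if tetT.getD (pidx q) 0 = tetT.getD (pidx p) 0 then rt v q else 0 := by
    have h3 := two_mul_hsum S₀_mem v.2 p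
    have h4 : ((2 * hsum S₀ (v : GolayPt → ℤ) p : ℤ) : ℚ) = ((∑ j ∈ tet S₀ p, (v : GolayPt → ℤ) j : ℤ) : ℚ) := by
      rw [h3]
    push_cast at h4
    rw [h4, ← Finset.sum_filter]
    refine Finset.sum_congr ?_ fun _ _ => rfl
    ext q
    rw [Finset.mem_filter, mem_tet]
    simp
  show 2 * ((((xiA • v : leechLattice) : GolayPt → ℤ) p : ℤ) : ℚ) = _
  rw [h1, xiMap_apply, ← h2]
  by_cases hp : p ∈ T₀
  · rw [if_pos hp, if_neg ((mem_T₀ p).1 hp)]
    push_cast
    ring
  · have h4 : 4 ≤ pidx p := by
      by_contra h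
      exact hp ((mem_T₀ p).2 h)
    rw [if_neg hp, if_pos h4]
    push_cast
    ring

/-! ### All letters -/

/-- The element of `Co0` induced by the letter `n`. -/
noncomputable def A (n : ℕ) : Co0 :=
  if n < 24 then 1 else if n < 36 then sg (n - 24) else if n = 36 then pS else if n = 37 then pC else
  if n = 38 then pI else xiA

theorem A_lt {n : ℕ} (h : n < 24) : A n = 1 := if_pos h

theorem A_sg {i : ℕ} (h : i < 12) : A (24 + i) = sg i := by
  unfold A
  rw [if_neg (by omega), if_pos (by omega)]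
  congr 1; omega

theorem A_36 : A 36 = pS := rfl

theorem A_37 : A 37 = pC := rfl

theorem A_38 : A 38 = pI := rfl

theorem A_39 : A 39 = xiA := rfl

theorem pidx_lt (p : GolayPt) : pidx p < 24 := by revert p; decide

theorem cbT_eq : cbT = cb := rfl

/-- The sum of a function with one nonzero term. -/
theorem sum_cf_single (f : GolayPt → Bool) (g : GolayPt → Bool) (x : GolayPt → ℚ) (p₀ : GolayPt)
    (h : ∀ p, f p = true ↔ p = p₀) :
    ∑ p, cf (f p) (g p) * x p = (if g p₀ then -1 else 1) * x p₀ := by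
  rw [Finset.sum_eq_single p₀]
  · unfold cf
    rw [if_pos ((h p₀).2 rfl)]
  · intro p _ hp
    unfold cf
    rw [if_neg (fun h' => hp ((h p).1 h')), zero_mul]
  · intro h; exact absurd (Finset.mem_univ _) h

/-- The matrix of the letter `n`. -/
theorem A_coe {n : ℕ} (hn : n < 40) (v : leechLattice) (p' : GolayPt) :
    (if Nat.ble 39 n then 2 else 1) * rt (A n • v) p' =
      ∑ p, cf (nzT n (pidx p) (pidx p')) (ngT n (pidx p) (pidx p')) * rt v p := by
  have beq_iff : ∀ a b : ℕ, Nat.beq a b = true ↔ a = b := fun a b => by simp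
  have ble_iff : ∀ a b : ℕ, Nat.ble a b = true ↔ a ≤ b := fun a b => by simp
  rcases Nat.lt_or_ge n 24 with h | h
  · rw [A_lt h, one_smul, sum_cf_single _ _ _ p']
    · rw [if_neg (by simp; omega)]
      have : ngT n (pidx p') (pidx p') = false := if_pos h
      rw [this]; rfl
    · intro p
      unfold nzT
      rw [if_pos (by omega), beq_iff]
      exact ⟨fun h => pidx_injective h, fun h => by rw [h]⟩
  rcases Nat.lt_or_ge n 36 with h1 | h1
  · obtain ⟨i, rfl⟩ := Nat.exists_eq_add_of_le h
    have hi : i < 12 := by omega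
    rw [A_sg hi, sum_cf_single _ _ _ p']
    · rw [if_neg (by simp; omega), one_mul]
      have : ngT (24 + i) (pidx p') (pidx p') = (cb.getD i 0).testBit (pidx p') := by
        unfold ngT
        rw [if_neg (by omega), if_pos h1, cbT_eq]
        congr 2; omega
      rw [this]
      show ((((sg i • v : leechLattice) : GolayPt → ℤ) p' : ℤ) : ℚ) = _
      rw [sg_coe hi]
      cases (cb.getD i 0).testBit (pidx p') <;> simp
    · intro p
      unfold nzT
      rw [if_pos (by omega), beq_iff]
      exact ⟨fun h => pidx_injective h, fun h => by rw [h]⟩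
  obtain rfl | rfl | rfl | rfl : n = 36 ∨ n = 37 ∨ n = 38 ∨ n = 39 := by omega
  · rw [A_36, sum_cf_single _ _ _ (shiftP.symm p')]
    · show (1 : ℚ) * _ = 1 * _
      rfl
    · intro p
      show Nat.beq (MatAct.tabS.getD (pidx p) 0) (pidx p') = true ↔ _
      have := shift_table p
      rw [beq_iff, show MatAct.tabS = M24Gens.tabS from rfl, ← this]
      exact ⟨fun h => by rw [Equiv.eq_symm_apply]; exact pidx_injective h,
        fun h => by rw [h]; exact congrArg pidx (shiftP.apply_symm_apply p')⟩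
  · rw [A_37, sum_cf_single _ _ _ (cubeTwist.symm p')]
    · show (1 : ℚ) * _ = 1 * _
      rfl
    · intro p
      show Nat.beq (MatAct.tabC.getD (pidx p) 0) (pidx p') = true ↔ _
      have := cubeTwist_table p
      rw [beq_iff, show MatAct.tabC = M24Gens.tabC from rfl, ← this]
      exact ⟨fun h => by rw [Equiv.eq_symm_apply]; exact pidx_injective h,
        fun h => by rw [h]; exact congrArg pidx (cubeTwist.apply_symm_apply p')⟩
  · rw [A_38, sum_cf_single _ _ _ (projInv.symm p')]
    · show (1 : ℚ) * _ = 1 * _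
      rfl
    · intro p
      show Nat.beq (MatAct.tabI.getD (pidx p) 0) (pidx p') = true ↔ _
      have := projInv_table p
      rw [beq_iff, show MatAct.tabI = M24Gens.tabI from rfl, ← this]
      exact ⟨fun h => by rw [Equiv.eq_symm_apply]; exact pidx_injective h,
        fun h => by rw [h]; exact congrArg pidx (projInv.apply_symm_apply p')⟩
  · rw [A_39]
    show (2 : ℚ) * _ = _
    rw [xiA_coe]
    -- pointwise
    have h4 : ∀ p : GolayPt, tetT.getD (pidx p) 0 = tetT.getD (pidx p') 0 → (4 ≤ pidx p ↔ 4 ≤ pidx p') := by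
      revert p'; decide +kernel
    have h5 : ∀ p, cf (nzT 39 (pidx p) (pidx p')) (ngT 39 (pidx p) (pidx p')) * rt v p =
        (if 4 ≤ pidx p' then 1 else -1) * ((if p = p' then 2 * rt v p else 0) -
          (if tetT.getD (pidx p) 0 = tetT.getD (pidx p') 0 then rt v p else 0)) := by
      intro p
      show cf (Nat.beq (tetT.getD (pidx p) 0) (tetT.getD (pidx p') 0))
        (xor (Nat.beq (pidx p) (pidx p')) (Nat.ble 4 (pidx p))) * rt v p = _
      by_cases ht : tetT.getD (pidx p) 0 = tetT.getD (pidx p') 0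
      · have e1 : Nat.beq (tetT.getD (pidx p) 0) (tetT.getD (pidx p') 0) = true := (beq_iff _ _).2 ht
        rw [e1, if_pos ht]
        have h6 := h4 p ht
        by_cases hp : p = p'
        · have e2 : Nat.beq (pidx p) (pidx p') = true := (beq_iff _ _).2 (by rw [hp])
          rw [e2, if_pos hp]
          by_cases h7 : 4 ≤ pidx p'
          · have e3 : Nat.ble 4 (pidx p) = true := (ble_iff _ _).2 (h6.2 h7)
            rw [e3, if_pos h7]
            show (1 : ℚ) * _ = _
            ring
          · have e3 : Nat.ble 4 (pidx p) = false := by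
              rw [Bool.eq_false_iff]; exact fun h => h7 (h6.1 ((ble_iff _ _).1 h))
            rw [e3, if_neg h7]
            show (-1 : ℚ) * _ = _
            ring
        · have e2 : Nat.beq (pidx p) (pidx p') = false := by
            rw [Bool.eq_false_iff]; exact fun h => hp (pidx_injective ((beq_iff _ _).1 h))
          rw [e2, if_neg hp]
          by_cases h7 : 4 ≤ pidx p'
          · have e3 : Nat.ble 4 (pidx p) = true := (ble_iff _ _).2 (h6.2 h7)
            rw [e3, if_pos h7]
            show (-1 : ℚ) * _ = _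
            ring
          · have e3 : Nat.ble 4 (pidx p) = false := by
              rw [Bool.eq_false_iff]; exact fun h => h7 (h6.1 ((ble_iff _ _).1 h))
            rw [e3, if_neg h7]
            show (1 : ℚ) * _ = _
            ring
      · have e1 : Nat.beq (tetT.getD (pidx p) 0) (tetT.getD (pidx p') 0) = false := by
          rw [Bool.eq_false_iff]; exact fun h => ht ((beq_iff _ _).1 h)
        have hp : p ≠ p' := fun h => ht (by rw [h])
        rw [e1, if_neg ht, if_neg hp]
        show (0 : ℚ) * _ = _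
        ring
    rw [Finset.sum_congr rfl fun p _ => h5 p, ← Finset.mul_sum, Finset.sum_sub_distrib]
    congr 2
    simp

end Cfsg.Agent.MonsterX.CoGens
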