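import Cfsg.Agent.MonsterX.GensT

/-!
# The concrete model of the Monster: letters, words, the groups `Q`, `C`, `G`

Letters are natural numbers (table `ProgTable.prog`): `0..11` = `x_c`, `12..23` = `x_delta`, `24..35` = `y_c`,
`36` = `pa`, `37` = `pd`, `38` = `pg`, `39` = `ξ`, `40` = `τ`, `41` = `τ⁻¹`, `42` = `pa⁻¹`, `43` = `pd⁻¹`,
`44` = `pg⁻¹`, `45` = `z`.  `E n` is the element of the letter `n`, `W w` that of the word `w : List ℕ`
(the FIRST letter acts first), both in `V ≃ₗ[ℚ] V`, `V` the space of dimension `196884`.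
-/

set_option autoImplicit false

namespace Cfsg.Agent.MonsterX.Conc

open Cfsg.Agent.Monster.VecEngine Cfsg.Agent.Monster.VecSpace Cfsg.Agent.MonsterX.Space
open Cfsg.Agent.MonsterX.ProgTable Cfsg.Agent.MonsterX.GensT Cfsg.Agent.MonsterX.ProgBase

/-! ### Words -/

theorem progs_goodT (w : List ℕ) : ∀ P ∈ w.map prog, GoodT P := by
  intro P hP
  obtain ⟨n, -, rfl⟩ := List.mem_map.1 hP
  exact prog_goodT n

/-- The group element of a letter. -/
noncomputable def E (n : ℕ) : V ≃ₗ[ℚ] V := EP (prog n)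

/-- The group element of a word, the FIRST letter acts first. -/
noncomputable def W (w : List ℕ) : V ≃ₗ[ℚ] V := WP (w.map prog)

@[simp] theorem W_nil : W [] = 1 := WP_nil

theorem W_cons (n : ℕ) (w : List ℕ) : W (n :: w) = W w * E n := WP_cons (prog_goodT n) (progs_goodT w)

theorem W_append (w w' : List ℕ) : W (w ++ w') = W w' * W w := by
  unfold W
  rw [List.map_append, WP_append (progs_goodT w) (progs_goodT w')]

theorem W_single (n : ℕ) : W [n] = E n := WP_single (prog n)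

theorem W_coe (w : List ℕ) (v : V) : (W w v : Lane U → ℚ) = semUL ℚ U (w.map prog) v.1 :=
  WP_coe (progs_goodT w) v

theorem E_coe (n : ℕ) (v : V) : (E n v : Lane U → ℚ) = semU ℚ U (prog n) v.1 := EP_coe (prog_goodT n) v

theorem F_W (w : List ℕ) (f g : V) : F (W w f) (W w g) = F f g := F_WP (progs_goodT w) f g

theorem F_E (n : ℕ) (f g : V) : F (E n f) (E n g) = F f g := by
  rw [← W_single]; exact F_W [n] f g

/-- VECTOR IDENTITIES: `check` is a kernel computation. -/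
theorem W_eq_of_check {w₁ w₂ : List ℕ} {x₁ x₂ : Pl} (h : check (w₁.map prog) x₁ (w₂.map prog) x₂ = true) :
    W w₁ (vecV x₁) = W w₂ (vecV x₂) :=
  WP_eq_of_check (progs_goodT w₁) (progs_goodT w₂) h

theorem W_fix_of_check {w : List ℕ} {x : Pl} (h : checkFix (w.map prog) x = true) : W w (vecV x) = vecV x :=
  WP_fix_of_check (progs_goodT w) h

/-! ### The groups -/

/-- `Q = 2^{1+24}`: generated by the `x_c` and `x_delta`. -/
noncomputable def Q : Subgroup (V ≃ₗ[ℚ] V) := Subgroup.closure {g | ∃ n : ℕ, n < 24 ∧ g = E n}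

/-- `C = 2^{1+24}.Co1`: generated by the `x_c`, `x_delta`, `y_c`, `pa`, `pd`, `pg`, `ξ`. -/
noncomputable def C : Subgroup (V ≃ₗ[ℚ] V) := Subgroup.closure {g | ∃ n : ℕ, n < 40 ∧ g = E n}

/-- `N = N_{x0} = 2^{1+24}.2^{11}.M24`: generated by the `x_c`, `x_delta`, `y_c`, `pa`, `pd`, `pg`. -/
noncomputable def N : Subgroup (V ≃ₗ[ℚ] V) := Subgroup.closure {g | ∃ n : ℕ, n < 39 ∧ g = E n}

/-- The element `ξ`. -/
noncomputable def ξ : V ≃ₗ[ℚ] V := E 39

/-- The triality element. -/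
noncomputable def τ : V ≃ₗ[ℚ] V := E 40

/-- The central involution of `C`. -/
noncomputable def z : V ≃ₗ[ℚ] V := E 45

/-- The group generated by `C` and `τ`. -/
noncomputable def G : Subgroup (V ≃ₗ[ℚ] V) := Subgroup.closure ((C : Set (V ≃ₗ[ℚ] V)) ∪ {τ})

theorem E_mem_Q {n : ℕ} (h : n < 24) : E n ∈ Q := Subgroup.subset_closure ⟨n, h, rfl⟩

theorem E_mem_N {n : ℕ} (h : n < 39) : E n ∈ N := Subgroup.subset_closure ⟨n, h, rfl⟩

theorem E_mem_C {n : ℕ} (h : n < 40) : E n ∈ C := Subgroup.subset_closure ⟨n, h, rfl⟩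

theorem Q_le_N : Q ≤ N := Subgroup.closure_mono fun _ ⟨n, h, e⟩ => ⟨n, by omega, e⟩

theorem N_le_C : N ≤ C := Subgroup.closure_mono fun _ ⟨n, h, e⟩ => ⟨n, by omega, e⟩

theorem Q_le_C : Q ≤ C := Q_le_N.trans N_le_C

theorem C_le_G : C ≤ G := fun _ h => Subgroup.subset_closure (Or.inl h)

theorem τ_mem_G : τ ∈ G := Subgroup.subset_closure (Or.inr rfl)

theorem E_mem_G {n : ℕ} (h : n < 41) : E n ∈ G := by
  rcases Nat.lt_succ_iff_lt_or_eq.1 h with h | rfl
  · exact C_le_G (E_mem_C h)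
  · exact τ_mem_G

theorem W_mem {S : Subgroup (V ≃ₗ[ℚ] V)} {w : List ℕ} (h : ∀ n ∈ w, E n ∈ S) : W w ∈ S := by
  induction w with
  | nil => rw [W_nil]; exact S.one_mem
  | cons n w ih =>
    rw [W_cons]
    exact S.mul_mem (ih fun m hm => h m (by simp [hm])) (h n (by simp))

/-- `C` is generated by `N` and `ξ`. -/
theorem C_eq : C = Subgroup.closure ((N : Set (V ≃ₗ[ℚ] V)) ∪ {ξ}) := by
  apply le_antisymm
  · apply (Subgroup.closure_le _).2
    rintro _ ⟨n, hn, rfl⟩
    rcases Nat.lt_succ_iff_lt_or_eq.1 hn with h | rfl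
    · exact Subgroup.subset_closure (Or.inl (E_mem_N h))
    · exact Subgroup.subset_closure (Or.inr rfl)
  · apply (Subgroup.closure_le _).2
    rintro g (hg | hg)
    · exact N_le_C hg
    · rw [Set.mem_singleton_iff.1 hg]; exact E_mem_C (by norm_num)

theorem isom_of_closure {S : Set (V ≃ₗ[ℚ] V)} (hS : ∀ g ∈ S, ∀ x y : V, F (g x) (g y) = F x y) :
    ∀ g ∈ Subgroup.closure S, ∀ x y : V, F (g x) (g y) = F x y := by
  intro g hg
  induction hg using Subgroup.closure_induction with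
  | mem g hg => exact hS g hg
  | one => intro x y; rfl
  | mul a b _ _ ha hb => intro x y; rw [LinearEquiv.mul_apply, LinearEquiv.mul_apply, ha, hb]
  | inv a _ ha =>
    intro x y
    rw [← ha (a⁻¹ x) (a⁻¹ y), ← LinearEquiv.mul_apply, ← LinearEquiv.mul_apply, mul_inv_cancel]
    rfl

theorem C_isom : ∀ g ∈ C, ∀ x y : V, F (g x) (g y) = F x y :=
  isom_of_closure (by rintro _ ⟨n, -, rfl⟩; exact F_E n)

theorem τ_isom (x y : V) : F (τ x) (τ y) = F x y := F_E 40 x y

theorem G_isom : ∀ g ∈ G, ∀ x y : V, F (g x) (g y) = F x y := by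
  apply isom_of_closure
  rintro g (hg | hg)
  · exact C_isom g hg
  · rw [Set.mem_singleton_iff.1 hg]; exact τ_isom

end Cfsg.Agent.MonsterX.Conc
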