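import Cfsg.Agent.MonsterX.MatActChk
import Cfsg.Agent.MonsterX.CoGens
import Cfsg.Agent.MonsterX.Conc

/-!
# The vectors `u v` of the concrete model and the action of the letters on them

`uq x` is the symmetric matrix `x x^T / 16` (lanes of `matM`), `u v = uq v` for a lattice vector `v`.
`E n (u v) = u (A n • v)` for all letters `n < 40` (`act_u`).
-/

set_option autoImplicit false
set_option maxRecDepth 100000

namespace Cfsg.Agent.MonsterX.USide

open Cfsg Cfsg.Agent.Lib.PermNet Cfsg.Agent.Monster.VecEngine Cfsg.Agent.Monster Cfsg.Agent.Monster.VecSpace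
open Cfsg.Agent.MonsterX.ProgBase Cfsg.Agent.MonsterX.Space Cfsg.Agent.MonsterX.MatAct
open Cfsg.Agent.MonsterX.CoGens Cfsg.Agent.MonsterX.ProgTable Cfsg.Agent.MonsterX.GensT Cfsg.Agent.MonsterX.Conc
open Cfsg.Agent.SporadicA.M24Gens (pidx pidx_injective)

/-! ### Sums over the points -/

theorem sum_range_pt {M : Type*} [AddCommMonoid M] (f : ℕ → M) :
    ∑ a ∈ Finset.range 24, f a = ∑ p : GolayPt, f (pidx p) := by
  symm
  refine Finset.sum_bij (fun p _ => pidx p) (fun p _ => Finset.mem_range.2 (pidx_lt p))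
    (fun p _ q _ h => pidx_injective h) (fun a ha => ?_) fun p _ => rfl
  have ha' := Finset.mem_range.1 ha
  exact ⟨Cfsg.Agent.SporadicA.GolayBase.pt a, Finset.mem_univ _, Cfsg.Agent.SporadicA.GolayBase.idx_pt ha'⟩

/-! ### Unit vectors on the lanes of `U` -/

/-- The unit vector of the entry `(p, q)`. -/
noncomputable def uv (p q : GolayPt) : Lane U → ℚ := res ℚ U (un (pidx p) (pidx q))

theorem ln_U (p q : GolayPt) : U.testBit (ln (pidx p) (pidx q)) = true ∧ matM.testBit (ln (pidx p) (pidx q)) = true := by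
  have h := all_spec (all_spec ck_mat (pidx_lt p)) (pidx_lt q)
  have h' : and (Nat.testBit U (ln (pidx p) (pidx q))) (Nat.testBit matM (ln (pidx p) (pidx q))) = true := h
  rw [Bool.and_eq_true] at h'
  exact h'

/-- The lane of the entry `(p, q)`. -/
noncomputable def lane (p q : GolayPt) : Lane U := ⟨ln (pidx p) (pidx q), (ln_U p q).1⟩

theorem lane_inj {p q p' q' : GolayPt} (h : lane p q = lane p' q') : p = p' ∧ q = q' := by
  have h1 := ln_inj (pidx_lt p) (pidx_lt q) (pidx_lt p') (pidx_lt q') (congrArg Subtype.val h)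
  exact ⟨pidx_injective h1.1, pidx_injective h1.2⟩

theorem uv_apply (p q : GolayPt) (i : Lane U) : uv p q i = if i = lane p q then 1 else 0 := by
  show (if i.1 = ln (pidx p) (pidx q) then (1 : ℚ) else 0) = _
  by_cases h : i = lane p q
  · have h1 : i.1 = ln (pidx p) (pidx q) := congrArg Subtype.val h
    rw [if_pos h, if_pos h1]
  · have h1 : ¬ i.1 = ln (pidx p) (pidx q) := fun h' => h (Subtype.ext h')
    rw [if_neg h, if_neg h1]

theorem exists_lane {i : Lane U} (h : matM.testBit i.1 = true) : ∃ p q, i = lane p q := by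
  obtain ⟨a, ha, b, hb, e⟩ := exists_ln h
  refine ⟨Cfsg.Agent.SporadicA.GolayBase.pt a, Cfsg.Agent.SporadicA.GolayBase.pt b, Subtype.ext ?_⟩
  show i.1 = ln (pidx _) (pidx _)
  have h1 : pidx (Cfsg.Agent.SporadicA.GolayBase.pt a) = a := Cfsg.Agent.SporadicA.GolayBase.idx_pt ha
  have h2 : pidx (Cfsg.Agent.SporadicA.GolayBase.pt b) = b := Cfsg.Agent.SporadicA.GolayBase.idx_pt hb
  rw [h1, h2, e]

theorem dotU_uv (p q : GolayPt) (g : Lane U → ℚ) : dotU ℚ U (uv p q) g = g (lane p q) := by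
  unfold dotU
  rw [Finset.sum_eq_single (lane p q)]
  · rw [uv_apply, if_pos rfl, one_mul]
  · intro i _ hi
    rw [uv_apply, if_neg hi, zero_mul]
  · intro h; exact absurd (Finset.mem_univ _) h

theorem tr_uv (p q : GolayPt) : semU ℚ U trP (uv p q) = uv q p := by
  have h := all_spec (all_spec ck_tr (pidx_lt p)) (pidx_lt q)
  have h1 := checkU_sound ℚ two_ne_zero (m := 262144) (U := U) (w₁ := [trP]) (w₂ := [])
    (fun P hP => by rw [List.mem_singleton.1 hP]; exact trP_good.pres)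
    (fun P hP => absurd hP (by simp)) h
  have h2 : ∀ a b : ℕ, vecU ℚ U (.cons (bp a b) (.sgn 0)) = res ℚ U (un a b) := by
    intro a b
    funext i
    show ((bt (bp a b) i.1 + 2 * -bt 0 i.1 : ℤ) : ℚ) = _
    rw [bt_zero]
    push_cast
    rw [bt_bp]
    simp
  rw [h2, h2] at h1
  exact h1

/-! ### The vectors `u` -/

/-- The matrix `x x^T / 16` as a function on the lanes. -/
noncomputable def uf (x : GolayPt → ℚ) : Lane U → ℚ := ∑ p, ∑ q, (x p * x q / 16) • uv p q

theorem uf_lane (x : GolayPt → ℚ) (p q : GolayPt) : uf x (lane p q) = x p * x q / 16 := by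
  unfold uf
  rw [Finset.sum_apply, Finset.sum_eq_single p]
  · rw [Finset.sum_apply, Finset.sum_eq_single q]
    · rw [Pi.smul_apply, uv_apply, if_pos rfl, smul_eq_mul, mul_one]
    · intro q' _ hq'
      rw [Pi.smul_apply, uv_apply, if_neg (fun h => hq' (lane_inj h).2.symm), smul_zero]
    · intro h; exact absurd (Finset.mem_univ _) h
  · intro p' _ hp'
    rw [Finset.sum_apply]
    refine Finset.sum_eq_zero fun q' _ => ?_
    rw [Pi.smul_apply, uv_apply, if_neg (fun h => hp' (lane_inj h).1.symm), smul_zero]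
  · intro h; exact absurd (Finset.mem_univ _) h

theorem uf_other (x : GolayPt → ℚ) {i : Lane U} (h : ¬ matM.testBit i.1 = true) : uf x i = 0 := by
  unfold uf
  rw [Finset.sum_apply]
  refine Finset.sum_eq_zero fun p _ => ?_
  rw [Finset.sum_apply]
  refine Finset.sum_eq_zero fun q _ => ?_
  rw [Pi.smul_apply, uv_apply, if_neg (fun e => h (by rw [e]; exact (ln_U p q).2)), smul_zero]

theorem uf_mem (x : GolayPt → ℚ) : uf x ∈ Vs := by
  rw [mem_Vs]
  unfold uf
  simp only [map_sum, map_smul, tr_uv]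
  rw [Finset.sum_comm]
  refine Finset.sum_congr rfl fun q _ => Finset.sum_congr rfl fun p _ => ?_
  rw [mul_comm]

/-- The matrix `x x^T / 16`. -/
noncomputable def uq (x : GolayPt → ℚ) : V := ⟨uf x, uf_mem x⟩

/-- The vector of the model attached to a lattice vector. -/
noncomputable def u (v : leechLattice) : V := uq (rt v)

theorem F_uq (x : GolayPt → ℚ) (g : V) : F (uq x) g = ∑ p, ∑ q, x p * x q / 16 * g.1 (lane p q) := by
  rw [F_apply]
  show dotU ℚ U (uf x) g.1 = _
  have h : ∀ f : Lane U → ℚ, dotU ℚ U f g.1 = ∑ i, f i * g.1 i := fun _ => rfl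
  rw [h]
  unfold uf
  simp only [Finset.sum_apply, Pi.smul_apply, smul_eq_mul, Finset.sum_mul]
  rw [Finset.sum_comm]
  refine Finset.sum_congr rfl fun p _ => ?_
  rw [Finset.sum_comm]
  refine Finset.sum_congr rfl fun q _ => ?_
  simp only [mul_assoc]
  rw [← Finset.mul_sum]
  congr 1
  exact dotU_uv p q g.1

theorem F_uq_uq (x y : GolayPt → ℚ) : F (uq x) (uq y) = (∑ p, x p * y p) ^ 2 / 256 := by
  rw [F_uq]
  have h : ∀ p q, (uq y).1 (lane p q) = y p * y q / 16 := uf_lane y
  simp only [h]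
  have h2 : ∀ p q, x p * x q / 16 * (y p * y q / 16) = (x p * y p) * (x q * y q) / 256 := by
    intro p q; ring
  simp only [h2, ← Finset.sum_div, ← Finset.mul_sum, ← Finset.sum_mul]
  rw [sq]

theorem dot_rt (v w : leechLattice) :
    ((dotInt (v : GolayPt → ℤ) (w : GolayPt → ℤ) : ℤ) : ℚ) = ∑ p, rt v p * rt w p := by
  unfold dotInt
  push_cast
  rfl

/-- The inner products of the vectors `u v`. -/
theorem B_uu (v w : leechLattice) :
    F (u v) (u w) = ((dotInt (v : GolayPt → ℤ) (w : GolayPt → ℤ) : ℤ) : ℚ) ^ 2 / 256 := by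
  rw [dot_rt]
  exact F_uq_uq _ _

/-! ### The action of the letters -/

theorem semU_uv {n : ℕ} (hn : n < 40) (p q : GolayPt) :
    semU ℚ U (prog n) ((if Nat.ble 39 n then (4 : ℚ) else 1) • uv p q) =
      ∑ p', ∑ q', (cf (nzT n (pidx p) (pidx p')) (ngT n (pidx p) (pidx p')) *
        cf (nzT n (pidx q) (pidx q')) (ngT n (pidx q) (pidx q'))) • uv p' q' := by
  have h0 : chk (prog n) (Nat.ble 39 n) (nzT n) (ngT n) = true := ck_all n hn
  have h := all_spec (all_spec h0 (pidx_lt p)) (pidx_lt q)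
  have h1 := chk1_sound (prog_goodT n).good.pres.ok h
  have h2 := congrArg (res ℚ U) h1
  rw [res_sem ℚ (prog_goodT n).good.pres, map_smul] at h2
  refine h2.trans ?_
  rw [sum_range_pt, map_sum]
  refine Finset.sum_congr rfl fun p' _ => ?_
  rw [sum_range_pt, map_sum]
  refine Finset.sum_congr rfl fun q' _ => ?_
  rw [map_smul]
  rfl

theorem semU_uf {n : ℕ} (hn : n < 40) (v : leechLattice) :
    semU ℚ U (prog n) (uf (rt v)) = uf (rt (A n • v)) := by
  -- `s = 1` or `2`
  have hs : ∃ s : ℚ, s ≠ 0 ∧ (if Nat.ble 39 n then (2 : ℚ) else 1) = s ∧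
      (if Nat.ble 39 n then (4 : ℚ) else 1) = s ^ 2 := by
    cases Nat.ble 39 n
    · exact ⟨1, one_ne_zero, rfl, by norm_num⟩
    · exact ⟨2, two_ne_zero, rfl, by norm_num⟩
  obtain ⟨s, hs0, hs1, hs2⟩ := hs
  have hu : ∀ p q, semU ℚ U (prog n) (uv p q) = (s ^ 2)⁻¹ •
      ∑ p', ∑ q', (cf (nzT n (pidx p) (pidx p')) (ngT n (pidx p) (pidx p')) *
        cf (nzT n (pidx q) (pidx q')) (ngT n (pidx q) (pidx q'))) • uv p' q' := by
    intro p q
    rw [← semU_uv hn p q, hs2, map_smul, smul_smul, inv_mul_cancel₀ (pow_ne_zero 2 hs0), one_smul]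
  have hA : ∀ p', rt (A n • v) p' = s⁻¹ *
      ∑ p, cf (nzT n (pidx p) (pidx p')) (ngT n (pidx p) (pidx p')) * rt v p := by
    intro p'
    rw [← A_coe hn v p', hs1, ← mul_assoc, inv_mul_cancel₀ hs0, one_mul]
  unfold uf
  simp only [map_sum, map_smul, hu, hA]
  simp only [Finset.smul_sum, smul_smul]
  -- the left side
  have e1 : ∑ p, ∑ q, ∑ p', ∑ q', (rt v p * rt v q / 16 * ((s ^ 2)⁻¹ *
        (cf (nzT n (pidx p) (pidx p')) (ngT n (pidx p) (pidx p')) *
          cf (nzT n (pidx q) (pidx q')) (ngT n (pidx q) (pidx q'))))) • uv p' q' =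
      ∑ p', ∑ q', ∑ p, ∑ q, (rt v p * rt v q / 16 * ((s ^ 2)⁻¹ *
        (cf (nzT n (pidx p) (pidx p')) (ngT n (pidx p) (pidx p')) *
          cf (nzT n (pidx q) (pidx q')) (ngT n (pidx q) (pidx q'))))) • uv p' q' := by
    calc _ = ∑ p, ∑ p', ∑ q, ∑ q', (rt v p * rt v q / 16 * ((s ^ 2)⁻¹ *
        (cf (nzT n (pidx p) (pidx p')) (ngT n (pidx p) (pidx p')) *
          cf (nzT n (pidx q) (pidx q')) (ngT n (pidx q) (pidx q'))))) • uv p' q' :=
          Finset.sum_congr rfl fun p _ => Finset.sum_comm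
      _ = ∑ p', ∑ p, ∑ q, ∑ q', (rt v p * rt v q / 16 * ((s ^ 2)⁻¹ *
        (cf (nzT n (pidx p) (pidx p')) (ngT n (pidx p) (pidx p')) *
          cf (nzT n (pidx q) (pidx q')) (ngT n (pidx q) (pidx q'))))) • uv p' q' := Finset.sum_comm
      _ = ∑ p', ∑ p, ∑ q', ∑ q, (rt v p * rt v q / 16 * ((s ^ 2)⁻¹ *
        (cf (nzT n (pidx p) (pidx p')) (ngT n (pidx p) (pidx p')) *
          cf (nzT n (pidx q) (pidx q')) (ngT n (pidx q) (pidx q'))))) • uv p' q' :=
          Finset.sum_congr rfl fun p' _ => Finset.sum_congr rfl fun p _ => Finset.sum_comm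
      _ = _ := Finset.sum_congr rfl fun p' _ => Finset.sum_comm
  rw [e1]
  refine Finset.sum_congr rfl fun p' _ => Finset.sum_congr rfl fun q' _ => ?_
  simp only [← Finset.sum_smul]
  congr 1
  rw [show ∀ a b : ℚ, s⁻¹ * a * (s⁻¹ * b) / 16 = (s ^ 2)⁻¹ * (a * b) / 16 by
    intro a b; rw [sq, mul_inv]; ring]
  rw [Finset.sum_mul_sum]
  simp only [Finset.mul_sum, Finset.sum_div]
  refine Finset.sum_congr rfl fun p _ => Finset.sum_congr rfl fun q _ => ?_
  ring

/-- The action of the letters on the vectors `u v`. -/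
theorem act_u {n : ℕ} (hn : n < 40) (v : leechLattice) : E n (u v) = u (A n • v) := by
  apply Subtype.ext
  rw [E_coe]
  exact semU_uf hn v

end Cfsg.Agent.MonsterX.USide
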