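import Cfsg.Agent.MonsterX.FrameConc
import Cfsg.Agent.MonsterX.USide
import Cfsg.Agent.MonsterX.ProgM.Inv
import Cfsg.Agent.MonsterX.KSide

/-!
# The hypotheses of `ULink` for the concrete model

Everything except `ξ ^ 2 = 1` and the kernel.
-/

set_option autoImplicit false

namespace Cfsg.Agent.MonsterX.FrameU

open Cfsg Cfsg.Agent.LeechMat.Core
open Cfsg.Agent.MonsterX.Space Cfsg.Agent.MonsterX.Conc Cfsg.Agent.MonsterX.FrameConc
open Cfsg.Agent.MonsterX.FrameStab Cfsg.Agent.MonsterX.FrameLet Cfsg.Agent.MonsterX.KSide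
open Cfsg.Agent.MonsterX.CoGens Cfsg.Agent.MonsterX.MatAct

/-- The sextet element. -/
theorem isXi_xiA : IsXi xiA := by
  intro v p
  have h1 := xiA_coe v p
  have h2 : ∀ q : GolayPt, tetT.getD (Cfsg.Agent.SporadicA.M24Gens.pidx q) 0 = tetL.getD (Cfsg.Agent.LeechMat.Code.pos q) 0 := by
    decide +kernel
  have h3 : ∀ q : GolayPt, (4 ≤ Cfsg.Agent.SporadicA.M24Gens.pidx q ↔ ¬ tetL.getD (Cfsg.Agent.LeechMat.Code.pos q) 0 = 0) := by
    decide +kernel
  simp only [h2] at h1
  have h4 : ((2 * ((xiA • v : leechLattice) : GolayPt → ℤ) p : ℤ) : ℚ) =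
      (((if tetL.getD (Cfsg.Agent.LeechMat.Code.pos p) 0 = 0 then -1 else 1) * (2 * (v : GolayPt → ℤ) p -
      ∑ q : GolayPt, if tetL.getD (Cfsg.Agent.LeechMat.Code.pos q) 0 = tetL.getD (Cfsg.Agent.LeechMat.Code.pos p) 0 then (v : GolayPt → ℤ) q else 0) : ℤ) : ℚ) := by
    have h5 : ((2 * ((xiA • v : leechLattice) : GolayPt → ℤ) p : ℤ) : ℚ) = 2 * rt (xiA • v) p := by
      push_cast
      rfl
    rw [h5, h1]
    push_cast
    by_cases h6 : tetL.getD (Cfsg.Agent.LeechMat.Code.pos p) 0 = 0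
    · rw [if_pos h6, if_neg (fun h7 => (h3 p).1 h7 h6)]
    · rw [if_neg h6, if_pos ((h3 p).2 h6)]
  exact_mod_cast h4

/-- Elements of `Co0` are determined up to sign by the vectors `u v`. -/
theorem pm (A : Co0) (h : ∀ v, USide.u (A • v) = USide.u v) :
    (∀ v : leechLattice, A • v = v) ∨ (∀ v : leechLattice, A • v = -v) := by
  have hpm : ∀ v : leechLattice, A • v = v ∨ A • v = -v := by
    intro v
    have h1 : F (USide.u v) (USide.u (A • v)) = F (USide.u v) (USide.u v) := by rw [h]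
    rw [USide.B_uu, USide.B_uu] at h1
    have h2 : ((dot v (A • v) : ℤ) : ℚ) ^ 2 = ((dot v v : ℤ) : ℚ) ^ 2 := by linarith
    have h3 : (dot v (A • v)) ^ 2 = (dot v v) ^ 2 := by exact_mod_cast h2
    have hd : dot v v = nrm v := (sqNorm_eq_dotInt _).symm
    rcases sq_eq_sq_iff_eq_or_eq_neg.1 h3 with h4 | h4
    · left
      have h5 : nrm (A • v - v) = 0 := by
        show sqNorm _ = 0
        rw [AddSubgroup.coe_sub, sqNorm_sub, co0_sqNorm, dotInt_comm]
        have : dotInt (v : GolayPt → ℤ) ((A • v : leechLattice) : GolayPt → ℤ) = dot v v := h4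
        rw [this, hd]
        ring
      exact sub_eq_zero.1 (Subtype.ext (sqNorm_eq_zero h5))
    · right
      have h5 : nrm (A • v + v) = 0 := by
        show sqNorm _ = 0
        rw [AddSubgroup.coe_add, sqNorm_add, co0_sqNorm, dotInt_comm]
        have : dotInt (v : GolayPt → ℤ) ((A • v : leechLattice) : GolayPt → ℤ) = -dot v v := h4
        rw [this, hd]
        ring
      exact eq_neg_of_add_eq_zero_left (Subtype.ext (sqNorm_eq_zero h5))
  by_contra hcon
  push Not at hcon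
  obtain ⟨⟨v, hv⟩, ⟨w, hw⟩⟩ := hcon
  have hv' : A • v = -v := (hpm v).resolve_left hv
  have hw' : A • w = w := (hpm w).resolve_right hw
  rcases hpm (v + w) with h1 | h1
  · rw [co0_smul_add, hv', hw'] at h1
    exact hv (by rw [hv', add_right_cancel h1])
  · rw [co0_smul_add, hv', hw', neg_add] at h1
    exact hw (by rw [hw']; exact add_left_cancel h1)

theorem acts {n : ℕ} (hn : n < 40) : Acts USide.u (E n) (A n) := fun v => USide.act_u hn v

/-- `ULink` from `ξ ^ 2 = 1` and the kernel. -/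
theorem ulink (hxi : E 39 * E 39 = 1)
    (hker : ∀ k ∈ C, (∀ v, k (USide.u v) = USide.u v) → k ∈ Q) : ULink USide.u where
  q := fun n hn => by
    have h := acts (n := n) (by omega)
    rw [A_lt hn] at h
    exact h
  sign := fun i hi => ⟨sg i, by
    have h := acts (n := 24 + i) (by omega)
    rw [A_sg hi] at h
    exact h, isSign_sg hi⟩
  shift := ⟨pS, acts (n := 36) (by norm_num), isPerm_pS⟩
  cube := ⟨pC, acts (n := 37) (by norm_num), isPerm_pC⟩
  inv := ⟨pI, acts (n := 38) (by norm_num), isPerm_pI⟩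
  xi := ⟨xiA, acts (n := 39) (by norm_num), isXi_xiA⟩
  shift_inv := ProgM.Inv.E_paInv
  cube_inv := ProgM.Inv.E_pdInv
  xi_sq := hxi
  pm := pm
  ker := hker

end Cfsg.Agent.MonsterX.FrameU
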