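import Cfsg.Agent.MonsterX.OrdChk

/-!
Pair checks for the class 2B of the Monster (table of `blueprints/R19/helper47/pairs.txt`).
-/

set_option autoImplicit false
set_option maxRecDepth 100000
set_option Elab.async false

namespace Cfsg.Agent.MonsterX.OrdC1

open Cfsg.Agent.MonsterX.OrdChk

/-- The word of `d 1`. -/
def w : List ℕ := [42, 39, 40]

def t0 : List (ℕ × List ℕ) := [(1, [42]), (1, [42, 1])]

theorem ok0 : allP w t0 = true := by decide +kernel

def t1 : List (ℕ × List ℕ) := [(2, [43]), (2, [43, 1])]

theorem ok1 : allP w t1 = true := by decide +kernel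

def t2 : List (ℕ × List ℕ) := [(1, [38, 43, 43, 36]), (1, [38, 43, 43, 36, 1])]

theorem ok2 : allP w t2 = true := by decide +kernel

def t3 : List (ℕ × List ℕ) := [(2, [42, 39, 38]), (2, [42, 39, 38, 1])]

theorem ok3 : allP w t3 = true := by decide +kernel

/-- The table: lines, and for each line the entries for both signs. -/
def tab : List (List (ℕ × List ℕ)) := [t0, t1, t2, t3]

theorem ok : ∀ t ∈ tab, allP w t = true := by
  intro t ht
  simp only [tab, List.mem_cons, List.not_mem_nil, or_false] at ht
  rcases ht with rfl | rfl | rfl | rfl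
  · exact ok0
  · exact ok1
  · exact ok2
  · exact ok3

end Cfsg.Agent.MonsterX.OrdC1
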