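import Cfsg.Agent.MonsterX.OrdChk

/-!
Pair checks for the class 4B of the Monster (table of `blueprints/R19/helper47/pairs.txt`).
-/

set_option autoImplicit false
set_option maxRecDepth 100000
set_option Elab.async false

namespace Cfsg.Agent.MonsterX.OrdC3

open Cfsg.Agent.MonsterX.OrdChk

/-- The word of `d 3`. -/
def w : List ℕ := [42, 39, 40, 38, 39, 42, 39, 40]

def t0 : List (ℕ × List ℕ) := [(1, []), (2, [1])]

theorem ok0_0 : pairC 1 (cat w []) = true := by decide +kernel

theorem ok0_1 : pairC 2 (cat w [1]) = true := by decide +kernel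

theorem ok0 : allP w t0 = true := by
  show and (pairC 1 (cat w [])) (and (pairC 2 (cat w [1])) true) = true
  rw [ok0_0, ok0_1]
  rfl

def t1 : List (ℕ × List ℕ) := [(2, [37]), (2, [37, 1])]

theorem ok1_0 : pairC 2 (cat w [37]) = true := by decide +kernel

theorem ok1_1 : pairC 2 (cat w [37, 1]) = true := by decide +kernel

theorem ok1 : allP w t1 = true := by
  show and (pairC 2 (cat w [37])) (and (pairC 2 (cat w [37, 1])) true) = true
  rw [ok1_0, ok1_1]
  rfl

def t2 : List (ℕ × List ℕ) := [(2, [43]), (2, [43, 1])]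

theorem ok2_0 : pairC 2 (cat w [43]) = true := by decide +kernel

theorem ok2_1 : pairC 2 (cat w [43, 1]) = true := by decide +kernel

theorem ok2 : allP w t2 = true := by
  show and (pairC 2 (cat w [43])) (and (pairC 2 (cat w [43, 1])) true) = true
  rw [ok2_0, ok2_1]
  rfl

def t3 : List (ℕ × List ℕ) := [(1, [42, 42, 43, 43]), (2, [42, 42, 43, 43, 1])]

theorem ok3_0 : pairC 1 (cat w [42, 42, 43, 43]) = true := by decide +kernel

theorem ok3_1 : pairC 2 (cat w [42, 42, 43, 43, 1]) = true := by decide +kernel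

theorem ok3 : allP w t3 = true := by
  show and (pairC 1 (cat w [42, 42, 43, 43])) (and (pairC 2 (cat w [42, 42, 43, 43, 1])) true) = true
  rw [ok3_0, ok3_1]
  rfl

def t4 : List (ℕ × List ℕ) := [(2, [38]), (2, [38, 1])]

theorem ok4_0 : pairC 2 (cat w [38]) = true := by decide +kernel

theorem ok4_1 : pairC 2 (cat w [38, 1]) = true := by decide +kernel

theorem ok4 : allP w t4 = true := by
  show and (pairC 2 (cat w [38])) (and (pairC 2 (cat w [38, 1])) true) = true
  rw [ok4_0, ok4_1]
  rfl

def t5 : List (ℕ × List ℕ) := [(2, [38, 43]), (2, [38, 43, 1])]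

theorem ok5_0 : pairC 2 (cat w [38, 43]) = true := by decide +kernel

theorem ok5_1 : pairC 2 (cat w [38, 43, 1]) = true := by decide +kernel

theorem ok5 : allP w t5 = true := by
  show and (pairC 2 (cat w [38, 43])) (and (pairC 2 (cat w [38, 43, 1])) true) = true
  rw [ok5_0, ok5_1]
  rfl

def t6 : List (ℕ × List ℕ) := [(4, [42, 39, 38]), (4, [42, 39, 38, 1])]

theorem ok6_0 : pairC 4 (cat w [42, 39, 38]) = true := by decide +kernel

theorem ok6_1 : pairC 4 (cat w [42, 39, 38, 1]) = true := by decide +kernel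

theorem ok6 : allP w t6 = true := by
  show and (pairC 4 (cat w [42, 39, 38])) (and (pairC 4 (cat w [42, 39, 38, 1])) true) = true
  rw [ok6_0, ok6_1]
  rfl

def t7 : List (ℕ × List ℕ) := [(3, [38, 39, 43]), (3, [38, 39, 43, 1])]

theorem ok7_0 : pairC 3 (cat w [38, 39, 43]) = true := by decide +kernel

theorem ok7_1 : pairC 3 (cat w [38, 39, 43, 1]) = true := by decide +kernel

theorem ok7 : allP w t7 = true := by
  show and (pairC 3 (cat w [38, 39, 43])) (and (pairC 3 (cat w [38, 39, 43, 1])) true) = true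
  rw [ok7_0, ok7_1]
  rfl

def t8 : List (ℕ × List ℕ) := [(3, [42, 39, 43]), (3, [42, 39, 43, 1])]

theorem ok8_0 : pairC 3 (cat w [42, 39, 43]) = true := by decide +kernel

theorem ok8_1 : pairC 3 (cat w [42, 39, 43, 1]) = true := by decide +kernel

theorem ok8 : allP w t8 = true := by
  show and (pairC 3 (cat w [42, 39, 43])) (and (pairC 3 (cat w [42, 39, 43, 1])) true) = true
  rw [ok8_0, ok8_1]
  rfl

def t9 : List (ℕ × List ℕ) := [(3, [36, 38, 39, 36]), (3, [36, 38, 39, 36, 1])]

theorem ok9_0 : pairC 3 (cat w [36, 38, 39, 36]) = true := by decide +kernel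

theorem ok9_1 : pairC 3 (cat w [36, 38, 39, 36, 1]) = true := by decide +kernel

theorem ok9 : allP w t9 = true := by
  show and (pairC 3 (cat w [36, 38, 39, 36])) (and (pairC 3 (cat w [36, 38, 39, 36, 1])) true) = true
  rw [ok9_0, ok9_1]
  rfl

/-- The table: lines, and for each line the entries for both signs. -/
def tab : List (List (ℕ × List ℕ)) := [t0, t1, t2, t3, t4, t5, t6, t7, t8, t9]

theorem ok : ∀ t ∈ tab, allP w t = true := by
  intro t ht
  simp only [tab, List.mem_cons, List.not_mem_nil, or_false] at ht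
  rcases ht with rfl | rfl | rfl | rfl | rfl | rfl | rfl | rfl | rfl | rfl
  · exact ok0
  · exact ok1
  · exact ok2
  · exact ok3
  · exact ok4
  · exact ok5
  · exact ok6
  · exact ok7
  · exact ok8
  · exact ok9

end Cfsg.Agent.MonsterX.OrdC3
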