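import Cfsg.Agent.MonsterX.OrdChk
import Cfsg.Agent.MonsterX.ProgM.Inv

/-!
# The inverse letters

`E (iv n) * E n = 1` for all letters, given `ξ² = 1` and `τ⁻¹ τ = 1`.
-/

set_option autoImplicit false
set_option maxRecDepth 100000
set_option Elab.async false

namespace Cfsg.Agent.MonsterX.OrdInv

open Cfsg.Agent.Monster.VecEngine Cfsg.Agent.Monster.VecSpace Cfsg.Agent.MonsterX.Space
open Cfsg.Agent.MonsterX.ProgTable Cfsg.Agent.MonsterX.GensT Cfsg.Agent.MonsterX.ProgBase
open Cfsg.Agent.MonsterX.Conc Cfsg.Agent.MonsterX.OrdChk Cfsg.Agent.MonsterX.ProgM.Base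

/-- The kernel checks `E n * E n = 1` for the letters `a, …, a + k - 1`. -/
noncomputable def sqC (a k : ℕ) : Bool :=
  Nat.rec (motive := fun _ => Bool) true (fun i ih => and (same (prog (Nat.add a i) :: [prog (Nat.add a i)]) []) ih) k

theorem sqC_sound {a k : ℕ} (h : sqC a k = true) : ∀ i < k, E (a + i) * E (a + i) = 1 := by
  induction k with
  | zero => intro i hi; omega
  | succ k ih =>
    have h' : and (same (prog (a + k) :: [prog (a + k)]) []) (sqC a k) = true := h
    rw [Bool.and_eq_true] at h'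
    intro i hi
    rcases Nat.lt_succ_iff_lt_or_eq.1 hi with hi | rfl
    · exact ih h'.2 i hi
    · have e : EP (prog (a + i)) = (W [a + i])⁻¹ := mono_inv (prog_goodT (a + i)) (w := [a + i]) h'.1
      rw [W_single] at e
      have e' : E (a + i) = (E (a + i))⁻¹ := e
      nth_rewrite 1 [e']
      exact inv_mul_cancel _

theorem sq0 : sqC 0 24 = true := by decide +kernel

theorem sq1 : sqC 24 6 = true := by decide +kernel

theorem sq2 : sqC 30 6 = true := by decide +kernel

theorem sq3 : sqC 45 1 = true := by decide +kernel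

/-- The letters `x_c`, `x_δ`, `y_c`, `z` are involutions. -/
theorem E_sq {n : ℕ} (h : n < 36 ∨ n = 45) : E n * E n = 1 := by
  rcases h with h | rfl
  · by_cases h1 : n < 24
    · have := sqC_sound sq0 n h1
      rwa [Nat.zero_add] at this
    · by_cases h2 : n < 30
      · have := sqC_sound sq1 (n - 24) (by omega)
        rwa [Nat.add_sub_cancel' (by omega)] at this
      · have := sqC_sound sq2 (n - 30) (by omega)
        rwa [Nat.add_sub_cancel' (by omega)] at this
  · exact sqC_sound sq3 0 (by norm_num)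

/-- `t₀` is an involution. -/
theorem t₀_sq : InstData.M.t₀ * InstData.M.t₀ = 1 := by
  have e : W [13, 14, 13, 14] = 1 := by
    have h := same_sound (w₁ := [13, 14, 13, 14].map prog) (w₂ := []) (progs_goodT _) (by simp) (by decide +kernel)
    exact h.trans WP_nil
  show W [13, 14] * W [13, 14] = 1
  rw [← W_append]
  exact e

theorem inv_of (hξ : E 39 * E 39 = 1) (hτ : E 41 * E 40 = 1) : Inv := by
  have hτ' : E 40 * E 41 = 1 := by rw [eq_inv_of_mul_eq_one_left hτ, mul_inv_cancel]
  intro n hn
  by_cases h1 : n < 36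
  · have e : iv n = n := by
      have : ∀ m < 36, iv m = m := by decide +kernel
      exact this n h1
    rw [e]
    exact E_sq (Or.inl h1)
  · have e1 : iv 36 = 42 := by decide +kernel
    have e2 : iv 37 = 43 := by decide +kernel
    have e3 : iv 38 = 44 := by decide +kernel
    have e4 : iv 39 = 39 := by decide +kernel
    have e5 : iv 40 = 41 := by decide +kernel
    have e6 : iv 41 = 40 := by decide +kernel
    have e7 : iv 42 = 36 := by decide +kernel
    have e8 : iv 43 = 37 := by decide +kernel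
    have e9 : iv 44 = 38 := by decide +kernel
    have e10 : iv 45 = 45 := by decide +kernel
    have : n = 36 ∨ n = 37 ∨ n = 38 ∨ n = 39 ∨ n = 40 ∨ n = 41 ∨ n = 42 ∨ n = 43 ∨ n = 44 ∨ n = 45 := by omega
    rcases this with rfl | rfl | rfl | rfl | rfl | rfl | rfl | rfl | rfl | rfl
    · rw [e1, ProgM.Inv.E_paInv, inv_mul_cancel]
    · rw [e2, ProgM.Inv.E_pdInv, inv_mul_cancel]
    · rw [e3, ProgM.Inv.E_pgInv, inv_mul_cancel]
    · rw [e4]; exact hξ
    · rw [e5]; exact hτ
    · rw [e6]; exact hτ'
    · rw [e7, ProgM.Inv.E_paInv, mul_inv_cancel]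
    · rw [e8, ProgM.Inv.E_pdInv, mul_inv_cancel]
    · rw [e9, ProgM.Inv.E_pgInv, mul_inv_cancel]
    · rw [e10]; exact E_sq (Or.inr rfl)

end Cfsg.Agent.MonsterX.OrdInv
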