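import Cfsg.Agent.MonsterX.OrdC0
import Cfsg.Agent.MonsterX.OrdC1
import Cfsg.Agent.MonsterX.OrdC2
import Cfsg.Agent.MonsterX.OrdC3
import Cfsg.Agent.MonsterX.OrdC4
import Cfsg.Agent.MonsterX.OrdC5
import Cfsg.Agent.MonsterX.OrdC6
import Cfsg.Agent.MonsterX.OrdC7
import Cfsg.Agent.MonsterX.OrdC8
import Cfsg.Agent.MonsterX.OrdC9
import Cfsg.Agent.MonsterX.OrdC10
import Cfsg.Agent.MonsterX.OrdC11
import Cfsg.Agent.MonsterX.OrdInv
import Cfsg.Agent.MonsterX.MainPack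

/-!
# The orders of the products of two involutions `t_x`: at most `6`

`order_le`: the hypothesis of `MainPack.s0468` for the concrete model, from the table of pairs.
-/

set_option autoImplicit false

namespace Cfsg.Agent.MonsterX.OrdLe

open Cfsg.Agent.MonsterX.Space Cfsg.Agent.MonsterX.Conc Cfsg.Agent.MonsterX.Model Cfsg.Agent.MonsterX.InstData
open Cfsg.Agent.MonsterX.OrdChk

/-- The tables of the twelve classes: lines, and for each line the entries `(k, u)` for both signs. -/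
def tabs : List (List (List (ℕ × List ℕ))) :=
  [OrdC0.tab, OrdC1.tab, OrdC2.tab, OrdC3.tab, OrdC4.tab, OrdC5.tab, OrdC6.tab, OrdC7.tab, OrdC8.tab, OrdC9.tab, OrdC10.tab, OrdC11.tab]

/-- The words of the representatives in the check modules. -/
def ws : List (List ℕ) := [OrdC0.w, OrdC1.w, OrdC2.w, OrdC3.w, OrdC4.w, OrdC5.w, OrdC6.w, OrdC7.w, OrdC8.w, OrdC9.w, OrdC10.w, OrdC11.w]

theorem bj_eq : ∀ j < 12, bj j = ws.getD j [] := by decide +kernel

theorem tabs_ok : ∀ j < 12, ∀ t ∈ tabs.getD j [], allP (ws.getD j []) t = true := by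
  intro j hj
  interval_cases j
  · exact OrdC0.ok
  · exact OrdC1.ok
  · exact OrdC2.ok
  · exact OrdC3.ok
  · exact OrdC4.ok
  · exact OrdC5.ok
  · exact OrdC6.ok
  · exact OrdC7.ok
  · exact OrdC8.ok
  · exact OrdC9.ok
  · exact OrdC10.ok
  · exact OrdC11.ok

/-- The entry `(j, u)` is in the table. -/
def InTab (j : ℕ) (u : List ℕ) : Prop := ∃ t ∈ tabs.getD j [], ∃ p ∈ t, p.2 = u

theorem pair_ok {j : ℕ} (hj : j < 12) {u : List ℕ} (h : InTab j u) : ∃ k, pairC k (bj j ++ u) = true := by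
  obtain ⟨t, ht, p, hp, rfl⟩ := h
  refine ⟨p.1, ?_⟩
  rw [bj_eq j hj]
  exact allP_spec (tabs_ok j hj t ht) p hp

theorem lt_bj : ∀ j < 12, ∀ n ∈ bj j, n < 46 := by decide +kernel

theorem lt_tab : ∀ j < 12, ∀ t ∈ tabs.getD j [], ∀ p ∈ t, ∀ n ∈ p.2, n < 46 := by decide +kernel

theorem E_mem_G' (hI : Inv) {n : ℕ} (h : n < 46) : E n ∈ G := by
  by_cases h1 : n < 41
  · exact E_mem_G h1
  · by_cases h2 : n = 41
    · subst h2
      have e : iv 40 = 41 := by decide +kernel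
      have h3 := hI 40 (by norm_num)
      rw [e] at h3
      rw [eq_inv_of_mul_eq_one_left h3]
      exact G.inv_mem (E_mem_G (by norm_num))
    · exact C_le_G (N_le_C (ProgM.Inv.E_mem_N' (Or.inr ⟨by omega, h⟩)))

theorem W_mem_G (hI : Inv) {w : List ℕ} (h : Lt w) : W w ∈ G := W_mem fun n hn => E_mem_G' hI (h n hn)

/-- The pairs of the table. -/
theorem pair_pow (hI : Inv) (hst : ∀ g ∈ M.G, g M.a₀ = M.a₀ → g * M.t₀ = M.t₀ * g) {j : ℕ} (hj : j < 12)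
    {u : List ℕ} (h : InTab j u) : ∃ n : ℕ, 0 < n ∧ n ≤ 6 ∧
      (M.t₀ * ((W u * W (bj j)) * M.t₀ * (W u * W (bj j))⁻¹)) ^ n = 1 := by
  obtain ⟨k, hk⟩ := pair_ok hj h
  obtain ⟨t, ht, p, hp, rfl⟩ := h
  have hl : Lt (bj j ++ p.2) := by
    intro n hn
    rcases List.mem_append.1 hn with hn | hn
    · exact lt_bj j hj n hn
    · exact lt_tab j hj t ht p hp n hn
  have htG : M.t₀ ∈ M.G := W_mem_G hI (w := [13, 14]) (by intro n hn; simp at hn; omega)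
  have h1 := pairC_sound hI OrdInv.t₀_sq hst htG hl (W_mem_G hI hl) hk
  refine ⟨bnd k, bnd_pos k, bnd_le k, ?_⟩
  rw [← W_append]
  exact h1

/-- **The bound for the orders**, from a `PairTab` whose words are in the table. -/
theorem order_le_of_tab (hI : Inv) (hst : ∀ g ∈ M.G, g M.a₀ = M.a₀ → g * M.t₀ = M.t₀ * g)
    (T : CertPairs.PairTab M) (uw : ∀ j : Fin 12, T.I j → List ℕ) (hu : ∀ j i, T.u j i = W (uw j i))
    (hT : ∀ j i, InTab j.1 (uw j i)) :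
    ∀ j, ∃ g ∈ M.G, g M.a₀ = M.d j ∧ ∀ k ∈ M.C, ∃ n : ℕ, 0 < n ∧ n ≤ 6 ∧
      ((k * M.t₀ * k⁻¹) * (g * M.t₀ * g⁻¹)) ^ n = 1 := by
  refine CertPairs.PairTab.order_le T C_isom hst (fun j : Fin 12 => W (bj j.1)) ?_ ?_ ?_
  · intro j
    exact W_mem_G hI fun n hn => lt_bj _ (show Fin 12 from j).2 n hn
  · intro j
    exact (M_d' j).symm
  · intro j i
    rw [hu]
    exact pair_pow hI hst (show Fin 12 from j).2 (hT j i)

/-- The hypothesis of `MainPack.s0468`. -/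
theorem order_le {K₀ : Type} [Group K₀] (hG : MGroup M K₀) (hR : MRep M) (hL : MLat M) (hO : MOrbit M)
    (hT : MTrans M) (hI : Inv) (T : CertPairs.PairTab M) (uw : ∀ j : Fin 12, T.I j → List ℕ)
    (hu : ∀ j i, T.u j i = W (uw j i)) (hTab : ∀ j i, InTab j.1 (uw j i)) :
    ∀ j, ∃ g ∈ M.G, g M.a₀ = M.d j ∧ ∀ k ∈ M.C, ∃ n : ℕ, 0 < n ∧ n ≤ 6 ∧
      ((k * M.t₀ * k⁻¹) * (g * M.t₀ * g⁻¹)) ^ n = 1 :=
  order_le_of_tab hI (fun _ hg h => (MainTrans.comm_iff hG hR hL hO hT hg).2 h) T uw hu hTab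

end Cfsg.Agent.MonsterX.OrdLe
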