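import Cfsg.Agent.MonsterX.KDone
import Cfsg.Agent.MonsterX.FrameU
import Cfsg.Agent.MonsterX.CertLine
import Cfsg.Agent.MonsterX.FieldsPW
import Cfsg.Agent.MonsterX.FieldsO
import Cfsg.Agent.MonsterX.FieldsT1
import Cfsg.Agent.MonsterX.FieldsT4
import Cfsg.Agent.MonsterX.BabyInst
import Cfsg.Agent.MonsterX.OrdLe

/-!
# The instance of the Monster model

The structures of `Model` for the concrete data `InstData.M`: `mGroup`, `mRep`, `mLat`, `mTrans`, `mBaby` without
hypotheses; `mOrbit` from the six fields `closed`, `disjoint`, `X_span`, `card_X`, `card_pairs`, `stab`.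
-/

set_option autoImplicit false
set_option maxRecDepth 100000
set_option Elab.async false

namespace Cfsg.Agent.MonsterX.Instance

open Cfsg Cfsg.Agent.Monster.VecEngine Cfsg.Agent.Monster.VecSpace
open Cfsg.Agent.Monster.PauliBasic Cfsg.Agent.Monster.PauliClif
open Cfsg.Agent.MonsterX.Space Cfsg.Agent.MonsterX.Conc Cfsg.Agent.MonsterX.Model Cfsg.Agent.MonsterX.InstData
open Cfsg.Agent.MonsterX.FrameAct Cfsg.Agent.MonsterX.Lin24 Cfsg.Agent.MonsterX.CertUTab Cfsg.Agent.MonsterX.PairZero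

theorem mGroup : MGroup M Spor.Co1 := KDone.mGroup

theorem mRep : MRep M := KDone.mRep

theorem mLat : MLat M := KDone.mLat

/-! ### The pair table -/

/-- The link of `C` with the Leech lattice. -/
theorem ulink : FrameConc.ULink USide.u := FrameU.ulink TauRel.ξ_sq KDone.ker_C

theorem code_pauli : lin Mc (pn (ab (KRowsInst.g 14 * KRowsInst.g 13))) = 6 := by decide +kernel

/-- The code of the line of the base axis. -/
theorem code_x₀ : codeL (KDone.K.lam KLinkInst.x₀) = 6 := by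
  have h : Psi.psi (Short.lam KLinkInst.x₀) = ab KLinkInst.x₀ := Short.psi_lam _ KLinkInst.x₀_mem
  show lin Mc (pn (Psi.psi (Short.lam KLinkInst.x₀))) = 6
  rw [h, ← KRowsInst.base_eq]
  exact code_pauli

theorem lineStab : CertCovD.LineStab ulink := CertLine.lineStab ulink KDone.lnk rfl code_x₀

/-- The pair table. -/
noncomputable def tab : CertPairs.PairTab M := CertCovD.pairTab ulink lineStab

/-- The words of the pair table. -/
noncomputable def words : FieldsP.Words tab := FieldsPW.words ulink lineStab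

/-- Field `trans` of `MOrbit`. -/
theorem trans : ∀ j, ∃ g ∈ M.G, g (M.d j) = M.a₀ := FieldsP.trans

/-- Field `trans₂` of `MOrbit`. -/
theorem trans₂ : ∀ j, ∀ b ∈ M.S, M.F b (M.d j) = 0 → ∃ g ∈ M.G, g b = M.a₀ ∧ g (M.d j) = M.a₁ :=
  FieldsP.trans₂ words

theorem σ_a₀ : M.σ M.a₀ = M.a₁ := by
  show M.σ (M.u₀ + M.e₀) = M.u₀ - M.e₀
  rw [map_add, mRep.σ_u₀, mRep.σ_e₀, sub_eq_add_neg]

/-- Field `T_sub` of `MOrbit`. -/
theorem T_sub : ∀ j, j ≠ M.j₀ → ∀ s ∈ M.S, M.F s (M.d j) = 1 → M.F (M.σ s) (M.d j) ≠ 1 :=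
  FieldsP.T_sub words mRep.σ_comm σ_a₀

/-- The values of the inner products. -/
theorem val : ∀ j, ∀ b ∈ M.S, b = M.d j ∨ M.F b (M.d j) ≤ 1 := FieldsP.val words

/-! ### `MTrans` -/

/-- **`MTrans`** for the concrete data. -/
theorem mTrans : MTrans M where
  t_d := FieldsP.t_d words mRep.t₀_comm
  exists_moved := FieldsT1.exists_moved
  z_d := FieldsT1.z_d
  moves := FieldsT4.moves
  not_conj := RelAll.not_conj

/-! ### `MBaby` -/

/-- **`MBaby`** for the concrete data. -/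
theorem mBaby : MainPack.MBaby M := BabyInst.mBaby KDone.lnk KDone.lft FieldsO.τ_a₀ (FieldsO.τ_q' mGroup.Q_comm)

/-! ### `MOrbit` -/

/-- **`MOrbit`** from the certificates of the orbits and the stabiliser of the axes in `Q`. -/
theorem mOrbit
    (closed : ∀ j, ∀ g ∈ M.C, ∃ k, ∃ h ∈ M.C, M.τ (g (M.d j)) = h (M.d k))
    (disjoint : ∀ j k, ∀ g ∈ M.C, g (M.d j) = M.d k → j = k)
    (X_span : Submodule.span ℚ M.X = ⊤)
    (card_X : M.X.ncard = 97239461142009186000)
    (card_pairs : {p : V × V | p.1 ∈ M.S ∧ p.2 ∈ M.X ∧ M.F p.1 p.2 = 0}.ncard = 11707448673375 * 196560)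
    (stab : ∀ g ∈ M.G, (∀ s ∈ M.S, g s ∈ M.S ∧ g (M.σ s) = M.σ (g s)) → g ∈ M.C) : MOrbit M where
  finite := finite_J
  d_j₀ := d_j₀
  τ_isom := M_τ_isom
  τ_z := FieldsO.τ_z_mem
  τ_z_ne := FieldsO.τ_z_ne
  τ_q := FieldsO.τ_q mGroup.Q_comm
  closed := closed
  disjoint := disjoint
  X_span := X_span
  trans := trans
  trans₂ := trans₂
  T_sub := T_sub
  card_X := card_X
  card_pairs := card_pairs
  stab := stab

/-! ### The orders of the products -/

theorem inv : OrdChk.Inv := OrdInv.inv_of TauRel.ξ_sq TauRel.inv_mul_τ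

theorem tab_in : ∀ j < 12, ∀ m < nr j, ∀ b : Bool,
    ((OrdLe.tabs.getD j []).any fun t => t.any fun p => p.2 == wd j m b) = true := by decide +kernel

theorem inTab {j m : ℕ} (hj : j < 12) (hm : m < nr j) (b : Bool) : OrdLe.InTab j (wd j m b) := by
  have h := tab_in j hj m hm b
  rw [List.any_eq_true] at h
  obtain ⟨t, ht, h⟩ := h
  rw [List.any_eq_true] at h
  obtain ⟨p, hp, h⟩ := h
  exact ⟨t, ht, p, hp, eq_of_beq h⟩

/-- Field `order_le` of `MExtra`. -/
theorem order_le (hO : MOrbit M) : ∀ j, ∃ g ∈ M.G, g M.a₀ = M.d j ∧ ∀ k ∈ M.C, ∃ n : ℕ, 0 < n ∧ n ≤ 6 ∧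
    ((k * M.t₀ * k⁻¹) * (g * M.t₀ * g⁻¹)) ^ n = 1 := by
  refine OrdLe.order_le mGroup mRep mLat hO mTrans inv tab
    (fun (j : Fin 12) i => wd j.1 (words.m j i) (words.b j i)) ?_ ?_
  · intro j i
    change Fin 12 at j
    exact words.eq j i
  · intro j i
    change Fin 12 at j
    exact inTab j.2 (words.lt j i) _

/-- **`MExtra`** for the concrete data. -/
theorem mExtra (hO : MOrbit M) : MExtra M where
  fixed := FieldsO.fixed
  order_le := order_le hO

end Cfsg.Agent.MonsterX.Instance
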