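import Cfsg.Agent.MonsterX.BaseVec
import Cfsg.Agent.MonsterX.Instance

/-!
# The lines of the base vector, and the pack of `BaseVec`

`lines : BaseVec.Lines`, `pack (hO : MOrbit M) : BaseVec.Pack Spor.Co1`.
-/

set_option autoImplicit false
set_option maxRecDepth 100000
set_option Elab.async false

namespace Cfsg.Agent.MonsterX.LinesInst

open Cfsg Cfsg.Agent.Monster.VecEngine Cfsg.Agent.Monster.VecSpace
open Cfsg.Agent.Monster.PauliBasic Cfsg.Agent.Monster.PauliClif Cfsg.Agent.Monster.PauliPlanes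
open Cfsg.Agent.MonsterX.Space Cfsg.Agent.MonsterX.Conc Cfsg.Agent.MonsterX.Model Cfsg.Agent.MonsterX.InstData
open Cfsg.Agent.MonsterX.LabPl Cfsg.Agent.MonsterX.KX Cfsg.Agent.MonsterX.KRows Cfsg.Agent.MonsterX.KAsm
open Cfsg.Agent.MonsterX.KSide Cfsg.Agent.MonsterX.KLift Cfsg.Agent.MonsterX.ProgBase

/-- The element of the Pauli group of a word in the letters of `Q`. -/
def gw : List ℕ → Pauli 12
  | [] => 1
  | n :: w => gw w * KRowsInst.g n

theorem pair_W {w : List ℕ} (h : ∀ n ∈ w, n < 24) : Pair (W w) (gw w) := by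
  induction w with
  | nil => rw [W_nil]; exact Pair.one
  | cons n w ih =>
    rw [W_cons]
    exact (ih fun m hm => h m (List.mem_cons_of_mem _ hm)).mul (KAsm.pair_g KDone.R (h n List.mem_cons_self))

theorem lab_bits : ∀ p ∈ BaseVec.L, ∀ k < 25, Cfsg.Agent.Monster.PauliBits.bit (Cfsg.Agent.Monster.PauliPlanes.get lab k) p.1 =
    (if k < 12 then (gw p.2).b (Fin.ofNat 12 k) else if k < 24 then (gw p.2).a (Fin.ofNat 12 (k - 12))
      else (gw p.2).s) := by decide +kernel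

theorem L_ok : ∀ p ∈ BaseVec.L, SL.testBit p.1 = true ∧ ∀ n ∈ p.2, n < 24 := by decide +kernel

/-- The label of the lane is the element of the word. -/
theorem lab_eq {p : ℕ × List ℕ} (hp : p ∈ BaseVec.L) : labP 12 lab p.1 = gw p.2 := by
  have hb := lab_bits p hp
  apply Pauli.ext
  · have h := hb 24 (by norm_num)
    rw [if_neg (by norm_num), if_neg (by norm_num)] at h
    exact h
  · funext k
    have h := hb (12 + k) (by have := k.2; omega)
    rw [if_neg (by omega), if_pos (by have := k.2; omega)] at h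
    have e : Fin.ofNat 12 (12 + (k : ℕ) - 12) = k := by
      apply Fin.ext
      show (12 + (k : ℕ) - 12) % 12 = k
      have := k.2
      omega
    rw [e] at h
    exact h
  · funext k
    have h := hb k (by have := k.2; omega)
    rw [if_pos k.2] at h
    have e : Fin.ofNat 12 (k : ℕ) = k := by
      apply Fin.ext
      show (k : ℕ) % 12 = k
      have := k.2
      omega
    rw [e] at h
    exact h

theorem oneP_eq {p : ℕ × List ℕ} (hp : p ∈ BaseVec.L) : vecV (BaseVec.oneP p.1) = Xv (labP 12 lab p.1) := by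
  have hS := (L_ok p hp).1
  apply Subtype.ext
  have h : (Xv (labP 12 lab p.1)).1 = e1 ⟨p.1, U_of_SL hS⟩ := Xv_lab KInst.labFacts ⟨p.1, U_of_SL hS⟩ hS
  have h2 : vecV (BaseVec.oneP p.1) = vecV (BaseVec.oneP p.1) := rfl
  show (vecV (BaseVec.oneP p.1) : Lane U → ℚ) = (Xv (labP 12 lab p.1)).1
  rw [h]
  funext i
  rw [BaseVec.one_apply (BaseVec.allL_spec BaseVec.sym_L p hp) i]
  unfold e1
  by_cases hi : i.1 = p.1
  · have hi' : i = ⟨p.1, U_of_SL hS⟩ := Subtype.ext hi
    rw [if_pos hi, if_pos hi']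
  · have hi' : ¬ i = ⟨p.1, U_of_SL hS⟩ := fun h => hi (congrArg Subtype.val h)
    rw [if_neg hi, if_neg hi']

/-- **The lines.** -/
theorem lines : BaseVec.Lines := by
  intro p hp
  have hy : gw p.2 ∈ KDone.K.Sh := by
    rw [← lab_eq hp]
    exact KInst.labFacts.sh _ (L_ok p hp).1
  obtain ⟨k, hk, A, α, T, hA, hα⟩ := trans_Sh KDone.lft KLinkInst.x₀ (gw p.2) KDone.lnk.x₀_mem hy
  refine ⟨k, (KDone.lnk.C_iff k).1 hk, ?_, ?_⟩
  · have h1 : k • KDone.K.X KLinkInst.x₀ = KDone.K.X (gw p.2) := by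
      rw [hA.act_X _ KDone.lnk.x₀_mem, hα]
    have h2 : InstData.e₀ = (2 : ℚ) • KDone.K.X KLinkInst.x₀ := KDone.lnk.e₀_eq
    rw [h2, map_smul]
    congr 1
    rw [oneP_eq hp, lab_eq hp]
    exact h1.symm
  · have h1 := congrArg Subtype.val (conj_ι hA KLinkInst.x₀)
    have h2 : (k : V ≃ₗ[ℚ] V) * (KDone.K.ι KLinkInst.x₀ : V ≃ₗ[ℚ] V) = (KDone.K.ι (gw p.2) : V ≃ₗ[ℚ] V) * k := by
      rw [← hα]
      exact h1
    have h3 : InstData.t₀ = (KDone.K.ι KLinkInst.x₀ : V ≃ₗ[ℚ] V) := KDone.lnk.t₀_eq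
    have h4 : (KDone.K.ι (gw p.2) : V ≃ₗ[ℚ] V) = W p.2 := KAsm.iotaE_eq KDone.R KInst.labFacts (pair_W (L_ok p hp).2)
    rw [h3, h2, mul_inv_cancel_right, h4]

/-- The pack of `BaseVec`. -/
theorem pack (hO : MOrbit M) : BaseVec.Pack Spor.Co1 where
  hG := Instance.mGroup
  hR := Instance.mRep
  hL := Instance.mLat
  hO := hO
  lines := lines
  val := Instance.val
  tau := TauRel.inv_mul_τ

end Cfsg.Agent.MonsterX.LinesInst
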