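import Cfsg.Agent.MonsterX.LaneCountChk
import Cfsg.Agent.MonsterX.KDone

/-!
# The number of elements of the base orbit orthogonal to the representatives `d j`

`n0`: `#{s ∈ S : (s, d j) = 0} = 93151, 4440, 506, 63, 16, 1, 3, 0, 0, 1, 0, 0` (classes
`2A 2B 4A 4B 4C 6A 6C 6F 8B 10A 10B 12C`).
-/

set_option autoImplicit false

namespace Cfsg.Agent.MonsterX.LaneCount

open Cfsg Cfsg.Agent.Monster Cfsg.Agent.Monster.VecEngine Cfsg.Agent.Monster.VecSpace
open Cfsg.Agent.MonsterX.Space Cfsg.Agent.MonsterX.LaneQuad Cfsg.Agent.MonsterX.InstData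
open Cfsg.Agent.MonsterX.Conc Cfsg.Agent.MonsterX.LaneCountChk
open Cfsg.Agent.MonsterX.USide (u)

theorem XHyp_Xv : XHyp KRows.Xv := fun _ _ => rfl

theorem SHyp_S : SHyp KRows.Xv M.S := (KDone.lnk.S_eq KDone.lft)

/-- The table. -/
def tab : Fin 12 → ℕ := ![93151, 4440, 506, 63, 16, 1, 3, 0, 0, 1, 0, 0]

theorem nc {n j n₀ n₁ : ℕ} (h : cntW n (bj j) a0B n₀ n₁ = true) (h0 : n₀ < 2 ^ 18) (h1 : n₁ < 2 ^ 18) :
    {s | s ∈ M.S ∧ M.F s (W (bj j) (vecV a0B)) = 0}.ncard = n₀ + n₁ :=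
  ncard_zero XHyp_Xv SHyp_S sym_a0B h0 h1 h

/-- **The number of elements of the base orbit orthogonal to `d j`.** -/
theorem n0 (j : Fin 12) : {s | s ∈ M.S ∧ M.F s (M.d j) = 0}.ncard = tab j := by
  rw [M_d]
  fin_cases j
  · exact nc c0 (by norm_num) (by norm_num)
  · exact nc c1 (by norm_num) (by norm_num)
  · exact nc c2 (by norm_num) (by norm_num)
  · exact nc c3 (by norm_num) (by norm_num)
  · exact nc c4 (by norm_num) (by norm_num)
  · exact nc c5 (by norm_num) (by norm_num)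
  · exact nc c6 (by norm_num) (by norm_num)
  · exact nc c7 (by norm_num) (by norm_num)
  · exact nc c8 (by norm_num) (by norm_num)
  · exact nc c9 (by norm_num) (by norm_num)
  · exact nc c10 (by norm_num) (by norm_num)
  · exact nc c11 (by norm_num) (by norm_num)

end Cfsg.Agent.MonsterX.LaneCount
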