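import Cfsg.Agent.MonsterX.Model
import Cfsg.Agent.Monster.AbstractRigid

/-!
# The abstract theorem for the Monster, part 1

`G = ⟨C, τ⟩` permutes the finite set `X` of axes, is finite, and the stabiliser of the pair `(a₀, a₁)` is in `C`.
-/

set_option autoImplicit false

namespace Cfsg.Agent.MonsterX.MainBasic

open Cfsg.Agent.MonsterX.Model

variable {W : Type} [AddCommGroup W] [Module ℚ W] {M : MData W}

theorem C_le : M.C ≤ M.G := fun _ hx => Subgroup.subset_closure (Or.inl hx)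

theorem τ_mem : M.τ ∈ M.G := Subgroup.subset_closure (Or.inr rfl)

theorem a₀_mem_S : M.a₀ ∈ M.S := ⟨1, M.C.one_mem, rfl⟩

theorem C_S {g : W ≃ₗ[ℚ] W} (hg : g ∈ M.C) {x : W} (hx : x ∈ M.S) : g x ∈ M.S := by
  obtain ⟨h, hh, rfl⟩ := hx
  exact ⟨g * h, M.C.mul_mem hg hh, rfl⟩

theorem C_X {g : W ≃ₗ[ℚ] W} (hg : g ∈ M.C) {x : W} (hx : x ∈ M.X) : g x ∈ M.X := by
  obtain ⟨j, h, hh, rfl⟩ := hx
  exact ⟨j, g * h, M.C.mul_mem hg hh, rfl⟩

theorem inv_apply' (g : W ≃ₗ[ℚ] W) (x : W) : g⁻¹ (g x) = x := g.symm_apply_apply x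

theorem apply_inv' (g : W ≃ₗ[ℚ] W) (x : W) : g (g⁻¹ x) = x := g.apply_symm_apply x

theorem eq_inv_apply (g : W ≃ₗ[ℚ] W) {x y : W} (h : g x = y) : x = g⁻¹ y := by
  rw [← h, inv_apply']

section Orbit

variable (hO : MOrbit M)

include hO

theorem S_sub_X {x : W} (hx : x ∈ M.S) : x ∈ M.X := by
  obtain ⟨h, hh, rfl⟩ := hx
  exact ⟨M.j₀, h, hh, by rw [hO.d_j₀]; rfl⟩

theorem X_finite : M.X.Finite :=
  Set.finite_of_ncard_ne_zero (by rw [hO.card_X]; norm_num)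

theorem τ_X {x : W} (hx : x ∈ M.X) : M.τ x ∈ M.X := by
  obtain ⟨j, h, hh, rfl⟩ := hx
  obtain ⟨k, h', hh', e⟩ := hO.closed j h hh
  exact ⟨k, h', hh', e⟩

theorem G_X {g : W ≃ₗ[ℚ] W} (hg : g ∈ M.G) {x : W} (hx : x ∈ M.X) : g x ∈ M.X := by
  have hcl : Subgroup.closure ((Subtype.val : M.G → (W ≃ₗ[ℚ] W)) ⁻¹'
      ((M.C : Set (W ≃ₗ[ℚ] W)) ∪ {M.τ})) = ⊤ := Subgroup.closure_closure_coe_preimage
  have key := Monster.Abstract.invariant_of_gens (G := M.G) (V := W) _ hcl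
    M.X (X_finite hO) (by
      rintro ⟨s, hs⟩ hs' x hx
      rcases hs' with h | h
      · exact C_X h hx
      · have : s = M.τ := h
        subst this
        exact τ_X hO hx)
  exact key ⟨g, hg⟩ x hx

theorem G_isom (hR : MRep M) {g : W ≃ₗ[ℚ] W} (hg : g ∈ M.G) (x y : W) :
    M.F (g x) (g y) = M.F x y := by
  induction hg using Subgroup.closure_induction generalizing x y with
  | mem g hg =>
    rcases hg with h | h
    · exact hR.C_isom g h x y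
    · have : g = M.τ := h
      subst this
      exact hO.τ_isom x y
  | one => rfl
  | mul a b ha hb iha ihb =>
    rw [LinearEquiv.mul_apply, LinearEquiv.mul_apply, iha, ihb]
  | inv a ha iha =>
    have := iha (a⁻¹ x) (a⁻¹ y)
    rw [apply_inv', apply_inv'] at this
    exact this.symm

theorem eq_one_of_fix {g : W ≃ₗ[ℚ] W} (h : ∀ x ∈ M.X, g x = x) : g = 1 := by
  have : (g : W →ₗ[ℚ] W) = LinearMap.id := LinearMap.ext_on hO.X_span (fun x hx => h x hx)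
  ext x
  exact congrArg (fun f : W →ₗ[ℚ] W => f x) this

theorem G_finite : Finite M.G := by
  have := (X_finite hO).to_subtype
  let f : M.G → (M.X → M.X) := fun g x => ⟨(g : W ≃ₗ[ℚ] W) x, G_X hO g.2 x.2⟩
  refine Finite.of_injective f ?_
  intro g h e
  have h1 : (h : W ≃ₗ[ℚ] W)⁻¹ * (g : W ≃ₗ[ℚ] W) = 1 := by
    refine eq_one_of_fix hO fun x hx => ?_
    have h2 : (g : W ≃ₗ[ℚ] W) x = (h : W ≃ₗ[ℚ] W) x := congrArg Subtype.val (congrFun e ⟨x, hx⟩)
    rw [LinearEquiv.mul_apply, h2, inv_apply']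
  exact Subtype.ext (inv_mul_eq_one.1 h1).symm

theorem X_eq_orbit {x : W} (hx : x ∈ M.X) : ∃ g ∈ M.G, g M.a₀ = x := by
  obtain ⟨j, h, hh, rfl⟩ := hx
  obtain ⟨g, hg, e⟩ := hO.trans j
  refine ⟨h * g⁻¹, M.G.mul_mem (C_le hh) (M.G.inv_mem hg), ?_⟩
  rw [LinearEquiv.mul_apply, ← e, inv_apply']

end Orbit

section Rep

variable (hR : MRep M)

include hR

theorem σ_a₀ : M.σ M.a₀ = M.a₁ := by
  unfold MData.a₀ MData.a₁
  rw [map_add, hR.σ_u₀, hR.σ_e₀, sub_eq_add_neg]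

theorem σ_a₁ : M.σ M.a₁ = M.a₀ := by
  unfold MData.a₀ MData.a₁
  rw [map_sub, hR.σ_u₀, hR.σ_e₀, sub_neg_eq_add]

theorem σ_σ {s : W} (hs : s ∈ M.S) : M.σ (M.σ s) = s := by
  obtain ⟨g, hg, rfl⟩ := hs
  rw [hR.σ_comm g hg, hR.σ_comm g hg, σ_a₀ hR, σ_a₁ hR]

theorem z_a₀ : M.z M.a₀ = M.a₀ := by
  unfold MData.a₀
  rw [map_add, hR.z_u₀, hR.z_e₀]

theorem C_a₁ {g : W ≃ₗ[ℚ] W} (hg : g ∈ M.C) (h : g M.a₀ = M.a₀) : g M.a₁ = M.a₁ := by
  rw [← σ_a₀ hR, ← hR.σ_comm g hg, h]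

end Rep

section Group

variable {K₀ : Type} [Group K₀] (hG : MGroup M K₀)

include hG

theorem Q_normal : ∀ g ∈ M.C, ∀ q ∈ M.Q, g * q * g⁻¹ ∈ M.Q := by
  intro g hg q hq
  obtain ⟨π, _, hπ⟩ := hG.quot
  have h := hπ (⟨g, hg⟩ * ⟨q, hG.Q_le hq⟩ * ⟨g, hg⟩⁻¹)
  have h1 : π ⟨q, hG.Q_le hq⟩ = 1 := (hπ _).2 hq
  exact h.1 (by rw [map_mul, map_mul, map_inv, h1, mul_one, mul_inv_cancel])

theorem z_mem_C : M.z ∈ M.C := hG.Q_le hG.z_mem

theorem card_C : Nat.card M.C = 2 ^ 25 * 4157776806543360000 := by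
  obtain ⟨π, hs, hπ⟩ := hG.quot
  have e1 : Nat.card M.C = Nat.card (M.C ⧸ π.ker) * Nat.card π.ker :=
    Subgroup.card_eq_card_quotient_mul_card_subgroup π.ker
  have e2 : Nat.card (M.C ⧸ π.ker) = Nat.card K₀ :=
    Nat.card_congr (QuotientGroup.quotientKerEquivOfSurjective π hs).toEquiv
  have e3 : Nat.card π.ker = Nat.card M.Q := by
    refine Nat.card_congr ⟨fun x => ⟨x.1.1, (hπ _).1 x.2⟩,
      fun q => ⟨⟨q.1, hG.Q_le q.2⟩, (hπ _).2 q.2⟩, fun x => rfl, fun q => rfl⟩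
  rw [e1, e2, e3, hG.card, hG.Q_card, mul_comm]

/-- an element of `Q` moving `a₀` to `a₁` and `t₀` to `z t₀` -/
theorem exists_y (hR : MRep M) : ∃ y ∈ M.Q, y M.a₀ = M.a₁ ∧ y * M.t₀ * y⁻¹ = M.z * M.t₀ := by
  by_contra hcon
  push Not at hcon
  rcases hG.Q_center M.t₀ hR.t₀_mem (by
    intro y hy
    by_contra hne
    have h1 : y * M.t₀ ≠ M.t₀ * y := fun h => hne h.symm
    refine hcon y hy ?_ ?_
    · unfold MData.a₀ MData.a₁
      rw [map_add, hR.Q_u₀ y hy, hR.Q_e₀ y hy h1, sub_eq_add_neg]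
    · rcases hG.Q_comm y hy M.t₀ hR.t₀_mem with h | h
      · exact absurd h h1
      · rw [h, hG.z_comm _ (M.C.mul_mem (hG.Q_le hR.t₀_mem) (hG.Q_le hy)), ← mul_assoc,
          mul_inv_cancel_right]) with h | h
  · exact hR.t₀_ne h
  · exact hR.t₀_ne_z h

theorem a₁_mem_S (hR : MRep M) : M.a₁ ∈ M.S := by
  obtain ⟨y, hy, h1, _⟩ := exists_y hG hR
  exact ⟨y, hG.Q_le hy, h1.symm⟩

theorem σ_S (hR : MRep M) {s : W} (hs : s ∈ M.S) : M.σ s ∈ M.S := by
  obtain ⟨g, hg, rfl⟩ := hs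
  rw [hR.σ_comm g hg, σ_a₀ hR]
  exact C_S hg (a₁_mem_S hG hR)

theorem z_S (hR : MRep M) {s : W} (hs : s ∈ M.S) : M.z s = s := by
  obtain ⟨g, hg, rfl⟩ := hs
  have := congrArg (fun f : W ≃ₗ[ℚ] W => f M.a₀) (hG.z_comm g hg)
  simp only [LinearEquiv.mul_apply] at this
  rw [← this, z_a₀ hR]

end Group

/-- the stabiliser of the pair `(a₀, a₁)` is contained in `C` -/
theorem pair_stab {K₀ : Type} [Group K₀] (hG : MGroup M K₀) (hR : MRep M) (hL : MLat M)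
    (hO : MOrbit M) {g : W ≃ₗ[ℚ] W} (hg : g ∈ M.G) (h0 : g M.a₀ = M.a₀) (h1 : g M.a₁ = M.a₁) :
    g ∈ M.C := by
  refine hO.stab g hg ?_
  have hFσ : ∀ x y, M.F (M.σ x) (M.σ y) = M.F x y := hR.σ_isom
  have norm : ∀ s ∈ M.S, M.F s s = 8 := by
    rintro _ ⟨k, hk, rfl⟩
    rw [hR.C_isom k hk, hL.F_a₀]
  have partner : ∀ c ∈ M.S, ∀ e ∈ M.S, e ≠ c → e ≠ M.σ c → M.F e (M.σ c) = M.F e c := by
    rintro _ ⟨k, hk, rfl⟩ e he h1 h2
    have h3 := hL.F_partner (k⁻¹ e) (C_S (M.C.inv_mem hk) he)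
      (fun h => h1 (by rw [← h, apply_inv']))
      (fun h => h2 (by rw [hR.σ_comm k hk, σ_a₀ hR, ← h, apply_inv']))
    rw [← hR.C_isom k hk, ← hR.C_isom k hk (k⁻¹ e), apply_inv'] at h3
    rw [hR.σ_comm k hk, σ_a₀ hR, h3]
  have perp : ∀ c ∈ M.S, M.F c (M.σ c) = 0 := by
    rintro _ ⟨k, hk, rfl⟩
    rw [hR.σ_comm k hk, hR.C_isom k hk, σ_a₀ hR, hL.F_a₁]
  -- neighbours of `a₀` in `S`
  have nb : ∀ c ∈ M.S, M.F c M.a₀ = 1 → c ≠ M.a₀ ∧ c ≠ M.a₁ := by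
    intro c hc h
    constructor
    · rintro rfl
      rw [hL.F_a₀] at h
      norm_num at h
    · rintro rfl
      rw [hR.F_symm, hL.F_a₁] at h
      norm_num at h
  have nb' : ∀ c ∈ M.S, M.F c M.a₀ = 1 → M.F c M.a₁ = 1 := by
    intro c hc h
    rw [hL.F_partner c hc (nb c hc h).1 (nb c hc h).2, h]
  have key := Monster.AbstractRigid.rigid (G := M.G) (V := W) (M.C.subgroupOf M.G)
    (fun x y => M.F x y) (fun g x y => G_isom hO hR g.2 x y) M.X M.S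
    (fun g x hx => G_X hO g.2 hx) (fun x => M.σ x) 1 M.a₀ a₀_mem_S
  have hTS : ∀ c ∈ Monster.AbstractRigid.T (fun x y => M.F x y) M.X (fun x => M.σ x) (1 : ℚ) M.a₀,
      c ∈ M.S := by
    rintro _ ⟨⟨j, k, hk, rfl⟩, h1, h2⟩
    by_cases hj : j = M.j₀
    · subst hj
      rw [hO.d_j₀]
      exact ⟨k, hk, rfl⟩
    · exfalso
      have h3 : M.F (k⁻¹ M.a₀) (M.d j) = 1 := by
        rw [← hR.C_isom k hk, apply_inv', hR.F_symm]
        exact h1
      refine hO.T_sub j hj (k⁻¹ M.a₀) ⟨k⁻¹, M.C.inv_mem hk, rfl⟩ h3 ?_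
      rw [hR.σ_comm _ (M.C.inv_mem hk), ← hR.C_isom k hk, apply_inv', hR.F_symm]
      exact h2
  have main := key
    (by
      rintro _ ⟨k, hk, rfl⟩
      exact ⟨⟨k, C_le hk⟩, hk, rfl⟩)
    (by
      intro k hk s hs
      exact C_S hk hs)
    (by
      intro k hk s hs
      exact (hR.σ_comm _ hk s).symm)
    hTS
    (by
      rintro c hc
      have hcS := hTS c hc
      refine ⟨S_sub_X hO (σ_S hG hR hcS), ?_, ?_⟩
      · have h2 : M.F c (M.σ M.a₀) = 1 := hc.2.2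
        change M.F (M.σ c) M.a₀ = 1
        rw [← σ_a₁ hR, hFσ, ← σ_a₀ hR]
        exact h2
      · have h2 : M.F c M.a₀ = 1 := hc.2.1
        change M.F (M.σ c) (M.σ M.a₀) = 1
        rw [hFσ]
        exact h2)
    (by
      intro c hc
      have hcS := hTS c hc
      refine ⟨?_, ?_⟩
      · intro h
        have h1 := perp c hcS
        have h2 := norm c hcS
        rw [show M.σ c = c from h, h2] at h1
        norm_num at h1
      · intro e he h1 h2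
        change M.F e c = 1 ↔ M.F e (M.σ c) = 1
        rw [partner c hcS e (hTS e he) h1 h2])
    (by
      intro c hc d hd ht
      by_contra hne
      obtain ⟨e, heS, he1, he2, he3, he4⟩ := hL.sep c (hTS c hc) hc.2.1 d (hTS d hd) hd.2.1 ht.1 hne
      refine he4 (ht.2 e ⟨S_sub_X hO heS, he1, ?_⟩ he2 he3)
      change M.F e (M.σ M.a₀) = 1
      rw [σ_a₀ hR]
      exact nb' e heS he1)
    (by
      intro s hs
      have h := hL.conn s hs
      have aux : ∀ b, Relation.ReflTransGen (fun a c => c ∈ M.S ∧ M.F c a = 1) M.a₀ b → b ∈ M.S ∧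
          Relation.ReflTransGen (fun a c => c ∈ Monster.AbstractRigid.T (fun x y => M.F x y) M.X
            (fun x => M.σ x) (1 : ℚ) a) M.a₀ b := by
        intro b hb
        induction hb with
        | refl => exact ⟨a₀_mem_S, Relation.ReflTransGen.refl⟩
        | @tail b c _ hbc ih =>
          refine ⟨hbc.1, ih.2.tail ⟨S_sub_X hO hbc.1, hbc.2, ?_⟩⟩
          change M.F c (M.σ b) = 1
          have hne : c ≠ b := by
            rintro rfl
            have := hbc.2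
            rw [norm c hbc.1] at this
            norm_num at this
          have hne' : c ≠ M.σ b := by
            intro h
            have h1 := hbc.2
            have h2 := perp b ih.1
            rw [h, hR.F_symm, h2] at h1
            norm_num at h1
          rw [partner b ih.1 c hbc.1 hne hne', hbc.2]
      exact (aux s h).2)
    ⟨g, hg⟩ (by
      change g M.a₀ ∈ M.S
      rw [h0]
      exact a₀_mem_S) (by
      change g (M.σ M.a₀) = M.σ (g M.a₀)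
      rw [h0, σ_a₀ hR, h1])
  exact main

end Cfsg.Agent.MonsterX.MainBasic
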