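import Cfsg.Agent.MonsterX.CertAsm
import Cfsg.Agent.MonsterX.FrameU
import Cfsg.Agent.MonsterX.KDone
import Cfsg.Agent.MonsterX.LaneCount
import Cfsg.Agent.MonsterX.MainBasic

/-!
# The orbit certificate of the concrete model of the Monster, without hypotheses

`closed`, `disjoint`, `card_X`, `card_pairs` in the form of the fields of `Model.MOrbit`; `ref`, `table`, `lengths`,
`card_C`.
-/

set_option autoImplicit false

namespace Cfsg.Agent.MonsterX.OrbDone

open Cfsg Cfsg.Agent.MonsterX.Space Cfsg.Agent.MonsterX.Conc Cfsg.Agent.MonsterX.InstData Cfsg.Agent.MonsterX.Model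
open Cfsg.Agent.MonsterX.FrameConc Cfsg.Agent.MonsterX.CertLenT Cfsg.Agent.MonsterX.CertGlue
open Cfsg.Agent.MonsterX.CertOrb Cfsg.Agent.MonsterX.CertOrbModel

/-- The frames of the concrete model. -/
theorem U : ULink USide.u := FrameU.ulink ConcGrp.ξ_sq KDone.ker_C

theorem finite_C : Finite M.C :=
  Nat.finite_of_card_ne_zero (by rw [MainBasic.card_C KDone.mGroup]; norm_num)

theorem S_card : M.S.ncard = 196560 := KDone.mRep.S_card

/-- The orbits of `N` refine the orbits of `C`. -/
theorem ref : Refines C N M.d v jof := CertAsm.refines U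

/-- The orbit table. -/
theorem table : OrbTable M N ConcGrp.N0 (E 12) (CertOrbNZero.rep τ cF pick) jof tp tm := CertAsm.table U

/-- Field `closed` of `MOrbit`. -/
theorem closed : ∀ j, ∀ g ∈ M.C, ∃ k, ∃ h ∈ M.C, M.τ (g (M.d j)) = h (M.d k) := CertAsm.closed U

/-- Field `disjoint` of `MOrbit`. -/
theorem disjoint : ∀ j k, ∀ g ∈ M.C, g (M.d j) = M.d k → j = k := CertAsm.disjoint U

/-- The lengths of the orbits of `N`. -/
theorem lengths (r : Fin 251) : Nat.card (MulAction.orbit N (v r)) = len r := by
  have := finite_C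
  rw [← CertAsm.lengths U S_card r]
  exact (CertOrbNZero.card_rep nzero cls_pick r).symm

/-- The lengths of the orbits of `C`. -/
theorem card_C (j : Fin 12) : Nat.card (MulAction.orbit M.C (M.d j)) = clen j := by
  have := finite_C
  exact CertAsm.card_C U S_card j

/-- **Field `card_X` of `MOrbit`.** -/
theorem card_X : M.X.ncard = 97239461142009186000 := by
  have := finite_C
  exact CertAsm.card_X U S_card

theorem zero_eq (j : Fin 12) : LaneCount.tab j = CertVec.nth 0 CertAsm.zeroT j.1 := by
  fin_cases j <;> decide +kernel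

/-- **Field `card_pairs` of `MOrbit`.** -/
theorem card_pairs : {p : V × V | p.1 ∈ M.S ∧ p.2 ∈ M.X ∧ M.F p.1 p.2 = 0}.ncard = 11707448673375 * 196560 := by
  have := finite_C
  exact CertAsm.card_pairs U S_card fun j => by rw [LaneCount.n0 j, zero_eq]

end Cfsg.Agent.MonsterX.OrbDone
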