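import Cfsg.Agent.MonsterX.Instance
import Cfsg.Agent.MonsterX.LinesInst
import Cfsg.Agent.MonsterX.OrbDone
import Cfsg.Agent.MonsterX.KStab
import Cfsg.Agent.MonsterX.KStabTau

/-!
# The model of the Monster: the instance is complete

`mOrbit`, `mExtra`, `pack` for the concrete data `InstData.M`, without hypotheses.
-/

set_option autoImplicit false

namespace Cfsg.Agent.MonsterX.InstanceFinal

open Cfsg.Agent.MonsterX.Model Cfsg.Agent.MonsterX.InstData

/-- The facts about `τ`. -/
theorem tauIn : KStab.TauIn KStabTau.x₁ where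
  mem := KStabTau.x₁_mem
  hz := KStabTau.hz
  hz' := KStabTau.hz'
  hX := KStabTau.hX
  h1 := KStabTau.h1
  h2 := KStabTau.h2
  hj := KStabTau.hj.trans (one_smul _ _)

/-- The facts about the orbits of axes. -/
theorem mOrbit : MOrbit M :=
  Instance.mOrbit OrbDone.closed OrbDone.disjoint KStabSpan.X_span OrbDone.card_X OrbDone.card_pairs
    (KStab.stab OrbDone.closed tauIn)

theorem mExtra : MExtra M := Instance.mExtra mOrbit

/-- The base vectors. -/
theorem pack : BaseVec.Pack Spor.Co1 := LinesInst.pack mOrbit

end Cfsg.Agent.MonsterX.InstanceFinal
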