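import Cfsg.Agent.MonsterX.CertOrb

/-!
# Coverage of the frames and balance for the `ξ`-edges

`K ≤ G` acts on a set `Y` ("frames"), `D ≤ K` is the stabiliser of `y₀`, `K = ⟨D, ξ⟩`, `ξ ξ = 1`, the neighbours
`nb i`, `i : ι`, of `y₀` are the points of the `D`-orbit of `ξ y₀`.

`Cover L b c tgt`: `L` fixes `b`, and for all `m`, `i` some `l ∈ L` maps `c m • nb i` to `c (tgt m i) • y₀`.  Then
`K b = ⋃ D (c m)⁻¹ b` (`Cover.cov`), and (`Cover.balance`) the numbers of `i` with given `tgt m i` satisfy the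
balance equations.
-/

set_option autoImplicit false

namespace Cfsg.Agent.MonsterX.CertFrame

open Cfsg.Agent.Monster Cfsg.Agent.MonsterX.CertOrb

variable {G V Y : Type*} [Group G] [MulAction G V]

/-- The frames. -/
structure Frames (K D : Subgroup G) (ξ : G) [MulAction K Y] (y₀ : Y) {ι : Type*} (nb : ι → Y) : Prop where
  le : D ≤ K
  ξ_mem : ξ ∈ K
  ξ_sq : ξ * ξ = 1
  gen : K = Subgroup.closure ((D : Set G) ∪ {ξ})
  stab : ∀ k : K, k • y₀ = y₀ ↔ (k : G) ∈ D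
  nb_inj : Function.Injective nb
  nb_orb : ∀ i, ∃ d : K, (d : G) ∈ D ∧ nb i = d • (⟨ξ, ξ_mem⟩ : K) • y₀
  nb_all : ∀ d : K, (d : G) ∈ D → ∃ i, nb i = d • (⟨ξ, ξ_mem⟩ : K) • y₀

/-- A cover certificate for the orbit `K b`. -/
structure Cover (K : Subgroup G) [MulAction K Y] (y₀ : Y) {ι : Type*} (nb : ι → Y) (L : Subgroup G) (b : V)
    {μ : Type*} (c : μ → K) (tgt : μ → ι → μ) : Prop where
  fix : ∀ l ∈ L, l • b = b
  rt : ∀ m i, ∃ l : K, (l : G) ∈ L ∧ l • c m • nb i = c (tgt m i) • y₀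

section

variable {K D : Subgroup G} {ξ : G} [MulAction K Y] {y₀ : Y} {ι : Type*} {nb : ι → Y}
  {L : Subgroup G} {b : V} {μ : Type*} {c : μ → K} {tgt : μ → ι → μ}

/-- Every `k ∈ K` is a product `l (c m) d`. -/
theorem Cover.factor (h : Frames K D ξ y₀ nb) (hc : Cover K y₀ nb L b c tgt) [Nonempty μ]
    (k : K) : ∃ m, ∃ l : K, (l : G) ∈ L ∧ ∃ d : K, (d : G) ∈ D ∧ k = l * c m * d := by
  -- the set of good elements, closed under right multiplication by `D` and `ξ`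
  have hD : ∀ k : K, (∃ m, ∃ l : K, (l : G) ∈ L ∧ ∃ d : K, (d : G) ∈ D ∧ k = l * c m * d) →
      ∀ d' : K, (d' : G) ∈ D → ∃ m, ∃ l : K, (l : G) ∈ L ∧ ∃ d : K, (d : G) ∈ D ∧ k * d' = l * c m * d := by
    rintro k ⟨m, l, hl, d, hd, rfl⟩ d' hd'
    exact ⟨m, l, hl, d * d', D.mul_mem hd hd', by group⟩
  have hξ : ∀ k : K, (∃ m, ∃ l : K, (l : G) ∈ L ∧ ∃ d : K, (d : G) ∈ D ∧ k = l * c m * d) →
      ∃ m, ∃ l : K, (l : G) ∈ L ∧ ∃ d : K, (d : G) ∈ D ∧ k * ⟨ξ, h.ξ_mem⟩ = l * c m * d := by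
    rintro k ⟨m, l, hl, d, hd, rfl⟩
    obtain ⟨i, hi⟩ := h.nb_all d hd
    obtain ⟨l', hl', e⟩ := hc.rt m i
    refine ⟨tgt m i, l * l'⁻¹, L.mul_mem hl (L.inv_mem hl'), (c (tgt m i))⁻¹ * l' * c m * d * ⟨ξ, h.ξ_mem⟩,
      ?_, by group⟩
    rw [← h.stab]
    rw [mul_smul, mul_smul, mul_smul, ← hi, mul_smul, e, inv_smul_smul]
  have key : ∀ g ∈ Subgroup.closure ((D : Set G) ∪ {ξ}), ∀ hg : g ∈ K,
      ∃ m, ∃ l : K, (l : G) ∈ L ∧ ∃ d : K, (d : G) ∈ D ∧ (⟨g, hg⟩ : K) = l * c m * d := by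
    intro g hg
    induction hg using Subgroup.closure_induction_right with
    | one =>
      intro _
      -- start: `c m` itself is good; `1` is reached from it
      obtain ⟨m₀⟩ := (inferInstance : Nonempty μ)
      -- all elements `c m₀ * x`, `x ∈ closure`
      have h2 : ∀ x ∈ Subgroup.closure ((D : Set G) ∪ {ξ}), ∀ hx : x ∈ K,
          ∃ m, ∃ l : K, (l : G) ∈ L ∧ ∃ d : K, (d : G) ∈ D ∧ c m₀ * (⟨x, hx⟩ : K) = l * c m * d := by
        intro x hx
        induction hx using Subgroup.closure_induction_right with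
        | one =>
          intro _
          refine ⟨m₀, 1, L.one_mem, 1, D.one_mem, ?_⟩
          rw [one_mul, mul_one]
          exact mul_one _
        | mul_right x hx y hy ih =>
          intro hxy
          have hyK : y ∈ K := by
            rcases hy with hy | hy
            · exact h.le hy
            · rw [Set.mem_singleton_iff.1 hy]; exact h.ξ_mem
          have hxK : x ∈ K := by rw [h.gen]; exact hx
          have e : c m₀ * (⟨x * y, hxy⟩ : K) = (c m₀ * ⟨x, hxK⟩) * ⟨y, hyK⟩ := by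
            rw [mul_assoc]; rfl
          rw [e]
          rcases hy with hy | hy
          · exact hD _ (ih hxK) _ hy
          · have hy' : y = ξ := Set.mem_singleton_iff.1 hy
            subst hy'
            exact hξ _ (ih hxK)
        | mul_inv_cancel x hx y hy ih =>
          intro hxy
          have hyK : y ∈ K := by
            rcases hy with hy | hy
            · exact h.le hy
            · rw [Set.mem_singleton_iff.1 hy]; exact h.ξ_mem
          have hxK : x ∈ K := by rw [h.gen]; exact hx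
          rcases hy with hy | hy
          · have e : c m₀ * (⟨x * y⁻¹, hxy⟩ : K) = (c m₀ * ⟨x, hxK⟩) * ⟨y⁻¹, K.inv_mem hyK⟩ := by
              rw [mul_assoc]; rfl
            rw [e]
            exact hD _ (ih hxK) _ (D.inv_mem hy)
          · have hy' : y = ξ := Set.mem_singleton_iff.1 hy
            subst hy'
            have e : c m₀ * (⟨x * y⁻¹, hxy⟩ : K) = (c m₀ * ⟨x, hxK⟩) * ⟨y, hyK⟩ := by
              rw [mul_assoc]
              congr 1
              apply Subtype.ext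
              change x * y⁻¹ = x * y
              rw [inv_eq_of_mul_eq_one_left h.ξ_sq]
            rw [e]
            exact hξ _ (ih hxK)
      have hinv : ((c m₀)⁻¹ : K).1 ∈ Subgroup.closure ((D : Set G) ∪ {ξ}) := by
        rw [← h.gen]; exact ((c m₀)⁻¹ : K).2
      obtain ⟨m, l, hl, d, hd, e⟩ := h2 _ hinv ((c m₀)⁻¹ : K).2
      refine ⟨m, l, hl, d, hd, ?_⟩
      rw [← e]
      change (1 : K) = c m₀ * (c m₀)⁻¹
      rw [mul_inv_cancel]
    | mul_right x hx y hy ih =>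
      intro hxy
      have hyK : y ∈ K := by
        rcases hy with hy | hy
        · exact h.le hy
        · rw [Set.mem_singleton_iff.1 hy]; exact h.ξ_mem
      have hxK : x ∈ K := by rw [h.gen]; exact hx
      have e : (⟨x * y, hxy⟩ : K) = ⟨x, hxK⟩ * ⟨y, hyK⟩ := rfl
      rw [e]
      rcases hy with hy | hy
      · exact hD _ (ih hxK) _ hy
      · have hy' : y = ξ := Set.mem_singleton_iff.1 hy
        subst hy'
        exact hξ _ (ih hxK)
    | mul_inv_cancel x hx y hy ih =>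
      intro hxy
      have hyK : y ∈ K := by
        rcases hy with hy | hy
        · exact h.le hy
        · rw [Set.mem_singleton_iff.1 hy]; exact h.ξ_mem
      have hxK : x ∈ K := by rw [h.gen]; exact hx
      rcases hy with hy | hy
      · have e : (⟨x * y⁻¹, hxy⟩ : K) = ⟨x, hxK⟩ * ⟨y⁻¹, K.inv_mem hyK⟩ := rfl
        rw [e]
        exact hD _ (ih hxK) _ (D.inv_mem hy)
      · have hy' : y = ξ := Set.mem_singleton_iff.1 hy
        subst hy'
        have e : (⟨x * y⁻¹, hxy⟩ : K) = ⟨x, hxK⟩ * ⟨y, hyK⟩ := by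
          apply Subtype.ext
          change x * y⁻¹ = x * y
          rw [inv_eq_of_mul_eq_one_left h.ξ_sq]
        rw [e]
        exact hξ _ (ih hxK)
  exact key k (by rw [← h.gen]; exact k.2) k.2

/-- `K b` is the union of the `D`-orbits of the points `(c m)⁻¹ b`. -/
theorem Cover.cov (h : Frames K D ξ y₀ nb) (hc : Cover K y₀ nb L b c tgt) [Nonempty μ]
    (x : V) (hx : x ∈ MulAction.orbit K b) :
    ∃ m, x ∈ MulAction.orbit D (((c m)⁻¹ : K) • b) := by
  obtain ⟨k, rfl⟩ := hx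
  obtain ⟨m, l, hl, d, hd, e⟩ := hc.factor h k⁻¹
  refine ⟨m, ⟨⟨(d : G)⁻¹, D.inv_mem hd⟩, ?_⟩⟩
  have e2 : k = d⁻¹ * (c m)⁻¹ * l⁻¹ := by
    rw [← inv_inv k, e]; group
  change ((d⁻¹ : K) : G) • (((c m)⁻¹ : K) • b) = k • b
  have e3 : l⁻¹ • b = b := by
    have := hc.fix _ (L.inv_mem hl)
    exact this
  rw [e2, mul_smul, mul_smul, e3]
  rfl

/-- Balance for the `ξ`-edges inside one `K`-orbit. -/
theorem Cover.balance (h : Frames K D ξ y₀ nb) (hc : Cover K y₀ nb L b c tgt) [Finite D] [Finite ι]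
    (hdisj : ∀ m n, ((c m)⁻¹ : K) • b ∈ MulAction.orbit D (((c n)⁻¹ : K) • b) → m = n) (m n : μ) :
    Nat.card (MulAction.orbit D (((c m)⁻¹ : K) • b)) * Nat.card {i : ι // tgt m i = n} =
      Nat.card (MulAction.orbit D (((c n)⁻¹ : K) • b)) * Nat.card {i : ι // tgt n i = m} := by
  classical
  -- `D` acts on the set of neighbours
  let ξK : K := ⟨ξ, h.ξ_mem⟩
  let inc : D → K := fun d => ⟨d, h.le d.2⟩
  let Z := {y : Y // ∃ i, nb i = y}
  have hclosed : ∀ (d : D) (y : Z), ∃ i, nb i = inc d • y.1 := by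
    rintro d ⟨_, i, rfl⟩
    obtain ⟨d', hd', e⟩ := h.nb_orb i
    obtain ⟨i', e'⟩ := h.nb_all (inc d * d') (D.mul_mem d.2 hd')
    exact ⟨i', by rw [e', mul_smul, ← e]⟩
  let _ : MulAction D Z :=
    { smul := fun d y => ⟨inc d • y.1, hclosed d y⟩
      one_smul := fun y => Subtype.ext (by
        change inc 1 • y.1 = y.1
        exact one_smul K y.1)
      mul_smul := fun d d' y => Subtype.ext (by
        change inc (d * d') • y.1 = inc d • inc d' • y.1
        rw [← mul_smul]; rfl) }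
  have hval : ∀ (d : D) (y : Z), (d • y).1 = inc d • y.1 := fun _ _ => rfl
  obtain ⟨i₀, hi₀⟩ := h.nb_all 1 D.one_mem
  rw [one_smul] at hi₀
  let y0 : Z := ⟨ξK • y₀, i₀, hi₀⟩
  have htr : ∀ y : Z, ∃ d : D, d • y0 = y := by
    rintro ⟨_, i, rfl⟩
    obtain ⟨d, hd, e⟩ := h.nb_orb i
    exact ⟨⟨d, hd⟩, Subtype.ext e.symm⟩
  have hs : ∀ d : D, d • y0 = y0 → ξ * d * ξ⁻¹ ∈ D := by
    intro d hd
    have h1 : inc d • ξK • y₀ = ξK • y₀ := congrArg Subtype.val hd
    have h2 : (ξK⁻¹ * inc d * ξK) • y₀ = y₀ := by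
      rw [mul_smul, mul_smul, h1, inv_smul_smul]
    have h3 := (h.stab _).1 h2
    have h4 : ξ⁻¹ = ξ := inv_eq_of_mul_eq_one_left h.ξ_sq
    have h5 : ((ξK⁻¹ * inc d * ξK : K) : G) = ξ * d * ξ⁻¹ := by
      change ξ⁻¹ * (d : G) * ξ = _
      rw [h4]
    rw [← h5]; exact h3
  have hs' : ∀ d : D, d • y0 = y0 → ξ⁻¹ * d * ξ ∈ D := by
    intro d hd
    have h4 : ξ⁻¹ = ξ := inv_eq_of_mul_eq_one_left h.ξ_sq
    have := hs d hd
    rw [h4] at this ⊢
    exact this
  have hfinZ : Finite Z := Finite.of_surjective (fun i => (⟨nb i, i, rfl⟩ : Z)) (by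
    rintro ⟨_, i, rfl⟩; exact ⟨i, rfl⟩)
  have hfin : ∀ m, Finite (MulAction.orbit D (((c m)⁻¹ : K) • b)) := fun m =>
    Finite.of_surjective (fun d : D => (⟨d • (((c m)⁻¹ : K) • b), MulAction.mem_orbit _ _⟩ :
      MulAction.orbit D (((c m)⁻¹ : K) • b))) (by rintro ⟨_, d, rfl⟩; exact ⟨d, rfl⟩)
  choose ix hix using fun y : Z => y.2
  have hixnb : ∀ i (hi : ∃ i', nb i' = nb i), ix ⟨nb i, hi⟩ = i := fun i hi => h.nb_inj (hix _)
  have htgt : ∀ (m : μ) (y : Z), ∃ d : D, d • y0 = y ∧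
      ξ • d⁻¹ • (((c m)⁻¹ : K) • b) ∈ MulAction.orbit D (((c (tgt m (ix y)))⁻¹ : K) • b) := by
    intro m y
    obtain ⟨d, hd⟩ := htr y
    refine ⟨d, hd, ?_⟩
    obtain ⟨l, hl, e⟩ := hc.rt m (ix y)
    have h1 : nb (ix y) = inc d • ξK • y₀ := by
      rw [hix y, ← hd]; rfl
    rw [h1] at e
    obtain ⟨n, hn⟩ : ∃ n, n = tgt m (ix y) := ⟨_, rfl⟩
    rw [← hn] at e ⊢
    -- `(c n)⁻¹ l (c m) d ξ ∈ D`
    have h2 : ((c n)⁻¹ * l * c m * inc d * ξK) • y₀ = y₀ := by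
      rw [mul_smul, mul_smul, mul_smul, mul_smul, e, inv_smul_smul]
    have h3 := (h.stab _).1 h2
    obtain ⟨d', hd'⟩ : ∃ d' : K, d' = (c n)⁻¹ * l * c m * inc d * ξK := ⟨_, rfl⟩
    rw [← hd'] at h3
    have h4 : ξK * (inc d)⁻¹ * (c m)⁻¹ = d'⁻¹ * (c n)⁻¹ * l := by
      have h5 : ξK⁻¹ = ξK := by
        apply Subtype.ext
        exact inv_eq_of_mul_eq_one_left h.ξ_sq
      rw [hd']
      calc ξK * (inc d)⁻¹ * (c m)⁻¹ = ξK⁻¹ * (inc d)⁻¹ * (c m)⁻¹ := by rw [h5]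
        _ = _ := by group
    have hb : l • b = b := hc.fix _ hl
    have h6 : ξ • d⁻¹ • (((c m)⁻¹ : K) • b) = (ξK * (inc d)⁻¹ * (c m)⁻¹) • b := by
      rw [mul_smul, mul_smul]; rfl
    rw [h6, h4, mul_smul, hb, mul_smul]
    exact ⟨⟨(d' : G)⁻¹, D.inv_mem h3⟩, rfl⟩
  have hb := Abstract.balance' D y0 htr ξ hs hs' (fun m => ((c m)⁻¹ : K) • b) hdisj hfin
    (fun m y => tgt m (ix y)) (fun m y => tgt m (ix y)) htgt (by
      intro m y
      obtain ⟨d, hd, hd'⟩ := htgt m y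
      refine ⟨d, hd, ?_⟩
      rw [inv_eq_of_mul_eq_one_left h.ξ_sq]
      exact hd') m n
  have hcard : ∀ m n, Nat.card {y : Z // tgt m (ix y) = n} = Nat.card {i : ι // tgt m i = n} := by
    intro m n
    refine Nat.card_congr ⟨fun y => ⟨ix y.1, y.2⟩, fun i => ⟨⟨nb i.1, i.1, rfl⟩, ?_⟩, ?_, ?_⟩
    · rw [hixnb]
      exact i.2
    · rintro ⟨y, hy⟩
      apply Subtype.ext
      apply Subtype.ext
      exact hix y
    · rintro ⟨i, hi⟩
      apply Subtype.ext
      exact hixnb i _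
  rw [hcard, hcard] at hb
  exact hb

end

end Cfsg.Agent.MonsterX.CertFrame
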