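import Cfsg.Agent.MonsterX.FrameGam
import Cfsg.Agent.MonsterX.CertFrame

/-!
# From row checks to cover certificates

`FData`: the data of one `K`-orbit of axes; `FData.ok` checks the matrices of all words, the rows
are checked separately.
-/

set_option autoImplicit false

namespace Cfsg.Agent.MonsterX.FrameData

open Cfsg.Agent.MonsterX.Lin24 Cfsg.Agent.MonsterX.Swar Cfsg.Agent.MonsterX.FrameCover
open Cfsg.Agent.MonsterX.FrameGam Cfsg.Agent.MonsterX.CertFrame

/-- Entry `i` of a list of words. -/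
noncomputable def nthW (l : List (List ℕ)) : ℕ → List ℕ :=
  List.rec (motive := fun _ => ℕ → List ℕ) (fun _ => [])
    (fun a _ f i => Nat.rec (motive := fun _ => List ℕ) a (fun k _ => f k) i) l

/-- The letters in `K`. -/
def isK (a : ℕ) : Bool := Nat.ble a 39 || Nat.beq a 42 || Nat.beq a 43

/-- All letters satisfy `p`. -/
noncomputable def allL (p : ℕ → Bool) (w : List ℕ) : Bool :=
  List.rec (motive := fun _ => Bool) true (fun a _ r => cond (p a) r false) w

theorem allL_sound {p : ℕ → Bool} {w : List ℕ} (h : allL p w = true) : ∀ a ∈ w, p a = true := by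
  induction w with
  | nil => intro a ha; exact absurd ha List.not_mem_nil
  | cons b w ih =>
    have h1 : cond (p b) (allL p w) false = true := h
    cases hb : p b with
    | false => rw [hb] at h1; exact absurd h1 (by simp)
    | true =>
      rw [hb] at h1
      intro a ha
      rcases List.mem_cons.1 ha with rfl | ha
      · exact hb
      · exact ih h1 a ha

/-- The data of one `K`-orbit. -/
structure FData where
  /-- number of representatives -/
  nt : ℕ
  /-- number of layers -/
  s : ℕ
  /-- number of generators of the stabiliser -/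
  ng : ℕ
  /-- words of the generators -/
  gw : List (List ℕ)
  /-- columns of the generators -/
  gm : List ℕ
  /-- four words in the generators -/
  uw : List (List ℕ)
  /-- their columns -/
  uc : List ℕ
  /-- words of the representatives -/
  kw : List (List ℕ)
  /-- columns of their inverses -/
  R : List ℕ
  /-- codes of the frames -/
  F : List ℕ

namespace FData

variable (d : FData)

/-- The frame codes as a function. -/
noncomputable def Ff (t : ℕ) : ℕ := nthL d.F t % 16777216

/-- The check of the words. -/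
noncomputable def ok : Bool :=
  cond (Nat.ble d.nt 256)
    (cond (allB d.ng fun i => cond (allL (fun a => cond (Nat.ble a 43) (isK a) false) (nthW d.gw i))
        (Nat.beq (evalF ltc (nthW d.gw i)) (nthL d.gm i)) false)
      (cond (allB 4 fun i => cond (allL (fun a => Nat.ble (a + 1) d.ng) (nthW d.uw i))
          (Nat.beq (evalF (nthL d.gm) (nthW d.uw i)) (nthL d.uc i)) false)
        (allB d.nt fun i => cond (allL (fun a => cond (Nat.ble a 43) (isK a) false) (nthW d.kw i))
          (cond (Nat.beq (evalW ltci (nthW d.kw i)) (nthL d.R i))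
            (Nat.beq (lin (nthL d.R i) 4096) (d.Ff i)) false) false)
        false)
      false)
    false

/-- Target function of the rows `W`. -/
noncomputable def tgt (W : ℕ → ℕ) (m : Fin d.nt) (i : Fin 3542) : Fin d.nt :=
  if h : tg (W m) i < d.nt then ⟨_, h⟩ else m

end FData

theorem cond3 {a b : Bool} (h : cond a b false = true) : a = true ∧ b = true := by
  cases a
  · exact absurd h (by simp)
  · exact ⟨rfl, h⟩

theorem letter_ok {w : List ℕ} (h : allL (fun a => cond (Nat.ble a 43) (isK a) false) w = true) :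
    ∀ a ∈ w, a < 44 ∧ isK a = true := by
  intro a ha
  obtain ⟨h1, h2⟩ := cond3 (allL_sound h a ha)
  exact ⟨Nat.lt_succ_of_le (Nat.le_of_ble_eq_true h1), h2⟩

theorem isK_linv {a : ℕ} (ha : a < 44) (h : isK a = true) : linv a < 44 ∧ isK (linv a) = true := by
  have key : ∀ a, a < 44 → isK a = true → linv a < 44 ∧ isK (linv a) = true := by decide
  exact key a ha h

section

variable {G V Y : Type*} [Group G] [MulAction G V] {K : Subgroup G} [MulAction K Y]
  {S : Coded K Y} {E : ℕ → K}

theorem rep_inv_letter (hE : ∀ a, a < 44 → isK a = true → Rep S (E a) (ltc a)) {a : ℕ}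
    (ha : a < 44) (h : isK a = true) : Rep S (E a)⁻¹ (ltci a) := (hE a ha h).inv (inv_ok a ha)

/-- **Cover certificates from the data.** -/
theorem cover_of_data (hy0 : S.code S.y0 = 4096)
    (hE : ∀ a, a < 44 → isK a = true → Rep S (E a) (ltc a)) (d : FData) (hd : d.ok = true)
    (W : ℕ → ℕ)
    (hW : ∀ m, m < d.nt →
      rowOK (ones 3542) (nthL d.uc) d.Ff d.nt d.s (nthL d.R m) gam (W m) = true)
    (L : Subgroup G) (b : V) (hfix : ∀ l ∈ L, l • b = b)
    (hL : ∀ i, i < d.ng → ((prodF E (nthW d.gw i) : K) : G) ∈ L)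
    (nb : Fin 3542 → Y) (hnb : ∀ i : Fin 3542, S.code (nb i) = fld gam i) :
    Cover K S.y0 nb L b (fun m : Fin d.nt => (prodF E (nthW d.kw m))⁻¹) (d.tgt W) := by
  obtain ⟨h1, h2⟩ := cond3 hd
  obtain ⟨h3, h4⟩ := cond3 h2
  obtain ⟨h5, h6⟩ := cond3 h4
  have hnt : d.nt ≤ 256 := Nat.le_of_ble_eq_true h1
  -- the generators
  have hg : ∀ i, i < d.ng → InL S (L.subgroupOf K) (nthL d.gm i) := by
    intro i hi
    obtain ⟨h7, h8⟩ := cond3 (allB_sound h3 i hi)
    have h9 := letter_ok h7
    rw [← Nat.eq_of_beq_eq_true h8]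
    exact ⟨prodF E (nthW d.gw i), Subgroup.mem_subgroupOf.2 (hL i hi),
      rep_prodF _ fun a ha => hE a (h9 a ha).1 (h9 a ha).2⟩
  have hC : ∀ i, i < 4 → InL S (L.subgroupOf K) (nthL d.uc i) := by
    intro i hi
    obtain ⟨h7, h8⟩ := cond3 (allB_sound h5 i hi)
    rw [← Nat.eq_of_beq_eq_true h8]
    exact inL_prodF _ fun a ha => hg a (Nat.le_of_ble_eq_true (allL_sound h7 a ha))
  have hR : ∀ m, m < d.nt → Rep S (prodF E (nthW d.kw m))⁻¹ (nthL d.R m) ∧
      S.code ((prodF E (nthW d.kw m))⁻¹ • S.y0) = d.Ff m := by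
    intro m hm
    obtain ⟨h7, h8⟩ := cond3 (allB_sound h6 m hm)
    obtain ⟨h9, h10⟩ := cond3 h8
    have h11 := letter_ok h7
    have h12 : Rep S (prodF E (nthW d.kw m))⁻¹ (nthL d.R m) := by
      rw [← Nat.eq_of_beq_eq_true h9]
      exact rep_prodF_inv _ fun a ha => rep_inv_letter hE (h11 a ha).1 (h11 a ha).2
    exact ⟨h12, by rw [h12, hy0]; exact Nat.eq_of_beq_eq_true h10⟩
  have hF : ∀ t, d.Ff t < 2 ^ 40 := fun t =>
    lt_trans (Nat.mod_lt _ (by norm_num)) (by norm_num)
  refine ⟨hfix, ?_⟩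
  intro m i
  obtain ⟨h7, l, hl, h8⟩ := row_sound (r := fun t => prodF E (nthW d.kw t)) hC (hR m m.2).1
    (fun t ht => (hR t ht).2) hF hnt gam_lt (hW m m.2) i.2 (hnb i)
  refine ⟨l, Subgroup.mem_subgroupOf.1 hl, ?_⟩
  have h9 : ((d.tgt W m i : Fin d.nt) : ℕ) = tg (W m) i := by
    unfold FData.tgt
    rw [dif_pos h7]
  rw [h8, h9]

end

/-- The number of neighbours with given target. -/
theorem card_tgt (d : FData) (W : ℕ → ℕ) (P : ℕ → ℕ) (hnt : d.nt ≤ 256)
    (hW : ∀ m, m < d.nt →
      rowOK (ones 3542) (nthL d.uc) d.Ff d.nt d.s (nthL d.R m) gam (W m) = true)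
    (hP : ∀ m, m < d.nt → cntOK (ones 3542) d.nt (W m) (P m) = true) (m n : Fin d.nt) :
    Nat.card {i : Fin 3542 // d.tgt W m i = n} = (P m >>> (12 * (n : ℕ))) % 4096 := by
  classical
  have hF : ∀ t, d.Ff t < 2 ^ 40 := fun t =>
    lt_trans (Nat.mod_lt _ (by norm_num)) (by norm_num)
  have h7 : ∀ i : Fin 3542, tg (W m) i < d.nt := fun i =>
    (Swar.row_sound (P := fun _ => True) trivial (fun _ _ _ _ => trivial) hF hnt gam_lt
      (hW m m.2) i i.2).1
  have h9 : ∀ i : Fin 3542, d.tgt W m i = n ↔ tg (W m) i = (n : ℕ) := by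
    intro i
    rw [Fin.ext_iff]
    unfold FData.tgt
    rw [dif_pos (h7 i)]
  rw [← cnt_sound (by norm_num) hnt (hP m m.2) n.2]
  unfold cntB
  rw [Nat.card_eq_fintype_card, Fintype.card_subtype]
  have e1 : (Finset.univ.filter fun i : Fin 3542 => d.tgt W m i = n) =
      (Finset.univ.filter fun i : Fin 3542 => tg (W m) i = (n : ℕ)) :=
    Finset.filter_congr fun i _ => h9 i
  rw [e1]
  refine Finset.card_bij (fun i _ => (i : ℕ)) ?_ ?_ ?_
  · intro i hi
    rw [Finset.mem_filter] at hi ⊢
    exact ⟨Finset.mem_range.2 i.2, by simpa using hi.2⟩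
  · intro i _ i' _ h
    exact Fin.ext h
  · intro e he
    rw [Finset.mem_filter] at he
    exact ⟨⟨e, Finset.mem_range.1 he.1⟩, by
      rw [Finset.mem_filter]
      exact ⟨Finset.mem_univ _, by simpa using he.2⟩, rfl⟩

end Cfsg.Agent.MonsterX.FrameData
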