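import Cfsg.Agent.MonsterX.MainOrder

/-!
# The abstract theorem for the Monster, part 3: the involutions `t_x` and the centraliser of `z`
-/

set_option autoImplicit false

namespace Cfsg.Agent.MonsterX.MainTrans

open Cfsg.Agent.MonsterX.Model Cfsg.Agent.MonsterX.MainBasic

variable {W : Type} [AddCommGroup W] [Module ℚ W] {M : MData W} {K₀ : Type} [Group K₀]

/-- `t₀` fixes all axes of inner product `0` with `a₀` -/
theorem t₀_perp (hR : MRep M) (hT : MTrans M) {b : W} (hb : b ∈ M.X)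
    (hv : M.F M.a₀ b = 0) : M.t₀ b = b := by
  obtain ⟨j, h, hh, rfl⟩ := hb
  have h1 : M.F (h⁻¹ M.a₀) (M.d j) = 0 := by
    rw [← hR.C_isom h hh, apply_inv', hv]
  have h2 := hT.t_d j h⁻¹ (M.C.inv_mem hh) h1
  rw [inv_inv] at h2
  have h3 := congrArg (fun x => h x) h2
  simp only [LinearEquiv.mul_apply] at h3
  rwa [apply_inv'] at h3

/-- an axis of inner product `0` with `a₀` moved by `z` -/
theorem exists_moved' (hG : MGroup M K₀) (hT : MTrans M) :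
    ∃ b ∈ M.X, M.F M.a₀ b = 0 ∧ M.z b ≠ b := by
  obtain ⟨j, g, hg, h1, h2⟩ := hT.exists_moved
  refine ⟨g (M.d j), ⟨j, g, hg, rfl⟩, h1, ?_⟩
  intro h
  apply h2
  have e := congrArg (fun f : W ≃ₗ[ℚ] W => f (M.d j)) (hG.z_comm g hg)
  simp only [LinearEquiv.mul_apply] at e
  rw [← e] at h
  exact g.injective h

/-- **Lemma A**: the stabiliser of `a₀` in `G` centralises `t₀`. -/
theorem comm_t₀ (hG : MGroup M K₀) (hR : MRep M) (hL : MLat M) (hO : MOrbit M) (hT : MTrans M)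
    {g : W ≃ₗ[ℚ] W} (hg : g ∈ M.G) (h0 : g M.a₀ = M.a₀) : g * M.t₀ = M.t₀ * g := by
  have hinv : g⁻¹ M.a₀ = M.a₀ := (eq_inv_apply g h0).symm
  have ht₀G : M.t₀ ∈ M.G := C_le (hG.Q_le hR.t₀_mem)
  set x := g * M.t₀ * g⁻¹ with hx
  have hxG : x ∈ M.G := M.G.mul_mem (M.G.mul_mem hg ht₀G) (M.G.inv_mem hg)
  have hx0 : x M.a₀ = M.a₀ := by
    rw [hx, LinearEquiv.mul_apply, LinearEquiv.mul_apply, hinv, hR.t₀_a₀, h0]
  have hxR : ∀ b ∈ M.X, M.F M.a₀ b = 0 → x b = b := by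
    intro b hb hv
    have h1 : M.F M.a₀ (g⁻¹ b) = 0 := by
      rw [← hv, ← G_isom hO hR hg, h0, apply_inv']
    rw [hx, LinearEquiv.mul_apply, LinearEquiv.mul_apply,
      t₀_perp hR hT (G_X hO (M.G.inv_mem hg) hb) h1, apply_inv']
  have hx1 : x M.a₁ = M.a₁ := hxR _ (S_sub_X hO (a₁_mem_S hG hR)) hL.F_a₁
  have hxC : x ∈ M.C := pair_stab hG hR hL hO hxG hx0 hx1
  obtain ⟨b, hb, hv, hzb⟩ := exists_moved' hG hT
  have key : x = M.t₀ := by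
    rcases hR.fix_perp x hxC (fun s hs hv => hxR s (S_sub_X hO hs) hv) with h | h | h | h
    · exfalso
      rw [hx, mul_inv_eq_one, mul_eq_left] at h
      exact hR.t₀_ne h
    · exfalso
      apply hzb
      rw [← h]
      exact hxR b hb hv
    · exact h
    · exfalso
      apply hzb
      have h1 := hxR b hb hv
      rw [h, LinearEquiv.mul_apply, t₀_perp hR hT hb hv] at h1
      exact h1
  rw [hx, mul_inv_eq_iff_eq_mul] at key
  exact key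

/-- elements of `Q` are trivial on the `300`-part -/
theorem Q_u (hG : MGroup M K₀) (hR : MRep M) {q : W ≃ₗ[ℚ] W} (hq : q ∈ M.Q) {h : W ≃ₗ[ℚ] W}
    (hh : h ∈ M.C) : q (h M.u₀) = h M.u₀ := by
  have h1 := hR.Q_u₀ _ (Q_normal hG h⁻¹ (M.C.inv_mem hh) q hq)
  rw [inv_inv] at h1
  have h3 := congrArg (fun x => h x) h1
  simp only [LinearEquiv.mul_apply] at h3
  rwa [apply_inv'] at h3

/-- `t` is well defined -/
theorem conj_eq (hG : MGroup M K₀) (hR : MRep M) (hL : MLat M) (hO : MOrbit M) (hT : MTrans M)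
    {g h : W ≃ₗ[ℚ] W} (hg : g ∈ M.G) (hh : h ∈ M.G) (e : g M.a₀ = h M.a₀) :
    g * M.t₀ * g⁻¹ = h * M.t₀ * h⁻¹ := by
  have h1 := comm_t₀ hG hR hL hO hT (M.G.mul_mem (M.G.inv_mem hh) hg) (by
    rw [LinearEquiv.mul_apply, e, inv_apply'])
  have h2 : g * M.t₀ = h * M.t₀ * h⁻¹ * g := by
    calc g * M.t₀ = h * (h⁻¹ * g * M.t₀) := by group
      _ = h * (M.t₀ * (h⁻¹ * g)) := by rw [h1]
      _ = h * M.t₀ * h⁻¹ * g := by group
  rw [h2, mul_inv_cancel_right]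

/-- the involution of an axis outside `S` is not in `Q` -/
theorem not_mem_Q (hG : MGroup M K₀) (hR : MRep M) (hL : MLat M) (hO : MOrbit M) (hT : MTrans M)
    {g : W ≃ₗ[ℚ] W} (hg : g ∈ M.G) {j : M.J} (hj : j ≠ M.j₀) (e : g M.a₀ = M.d j) :
    g * M.t₀ * g⁻¹ ∉ M.Q := by
  intro hQ
  obtain ⟨g', hg', e', h, hh, hne⟩ := hT.moves j hj
  apply hne
  rw [conj_eq hG hR hL hO hT hg' hg (e'.trans e.symm)]
  exact Q_u hG hR hQ hh

/-- `t` is injective: the centraliser of `t₀` fixes `a₀`. -/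
theorem a₀_of_comm (hG : MGroup M K₀) (hR : MRep M) (hL : MLat M) (hO : MOrbit M)
    (hT : MTrans M) {g : W ≃ₗ[ℚ] W} (hg : g ∈ M.G) (e : g * M.t₀ = M.t₀ * g) :
    g M.a₀ = M.a₀ := by
  have e' : g * M.t₀ * g⁻¹ = M.t₀ := by rw [e, mul_inv_cancel_right]
  obtain ⟨j, h, hh, h1⟩ := G_X hO hg (S_sub_X hO a₀_mem_S)
  have hhG := C_le hh
  by_cases hj : j = M.j₀
  · subst hj
    rw [hO.d_j₀] at h1
    change g M.a₀ = h M.a₀ at h1
    have h2 := conj_eq hG hR hL hO hT hg hhG h1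
    rw [e'] at h2
    rw [h1]
    refine hR.a₀_fix h hh ?_
    rw [eq_mul_inv_iff_mul_eq] at h2
    exact h2.symm
  · exfalso
    have h3 : (h⁻¹ * g) M.a₀ = M.d j := by
      rw [LinearEquiv.mul_apply, h1, inv_apply']
    apply not_mem_Q hG hR hL hO hT (M.G.mul_mem (M.G.inv_mem hhG) hg) hj h3
    have h4 : h⁻¹ * g * M.t₀ * (h⁻¹ * g)⁻¹ = h⁻¹ * (g * M.t₀ * g⁻¹) * h⁻¹⁻¹ := by group
    rw [h4, e']
    exact Q_normal hG _ (M.C.inv_mem hh) _ hR.t₀_mem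

theorem comm_iff (hG : MGroup M K₀) (hR : MRep M) (hL : MLat M) (hO : MOrbit M)
    (hT : MTrans M) {g : W ≃ₗ[ℚ] W} (hg : g ∈ M.G) : g * M.t₀ = M.t₀ * g ↔ g M.a₀ = M.a₀ :=
  ⟨a₀_of_comm hG hR hL hO hT hg, comm_t₀ hG hR hL hO hT hg⟩

/-- `t` is injective -/
theorem conj_inj (hG : MGroup M K₀) (hR : MRep M) (hL : MLat M) (hO : MOrbit M) (hT : MTrans M)
    {g h : W ≃ₗ[ℚ] W} (hg : g ∈ M.G) (hh : h ∈ M.G)
    (e : g * M.t₀ * g⁻¹ = h * M.t₀ * h⁻¹) : g M.a₀ = h M.a₀ := by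
  have h1 : (h⁻¹ * g) * M.t₀ = M.t₀ * (h⁻¹ * g) := by
    calc (h⁻¹ * g) * M.t₀ = h⁻¹ * (g * M.t₀ * g⁻¹) * g := by group
      _ = h⁻¹ * (h * M.t₀ * h⁻¹) * g := by rw [e]
      _ = M.t₀ * (h⁻¹ * g) := by group
  have h2 := a₀_of_comm hG hR hL hO hT (M.G.mul_mem (M.G.inv_mem hh) hg) h1
  rw [LinearEquiv.mul_apply] at h2
  rw [← apply_inv' h (g M.a₀), h2]

/-- **the centraliser of `z` in `G` is `C`** -/
theorem cent_z (hG : MGroup M K₀) (hR : MRep M) (hL : MLat M) (hO : MOrbit M)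
    (hT : MTrans M) {g : W ≃ₗ[ℚ] W} (hg : g ∈ M.G) (e : g * M.z = M.z * g) : g ∈ M.C := by
  obtain ⟨y, hy, hy0, hy1⟩ := exists_y hG hR
  have hyG : y ∈ M.G := C_le (hG.Q_le hy)
  have hzS : ∀ s ∈ M.S, M.z s = s := fun s hs => z_S hG hR hs
  have hzC : ∀ h ∈ M.C, ∀ x, M.z (h x) = h (M.z x) := by
    intro h hh x
    have := congrArg (fun f : W ≃ₗ[ℚ] W => f x) (hG.z_comm h hh)
    exact this.symm
  have hzg : ∀ x, M.z (g x) = g (M.z x) := by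
    intro x
    have := congrArg (fun f : W ≃ₗ[ℚ] W => f x) e
    exact this.symm
  have hz0 : M.z M.a₀ = M.a₀ := z_a₀ hR
  have hz1 : M.z M.a₁ = M.a₁ := hzS _ (a₁_mem_S hG hR)
  -- axes fixed by `z`
  have hfix : ∀ c ∈ M.X, M.z c = c → c ∈ M.S ∨ (M.j₁ ≠ M.j₀ ∧ ∃ h ∈ M.C, c = h (M.d M.j₁)) := by
    rintro _ ⟨j, h, hh, rfl⟩ hc
    rw [hzC h hh] at hc
    have h1 := hT.z_d j (h.injective hc)
    by_cases hj : j = M.j₀
    · subst hj
      left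
      rw [hO.d_j₀]
      exact ⟨h, hh, rfl⟩
    · rcases h1 with h1 | h1
      · exact absurd h1 hj
      · subst h1
        exact Or.inr ⟨hj, h, hh, rfl⟩
  have hyg : (g * y) M.a₀ = g M.a₁ := by rw [LinearEquiv.mul_apply, hy0]
  have htg : (g * y) * M.t₀ * (g * y)⁻¹ = M.z * (g * M.t₀ * g⁻¹) := by
    calc (g * y) * M.t₀ * (g * y)⁻¹ = g * (y * M.t₀ * y⁻¹) * g⁻¹ := by group
      _ = g * (M.z * M.t₀) * g⁻¹ := by rw [hy1]
      _ = (g * M.z) * M.t₀ * g⁻¹ := by group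
      _ = M.z * (g * M.t₀ * g⁻¹) := by rw [e]; group
  rcases hfix (g M.a₀) (G_X hO hg (S_sub_X hO a₀_mem_S)) (by rw [hzg, hz0]) with h1 | ⟨hj, h, hh, h1⟩
  · -- `g a₀ ∈ S`
    obtain ⟨h, hh, h1⟩ := h1
    have hhG := C_le hh
    have e1 : (h⁻¹ * g) M.a₀ = M.a₀ := by rw [LinearEquiv.mul_apply, h1, inv_apply']
    have hkG : h⁻¹ * g ∈ M.G := M.G.mul_mem (M.G.inv_mem hhG) hg
    have e2 : (h⁻¹ * g) * M.z = M.z * (h⁻¹ * g) := by
      have h3 := hG.z_comm h⁻¹ (M.C.inv_mem hh)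
      rw [mul_assoc, e, ← mul_assoc, h3, mul_assoc]
    have e3 := comm_t₀ hG hR hL hO hT hkG e1
    have e4 : ((h⁻¹ * g) * y) M.a₀ = y M.a₀ := by
      refine conj_inj hG hR hL hO hT (M.G.mul_mem hkG hyG) hyG ?_
      calc ((h⁻¹ * g) * y) * M.t₀ * ((h⁻¹ * g) * y)⁻¹
          = (h⁻¹ * g) * (y * M.t₀ * y⁻¹) * (h⁻¹ * g)⁻¹ := by group
        _ = (h⁻¹ * g) * (M.z * M.t₀) * (h⁻¹ * g)⁻¹ := by rw [hy1]
        _ = ((h⁻¹ * g) * M.z) * M.t₀ * (h⁻¹ * g)⁻¹ := by group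
        _ = M.z * ((h⁻¹ * g) * M.t₀) * (h⁻¹ * g)⁻¹ := by rw [e2]; group
        _ = M.z * (M.t₀ * (h⁻¹ * g)) * (h⁻¹ * g)⁻¹ := by rw [e3]
        _ = y * M.t₀ * y⁻¹ := by rw [hy1]; group
    have e5 : (h⁻¹ * g) M.a₁ = M.a₁ := by
      rw [LinearEquiv.mul_apply, hy0] at e4
      exact e4
    have h5 := pair_stab hG hR hL hO hkG e1 e5
    have h6 := M.C.mul_mem hh h5
    rwa [mul_inv_cancel_left] at h6
  · exfalso
    have hhG := C_le hh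
    obtain ⟨g', hg', e', hnc⟩ := hT.not_conj
    have e1 : g * M.t₀ * g⁻¹ = h * (g' * M.t₀ * g'⁻¹) * h⁻¹ := by
      rw [conj_eq hG hR hL hO hT hg (M.G.mul_mem hhG hg') (by
        rw [LinearEquiv.mul_apply, e', h1])]
      group
    rcases hfix (g M.a₁) (G_X hO hg (S_sub_X hO (a₁_mem_S hG hR))) (by rw [hzg, hz1])
      with h2 | ⟨_, h', hh', h2⟩
    · obtain ⟨h', hh', h2⟩ := h2
      have e2 := conj_eq hG hR hL hO hT (M.G.mul_mem hg hyG) (C_le hh') (hyg.trans h2)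
      rw [htg, e1] at e2
      have hQ : M.z * (h * (g' * M.t₀ * g'⁻¹) * h⁻¹) ∈ M.Q := by
        rw [e2]
        exact Q_normal hG h' hh' _ hR.t₀_mem
      have hQ' : h * (g' * M.t₀ * g'⁻¹) * h⁻¹ ∈ M.Q := by
        have := M.Q.mul_mem (M.Q.inv_mem hG.z_mem) hQ
        rwa [inv_mul_cancel_left] at this
      apply not_mem_Q hG hR hL hO hT hg' hj e'
      have := Q_normal hG h⁻¹ (M.C.inv_mem hh) _ hQ'
      have e3 : h⁻¹ * (h * (g' * M.t₀ * g'⁻¹) * h⁻¹) * h⁻¹⁻¹ = g' * M.t₀ * g'⁻¹ := by group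
      rwa [e3] at this
    · have e2 := conj_eq hG hR hL hO hT (M.G.mul_mem hg hyG) (M.G.mul_mem (C_le hh') hg')
        (by rw [hyg, h2, LinearEquiv.mul_apply, e'])
      rw [htg, e1] at e2
      refine hnc (h⁻¹ * h') (M.C.mul_mem (M.C.inv_mem hh) hh') ?_
      have h3 := hG.z_comm h⁻¹ (M.C.inv_mem hh)
      calc h⁻¹ * h' * (g' * M.t₀ * g'⁻¹) * (h⁻¹ * h')⁻¹
          = h⁻¹ * (h' * g' * M.t₀ * (h' * g')⁻¹) * h := by group
        _ = h⁻¹ * (M.z * (h * (g' * M.t₀ * g'⁻¹) * h⁻¹)) * h := by rw [e2]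
        _ = (h⁻¹ * M.z) * h * (g' * M.t₀ * g'⁻¹) := by group
        _ = M.z * (g' * M.t₀ * g'⁻¹) := by rw [h3]; group

end Cfsg.Agent.MonsterX.MainTrans
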