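import Cfsg.Agent.MonsterX.CertBase
import Cfsg.Agent.MonsterX.Conc

/-!
The vectors of the words in the space `V`: `ax` = the base axis (norm `8`), `vv w = W w ax`.

* `vv_eq_of_ident`: vector identities from the kernel checks `ident`;
* `inv3V`: the three counts, invariant under `N`;
* `F_ax`: the inner product with `ax` in terms of five lanes.
-/

set_option autoImplicit false
set_option maxRecDepth 100000

namespace Cfsg.Agent.MonsterX.CertV

open Cfsg.Agent.Monster.VecEngine Cfsg.Agent.Monster.VecSpace Cfsg.Agent.MonsterX.ProgBase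
  Cfsg.Agent.MonsterX.ProgTable Cfsg.Agent.MonsterX.CertVec Cfsg.Agent.MonsterX.CertBase Cfsg.Agent.MonsterX.Space

/-- The base axis. -/
noncomputable def ax : V := (1 / 256 : ℚ) • vecV a0

/-- The vector of a word. -/
noncomputable def vv (w : List ℕ) : V := Conc.W w ax

@[simp] theorem vv_nil : vv [] = ax := by
  unfold vv
  rw [Conc.W_nil]; rfl

theorem vv_append (w w' : List ℕ) : vv (w ++ w') = Conc.W w' (vv w) := by
  unfold vv
  rw [Conc.W_append]; rfl

/-- VECTOR IDENTITIES from the kernel check `ident`. -/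
theorem vv_eq_of_ident {w₁ w₂ : List ℕ} (h : ident w₁ w₂ = true) : vv w₁ = vv w₂ := by
  have h' : check (w₁.map prog) a0 (w₂.map prog) a0 = true := by
    rw [← dec_eq, ← dec_eq]; exact h
  have h1 := Conc.W_eq_of_check h'
  unfold vv ax
  rw [map_smul, map_smul, h1]

theorem sym_a0 : sym a0 = true := by decide +kernel

theorem W_coe' (w : List ℕ) (v : V) : (Conc.W w v : Lane U → ℚ) = CertVec.W prog U w v.1 := by
  have hg : ∀ P ∈ w.map prog, GoodW 262144 U (.sgn 0) P := by
    intro P hP
    obtain ⟨n, -, rfl⟩ := List.mem_map.1 hP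
    exact prog_good n
  rw [Conc.W_coe, W_eq, wordE_apply ℚ (by norm_num) hg]

theorem E_coe' (n : ℕ) (v : V) : (Conc.E n v : Lane U → ℚ) = CertVec.E prog U n v.1 := by
  rw [← Conc.W_single, W_coe', CertVec.W_singleton]

theorem vv_coe (w : List ℕ) : (vv w : Lane U → ℚ) = (1 / 256 : ℚ) • wv w := by
  unfold vv wv
  rw [W_coe']
  show CertVec.W prog U w ((1 / 256 : ℚ) • (vecV a0 : Lane U → ℚ)) = _
  rw [map_smul, vecV_coe sym_a0]

/-! ### The three counts -/

/-- The three counts of a vector. -/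
noncomputable def inv3V (v : V) : ℕ × ℕ × ℕ := inv3 ((256 : ℚ) • v.1)

theorem inv3V_vv (w : List ℕ) : inv3V (vv w) = inv3 (wv w) := by
  unfold inv3V
  rw [vv_coe, smul_smul]
  norm_num

theorem inv3V_E {n : ℕ} (h : isD n = true) (v : V) : inv3V (Conc.E n v) = inv3V v := by
  unfold inv3V
  rw [E_coe', ← map_smul, inv3_of_mem (E_mem_cntGroup h)]

theorem isD_of_lt {n : ℕ} (h : n < 39) : isD n = true := by
  unfold isD
  have : Nat.blt n 39 = true := by
    rw [Nat.blt_eq]; exact h
  rw [this]; rfl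

/-- The three counts are invariant under `N`. -/
theorem inv3V_of_mem {g : V ≃ₗ[ℚ] V} (hg : g ∈ Conc.N) (v : V) : inv3V (g v) = inv3V v := by
  unfold Conc.N at hg
  induction hg using Subgroup.closure_induction generalizing v with
  | mem g hg =>
    obtain ⟨n, hn, rfl⟩ := hg
    exact inv3V_E (isD_of_lt hn) v
  | one => rfl
  | mul a b _ _ ha hb => rw [LinearEquiv.mul_apply, ha, hb]
  | inv a _ ha =>
    have h := ha (a⁻¹ v)
    rw [← h, ← LinearEquiv.mul_apply, mul_inv_cancel]; rfl

theorem inv3V_of_invIs {w : List ℕ} {c₁ c₂ c₃ : ℕ} (h : invIs w c₁ c₂ c₃ = true) : inv3V (vv w) = (c₁, c₂, c₃) := by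
  rw [inv3V_vv, invIs_sound h]

end Cfsg.Agent.MonsterX.CertV
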