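import Cfsg.Agent.MonsterX.CertTab

/-!
The three counts of the representatives `36`-`71` (kernel computation).
-/

set_option autoImplicit false
set_option Elab.async false
set_option maxRecDepth 100000

namespace Cfsg.Agent.MonsterX.CertInvI1

open Cfsg.Agent.MonsterX.CertVec Cfsg.Agent.MonsterX.CertTab

theorem inv_36 : allN invOK 36 3 = true := by decide +kernel

theorem inv_39 : allN invOK 39 3 = true := by decide +kernel

theorem inv_42 : allN invOK 42 3 = true := by decide +kernel

theorem inv_45 : allN invOK 45 3 = true := by decide +kernel

theorem inv_48 : allN invOK 48 3 = true := by decide +kernel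

theorem inv_51 : allN invOK 51 3 = true := by decide +kernel

theorem inv_54 : allN invOK 54 3 = true := by decide +kernel

theorem inv_57 : allN invOK 57 3 = true := by decide +kernel

theorem inv_60 : allN invOK 60 3 = true := by decide +kernel

theorem inv_63 : allN invOK 63 3 = true := by decide +kernel

theorem inv_66 : allN invOK 66 3 = true := by decide +kernel

theorem inv_69 : allN invOK 69 3 = true := by decide +kernel

end Cfsg.Agent.MonsterX.CertInvI1
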