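import Cfsg.Agent.MonsterX.CertTab

/-!
The three counts of the representatives `72`-`107` (kernel computation).
-/

set_option autoImplicit false
set_option Elab.async false
set_option maxRecDepth 100000

namespace Cfsg.Agent.MonsterX.CertInvI2

open Cfsg.Agent.MonsterX.CertVec Cfsg.Agent.MonsterX.CertTab

theorem inv_72 : allN invOK 72 3 = true := by decide +kernel

theorem inv_75 : allN invOK 75 3 = true := by decide +kernel

theorem inv_78 : allN invOK 78 3 = true := by decide +kernel

theorem inv_81 : allN invOK 81 3 = true := by decide +kernel

theorem inv_84 : allN invOK 84 3 = true := by decide +kernel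

theorem inv_87 : allN invOK 87 3 = true := by decide +kernel

theorem inv_90 : allN invOK 90 3 = true := by decide +kernel

theorem inv_93 : allN invOK 93 3 = true := by decide +kernel

theorem inv_96 : allN invOK 96 3 = true := by decide +kernel

theorem inv_99 : allN invOK 99 3 = true := by decide +kernel

theorem inv_102 : allN invOK 102 3 = true := by decide +kernel

theorem inv_105 : allN invOK 105 3 = true := by decide +kernel

end Cfsg.Agent.MonsterX.CertInvI2
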