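import Cfsg.Agent.MonsterX.CertTab

/-!
The three counts of the representatives `108`-`143` (kernel computation).
-/

set_option autoImplicit false
set_option Elab.async false
set_option maxRecDepth 100000

namespace Cfsg.Agent.MonsterX.CertInvI3

open Cfsg.Agent.MonsterX.CertVec Cfsg.Agent.MonsterX.CertTab

theorem inv_108 : allN invOK 108 3 = true := by decide +kernel

theorem inv_111 : allN invOK 111 3 = true := by decide +kernel

theorem inv_114 : allN invOK 114 3 = true := by decide +kernel

theorem inv_117 : allN invOK 117 3 = true := by decide +kernel

theorem inv_120 : allN invOK 120 3 = true := by decide +kernel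

theorem inv_123 : allN invOK 123 3 = true := by decide +kernel

theorem inv_126 : allN invOK 126 3 = true := by decide +kernel

theorem inv_129 : allN invOK 129 3 = true := by decide +kernel

theorem inv_132 : allN invOK 132 3 = true := by decide +kernel

theorem inv_135 : allN invOK 135 3 = true := by decide +kernel

theorem inv_138 : allN invOK 138 3 = true := by decide +kernel

theorem inv_141 : allN invOK 141 3 = true := by decide +kernel

end Cfsg.Agent.MonsterX.CertInvI3
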