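import Cfsg.Agent.MonsterX.CertTab

/-!
The three counts of the representatives `144`-`179` (kernel computation).
-/

set_option autoImplicit false
set_option Elab.async false
set_option maxRecDepth 100000

namespace Cfsg.Agent.MonsterX.CertInvI4

open Cfsg.Agent.MonsterX.CertVec Cfsg.Agent.MonsterX.CertTab

theorem inv_144 : allN invOK 144 3 = true := by decide +kernel

theorem inv_147 : allN invOK 147 3 = true := by decide +kernel

theorem inv_150 : allN invOK 150 3 = true := by decide +kernel

theorem inv_153 : allN invOK 153 3 = true := by decide +kernel

theorem inv_156 : allN invOK 156 3 = true := by decide +kernel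

theorem inv_159 : allN invOK 159 3 = true := by decide +kernel

theorem inv_162 : allN invOK 162 3 = true := by decide +kernel

theorem inv_165 : allN invOK 165 3 = true := by decide +kernel

theorem inv_168 : allN invOK 168 3 = true := by decide +kernel

theorem inv_171 : allN invOK 171 3 = true := by decide +kernel

theorem inv_174 : allN invOK 174 3 = true := by decide +kernel

theorem inv_177 : allN invOK 177 3 = true := by decide +kernel

end Cfsg.Agent.MonsterX.CertInvI4
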