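import Cfsg.Agent.MonsterX.CertTab

/-!
The three counts of the representatives `180`-`215` (kernel computation).
-/

set_option autoImplicit false
set_option Elab.async false
set_option maxRecDepth 100000

namespace Cfsg.Agent.MonsterX.CertInvI5

open Cfsg.Agent.MonsterX.CertVec Cfsg.Agent.MonsterX.CertTab

theorem inv_180 : allN invOK 180 3 = true := by decide +kernel

theorem inv_183 : allN invOK 183 3 = true := by decide +kernel

theorem inv_186 : allN invOK 186 3 = true := by decide +kernel

theorem inv_189 : allN invOK 189 3 = true := by decide +kernel

theorem inv_192 : allN invOK 192 3 = true := by decide +kernel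

theorem inv_195 : allN invOK 195 3 = true := by decide +kernel

theorem inv_198 : allN invOK 198 3 = true := by decide +kernel

theorem inv_201 : allN invOK 201 3 = true := by decide +kernel

theorem inv_204 : allN invOK 204 3 = true := by decide +kernel

theorem inv_207 : allN invOK 207 3 = true := by decide +kernel

theorem inv_210 : allN invOK 210 3 = true := by decide +kernel

theorem inv_213 : allN invOK 213 3 = true := by decide +kernel

end Cfsg.Agent.MonsterX.CertInvI5
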