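import Cfsg.Agent.MonsterX.CertTab

/-!
The three counts of the representatives `216`-`250` (kernel computation).
-/

set_option autoImplicit false
set_option Elab.async false
set_option maxRecDepth 100000

namespace Cfsg.Agent.MonsterX.CertInvI6

open Cfsg.Agent.MonsterX.CertVec Cfsg.Agent.MonsterX.CertTab

theorem inv_216 : allN invOK 216 3 = true := by decide +kernel

theorem inv_219 : allN invOK 219 3 = true := by decide +kernel

theorem inv_222 : allN invOK 222 3 = true := by decide +kernel

theorem inv_225 : allN invOK 225 3 = true := by decide +kernel

theorem inv_228 : allN invOK 228 3 = true := by decide +kernel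

theorem inv_231 : allN invOK 231 3 = true := by decide +kernel

theorem inv_234 : allN invOK 234 3 = true := by decide +kernel

theorem inv_237 : allN invOK 237 3 = true := by decide +kernel

theorem inv_240 : allN invOK 240 3 = true := by decide +kernel

theorem inv_243 : allN invOK 243 3 = true := by decide +kernel

theorem inv_246 : allN invOK 246 3 = true := by decide +kernel

theorem inv_249 : allN invOK 249 2 = true := by decide +kernel

end Cfsg.Agent.MonsterX.CertInvI6
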