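import Cfsg.Agent.MonsterX.CertTab

/-!
The words `lw k` fix the representatives (kernel computation).
-/

set_option autoImplicit false
set_option Elab.async false
set_option maxRecDepth 100000

namespace Cfsg.Agent.MonsterX.CertStabI

open Cfsg.Agent.MonsterX.CertVec Cfsg.Agent.MonsterX.CertTab

theorem stab_0 : stabOK 0 = true := by decide +kernel

theorem stab_1 : stabOK 1 = true := by decide +kernel

theorem stab_2 : stabOK 2 = true := by decide +kernel

theorem stab_3 : stabOK 3 = true := by decide +kernel

theorem stab_4 : stabOK 4 = true := by decide +kernel

theorem stab_5 : stabOK 5 = true := by decide +kernel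

theorem stab_6 : stabOK 6 = true := by decide +kernel

theorem stab_7 : stabOK 7 = true := by decide +kernel

theorem stab_8 : stabOK 8 = true := by decide +kernel

theorem stab_9 : stabOK 9 = true := by decide +kernel

theorem stab_10 : stabOK 10 = true := by decide +kernel

theorem stab_11 : stabOK 11 = true := by decide +kernel

theorem stab_12 : stabOK 12 = true := by decide +kernel

theorem stab_13 : stabOK 13 = true := by decide +kernel

theorem stab_14 : stabOK 14 = true := by decide +kernel

theorem stab_15 : stabOK 15 = true := by decide +kernel

theorem stab_16 : stabOK 16 = true := by decide +kernel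

theorem stab_17 : stabOK 17 = true := by decide +kernel

theorem stab_18 : stabOK 18 = true := by decide +kernel

theorem stab_19 : stabOK 19 = true := by decide +kernel

theorem stab_20 : stabOK 20 = true := by decide +kernel

theorem stab_21 : stabOK 21 = true := by decide +kernel

theorem stab_22 : stabOK 22 = true := by decide +kernel

theorem stab_23 : stabOK 23 = true := by decide +kernel

theorem stab_24 : stabOK 24 = true := by decide +kernel

theorem stab_25 : stabOK 25 = true := by decide +kernel

theorem stab_26 : stabOK 26 = true := by decide +kernel

theorem stab_27 : stabOK 27 = true := by decide +kernel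

theorem stab_28 : stabOK 28 = true := by decide +kernel

theorem stab_29 : stabOK 29 = true := by decide +kernel

end Cfsg.Agent.MonsterX.CertStabI
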