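import Cfsg.Agent.MonsterX.CertTab

/-!
The `τ`-identities of the rows `10`-`19` (kernel computation).
-/

set_option autoImplicit false
set_option Elab.async false
set_option maxRecDepth 100000

namespace Cfsg.Agent.MonsterX.CertTauI1

open Cfsg.Agent.MonsterX.CertVec Cfsg.Agent.MonsterX.CertTab

theorem tau_10 : tauOK 10 = true := by decide +kernel

theorem tau_11 : tauOK 11 = true := by decide +kernel

theorem tau_12 : tauOK 12 = true := by decide +kernel

theorem tau_13 : tauOK 13 = true := by decide +kernel

theorem tau_14 : tauOK 14 = true := by decide +kernel

theorem tau_15 : tauOK 15 = true := by decide +kernel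

theorem tau_16 : tauOK 16 = true := by decide +kernel

theorem tau_17 : tauOK 17 = true := by decide +kernel

theorem tau_18 : tauOK 18 = true := by decide +kernel

theorem tau_19 : tauOK 19 = true := by decide +kernel

end Cfsg.Agent.MonsterX.CertTauI1
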