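import Cfsg.Agent.MonsterX.CertTab

/-!
The `τ`-identities of the rows `100`-`109` (kernel computation).
-/

set_option autoImplicit false
set_option Elab.async false
set_option maxRecDepth 100000

namespace Cfsg.Agent.MonsterX.CertTauI10

open Cfsg.Agent.MonsterX.CertVec Cfsg.Agent.MonsterX.CertTab

theorem tau_100 : tauOK 100 = true := by decide +kernel

theorem tau_101 : tauOK 101 = true := by decide +kernel

theorem tau_102 : tauOK 102 = true := by decide +kernel

theorem tau_103 : tauOK 103 = true := by decide +kernel

theorem tau_104 : tauOK 104 = true := by decide +kernel

theorem tau_105 : tauOK 105 = true := by decide +kernel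

theorem tau_106 : tauOK 106 = true := by decide +kernel

theorem tau_107 : tauOK 107 = true := by decide +kernel

theorem tau_108 : tauOK 108 = true := by decide +kernel

theorem tau_109 : tauOK 109 = true := by decide +kernel

end Cfsg.Agent.MonsterX.CertTauI10
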