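import Cfsg.Agent.MonsterX.CertTab

/-!
The `τ`-identities of the rows `110`-`119` (kernel computation).
-/

set_option autoImplicit false
set_option Elab.async false
set_option maxRecDepth 100000

namespace Cfsg.Agent.MonsterX.CertTauI11

open Cfsg.Agent.MonsterX.CertVec Cfsg.Agent.MonsterX.CertTab

theorem tau_110 : tauOK 110 = true := by decide +kernel

theorem tau_111 : tauOK 111 = true := by decide +kernel

theorem tau_112 : tauOK 112 = true := by decide +kernel

theorem tau_113 : tauOK 113 = true := by decide +kernel

theorem tau_114 : tauOK 114 = true := by decide +kernel

theorem tau_115 : tauOK 115 = true := by decide +kernel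

theorem tau_116 : tauOK 116 = true := by decide +kernel

theorem tau_117 : tauOK 117 = true := by decide +kernel

theorem tau_118 : tauOK 118 = true := by decide +kernel

theorem tau_119 : tauOK 119 = true := by decide +kernel

end Cfsg.Agent.MonsterX.CertTauI11
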