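import Cfsg.Agent.MonsterX.CertTab

/-!
The `τ`-identities of the rows `120`-`122` (kernel computation).
-/

set_option autoImplicit false
set_option Elab.async false
set_option maxRecDepth 100000

namespace Cfsg.Agent.MonsterX.CertTauI12

open Cfsg.Agent.MonsterX.CertVec Cfsg.Agent.MonsterX.CertTab

theorem tau_120 : tauOK 120 = true := by decide +kernel

theorem tau_121 : tauOK 121 = true := by decide +kernel

theorem tau_122 : tauOK 122 = true := by decide +kernel

end Cfsg.Agent.MonsterX.CertTauI12
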