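import Cfsg.Agent.MonsterX.CertTab

/-!
The `τ`-identities of the rows `20`-`29` (kernel computation).
-/

set_option autoImplicit false
set_option Elab.async false
set_option maxRecDepth 100000

namespace Cfsg.Agent.MonsterX.CertTauI2

open Cfsg.Agent.MonsterX.CertVec Cfsg.Agent.MonsterX.CertTab

theorem tau_20 : tauOK 20 = true := by decide +kernel

theorem tau_21 : tauOK 21 = true := by decide +kernel

theorem tau_22 : tauOK 22 = true := by decide +kernel

theorem tau_23 : tauOK 23 = true := by decide +kernel

theorem tau_24 : tauOK 24 = true := by decide +kernel

theorem tau_25 : tauOK 25 = true := by decide +kernel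

theorem tau_26 : tauOK 26 = true := by decide +kernel

theorem tau_27 : tauOK 27 = true := by decide +kernel

theorem tau_28 : tauOK 28 = true := by decide +kernel

theorem tau_29 : tauOK 29 = true := by decide +kernel

end Cfsg.Agent.MonsterX.CertTauI2
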