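import Cfsg.Agent.MonsterX.CertTab

/-!
The `τ`-identities of the rows `30`-`39` (kernel computation).
-/

set_option autoImplicit false
set_option Elab.async false
set_option maxRecDepth 100000

namespace Cfsg.Agent.MonsterX.CertTauI3

open Cfsg.Agent.MonsterX.CertVec Cfsg.Agent.MonsterX.CertTab

theorem tau_30 : tauOK 30 = true := by decide +kernel

theorem tau_31 : tauOK 31 = true := by decide +kernel

theorem tau_32 : tauOK 32 = true := by decide +kernel

theorem tau_33 : tauOK 33 = true := by decide +kernel

theorem tau_34 : tauOK 34 = true := by decide +kernel

theorem tau_35 : tauOK 35 = true := by decide +kernel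

theorem tau_36 : tauOK 36 = true := by decide +kernel

theorem tau_37 : tauOK 37 = true := by decide +kernel

theorem tau_38 : tauOK 38 = true := by decide +kernel

theorem tau_39 : tauOK 39 = true := by decide +kernel

end Cfsg.Agent.MonsterX.CertTauI3
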