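import Cfsg.Agent.MonsterX.CertTab

/-!
The `τ`-identities of the rows `40`-`49` (kernel computation).
-/

set_option autoImplicit false
set_option Elab.async false
set_option maxRecDepth 100000

namespace Cfsg.Agent.MonsterX.CertTauI4

open Cfsg.Agent.MonsterX.CertVec Cfsg.Agent.MonsterX.CertTab

theorem tau_40 : tauOK 40 = true := by decide +kernel

theorem tau_41 : tauOK 41 = true := by decide +kernel

theorem tau_42 : tauOK 42 = true := by decide +kernel

theorem tau_43 : tauOK 43 = true := by decide +kernel

theorem tau_44 : tauOK 44 = true := by decide +kernel

theorem tau_45 : tauOK 45 = true := by decide +kernel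

theorem tau_46 : tauOK 46 = true := by decide +kernel

theorem tau_47 : tauOK 47 = true := by decide +kernel

theorem tau_48 : tauOK 48 = true := by decide +kernel

theorem tau_49 : tauOK 49 = true := by decide +kernel

end Cfsg.Agent.MonsterX.CertTauI4
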