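import Cfsg.Agent.MonsterX.CertTab

/-!
The `τ`-identities of the rows `50`-`59` (kernel computation).
-/

set_option autoImplicit false
set_option Elab.async false
set_option maxRecDepth 100000

namespace Cfsg.Agent.MonsterX.CertTauI5

open Cfsg.Agent.MonsterX.CertVec Cfsg.Agent.MonsterX.CertTab

theorem tau_50 : tauOK 50 = true := by decide +kernel

theorem tau_51 : tauOK 51 = true := by decide +kernel

theorem tau_52 : tauOK 52 = true := by decide +kernel

theorem tau_53 : tauOK 53 = true := by decide +kernel

theorem tau_54 : tauOK 54 = true := by decide +kernel

theorem tau_55 : tauOK 55 = true := by decide +kernel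

theorem tau_56 : tauOK 56 = true := by decide +kernel

theorem tau_57 : tauOK 57 = true := by decide +kernel

theorem tau_58 : tauOK 58 = true := by decide +kernel

theorem tau_59 : tauOK 59 = true := by decide +kernel

end Cfsg.Agent.MonsterX.CertTauI5
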