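import Cfsg.Agent.MonsterX.CertTab

/-!
The `τ`-identities of the rows `60`-`69` (kernel computation).
-/

set_option autoImplicit false
set_option Elab.async false
set_option maxRecDepth 100000

namespace Cfsg.Agent.MonsterX.CertTauI6

open Cfsg.Agent.MonsterX.CertVec Cfsg.Agent.MonsterX.CertTab

theorem tau_60 : tauOK 60 = true := by decide +kernel

theorem tau_61 : tauOK 61 = true := by decide +kernel

theorem tau_62 : tauOK 62 = true := by decide +kernel

theorem tau_63 : tauOK 63 = true := by decide +kernel

theorem tau_64 : tauOK 64 = true := by decide +kernel

theorem tau_65 : tauOK 65 = true := by decide +kernel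

theorem tau_66 : tauOK 66 = true := by decide +kernel

theorem tau_67 : tauOK 67 = true := by decide +kernel

theorem tau_68 : tauOK 68 = true := by decide +kernel

theorem tau_69 : tauOK 69 = true := by decide +kernel

end Cfsg.Agent.MonsterX.CertTauI6
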