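import Cfsg.Agent.MonsterX.CertTab

/-!
The `τ`-identities of the rows `70`-`79` (kernel computation).
-/

set_option autoImplicit false
set_option Elab.async false
set_option maxRecDepth 100000

namespace Cfsg.Agent.MonsterX.CertTauI7

open Cfsg.Agent.MonsterX.CertVec Cfsg.Agent.MonsterX.CertTab

theorem tau_70 : tauOK 70 = true := by decide +kernel

theorem tau_71 : tauOK 71 = true := by decide +kernel

theorem tau_72 : tauOK 72 = true := by decide +kernel

theorem tau_73 : tauOK 73 = true := by decide +kernel

theorem tau_74 : tauOK 74 = true := by decide +kernel

theorem tau_75 : tauOK 75 = true := by decide +kernel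

theorem tau_76 : tauOK 76 = true := by decide +kernel

theorem tau_77 : tauOK 77 = true := by decide +kernel

theorem tau_78 : tauOK 78 = true := by decide +kernel

theorem tau_79 : tauOK 79 = true := by decide +kernel

end Cfsg.Agent.MonsterX.CertTauI7
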