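import Cfsg.Agent.MonsterX.CertTab

/-!
The `τ`-identities of the rows `80`-`89` (kernel computation).
-/

set_option autoImplicit false
set_option Elab.async false
set_option maxRecDepth 100000

namespace Cfsg.Agent.MonsterX.CertTauI8

open Cfsg.Agent.MonsterX.CertVec Cfsg.Agent.MonsterX.CertTab

theorem tau_80 : tauOK 80 = true := by decide +kernel

theorem tau_81 : tauOK 81 = true := by decide +kernel

theorem tau_82 : tauOK 82 = true := by decide +kernel

theorem tau_83 : tauOK 83 = true := by decide +kernel

theorem tau_84 : tauOK 84 = true := by decide +kernel

theorem tau_85 : tauOK 85 = true := by decide +kernel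

theorem tau_86 : tauOK 86 = true := by decide +kernel

theorem tau_87 : tauOK 87 = true := by decide +kernel

theorem tau_88 : tauOK 88 = true := by decide +kernel

theorem tau_89 : tauOK 89 = true := by decide +kernel

end Cfsg.Agent.MonsterX.CertTauI8
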