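import Cfsg.Agent.MonsterX.CertTab

/-!
The `τ`-identities of the rows `90`-`99` (kernel computation).
-/

set_option autoImplicit false
set_option Elab.async false
set_option maxRecDepth 100000

namespace Cfsg.Agent.MonsterX.CertTauI9

open Cfsg.Agent.MonsterX.CertVec Cfsg.Agent.MonsterX.CertTab

theorem tau_90 : tauOK 90 = true := by decide +kernel

theorem tau_91 : tauOK 91 = true := by decide +kernel

theorem tau_92 : tauOK 92 = true := by decide +kernel

theorem tau_93 : tauOK 93 = true := by decide +kernel

theorem tau_94 : tauOK 94 = true := by decide +kernel

theorem tau_95 : tauOK 95 = true := by decide +kernel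

theorem tau_96 : tauOK 96 = true := by decide +kernel

theorem tau_97 : tauOK 97 = true := by decide +kernel

theorem tau_98 : tauOK 98 = true := by decide +kernel

theorem tau_99 : tauOK 99 = true := by decide +kernel

end Cfsg.Agent.MonsterX.CertTauI9
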