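import Cfsg.Agent.MonsterX.CertTauI0
import Cfsg.Agent.MonsterX.CertTauI1
import Cfsg.Agent.MonsterX.CertTauI2
import Cfsg.Agent.MonsterX.CertTauI3
import Cfsg.Agent.MonsterX.CertTauI4
import Cfsg.Agent.MonsterX.CertTauI5
import Cfsg.Agent.MonsterX.CertTauI6
import Cfsg.Agent.MonsterX.CertTauI7
import Cfsg.Agent.MonsterX.CertTauI8
import Cfsg.Agent.MonsterX.CertTauI9
import Cfsg.Agent.MonsterX.CertTauI10
import Cfsg.Agent.MonsterX.CertTauI11
import Cfsg.Agent.MonsterX.CertTauI12
import Cfsg.Agent.MonsterX.CertInvI0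
import Cfsg.Agent.MonsterX.CertInvI1
import Cfsg.Agent.MonsterX.CertInvI2
import Cfsg.Agent.MonsterX.CertInvI3
import Cfsg.Agent.MonsterX.CertInvI4
import Cfsg.Agent.MonsterX.CertInvI5
import Cfsg.Agent.MonsterX.CertInvI6
import Cfsg.Agent.MonsterX.CertStabI

/-!
All certificates of the tables of `CertTab` in one place.

* `tau_all`, `inv_all`, `stab_all`: the kernel checks; `tau_id`, `inv_id`, `stab_id`: the identities;
* `isD_n1`, `isD_n2`: the words `n₁`, `n₂` consist of monomial letters; `isC_kw`, `isC_lw`, `isC_bw`...;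
* `inv_inj`, `rep_inj`: the counts of the 251 representatives are different, so no element of the counting group maps one
  representative to another one;
* `pk`, `cls`, `cls_pk`: every index occurs in the table.
-/

set_option autoImplicit false
set_option Elab.async false
set_option maxRecDepth 100000

namespace Cfsg.Agent.MonsterX.CertAll

open Cfsg.Agent.Monster.VecEngine Cfsg.Agent.Monster.VecSpace Cfsg.Agent.MonsterX.ProgBase Cfsg.Agent.MonsterX.ProgTable
  Cfsg.Agent.MonsterX.CertVec Cfsg.Agent.MonsterX.CertBase Cfsg.Agent.MonsterX.CertB Cfsg.Agent.MonsterX.CertTab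

theorem step {P : ℕ → Prop} (a n : ℕ) (h : ∀ t, t < a → P t) (hn : ∀ k, k < n → P (a + k)) :
    ∀ t, t < a + n → P t := by
  intro t ht
  by_cases h1 : t < a
  · exact h t h1
  · have := hn (t - a) (by omega)
    rwa [show a + (t - a) = t by omega] at this

theorem step1 {P : ℕ → Prop} (a : ℕ) (h : ∀ t, t < a → P t) (hn : P a) : ∀ t, t < a + 1 → P t :=
  step a 1 h fun k hk => by
    obtain rfl : k = 0 := by omega
    exact hn

theorem zero {P : ℕ → Prop} : ∀ t, t < 0 → P t := fun _ h => absurd h (Nat.not_lt_zero _)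

theorem tauB0 : ∀ t, t < 10 → tauOK t = true :=
  step1 9 (step1 8 (step1 7 (step1 6 (step1 5 (step1 4 (step1 3 (step1 2 (step1 1 (step1 0 zero
    CertTauI0.tau_0) CertTauI0.tau_1) CertTauI0.tau_2) CertTauI0.tau_3) CertTauI0.tau_4) CertTauI0.tau_5)
    CertTauI0.tau_6) CertTauI0.tau_7) CertTauI0.tau_8) CertTauI0.tau_9

theorem tauB1 : ∀ t, t < 20 → tauOK t = true :=
  step1 19 (step1 18 (step1 17 (step1 16 (step1 15 (step1 14 (step1 13 (step1 12 (step1 11 (step1 10 tauB0
    CertTauI1.tau_10) CertTauI1.tau_11) CertTauI1.tau_12) CertTauI1.tau_13) CertTauI1.tau_14)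
    CertTauI1.tau_15) CertTauI1.tau_16) CertTauI1.tau_17) CertTauI1.tau_18) CertTauI1.tau_19

theorem tauB2 : ∀ t, t < 30 → tauOK t = true :=
  step1 29 (step1 28 (step1 27 (step1 26 (step1 25 (step1 24 (step1 23 (step1 22 (step1 21 (step1 20 tauB1
    CertTauI2.tau_20) CertTauI2.tau_21) CertTauI2.tau_22) CertTauI2.tau_23) CertTauI2.tau_24)
    CertTauI2.tau_25) CertTauI2.tau_26) CertTauI2.tau_27) CertTauI2.tau_28) CertTauI2.tau_29

theorem tauB3 : ∀ t, t < 40 → tauOK t = true :=
  step1 39 (step1 38 (step1 37 (step1 36 (step1 35 (step1 34 (step1 33 (step1 32 (step1 31 (step1 30 tauB2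
    CertTauI3.tau_30) CertTauI3.tau_31) CertTauI3.tau_32) CertTauI3.tau_33) CertTauI3.tau_34)
    CertTauI3.tau_35) CertTauI3.tau_36) CertTauI3.tau_37) CertTauI3.tau_38) CertTauI3.tau_39

theorem tauB4 : ∀ t, t < 50 → tauOK t = true :=
  step1 49 (step1 48 (step1 47 (step1 46 (step1 45 (step1 44 (step1 43 (step1 42 (step1 41 (step1 40 tauB3
    CertTauI4.tau_40) CertTauI4.tau_41) CertTauI4.tau_42) CertTauI4.tau_43) CertTauI4.tau_44)
    CertTauI4.tau_45) CertTauI4.tau_46) CertTauI4.tau_47) CertTauI4.tau_48) CertTauI4.tau_49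

theorem tauB5 : ∀ t, t < 60 → tauOK t = true :=
  step1 59 (step1 58 (step1 57 (step1 56 (step1 55 (step1 54 (step1 53 (step1 52 (step1 51 (step1 50 tauB4
    CertTauI5.tau_50) CertTauI5.tau_51) CertTauI5.tau_52) CertTauI5.tau_53) CertTauI5.tau_54)
    CertTauI5.tau_55) CertTauI5.tau_56) CertTauI5.tau_57) CertTauI5.tau_58) CertTauI5.tau_59

theorem tauB6 : ∀ t, t < 70 → tauOK t = true :=
  step1 69 (step1 68 (step1 67 (step1 66 (step1 65 (step1 64 (step1 63 (step1 62 (step1 61 (step1 60 tauB5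
    CertTauI6.tau_60) CertTauI6.tau_61) CertTauI6.tau_62) CertTauI6.tau_63) CertTauI6.tau_64)
    CertTauI6.tau_65) CertTauI6.tau_66) CertTauI6.tau_67) CertTauI6.tau_68) CertTauI6.tau_69

theorem tauB7 : ∀ t, t < 80 → tauOK t = true :=
  step1 79 (step1 78 (step1 77 (step1 76 (step1 75 (step1 74 (step1 73 (step1 72 (step1 71 (step1 70 tauB6
    CertTauI7.tau_70) CertTauI7.tau_71) CertTauI7.tau_72) CertTauI7.tau_73) CertTauI7.tau_74)
    CertTauI7.tau_75) CertTauI7.tau_76) CertTauI7.tau_77) CertTauI7.tau_78) CertTauI7.tau_79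

theorem tauB8 : ∀ t, t < 90 → tauOK t = true :=
  step1 89 (step1 88 (step1 87 (step1 86 (step1 85 (step1 84 (step1 83 (step1 82 (step1 81 (step1 80 tauB7
    CertTauI8.tau_80) CertTauI8.tau_81) CertTauI8.tau_82) CertTauI8.tau_83) CertTauI8.tau_84)
    CertTauI8.tau_85) CertTauI8.tau_86) CertTauI8.tau_87) CertTauI8.tau_88) CertTauI8.tau_89

theorem tauB9 : ∀ t, t < 100 → tauOK t = true :=
  step1 99 (step1 98 (step1 97 (step1 96 (step1 95 (step1 94 (step1 93 (step1 92 (step1 91 (step1 90 tauB8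
    CertTauI9.tau_90) CertTauI9.tau_91) CertTauI9.tau_92) CertTauI9.tau_93) CertTauI9.tau_94)
    CertTauI9.tau_95) CertTauI9.tau_96) CertTauI9.tau_97) CertTauI9.tau_98) CertTauI9.tau_99

theorem tauB10 : ∀ t, t < 110 → tauOK t = true :=
  step1 109 (step1 108 (step1 107 (step1 106 (step1 105 (step1 104 (step1 103 (step1 102 (step1 101 (step1 100
    tauB9 CertTauI10.tau_100) CertTauI10.tau_101) CertTauI10.tau_102) CertTauI10.tau_103) CertTauI10.tau_104)
    CertTauI10.tau_105) CertTauI10.tau_106) CertTauI10.tau_107) CertTauI10.tau_108) CertTauI10.tau_109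

theorem tauB11 : ∀ t, t < 120 → tauOK t = true :=
  step1 119 (step1 118 (step1 117 (step1 116 (step1 115 (step1 114 (step1 113 (step1 112 (step1 111 (step1 110
    tauB10 CertTauI11.tau_110) CertTauI11.tau_111) CertTauI11.tau_112) CertTauI11.tau_113) CertTauI11.tau_114)
    CertTauI11.tau_115) CertTauI11.tau_116) CertTauI11.tau_117) CertTauI11.tau_118) CertTauI11.tau_119

theorem tauB12 : ∀ t, t < 123 → tauOK t = true :=
  step1 122 (step1 121 (step1 120 tauB11 CertTauI12.tau_120) CertTauI12.tau_121) CertTauI12.tau_122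

theorem tau_all : ∀ t, t < 123 → tauOK t = true := tauB12

theorem invB0 : ∀ r, r < 36 → invOK r = true :=
  step 33 3 (step 30 3 (step 27 3 (step 24 3 (step 21 3 (step 18 3 (step 15 3 (step 12 3 (step 9 3 (step 6 3
    (step 3 3 (step 0 3 zero (allN_spec CertInvI0.inv_0)) (allN_spec CertInvI0.inv_3)) (allN_spec
    CertInvI0.inv_6)) (allN_spec CertInvI0.inv_9)) (allN_spec CertInvI0.inv_12)) (allN_spec CertInvI0.inv_15))
    (allN_spec CertInvI0.inv_18)) (allN_spec CertInvI0.inv_21)) (allN_spec CertInvI0.inv_24)) (allN_spec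
    CertInvI0.inv_27)) (allN_spec CertInvI0.inv_30)) (allN_spec CertInvI0.inv_33)

theorem invB1 : ∀ r, r < 72 → invOK r = true :=
  step 69 3 (step 66 3 (step 63 3 (step 60 3 (step 57 3 (step 54 3 (step 51 3 (step 48 3 (step 45 3 (step 42 3
    (step 39 3 (step 36 3 invB0 (allN_spec CertInvI1.inv_36)) (allN_spec CertInvI1.inv_39)) (allN_spec
    CertInvI1.inv_42)) (allN_spec CertInvI1.inv_45)) (allN_spec CertInvI1.inv_48)) (allN_spec
    CertInvI1.inv_51)) (allN_spec CertInvI1.inv_54)) (allN_spec CertInvI1.inv_57)) (allN_spec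
    CertInvI1.inv_60)) (allN_spec CertInvI1.inv_63)) (allN_spec CertInvI1.inv_66)) (allN_spec
    CertInvI1.inv_69)

theorem invB2 : ∀ r, r < 108 → invOK r = true :=
  step 105 3 (step 102 3 (step 99 3 (step 96 3 (step 93 3 (step 90 3 (step 87 3 (step 84 3 (step 81 3 (step 78
    3 (step 75 3 (step 72 3 invB1 (allN_spec CertInvI2.inv_72)) (allN_spec CertInvI2.inv_75)) (allN_spec
    CertInvI2.inv_78)) (allN_spec CertInvI2.inv_81)) (allN_spec CertInvI2.inv_84)) (allN_spec
    CertInvI2.inv_87)) (allN_spec CertInvI2.inv_90)) (allN_spec CertInvI2.inv_93)) (allN_spec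
    CertInvI2.inv_96)) (allN_spec CertInvI2.inv_99)) (allN_spec CertInvI2.inv_102)) (allN_spec
    CertInvI2.inv_105)

theorem invB3 : ∀ r, r < 144 → invOK r = true :=
  step 141 3 (step 138 3 (step 135 3 (step 132 3 (step 129 3 (step 126 3 (step 123 3 (step 120 3 (step 117 3
    (step 114 3 (step 111 3 (step 108 3 invB2 (allN_spec CertInvI3.inv_108)) (allN_spec CertInvI3.inv_111))
    (allN_spec CertInvI3.inv_114)) (allN_spec CertInvI3.inv_117)) (allN_spec CertInvI3.inv_120)) (allN_spec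
    CertInvI3.inv_123)) (allN_spec CertInvI3.inv_126)) (allN_spec CertInvI3.inv_129)) (allN_spec
    CertInvI3.inv_132)) (allN_spec CertInvI3.inv_135)) (allN_spec CertInvI3.inv_138)) (allN_spec
    CertInvI3.inv_141)

theorem invB4 : ∀ r, r < 180 → invOK r = true :=
  step 177 3 (step 174 3 (step 171 3 (step 168 3 (step 165 3 (step 162 3 (step 159 3 (step 156 3 (step 153 3
    (step 150 3 (step 147 3 (step 144 3 invB3 (allN_spec CertInvI4.inv_144)) (allN_spec CertInvI4.inv_147))
    (allN_spec CertInvI4.inv_150)) (allN_spec CertInvI4.inv_153)) (allN_spec CertInvI4.inv_156)) (allN_spec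
    CertInvI4.inv_159)) (allN_spec CertInvI4.inv_162)) (allN_spec CertInvI4.inv_165)) (allN_spec
    CertInvI4.inv_168)) (allN_spec CertInvI4.inv_171)) (allN_spec CertInvI4.inv_174)) (allN_spec
    CertInvI4.inv_177)

theorem invB5 : ∀ r, r < 216 → invOK r = true :=
  step 213 3 (step 210 3 (step 207 3 (step 204 3 (step 201 3 (step 198 3 (step 195 3 (step 192 3 (step 189 3
    (step 186 3 (step 183 3 (step 180 3 invB4 (allN_spec CertInvI5.inv_180)) (allN_spec CertInvI5.inv_183))
    (allN_spec CertInvI5.inv_186)) (allN_spec CertInvI5.inv_189)) (allN_spec CertInvI5.inv_192)) (allN_spec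
    CertInvI5.inv_195)) (allN_spec CertInvI5.inv_198)) (allN_spec CertInvI5.inv_201)) (allN_spec
    CertInvI5.inv_204)) (allN_spec CertInvI5.inv_207)) (allN_spec CertInvI5.inv_210)) (allN_spec
    CertInvI5.inv_213)

theorem invB6 : ∀ r, r < 251 → invOK r = true :=
  step 249 2 (step 246 3 (step 243 3 (step 240 3 (step 237 3 (step 234 3 (step 231 3 (step 228 3 (step 225 3
    (step 222 3 (step 219 3 (step 216 3 invB5 (allN_spec CertInvI6.inv_216)) (allN_spec CertInvI6.inv_219))
    (allN_spec CertInvI6.inv_222)) (allN_spec CertInvI6.inv_225)) (allN_spec CertInvI6.inv_228)) (allN_spec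
    CertInvI6.inv_231)) (allN_spec CertInvI6.inv_234)) (allN_spec CertInvI6.inv_237)) (allN_spec
    CertInvI6.inv_240)) (allN_spec CertInvI6.inv_243)) (allN_spec CertInvI6.inv_246)) (allN_spec
    CertInvI6.inv_249)

theorem inv_all : ∀ r, r < 251 → invOK r = true := invB6

theorem stab_all : ∀ k, k < 30 → stabOK k = true :=
  step1 29 (step1 28 (step1 27 (step1 26 (step1 25 (step1 24 (step1 23 (step1 22 (step1 21 (step1 20 (step1 19
    (step1 18 (step1 17 (step1 16 (step1 15 (step1 14 (step1 13 (step1 12 (step1 11 (step1 10 (step1 9 (step1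
    8 (step1 7 (step1 6 (step1 5 (step1 4 (step1 3 (step1 2 (step1 1 (step1 0 zero CertStabI.stab_0)
    CertStabI.stab_1) CertStabI.stab_2) CertStabI.stab_3) CertStabI.stab_4) CertStabI.stab_5)
    CertStabI.stab_6) CertStabI.stab_7) CertStabI.stab_8) CertStabI.stab_9) CertStabI.stab_10)
    CertStabI.stab_11) CertStabI.stab_12) CertStabI.stab_13) CertStabI.stab_14) CertStabI.stab_15)
    CertStabI.stab_16) CertStabI.stab_17) CertStabI.stab_18) CertStabI.stab_19) CertStabI.stab_20)
    CertStabI.stab_21) CertStabI.stab_22) CertStabI.stab_23) CertStabI.stab_24) CertStabI.stab_25)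
    CertStabI.stab_26) CertStabI.stab_27) CertStabI.stab_28) CertStabI.stab_29

/-- The `τ`-identities. -/
theorem tau_id {t : ℕ} (h : t < 123) : wv (vw (t0 t) ++ [40]) = wv (vw (t1 t) ++ n1 t) ∧
    wv (vw (t0 t) ++ [41]) = wv (vw (t2 t) ++ n2 t) := by
  have h1 : and (ident (vw (t0 t) ++ [40]) (vw (t1 t) ++ n1 t)) (ident (vw (t0 t) ++ [41]) (vw (t2 t) ++ n2 t)) = true :=
    tau_all t h
  rw [Bool.and_eq_true] at h1
  exact ⟨ident_sound h1.1, ident_sound h1.2⟩

/-- The counts of the representatives. -/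
theorem inv_id {r : ℕ} (h : r < 251) : inv3 (wv (vw r)) = nth (0, 0, 0) inv r :=
  invIs_sound (inv_all r h)

/-- The words `lw k` fix the representatives. -/
theorem stab_id {k : ℕ} (h : k < 30) :
    wv (bw (nth (0, []) lw k).1 ++ (nth (0, []) lw k).2) = wv (bw (nth (0, []) lw k).1) :=
  ident_sound (stab_all k h)

/-! ### The counts are different -/

/-- The triple `p` does not occur in the list. -/
noncomputable def notIn (p : ℕ × ℕ × ℕ) (T : List (ℕ × ℕ × ℕ)) : Bool :=
  List.rec (motive := fun _ => Bool) true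
    (fun q _ ih => and (or (not (Nat.beq p.1 q.1)) (or (not (Nat.beq p.2.1 q.2.1)) (not (Nat.beq p.2.2 q.2.2)))) ih) T

/-- The triples are different. -/
noncomputable def diff (T : List (ℕ × ℕ × ℕ)) : Bool :=
  List.rec (motive := fun _ => Bool) true (fun p T ih => and (notIn p T) ih) T

theorem notIn_sound {p : ℕ × ℕ × ℕ} {T : List (ℕ × ℕ × ℕ)} (h : notIn p T = true) : p ∉ T := by
  induction T with
  | nil => simp
  | cons q T ih =>
    have h1 : and (or (not (Nat.beq p.1 q.1)) (or (not (Nat.beq p.2.1 q.2.1)) (not (Nat.beq p.2.2 q.2.2))))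
      (notIn p T) = true := h
    rw [Bool.and_eq_true] at h1
    rw [List.mem_cons, not_or]
    refine ⟨?_, ih h1.2⟩
    rintro rfl
    have h2 := h1.1
    simp only [Bool.or_eq_true, Bool.not_eq_true', Nat.beq_refl] at h2
    simp at h2

theorem diff_sound {T : List (ℕ × ℕ × ℕ)} (h : diff T = true) : T.Nodup := by
  induction T with
  | nil => exact List.nodup_nil
  | cons p T ih =>
    have h1 : and (notIn p T) (diff T) = true := h
    rw [Bool.and_eq_true] at h1
    exact List.nodup_cons.2 ⟨notIn_sound h1.1, ih h1.2⟩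

theorem inv_nodup : inv.Nodup := diff_sound (by decide +kernel)

theorem inv_length : inv.length = 251 := by decide +kernel

theorem inv_inj {r s : ℕ} (hr : r < 251) (hs : s < 251) (h : nth (0, 0, 0) inv r = nth (0, 0, 0) inv s) :
    r = s := by
  rw [nth_eq, nth_eq, List.getD_eq_getElem _ _ (by rw [inv_length]; exact hr),
    List.getD_eq_getElem _ _ (by rw [inv_length]; exact hs)] at h
  exact (List.Nodup.getElem_inj_iff inv_nodup).1 h

/-- Elements of the counting group do not map one representative to another one. -/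
theorem rep_inj {r s : ℕ} (hr : r < 251) (hs : s < 251) {g : (Lane U → ℚ) ≃ₗ[ℚ] (Lane U → ℚ)}
    (hg : g ∈ cntGroup U Bs) (h : g (wv (vw r)) = wv (vw s)) : r = s := by
  refine inv_inj hr hs ?_
  rw [← inv_id hr, ← inv_id hs, ← h, inv3_of_mem hg]

/-! ### The letters -/

/-- All letters satisfy `p`. -/
noncomputable def allL (p : ℕ → Bool) (w : List ℕ) : Bool :=
  List.rec (motive := fun _ => Bool) true (fun a _ ih => and (p a) ih) w

theorem allL_sound {p : ℕ → Bool} {w : List ℕ} (h : allL p w = true) : ∀ i ∈ w, p i = true := by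
  induction w with
  | nil => simp
  | cons a w ih =>
    have h1 : and (p a) (allL p w) = true := h
    rw [Bool.and_eq_true] at h1
    intro i hi
    rcases List.mem_cons.1 hi with rfl | hi
    · exact h1.1
    · exact ih h1.2 i hi

/-- The letters of `C` (monomial letters and `ξ`). -/
def isC (i : ℕ) : Bool := or (Nat.blt i 40) (and (Nat.ble 42 i) (Nat.ble i 44))

theorem isD_n {t : ℕ} (h : t < 123) : (∀ i ∈ n1 t, isD i = true) ∧ ∀ i ∈ n2 t, isD i = true := by
  have h1 := allN_spec (f := fun t => and (allL isD (n1 t)) (allL isD (n2 t))) (a := 0) (n := 123)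
    (by decide +kernel) t h
  rw [Nat.zero_add, Bool.and_eq_true] at h1
  exact ⟨allL_sound h1.1, allL_sound h1.2⟩

theorem isC_kw {r : ℕ} (h : r < 251) : ∀ i ∈ nth [] kw r, isC i = true := by
  have h1 := allN_spec (f := fun r => allL isC (nth [] kw r)) (a := 0) (n := 251) (by decide +kernel) r h
  rw [Nat.zero_add] at h1
  exact allL_sound h1

theorem isC_lw {k : ℕ} (h : k < 30) : ∀ i ∈ (nth (0, []) lw k).2, isC i = true := by
  have h1 := allN_spec (f := fun r => allL isC (nth (0, []) lw r).2) (a := 0) (n := 30) (by decide +kernel) k h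
  rw [Nat.zero_add] at h1
  exact allL_sound h1

theorem kj_lt {r : ℕ} (h : r < 251) : nth 0 kj r < 12 := by
  have h1 := allN_spec (f := fun r => Nat.blt (nth 0 kj r) 12) (a := 0) (n := 251) (by decide +kernel) r h
  rw [Nat.zero_add, Nat.blt_eq] at h1
  exact h1

/-! ### Every index occurs -/

/-- The indices of the row `t`. -/
noncomputable def cls (t e : ℕ) : ℕ := nth 0 [t0 t, t1 t, t2 t] e

theorem cls_lt {t e : ℕ} (ht : t < 123) (he : e < 3) : cls t e < 251 := by
  have h1 := allN_spec (f := fun t => allN (fun e => Nat.blt (cls t e) 251) 0 3) (a := 0) (n := 123)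
    (by decide +kernel) t ht
  have h2 := allN_spec h1 e he
  rw [Nat.zero_add, Nat.zero_add, Nat.blt_eq] at h2
  exact h2

/-- The place of the index `r` in the table. -/
noncomputable def pk : List (ℕ × ℕ) :=
  [(0, 0), (1, 0), (2, 2), (1, 1), (3, 0), (4, 1), (5, 2), (6, 2), (2, 0), (4, 0), (7, 0), (8, 2), (9, 2),
   (10, 1), (11, 2), (12, 2), (13, 2), (5, 0), (14, 1), (15, 1), (8, 0), (16, 0), (17, 0), (9, 0), (18, 1),
   (19, 2), (20, 2), (21, 2), (22, 2), (23, 1), (24, 0), (25, 1), (26, 1), (6, 0), (27, 0), (28, 0), (15, 0),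
   (10, 0), (14, 0), (29, 2), (30, 2), (31, 2), (32, 2), (33, 0), (34, 1), (35, 1), (36, 1), (11, 0), (24, 1),
   (23, 0), (37, 1), (38, 2), (39, 1), (40, 0), (41, 2), (42, 1), (43, 1), (12, 0), (18, 0), (20, 0), (44, 1),
   (24, 2), (37, 0), (31, 0), (44, 0), (45, 0), (46, 0), (47, 0), (48, 0), (49, 1), (50, 2), (51, 1), (52, 1),
   (53, 1), (54, 0), (55, 1), (56, 2), (57, 2), (58, 1), (59, 0), (29, 0), (36, 0), (60, 1), (61, 1), (62, 1),
   (63, 1), (64, 1), (65, 2), (13, 0), (25, 0), (66, 0), (44, 2), (37, 2), (33, 1), (67, 0), (68, 0), (58, 0),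
   (69, 1), (70, 0), (71, 0), (72, 0), (73, 1), (73, 0), (48, 1), (74, 1), (75, 2), (76, 1), (77, 0), (56, 0),
   (78, 2), (62, 0), (79, 1), (43, 0), (80, 0), (81, 0), (82, 0), (83, 1), (84, 1), (85, 2), (86, 0), (87, 0),
   (87, 1), (88, 0), (89, 1), (90, 0), (21, 0), (34, 0), (55, 0), (72, 2), (69, 0), (78, 0), (49, 0), (46, 1),
   (68, 1), (91, 2), (92, 0), (45, 2), (67, 2), (38, 0), (41, 0), (93, 2), (94, 1), (81, 2), (95, 1), (96, 2),
   (97, 0), (98, 1), (86, 2), (19, 0), (35, 0), (47, 1), (75, 1), (72, 1), (99, 1), (92, 1), (79, 2), (30, 0),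
   (100, 1), (51, 0), (93, 0), (101, 0), (76, 0), (102, 0), (52, 0), (103, 0), (102, 1), (104, 1), (103, 1),
   (105, 2), (87, 2), (63, 0), (85, 1), (90, 2), (84, 0), (106, 2), (107, 1), (108, 1), (60, 0), (109, 0),
   (110, 1), (96, 0), (65, 0), (111, 1), (112, 1), (113, 0), (114, 0), (22, 0), (115, 0), (99, 0), (116, 1),
   (100, 0), (71, 1), (50, 0), (48, 2), (92, 2), (117, 2), (91, 0), (42, 0), (32, 0), (47, 2), (73, 2), (46,
   2), (26, 0), (61, 0), (116, 0), (83, 0), (118, 1), (111, 0), (119, 0), (102, 2), (106, 1), (107, 2), (57,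
   0), (98, 0), (88, 1), (53, 0), (117, 0), (105, 0), (120, 0), (121, 1), (110, 0), (116, 2), (69, 2), (79,
   0), (89, 0), (65, 1), (104, 0), (85, 0), (90, 1), (108, 0), (107, 0), (112, 2), (121, 0), (112, 0), (113,
   1), (75, 0), (82, 2), (95, 0), (80, 1), (89, 2), (118, 0), (64, 0), (122, 0), (106, 0), (77, 1), (83, 2),
   (94, 0), (74, 0), (67, 1), (78, 1), (39, 0)]

theorem cls_pk {r : ℕ} (h : r < 251) : (nth (0, 0) pk r).1 < 123 ∧ (nth (0, 0) pk r).2 < 3 ∧
    cls (nth (0, 0) pk r).1 (nth (0, 0) pk r).2 = r := by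
  have h1 := allN_spec (f := fun r => and (Nat.blt (nth (0, 0) pk r).1 123) (and (Nat.blt (nth (0, 0) pk r).2 3)
    (Nat.beq (cls (nth (0, 0) pk r).1 (nth (0, 0) pk r).2) r))) (a := 0) (n := 251) (by decide +kernel) r h
  rw [Nat.zero_add, Bool.and_eq_true, Bool.and_eq_true, Nat.blt_eq, Nat.blt_eq, Nat.beq_eq] at h1
  exact h1

end Cfsg.Agent.MonsterX.CertAll
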