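import Cfsg.Agent.MonsterX.CertOrbModel

/-!
# Orbit tables from `N₀`-orbits

`c t` are representatives of the `⟨D, τ⟩`-orbits; `cls t ε`, `ε : Fin 3`, is the index of the `D`-orbit of `τ^ε c t`.
Two identities per `t`: `τ c t` and `τ⁻¹ c t` lie in the `D`-orbits with indices `cls t 1`, `cls t 2`.
-/

set_option autoImplicit false

namespace Cfsg.Agent.MonsterX.CertOrbNZero

open Cfsg.Agent.MonsterX.CertOrb Cfsg.Agent.MonsterX.CertOrbModel Cfsg.Agent.MonsterX.Model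

section

variable {G V : Type*} [Group G] [MulAction G V]

theorem orbit_eq_of_mem {D : Subgroup G} {x y : V} (h : x ∈ MulAction.orbit D y) :
    MulAction.orbit D x = MulAction.orbit D y := MulAction.orbit_eq_iff.2 h

theorem Refines.congr {ρ κ : Type*} {K D : Subgroup G} {b : κ → V} {v v' : ρ → V} {jof : ρ → κ}
    (h : Refines K D b v jof) (hv : ∀ r, v' r ∈ MulAction.orbit D (v r)) : Refines K D b v' jof where
  le := h.le
  rep r := h.mem_K (hv r)
  cov j x hx := by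
    obtain ⟨r, hr, h1⟩ := h.cov j x hx
    exact ⟨r, hr, by rw [orbit_eq_of_mem (hv r)]; exact h1⟩

/-- The data of the `N₀`-orbits. -/
structure NZero (D : Subgroup G) (τ : G) {ρ θ : Type*} (v : ρ → V) (c : θ → V) (cls : θ → Fin 3 → ρ) :
    Prop where
  cube : τ * τ * τ = 1
  c0 : ∀ t, c t ∈ MulAction.orbit D (v (cls t 0))
  c1 : ∀ t, τ • c t ∈ MulAction.orbit D (v (cls t 1))
  c2 : ∀ t, τ⁻¹ • c t ∈ MulAction.orbit D (v (cls t 2))

variable {D : Subgroup G} {τ : G} {ρ θ : Type*} {v : ρ → V} {c : θ → V} {cls : θ → Fin 3 → ρ}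

/-- The point `τ^ε c t`. -/
def pt (τ : G) (c : θ → V) (p : θ × Fin 3) : V :=
  match p.2 with
  | 0 => c p.1
  | 1 => τ • c p.1
  | 2 => τ⁻¹ • c p.1

theorem NZero.mem (h : NZero D τ v c cls) (p : θ × Fin 3) :
    pt τ c p ∈ MulAction.orbit D (v (cls p.1 p.2)) := by
  obtain ⟨t, e⟩ := p
  fin_cases e
  · exact h.c0 t
  · exact h.c1 t
  · exact h.c2 t

theorem NZero.tau_pt (h : NZero D τ v c cls) (p : θ × Fin 3) : τ • pt τ c p = pt τ c (p.1, p.2 + 1) := by
  obtain ⟨t, e⟩ := p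
  have h2 : τ * τ = τ⁻¹ := eq_inv_of_mul_eq_one_left h.cube
  fin_cases e
  · rfl
  · change τ • τ • c t = τ⁻¹ • c t
    rw [← mul_smul, h2]
  · change τ • τ⁻¹ • c t = c t
    rw [smul_inv_smul]

theorem NZero.tau_inv_pt (h : NZero D τ v c cls) (p : θ × Fin 3) :
    τ⁻¹ • pt τ c p = pt τ c (p.1, p.2 + 2) := by
  rw [inv_smul_eq_iff, h.tau_pt]
  congr 1
  obtain ⟨t, e⟩ := p
  fin_cases e <;> rfl

/-- New representatives of the `D`-orbits. -/
def rep (τ : G) (c : θ → V) (pick : ρ → θ × Fin 3) (r : ρ) : V := pt τ c (pick r)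

theorem NZero.rep_mem (h : NZero D τ v c cls) {pick : ρ → θ × Fin 3}
    (hp : ∀ r, cls (pick r).1 (pick r).2 = r) (r : ρ) : rep τ c pick r ∈ MulAction.orbit D (v r) := by
  have := h.mem (pick r)
  rw [hp] at this
  exact this

theorem NZero.htp (h : NZero D τ v c cls) {pick : ρ → θ × Fin 3}
    (hp : ∀ r, cls (pick r).1 (pick r).2 = r) (r : ρ) :
    τ • rep τ c pick r ∈ MulAction.orbit D (rep τ c pick (cls (pick r).1 ((pick r).2 + 1))) := by
  rw [orbit_eq_of_mem (h.rep_mem hp _), rep, h.tau_pt]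
  exact h.mem ((pick r).1, (pick r).2 + 1)

theorem NZero.htm (h : NZero D τ v c cls) {pick : ρ → θ × Fin 3}
    (hp : ∀ r, cls (pick r).1 (pick r).2 = r) (r : ρ) :
    τ⁻¹ • rep τ c pick r ∈ MulAction.orbit D (rep τ c pick (cls (pick r).1 ((pick r).2 + 2))) := by
  rw [orbit_eq_of_mem (h.rep_mem hp _), rep, h.tau_inv_pt]
  exact h.mem ((pick r).1, (pick r).2 + 2)

end

variable {W : Type} [AddCommGroup W] [Module ℚ W]

/-- The orbit table from the `N₀`-orbits. -/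
theorem orbTable {M : MData W} {ρ θ : Type*} {D D₀ : Subgroup (W ≃ₗ[ℚ] W)} {e : W ≃ₗ[ℚ] W} {v : ρ → W}
    {jof : ρ → M.J} {c : θ → W} {cls : θ → Fin 3 → ρ} {pick : ρ → θ × Fin 3}
    (ht : TauData D D₀ M.τ e) (href : Refines M.C D M.d v jof) (hne : ∀ j, ∃ r, jof r = j)
    (hdisj : ∀ r s, v r ∈ MulAction.orbit D (v s) → r = s) (h : NZero D M.τ v c cls)
    (hp : ∀ r, cls (pick r).1 (pick r).2 = r) :
    OrbTable M D D₀ e (rep M.τ c pick) jof (fun r => cls (pick r).1 ((pick r).2 + 1))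
      (fun r => cls (pick r).1 ((pick r).2 + 2)) where
  tau := ht
  ref := Refines.congr href fun r => h.rep_mem hp r
  ne := hne
  disj r s hrs := by
    refine hdisj r s ?_
    rw [orbit_eq_of_mem (h.rep_mem hp s)] at hrs
    exact mem_orbit_self_of (h.rep_mem hp r) hrs
  htp := h.htp hp
  htm := h.htm hp

/-- The lengths of the `D`-orbits do not depend on the representatives. -/
theorem card_rep {D : Subgroup (W ≃ₗ[ℚ] W)} {τ : W ≃ₗ[ℚ] W} {ρ θ : Type*} {v : ρ → W} {c : θ → W}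
    {cls : θ → Fin 3 → ρ} {pick : ρ → θ × Fin 3} (h : NZero D τ v c cls)
    (hp : ∀ r, cls (pick r).1 (pick r).2 = r) (r : ρ) :
    Nat.card (MulAction.orbit D (rep τ c pick r)) = Nat.card (MulAction.orbit D (v r)) := by
  rw [orbit_eq_of_mem (h.rep_mem hp r)]

end Cfsg.Agent.MonsterX.CertOrbNZero
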