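import Cfsg.Agent.MonsterX.Conc
import Cfsg.Agent.MonsterX.Model

/-!
# The concrete data `M : MData V` of the model of the Monster (integrator: helper585)

`V`, `F`, the letters and the groups are those of `Space.lean`, `Conc.lean`.

* base axis `a₀ = u₀ + e₀`, `u₀ = λλᵀ/16`, `λ = (4,-4,0,…)` (lanes `61440, 61473` of the matrix: `1`, lanes
  `61441, 61472`: `-1`), `e₀ = 2 X_{x_01}` (lane `62465`); no scaling, `F a₀ a₀ = 8`;
* `t₀ = x_01 = W [13, 14]`;
* `d j = W (bj j) a₀`, `bj` = the table `bj.txt` of helper484 (classes 2A 2B 4A 4B 4C 6A 6C 6F 8B 10A 10B 12C);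
* for kernel checks multiply the planes by a power of `2` with `up n` (`up 7` is enough for all `bj`).
-/

set_option autoImplicit false

namespace Cfsg.Agent.MonsterX.InstData

open Cfsg.Agent.Monster.VecEngine Cfsg.Agent.Monster.VecSpace Cfsg.Agent.MonsterX.Space
open Cfsg.Agent.MonsterX.ProgTable Cfsg.Agent.MonsterX.GensT Cfsg.Agent.MonsterX.ProgBase
open Cfsg.Agent.MonsterX.Conc Cfsg.Agent.MonsterX.Model

/-! ### Scaling by powers of two -/

/-- The planes of `2 ^ n` times a vector. -/
noncomputable def up (n : ℕ) (x : Pl) : Pl := Nat.rec (motive := fun _ => Pl) x (fun _ ih => .cons 0 ih) n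

@[simp] theorem up_zero (x : Pl) : up 0 x = x := rfl

@[simp] theorem up_succ (n : ℕ) (x : Pl) : up (n + 1) x = .cons 0 (up n x) := rfl

theorem val_up (n : ℕ) (x : Pl) (i : ℕ) : val (up n x) i = 2 ^ n * val x i := by
  induction n with
  | zero => simp
  | succ n ih =>
    rw [up_succ, val_cons, ih]
    simp only [bt, Nat.zero_testBit, Bool.false_eq_true, if_false]
    ring

theorem vecU_up (n : ℕ) (x : Pl) : vecU ℚ U (up n x) = (2 : ℚ) ^ n • vecU ℚ U x := by
  funext i
  show ((val (up n x) i.1 : ℤ) : ℚ) = (2 : ℚ) ^ n * ((val x i.1 : ℤ) : ℚ)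
  rw [val_up]
  push_cast
  rfl

theorem vecV_up (n : ℕ) (x : Pl) : vecV (up n x) = (2 : ℚ) ^ n • vecV x := by
  unfold vecV
  rw [vecU_up, map_smul]

/-- VECTOR IDENTITIES with scaling: `check` is a kernel computation. -/
theorem W_eq_of_up {n : ℕ} {w₁ w₂ : List ℕ} {x y : Pl}
    (h : check (w₁.map prog) (up n x) (w₂.map prog) (up n y) = true) : W w₁ (vecV x) = W w₂ (vecV y) := by
  have h1 := W_eq_of_check h
  rw [vecV_up, vecV_up, map_smul, map_smul] at h1
  exact smul_right_injective V (pow_ne_zero n (two_ne_zero : (2 : ℚ) ≠ 0)) h1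

theorem W_fix_of_up {n : ℕ} {w : List ℕ} {x : Pl} (h : checkFix (w.map prog) (up n x) = true) :
    W w (vecV x) = vecV x := by
  have h1 := W_fix_of_check h
  rw [vecV_up, map_smul] at h1
  exact smul_right_injective V (pow_ne_zero n (two_ne_zero : (2 : ℚ) ≠ 0)) h1

/-! ### The base axis -/

/-- The planes of `u₀`. -/
noncomputable def u0B : Pl := .cons (Nat.shiftLeft 0x300000003 61440) (.sgn (Nat.shiftLeft 0x100000002 61440))

/-- The planes of `e₀`. -/
noncomputable def e0B : Pl := .cons 0 (.cons (Nat.shiftLeft 1 62465) (.sgn 0))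

/-- The planes of `a₀`. -/
noncomputable def a0B : Pl :=
  .cons (Nat.shiftLeft 0x300000003 61440) (.cons (Nat.lor (Nat.shiftLeft 0x100000002 61440) (Nat.shiftLeft 1 62465))
    (.sgn (Nat.shiftLeft 0x100000002 61440)))

/-- The planes of `a₁`. -/
noncomputable def a1B : Pl :=
  .cons (Nat.shiftLeft 0x300000003 61440) (.cons (Nat.lor (Nat.shiftLeft 0x100000002 61440) (Nat.shiftLeft 1 62465))
    (.sgn (Nat.lor (Nat.shiftLeft 0x100000002 61440) (Nat.shiftLeft 1 62465))))

/-- The part of the base axis in the symmetric matrices. -/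
noncomputable def u₀ : V := vecV u0B

/-- The part of the base axis in the `98280`-part. -/
noncomputable def e₀ : V := vecV e0B

theorem vecV_add (x y : Pl) : vecV (add x y 0) = vecV x + vecV y := by
  unfold vecV
  rw [← map_add]
  congr 1
  funext i
  show ((val (add x y 0) i.1 : ℤ) : ℚ) = ((val x i.1 : ℤ) : ℚ) + ((val y i.1 : ℤ) : ℚ)
  rw [val_add]
  simp only [bt, Nat.zero_testBit, Bool.false_eq_true, if_false, add_zero]
  push_cast
  rfl

theorem vecV_congr {x y : Pl} (h : eqP (norm x) (norm y) = true) : vecV x = vecV y := by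
  unfold vecV
  congr 1
  funext i
  show ((val x i.1 : ℤ) : ℚ) = ((val y i.1 : ℤ) : ℚ)
  rw [← val_norm x, ← val_norm y, eq_of_eqP h]

theorem a₀_eq : u₀ + e₀ = vecV a0B := by
  unfold u₀ e₀
  rw [← vecV_add]
  exact vecV_congr (by decide +kernel)

theorem a₁_eq : u₀ - e₀ = vecV a1B := by
  have h : u₀ = vecV a1B + e₀ := by
    unfold u₀ e₀
    rw [← vecV_add]
    exact vecV_congr (by decide +kernel)
  rw [h, add_sub_cancel_right]

theorem sym_u0B : sym u0B = true := by decide +kernel

theorem sym_e0B : sym e0B = true := by decide +kernel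

theorem sym_a0B : sym a0B = true := by decide +kernel

theorem sym_a1B : sym a1B = true := by decide +kernel

/-! ### The isometry `σ` -/

/-- The lanes of the `98280`-part. -/
noncomputable def sigM : ℕ := Nat.xor (Nat.land U (Nat.sub (Nat.shiftLeft 1 131072) 1)) matM

/-- The sign change on the `98280`-part as a program. -/
noncomputable def sigP : Prog := .neg sigM .nil

theorem sigP_good : ProgBase.Good sigP := ProgBase.good_sound (by decide +kernel)

theorem sigP_goodT : GoodT sigP := CommT.mono_sound sigP_good (by decide +kernel)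

/-- The isometry `σ`: `-1` on the `98280`-part, `1` on the matrices and on the `98304`-part. -/
noncomputable def σ : V ≃ₗ[ℚ] V := EP sigP

/-! ### The orbit representatives -/

/-- The words of the orbit representatives (helper484, `bj.txt`). -/
def bjTab : List (List ℕ) :=
  [[],
    [42, 39, 40],
    [42, 39, 42, 39, 40],
    [42, 39, 40, 38, 39, 42, 39, 40],
    [42, 39, 40, 38, 39, 36, 37, 39, 40],
    [42, 39, 40, 42, 39, 40, 37, 39, 36, 25, 39, 40],
    [42, 39, 40, 42, 39, 40, 36, 38, 36, 39, 36, 39, 40],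
    [42, 39, 40, 38, 39, 36, 37, 39, 40, 43, 39, 38, 39, 40],
    [42, 39, 40, 42, 39, 40, 37, 39, 36, 36, 39, 40],
    [42, 39, 40, 38, 39, 42, 39, 40, 42, 39, 37, 39, 40],
    [42, 39, 40, 38, 39, 42, 39, 40, 42, 39, 36, 36, 39, 40],
    [42, 39, 40, 38, 39, 42, 39, 40, 36, 36, 39, 37, 39, 40]]

/-- The entry `j` of a list of words (kernel-fast). -/
noncomputable def nthW (l : List (List ℕ)) : ℕ → List ℕ :=
  List.rec (motive := fun _ => ℕ → List ℕ) (fun _ => [])
    (fun w _ ih j => Bool.rec (ih (Nat.pred j)) w (Nat.beq j 0)) l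

/-- The word of the orbit representative `d j`. -/
noncomputable def bj (j : ℕ) : List ℕ := nthW bjTab j

/-- The representatives of the `C`-orbits of axes. -/
noncomputable def d (j : Fin 12) : V := W (bj j.1) (vecV a0B)

/-- The involution of the base axis. -/
noncomputable def t₀ : V ≃ₗ[ℚ] V := W [13, 14]

/-- The data of the concrete model. -/
noncomputable def M : MData V where
  F := F
  C := C
  Q := Q
  τ := τ
  z := z
  σ := σ
  t₀ := t₀
  u₀ := u₀
  e₀ := e₀
  J := Fin 12
  j₀ := (0 : Fin 12)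
  j₁ := (1 : Fin 12)
  d := d

@[simp] theorem M_F : M.F = F := rfl

@[simp] theorem M_C : M.C = C := rfl

@[simp] theorem M_Q : M.Q = Q := rfl

@[simp] theorem M_τ : M.τ = τ := rfl

@[simp] theorem M_z : M.z = z := rfl

@[simp] theorem M_σ : M.σ = σ := rfl

@[simp] theorem M_t₀ : M.t₀ = t₀ := rfl

@[simp] theorem M_u₀ : M.u₀ = u₀ := rfl

@[simp] theorem M_e₀ : M.e₀ = e₀ := rfl

theorem M_j₀ : M.j₀ = (0 : Fin 12) := rfl

theorem M_j₁ : M.j₁ = (1 : Fin 12) := rfl

theorem M_d (j : Fin 12) : M.d j = W (bj j.1) (vecV a0B) := rfl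

@[simp] theorem M_G : M.G = G := rfl

theorem M_a₀ : M.a₀ = vecV a0B := a₀_eq

theorem M_a₁ : M.a₁ = vecV a1B := a₁_eq

theorem M_d' (j : Fin 12) : M.d j = W (bj j.1) M.a₀ := by rw [M_a₀]; rfl

/-! ### The fields of `MOrbit` which are immediate -/

/-- field `finite` of `MOrbit` -/
theorem finite_J : Finite M.J := inferInstanceAs (Finite (Fin 12))

/-- field `d_j₀` of `MOrbit` -/
theorem d_j₀ : M.d M.j₀ = M.u₀ + M.e₀ := by
  have h : M.d M.j₀ = W [] (vecV a0B) := rfl
  rw [h, W_nil, ← a₀_eq]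
  rfl

/-- field `τ_isom` of `MOrbit` -/
theorem M_τ_isom : ∀ x y, M.F (M.τ x) (M.τ y) = M.F x y := τ_isom

/-- field `finrank_eq` of `MRep` -/
theorem M_finrank : Module.finrank ℚ V = 196884 := finrank_eq

/-- field `F_symm` of `MRep` -/
theorem M_F_symm : ∀ x y, M.F x y = M.F y x := F_symm

/-- field `C_isom` of `MRep` -/
theorem M_C_isom : ∀ g ∈ M.C, ∀ x y, M.F (g x) (g y) = M.F x y := C_isom

end Cfsg.Agent.MonsterX.InstData
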