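import Cfsg.Agent.MonsterX.CertV
import Cfsg.Agent.MonsterX.CertAll
import Cfsg.Agent.MonsterX.InstData
import Cfsg.Agent.MonsterX.CertOrbNZero
import Cfsg.Agent.MonsterX.ProgEqT
import Cfsg.Agent.MonsterX.ProgM.Inv

/-!
# The `D`-orbit representatives of the concrete model: `τ`-edges and disjointness

`v r = W (vw r) a₀` (`r : Fin 251`), `jof r` the index of its `C`-orbit, `clsF t ε` the indices of the row `t` of the
table of the `τ`-identities.
-/

set_option autoImplicit false
set_option maxRecDepth 100000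

namespace Cfsg.Agent.MonsterX.CertGlue

open Cfsg.Agent.Monster.VecEngine Cfsg.Agent.Monster.VecSpace Cfsg.Agent.MonsterX.Space
open Cfsg.Agent.MonsterX.ProgTable Cfsg.Agent.MonsterX.GensT Cfsg.Agent.MonsterX.ProgBase
open Cfsg.Agent.MonsterX.Conc Cfsg.Agent.MonsterX.Model Cfsg.Agent.MonsterX.InstData
open Cfsg.Agent.MonsterX.CertV Cfsg.Agent.MonsterX.CertAll Cfsg.Agent.MonsterX.CertTab
open Cfsg.Agent.MonsterX.CertVec (nth nth_eq allN allN_spec)
open Cfsg.Agent.MonsterX.CertBase (wv isD)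
open Cfsg.Agent.MonsterX.ProgM.Inv (W_mem_C W_mem_N)

/-! ### The base axis and the representatives `d j` -/

theorem ax_eq : ax = vecV a0B := by
  have h : vecV CertBase.a0 = vecV (up 8 a0B) := vecV_congr (by decide +kernel)
  unfold ax
  rw [h, vecV_up, smul_smul]
  norm_num

theorem bw_eq (j : Fin 12) : CertB.bw j.1 = bj j.1 := by
  have h : ∀ j : Fin 12, decide (CertB.bw j.1 = bj j.1) = true := by decide +kernel
  exact of_decide_eq_true (h j)

theorem vv_eq (w : List ℕ) : vv w = W w (vecV a0B) := by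
  unfold vv
  rw [ax_eq]

theorem vv_bw (j : Fin 12) : vv (CertB.bw j.1) = M.d j := by
  rw [vv_eq, bw_eq, M_d]

/-- Vector identities from identities of the vectors of words. -/
theorem vv_of_wv {w₁ w₂ : List ℕ} (h : wv w₁ = wv w₂) : vv w₁ = vv w₂ := by
  apply Subtype.ext
  rw [vv_coe, vv_coe, h]

/-! ### Operator identities -/

theorem W_of_seq {w₁ w₂ : List ℕ} (h : ProgEqBase.SEq w₁ w₂) : W w₁ = W w₂ := by
  apply LinearEquiv.ext
  intro v
  apply Subtype.ext
  rw [W_coe, W_coe]
  exact h v.1 v.2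

theorem tau_cube : τ * τ * τ = 1 := by
  have h := W_of_seq ProgEqT.tau_cube
  rw [W_cons, W_cons, W_single, W_nil] at h
  exact h

theorem E_41 : E 41 = τ⁻¹ := by
  have h := W_of_seq ProgEqT.tau_tauInv
  rw [W_cons, W_single, W_nil] at h
  exact eq_inv_of_mul_eq_one_left h

/-! ### The representatives -/

/-- The representatives of the `N`-orbits of axes. -/
noncomputable def v (r : Fin 251) : V := vv (vw r.1)

/-- The `C`-orbit of the representative `v r`. -/
noncomputable def jof (r : Fin 251) : Fin 12 := ⟨nth 0 kj r.1, kj_lt r.2⟩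

theorem v_eq (r : Fin 251) : v r = W (nth [] kw r.1) (M.d (jof r)) := by
  unfold v vw
  rw [vv_append]
  congr 1
  exact vv_bw (jof r)

theorem isC_spec {i : ℕ} (h : isC i = true) : i < 40 ∨ 42 ≤ i ∧ i < 46 := by
  unfold isC at h
  rw [Bool.or_eq_true, Bool.and_eq_true, Nat.blt_eq] at h
  rcases h with h | ⟨h1, h2⟩
  · exact Or.inl h
  · have := Nat.le_of_ble_eq_true h1
    have := Nat.le_of_ble_eq_true h2
    right; omega

theorem isD_spec {i : ℕ} (h : isD i = true) : i < 39 ∨ 42 ≤ i ∧ i < 46 := by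
  unfold isD at h
  rw [Bool.or_eq_true, Bool.and_eq_true, Nat.blt_eq] at h
  rcases h with h | ⟨h1, h2⟩
  · exact Or.inl h
  · have := Nat.le_of_ble_eq_true h1
    have := Nat.le_of_ble_eq_true h2
    right; omega

theorem W_kw_mem (r : Fin 251) : W (nth [] kw r.1) ∈ C :=
  W_mem_C fun i hi => isC_spec (isC_kw r.2 i hi)

theorem v_mem (r : Fin 251) : v r ∈ MulAction.orbit C (M.d (jof r)) :=
  ⟨⟨_, W_kw_mem r⟩, (v_eq r).symm⟩

/-- **The representatives are in different `N`-orbits.** -/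
theorem disj (r s : Fin 251) (h : v r ∈ MulAction.orbit N (v s)) : r = s := by
  obtain ⟨⟨g, hg⟩, h⟩ := h
  have h1 : g (v s) = v r := h
  apply Fin.ext
  refine inv_inj r.2 s.2 ?_
  rw [← inv_id r.2, ← inv_id s.2, ← inv3V_vv, ← inv3V_vv]
  change inv3V (v r) = inv3V (v s)
  rw [← h1, inv3V_of_mem hg]

/-! ### The `τ`-edges -/

/-- The indices of the row `t`. -/
noncomputable def clsF (t : Fin 123) (e : Fin 3) : Fin 251 := ⟨cls t.1 e.1, cls_lt t.2 e.2⟩

/-- The base point of the row `t`. -/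
noncomputable def cF (t : Fin 123) : V := v (clsF t 0)

/-- The row and the place of the index `r`. -/
noncomputable def pick (r : Fin 251) : Fin 123 × Fin 3 :=
  (⟨(nth (0, 0) pk r.1).1, (cls_pk r.2).1⟩, ⟨(nth (0, 0) pk r.1).2, (cls_pk r.2).2.1⟩)

theorem cls_pick (r : Fin 251) : clsF (pick r).1 (pick r).2 = r := Fin.ext (cls_pk r.2).2.2

theorem nzero : CertOrbNZero.NZero N τ v cF clsF where
  cube := tau_cube
  c0 t := MulAction.mem_orbit_self _
  c1 t := by
    have h1 := vv_of_wv (tau_id t.2).1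
    rw [vv_append, vv_append, W_single] at h1
    refine ⟨⟨W (n1 t.1), W_mem_N fun i hi => isD_spec ((isD_n t.2).1 i hi)⟩, ?_⟩
    exact h1.symm
  c2 t := by
    have h1 := vv_of_wv (tau_id t.2).2
    rw [vv_append, vv_append, W_single, E_41] at h1
    refine ⟨⟨W (n2 t.1), W_mem_N fun i hi => isD_spec ((isD_n t.2).2 i hi)⟩, ?_⟩
    exact h1.symm

end Cfsg.Agent.MonsterX.CertGlue
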