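import Cfsg.Agent.MonsterX.ProgM.Inv

/-!
# Monomial relations between the letters

`sq_letter`: the letters `0..35` are involutions; relations with `e = E 12` (odd `x_delta`) and `x_Ω = E 0`.
All identities are kernel checks (`same`).
-/

set_option autoImplicit false
set_option maxRecDepth 100000

namespace Cfsg.Agent.MonsterX.ConcMono

open Cfsg.Agent.Monster.VecEngine Cfsg.Agent.Monster.VecSpace Cfsg.Agent.MonsterX.ProgBase Cfsg.Agent.MonsterX.Space
open Cfsg.Agent.MonsterX.ProgM.Base Cfsg.Agent.MonsterX.Conc Cfsg.Agent.MonsterX.GensT

/-- MONOMIAL IDENTITIES: kernel check that two words in the monomial letters are equal. -/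
theorem W_eq_of_same {w₁ w₂ : List ℕ} (h : same (w₁.map ProgTable.prog) (w₂.map ProgTable.prog) = true) :
    W w₁ = W w₂ :=
  same_sound (progs_goodT w₁) (progs_goodT w₂) h

theorem sq0 : W [0, 0] = W [] := W_eq_of_same (by decide +kernel)

theorem sq1 : W [1, 1] = W [] := W_eq_of_same (by decide +kernel)

theorem sq2 : W [2, 2] = W [] := W_eq_of_same (by decide +kernel)

theorem sq3 : W [3, 3] = W [] := W_eq_of_same (by decide +kernel)

theorem sq4 : W [4, 4] = W [] := W_eq_of_same (by decide +kernel)

theorem sq5 : W [5, 5] = W [] := W_eq_of_same (by decide +kernel)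

theorem sq6 : W [6, 6] = W [] := W_eq_of_same (by decide +kernel)

theorem sq7 : W [7, 7] = W [] := W_eq_of_same (by decide +kernel)

theorem sq8 : W [8, 8] = W [] := W_eq_of_same (by decide +kernel)

theorem sq9 : W [9, 9] = W [] := W_eq_of_same (by decide +kernel)

theorem sq10 : W [10, 10] = W [] := W_eq_of_same (by decide +kernel)

theorem sq11 : W [11, 11] = W [] := W_eq_of_same (by decide +kernel)

theorem sq12 : W [12, 12] = W [] := W_eq_of_same (by decide +kernel)

theorem sq13 : W [13, 13] = W [] := W_eq_of_same (by decide +kernel)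

theorem sq14 : W [14, 14] = W [] := W_eq_of_same (by decide +kernel)

theorem sq15 : W [15, 15] = W [] := W_eq_of_same (by decide +kernel)

theorem sq16 : W [16, 16] = W [] := W_eq_of_same (by decide +kernel)

theorem sq17 : W [17, 17] = W [] := W_eq_of_same (by decide +kernel)

theorem sq18 : W [18, 18] = W [] := W_eq_of_same (by decide +kernel)

theorem sq19 : W [19, 19] = W [] := W_eq_of_same (by decide +kernel)

theorem sq20 : W [20, 20] = W [] := W_eq_of_same (by decide +kernel)

theorem sq21 : W [21, 21] = W [] := W_eq_of_same (by decide +kernel)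

theorem sq22 : W [22, 22] = W [] := W_eq_of_same (by decide +kernel)

theorem sq23 : W [23, 23] = W [] := W_eq_of_same (by decide +kernel)

theorem sq24 : W [24, 24] = W [] := W_eq_of_same (by decide +kernel)

theorem sq25 : W [25, 25] = W [] := W_eq_of_same (by decide +kernel)

theorem sq26 : W [26, 26] = W [] := W_eq_of_same (by decide +kernel)

theorem sq27 : W [27, 27] = W [] := W_eq_of_same (by decide +kernel)

theorem sq28 : W [28, 28] = W [] := W_eq_of_same (by decide +kernel)

theorem sq29 : W [29, 29] = W [] := W_eq_of_same (by decide +kernel)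

theorem sq30 : W [30, 30] = W [] := W_eq_of_same (by decide +kernel)

theorem sq31 : W [31, 31] = W [] := W_eq_of_same (by decide +kernel)

theorem sq32 : W [32, 32] = W [] := W_eq_of_same (by decide +kernel)

theorem sq33 : W [33, 33] = W [] := W_eq_of_same (by decide +kernel)

theorem sq34 : W [34, 34] = W [] := W_eq_of_same (by decide +kernel)

theorem sq35 : W [35, 35] = W [] := W_eq_of_same (by decide +kernel)

/-- The letters `0..35` are involutions. -/
theorem sq_letter {n : ℕ} (h : n < 36) : E n * E n = 1 := by
  have key : W [n, n] = W [] := by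
    interval_cases n
    · exact sq0
    · exact sq1
    · exact sq2
    · exact sq3
    · exact sq4
    · exact sq5
    · exact sq6
    · exact sq7
    · exact sq8
    · exact sq9
    · exact sq10
    · exact sq11
    · exact sq12
    · exact sq13
    · exact sq14
    · exact sq15
    · exact sq16
    · exact sq17
    · exact sq18
    · exact sq19
    · exact sq20
    · exact sq21
    · exact sq22
    · exact sq23
    · exact sq24
    · exact sq25
    · exact sq26
    · exact sq27
    · exact sq28
    · exact sq29
    · exact sq30
    · exact sq31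
    · exact sq32
    · exact sq33
    · exact sq34
    · exact sq35
  rw [W_cons, W_single, W_nil] at key
  exact key

theorem omega1 : W [0, 1] = W [1, 0] := W_eq_of_same (by decide +kernel)

theorem omega2 : W [0, 2] = W [2, 0] := W_eq_of_same (by decide +kernel)

theorem omega3 : W [0, 3] = W [3, 0] := W_eq_of_same (by decide +kernel)

theorem omega4 : W [0, 4] = W [4, 0] := W_eq_of_same (by decide +kernel)

theorem omega5 : W [0, 5] = W [5, 0] := W_eq_of_same (by decide +kernel)

theorem omega6 : W [0, 6] = W [6, 0] := W_eq_of_same (by decide +kernel)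

theorem omega7 : W [0, 7] = W [7, 0] := W_eq_of_same (by decide +kernel)

theorem omega8 : W [0, 8] = W [8, 0] := W_eq_of_same (by decide +kernel)

theorem omega9 : W [0, 9] = W [9, 0] := W_eq_of_same (by decide +kernel)

theorem omega10 : W [0, 10] = W [10, 0] := W_eq_of_same (by decide +kernel)

theorem omega11 : W [0, 11] = W [11, 0] := W_eq_of_same (by decide +kernel)

theorem omega13 : W [0, 13] = W [13, 0] := W_eq_of_same (by decide +kernel)

theorem omega14 : W [0, 14] = W [14, 0] := W_eq_of_same (by decide +kernel)

theorem omega15 : W [0, 15] = W [15, 0] := W_eq_of_same (by decide +kernel)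

theorem omega16 : W [0, 16] = W [16, 0] := W_eq_of_same (by decide +kernel)

theorem omega17 : W [0, 17] = W [17, 0] := W_eq_of_same (by decide +kernel)

theorem omega18 : W [0, 18] = W [18, 0] := W_eq_of_same (by decide +kernel)

theorem omega19 : W [0, 19] = W [19, 0] := W_eq_of_same (by decide +kernel)

theorem omega20 : W [0, 20] = W [20, 0] := W_eq_of_same (by decide +kernel)

theorem omega21 : W [0, 21] = W [21, 0] := W_eq_of_same (by decide +kernel)

theorem omega22 : W [0, 22] = W [22, 0] := W_eq_of_same (by decide +kernel)

theorem omega23 : W [0, 23] = W [23, 0] := W_eq_of_same (by decide +kernel)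

theorem omega24 : W [0, 24] = W [24, 0] := W_eq_of_same (by decide +kernel)

theorem omega25 : W [0, 25] = W [25, 0] := W_eq_of_same (by decide +kernel)

theorem omega26 : W [0, 26] = W [26, 0] := W_eq_of_same (by decide +kernel)

theorem omega27 : W [0, 27] = W [27, 0] := W_eq_of_same (by decide +kernel)

theorem omega28 : W [0, 28] = W [28, 0] := W_eq_of_same (by decide +kernel)

theorem omega29 : W [0, 29] = W [29, 0] := W_eq_of_same (by decide +kernel)

theorem omega30 : W [0, 30] = W [30, 0] := W_eq_of_same (by decide +kernel)

theorem omega31 : W [0, 31] = W [31, 0] := W_eq_of_same (by decide +kernel)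

theorem omega32 : W [0, 32] = W [32, 0] := W_eq_of_same (by decide +kernel)

theorem omega33 : W [0, 33] = W [33, 0] := W_eq_of_same (by decide +kernel)

theorem omega34 : W [0, 34] = W [34, 0] := W_eq_of_same (by decide +kernel)

theorem omega35 : W [0, 35] = W [35, 0] := W_eq_of_same (by decide +kernel)

theorem omega36 : W [0, 36] = W [36, 0] := W_eq_of_same (by decide +kernel)

theorem omega37 : W [0, 37] = W [37, 0] := W_eq_of_same (by decide +kernel)

theorem omega38 : W [0, 38] = W [38, 0] := W_eq_of_same (by decide +kernel)

theorem omega12 : W [0, 12] = W [12, 0, 45] := W_eq_of_same (by decide +kernel)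

theorem e1 : W [12, 1, 12] = W [1] := W_eq_of_same (by decide +kernel)

theorem e2 : W [12, 2, 12] = W [2] := W_eq_of_same (by decide +kernel)

theorem e3 : W [12, 3, 12] = W [3] := W_eq_of_same (by decide +kernel)

theorem e4 : W [12, 4, 12] = W [4] := W_eq_of_same (by decide +kernel)

theorem e5 : W [12, 5, 12] = W [5] := W_eq_of_same (by decide +kernel)

theorem e6 : W [12, 6, 12] = W [6] := W_eq_of_same (by decide +kernel)

theorem e7 : W [12, 7, 12] = W [7] := W_eq_of_same (by decide +kernel)

theorem e8 : W [12, 8, 12] = W [8] := W_eq_of_same (by decide +kernel)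

theorem e9 : W [12, 9, 12] = W [9] := W_eq_of_same (by decide +kernel)

theorem e10 : W [12, 10, 12] = W [10] := W_eq_of_same (by decide +kernel)

theorem e11 : W [12, 11, 12] = W [11] := W_eq_of_same (by decide +kernel)

theorem e13 : W [12, 13, 12] = W [13] := W_eq_of_same (by decide +kernel)

theorem e14 : W [12, 14, 12] = W [14] := W_eq_of_same (by decide +kernel)

theorem e15 : W [12, 15, 12] = W [15] := W_eq_of_same (by decide +kernel)

theorem e16 : W [12, 16, 12] = W [16] := W_eq_of_same (by decide +kernel)

theorem e17 : W [12, 17, 12] = W [17] := W_eq_of_same (by decide +kernel)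

theorem e18 : W [12, 18, 12] = W [18] := W_eq_of_same (by decide +kernel)

theorem e19 : W [12, 19, 12] = W [19] := W_eq_of_same (by decide +kernel)

theorem e20 : W [12, 20, 12] = W [20] := W_eq_of_same (by decide +kernel)

theorem e21 : W [12, 21, 12] = W [21] := W_eq_of_same (by decide +kernel)

theorem e22 : W [12, 22, 12] = W [22] := W_eq_of_same (by decide +kernel)

theorem e23 : W [12, 23, 12] = W [23] := W_eq_of_same (by decide +kernel)

theorem e36 : W [12, 36, 12] = W [36] := W_eq_of_same (by decide +kernel)

theorem e37 : W [12, 37, 12] = W [37] := W_eq_of_same (by decide +kernel)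

theorem e0 : W [12, 0, 12] = W [0, 45] := W_eq_of_same (by decide +kernel)

theorem e24 : W [12, 24, 12] = W [24, 45] := W_eq_of_same (by decide +kernel)

theorem e25 : W [12, 25, 12] = W [25, 1] := W_eq_of_same (by decide +kernel)

theorem e26 : W [12, 26, 12] = W [26, 2] := W_eq_of_same (by decide +kernel)

theorem e27 : W [12, 27, 12] = W [27, 3] := W_eq_of_same (by decide +kernel)

theorem e28 : W [12, 28, 12] = W [28, 4] := W_eq_of_same (by decide +kernel)

theorem e29 : W [12, 29, 12] = W [29, 5] := W_eq_of_same (by decide +kernel)

theorem e30 : W [12, 30, 12] = W [30, 6] := W_eq_of_same (by decide +kernel)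

theorem e31 : W [12, 31, 12] = W [31, 7] := W_eq_of_same (by decide +kernel)

theorem e32 : W [12, 32, 12] = W [32, 8] := W_eq_of_same (by decide +kernel)

theorem e33 : W [12, 33, 12] = W [33, 9] := W_eq_of_same (by decide +kernel)

theorem e34 : W [12, 34, 12] = W [34, 10] := W_eq_of_same (by decide +kernel)

theorem e35 : W [12, 35, 12] = W [35, 11] := W_eq_of_same (by decide +kernel)

theorem e38 : W [12, 38, 12] = W [13, 38] := W_eq_of_same (by decide +kernel)

theorem z_eq' : W [45] = W [1, 13, 1, 13] := W_eq_of_same (by decide +kernel)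

theorem z_comm {n : ℕ} (h : n < 39) : W [45, n] = W [n, 45] := by
  interval_cases n <;> exact W_eq_of_same (by decide +kernel)


end Cfsg.Agent.MonsterX.ConcMono
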