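import Cfsg.Agent.MonsterX.WordsBaseM
import Cfsg.Agent.MonsterX.InstEval
import Cfsg.Agent.MonsterX.ConcMono
import Cfsg.Agent.MonsterX.ProgM.Inv

/-!
# The concrete base of the 196884-dimensional model

24 lines (lanes `L`, values `1 .. 24`) whose elements of `Q` generate `Q` modulo `z`, and one lane of the
`98304`-part.  `uB` = the planes of this vector `u`, `vB` = the planes of `62 a₀ + 29 a₁ + u`.

An element of `C` fixing `u`, an element of `G` fixing `a₀`, `a₁`, `u`, an element of `G` fixing the ONE vector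
`vecV vB` is trivial.  For words: `eq_one_of_fix` (`checkFix (w.map prog) (up n vB)`), `eq_of_check`.
-/

set_option autoImplicit false

namespace Cfsg.Agent.MonsterX.BaseVec

open Cfsg.Agent.Monster.VecEngine Cfsg.Agent.Monster.VecSpace Cfsg.Agent.MonsterX.Space
open Cfsg.Agent.MonsterX.ProgTable Cfsg.Agent.MonsterX.GensT Cfsg.Agent.MonsterX.ProgBase
open Cfsg.Agent.MonsterX.Conc Cfsg.Agent.MonsterX.Model Cfsg.Agent.MonsterX.InstData
open Cfsg.Agent.MonsterX.InstEval Cfsg.Agent.MonsterX.WordsBaseM Cfsg.Agent.MonsterX.ConcMono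

/-- The lines: lane and word of the element of `Q`. -/
def L : List (ℕ × List ℕ) :=
  [(62466, [13, 15]), (62467, [13, 16]), (62468, [13, 17]), (62472, [13, 18]), (62476, [13, 19]), (62469, [13, 20]),
    (62480, [13, 21]), (62477, [13, 22]), (62470, [13, 23]), (62478, [15, 17, 18, 19, 23]),
    (62471, [14, 15, 16, 17, 20, 23]), (62528, [13, 15, 0]), (0, [1]), (64, [2]), (192, [3]), (384, [4]), (832, [5]),
    (1600, [6]), (2880, [7]), (5056, [8]), (8640, [9]), (14784, [10]), (26048, [11]), (65536, [12, 13])]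

/-- The planes of the value `1` in the lane `l`. -/
noncomputable def oneP (l : ℕ) : Pl := .cons (Nat.shiftLeft 1 l) (.sgn 0)

/-- The planes of `n` times the planes `x`. -/
noncomputable def nP (n : ℕ) (x : Pl) : Pl := Nat.rec (motive := fun _ => Pl) (.sgn 0) (fun _ ih => add x ih 0) n

theorem vecV_zero : vecV (.sgn 0) = 0 := by
  unfold vecV
  have : vecU ℚ U (.sgn 0) = 0 := by
    funext i
    show ((val (.sgn 0) i.1 : ℤ) : ℚ) = 0
    simp [bt]
  rw [this, map_zero]

theorem vecV_nP (n : ℕ) (x : Pl) : vecV (nP n x) = (n : ℚ) • vecV x := by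
  induction n with
  | zero =>
    rw [Nat.cast_zero, zero_smul]
    exact vecV_zero
  | succ n ih =>
    have : nP (n + 1) x = add x (nP n x) 0 := rfl
    rw [this, vecV_add, ih, Nat.cast_succ, add_smul, one_smul, add_comm]

/-- The sum of the lines of a list with the values `k + 1`, `k + 2`, ... -/
noncomputable def sumP (l : List (ℕ × List ℕ)) : ℕ → Pl :=
  List.rec (motive := fun _ => ℕ → Pl) (fun _ => oneP 196608) (fun p _ ih k => add (nP (k + 1) (oneP p.1)) (ih (k + 1)) 0) l

theorem val_oneP (l i : ℕ) : val (oneP l) i = if i = l then 1 else 0 := by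
  unfold oneP
  rw [val_cons, val_sgn]
  unfold bt
  rw [tb_single]
  by_cases h : i = l
  · subst h; norm_num
  · simp [h]

/-- Kernel-fast test for all entries. -/
noncomputable def allL (f : ℕ → Bool) (l : List (ℕ × List ℕ)) : Bool :=
  List.rec (motive := fun _ => Bool) true (fun p _ ih => and (f p.1) ih) l

theorem allL_spec {f : ℕ → Bool} {l : List (ℕ × List ℕ)} (h : allL f l = true) : ∀ p ∈ l, f p.1 = true := by
  induction l with
  | nil => simp
  | cons t l ih =>
    have h' : and (f t.1) (allL f l) = true := h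
    rw [Bool.and_eq_true] at h'
    intro s hs
    rcases List.mem_cons.1 hs with rfl | hs
    · exact h'.1
    · exact ih h'.2 s hs

theorem sym_L : allL (fun l => sym (oneP l)) L = true := by decide +kernel

theorem U_L : allL (fun l => U.testBit l) L = true := by decide +kernel

theorem sym_s : sym (oneP 196608) = true := by decide +kernel

theorem one_apply {l : ℕ} (h : sym (oneP l) = true) (i : Lane U) :
    (vecV (oneP l) : Lane U → ℚ) i = if i.1 = l then 1 else 0 := by
  rw [vecV_coe h]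
  show ((val (oneP l) i.1 : ℤ) : ℚ) = _
  rw [val_oneP]
  push_cast
  rfl

/-- The hypotheses on the lines: the element of `Q` belongs to the line. -/
def Lines : Prop := ∀ p ∈ L, ∃ g ∈ C, (2 : ℚ) • vecV (oneP p.1) = g e₀ ∧ W p.2 = g * t₀ * g⁻¹

/-- The base. -/
noncomputable def B : Base V L.length where
  e i := (2 : ℚ) • vecV (oneP (L[i.1]).1)
  t i := W (L[i.1]).2
  c i := ((i.1 : ℚ) + 1) / 2
  s := vecV (oneP 196608)

theorem vecV_sumP (l : List (ℕ × List ℕ)) : ∀ k : ℕ, vecV (sumP l k) =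
    ∑ i : Fin l.length, ((k : ℚ) + i.1 + 1) • vecV (oneP (l[i.1]).1) + vecV (oneP 196608) := by
  induction l with
  | nil =>
    intro k
    show vecV (oneP 196608) = _
    simp
  | cons p l ih =>
    intro k
    have h : sumP (p :: l) k = add (nP (k + 1) (oneP p.1)) (sumP l (k + 1)) 0 := rfl
    rw [h, vecV_add, vecV_nP, ih (k + 1)]
    show _ = ∑ i : Fin (l.length + 1), ((k : ℚ) + i.1 + 1) • vecV (oneP ((p :: l)[i.1]).1) + vecV (oneP 196608)
    rw [Fin.sum_univ_succ, ← add_assoc]
    congr 1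
    congr 1
    · simp
    · refine Finset.sum_congr rfl fun i _ => ?_
      show _ = ((k : ℚ) + ((i.1 + 1 : ℕ) : ℚ) + 1) • vecV (oneP (l[i.1]).1)
      push_cast
      congr 1
      ring

theorem u_eq : B.u = vecV (sumP L 0) := by
  rw [vecV_sumP]
  unfold Base.u
  congr 1
  refine Finset.sum_congr rfl fun i _ => ?_
  show (((i.1 : ℚ) + 1) / 2) • (2 : ℚ) • vecV (oneP (L[i.1]).1) = _
  rw [smul_smul]
  congr 1
  push_cast
  ring

theorem e_apply (i : Fin L.length) (j : Lane U) :
    (B.e i : Lane U → ℚ) j = if j.1 = (L[i.1]).1 then 2 else 0 := by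
  show (2 : ℚ) * (vecV (oneP (L[i.1]).1) : Lane U → ℚ) j = _
  rw [one_apply (allL_spec sym_L _ (List.getElem_mem _))]
  split_ifs <;> norm_num

theorem L_nodup : (L.map fun p => p.1).Nodup := by decide

theorem L_inj (i j : Fin L.length) (h : (L[i.1]).1 = (L[j.1]).1) : i = j := by
  have h1 := L_nodup
  rw [List.nodup_iff_injective_getElem] at h1
  have h2 : (⟨i.1, by rw [List.length_map]; exact i.2⟩ : Fin (L.map fun p => p.1).length) =
      ⟨j.1, by rw [List.length_map]; exact j.2⟩ := h1 (by simpa using h)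
  exact Fin.ext (congrArg Fin.val h2)

theorem ne (i j : Fin L.length) (hij : i ≠ j) : B.e i ≠ B.e j ∧ B.e i ≠ - B.e j := by
  have hU : U.testBit (L[i.1]).1 = true := allL_spec U_L _ (List.getElem_mem _)
  have hi := e_apply i ⟨_, hU⟩
  have hj := e_apply j ⟨_, hU⟩
  rw [if_pos rfl] at hi
  rw [if_neg fun h => hij (L_inj i j h)] at hj
  constructor
  · intro h
    rw [h, hj] at hi
    norm_num at hi
  · intro h
    rw [h] at hi
    have h1 : ((- B.e j : V) : Lane U → ℚ) ⟨_, hU⟩ = -((B.e j : Lane U → ℚ) ⟨_, hU⟩) := rfl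
    rw [h1, hj] at hi
    norm_num at hi

theorem ne₀ (i : Fin L.length) : B.e i ≠ M.e₀ ∧ B.e i ≠ - M.e₀ := by
  have hL : ∀ p ∈ L, p.1 ≠ 62465 := by decide
  have hi := e_apply i lE
  have hj := e₀_apply lE
  rw [if_neg (show ¬ (lE : Lane U).1 = (L[i.1]).1 from fun h => hL _ (List.getElem_mem i.2) h.symm)] at hi
  rw [if_pos (show (lE : Lane U).1 = 62465 from rfl)] at hj
  constructor
  · intro h
    rw [h, M_e₀, hj] at hi
    norm_num at hi
  · intro h
    rw [h] at hi
    have h1 : ((- M.e₀ : V) : Lane U → ℚ) lE = -((e₀ : Lane U → ℚ) lE) := rfl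
    rw [h1, hj] at hi
    norm_num at hi

/-! ### The elements of `Q` generate -/

/-- The subgroup generated by the elements of the base and `z`. -/
noncomputable def H : Subgroup (V ≃ₗ[ℚ] V) := Subgroup.closure (Set.range B.t ∪ {M.z})

theorem z_mem : z ∈ H := Subgroup.subset_closure (Or.inr rfl)

theorem mem_H {p : ℕ × List ℕ} (h : p ∈ L) : W p.2 ∈ H := by
  obtain ⟨i, hi, he⟩ := List.getElem_of_mem h
  exact Subgroup.subset_closure (Or.inl ⟨⟨i, hi⟩, by rw [← he]; rfl⟩)

theorem one_H {l : ℕ} {w : List ℕ} (h : (l, w) ∈ L) : W w ∈ H := mem_H h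

theorem W_two (a b : ℕ) : W [a, b] = E b * E a := by
  rw [W_cons, W_single]

theorem d1_eq : W ([13, 15] ++ ([13, 17] ++ ([13, 18] ++ ([13, 19] ++ ([13, 23] ++ [15, 17, 18, 19, 23]))))) = W [13] :=
  W_eq_of_same (by decide +kernel)

theorem H13 : E 13 ∈ H := by
  rw [← W_single, ← d1_eq]
  simp only [W_append]
  exact H.mul_mem (H.mul_mem (H.mul_mem (H.mul_mem (H.mul_mem (one_H (l := 62478) (by decide))
    (one_H (l := 62470) (by decide))) (one_H (l := 62476) (by decide))) (one_H (l := 62472) (by decide)))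
    (one_H (l := 62468) (by decide))) (one_H (l := 62466) (by decide))

theorem H_of_pair {l n : ℕ} (h : (l, [13, n]) ∈ L) : E n ∈ H := by
  have h1 := one_H h
  rw [W_two] at h1
  have h2 := H.mul_mem h1 (H.inv_mem H13)
  rwa [mul_inv_cancel_right] at h2

theorem H_letter : ∀ n < 24, E n ∈ H := by
  have h15 := H_of_pair (l := 62466) (n := 15) (by decide)
  have h16 := H_of_pair (l := 62467) (n := 16) (by decide)
  have h17 := H_of_pair (l := 62468) (n := 17) (by decide)
  have h18 := H_of_pair (l := 62472) (n := 18) (by decide)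
  have h19 := H_of_pair (l := 62476) (n := 19) (by decide)
  have h20 := H_of_pair (l := 62469) (n := 20) (by decide)
  have h21 := H_of_pair (l := 62480) (n := 21) (by decide)
  have h22 := H_of_pair (l := 62477) (n := 22) (by decide)
  have h23 := H_of_pair (l := 62470) (n := 23) (by decide)
  have h0 : E 0 ∈ H := by
    have h1 := one_H (l := 62528) (w := [13, 15] ++ [0]) (by decide)
    rw [W_append, W_single] at h1
    have h2 := H.mul_mem h1 (H.inv_mem (one_H (l := 62466) (w := [13, 15]) (by decide)))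
    rwa [mul_inv_cancel_right] at h2
  have h14 : E 14 ∈ H := by
    have h1 := one_H (l := 62471) (w := [14] ++ [15, 16, 17, 20, 23]) (by decide)
    have h3 : W [15, 16, 17, 20, 23] ∈ H := W_mem (by
      intro n hn
      simp only [List.mem_cons, List.not_mem_nil, or_false] at hn
      rcases hn with rfl | rfl | rfl | rfl | rfl <;> assumption)
    rw [W_append, W_single] at h1
    have h2 := H.mul_mem (H.inv_mem h3) h1
    rwa [inv_mul_cancel_left] at h2
  have h12 : E 12 ∈ H := by
    have h1 := one_H (l := 65536) (w := [12, 13]) (by decide)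
    rw [W_two] at h1
    have h2 := H.mul_mem (H.inv_mem H13) h1
    rwa [inv_mul_cancel_left] at h2
  have hs : ∀ l n : ℕ, (l, [n]) ∈ L → E n ∈ H := fun l n h => by
    have := one_H h
    rwa [W_single] at this
  intro n hn
  interval_cases n
  · exact h0
  · exact hs 0 _ (by decide)
  · exact hs 64 _ (by decide)
  · exact hs 192 _ (by decide)
  · exact hs 384 _ (by decide)
  · exact hs 832 _ (by decide)
  · exact hs 1600 _ (by decide)
  · exact hs 2880 _ (by decide)
  · exact hs 5056 _ (by decide)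
  · exact hs 8640 _ (by decide)
  · exact hs 14784 _ (by decide)
  · exact hs 26048 _ (by decide)
  · exact h12
  · exact H13
  · exact h14
  · exact h15
  · exact h16
  · exact h17
  · exact h18
  · exact h19
  · exact h20
  · exact h21
  · exact h22
  · exact h23

theorem gen : M.Q ≤ H := by
  show Subgroup.closure _ ≤ _
  rw [Subgroup.closure_le]
  rintro g ⟨n, hn, rfl⟩
  exact H_letter n hn

/-! ### The part in the `98304`-part -/

theorem sl_U : U.testBit 196608 = true := by decide +kernel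

theorem sl_hi : ProgZ.hiM.testBit 196608 = true := by decide +kernel

theorem s_neg : M.z B.s = - B.s := by
  apply Subtype.ext
  funext i
  show (z (vecV (oneP 196608)) : Lane U → ℚ) i = -((vecV (oneP 196608) : Lane U → ℚ) i)
  rw [z_apply]
  split_ifs with h
  · rfl
  · have h1 : (vecV (oneP 196608) : Lane U → ℚ) i = 0 := by
      rw [one_apply sym_s, if_neg]
      intro h2
      rw [h2] at h
      exact h sl_hi
    show (vecV (oneP 196608) : Lane U → ℚ) i = _
    rw [h1, neg_zero]

theorem s_apply (i : Lane U) : (B.s : Lane U → ℚ) i = if i.1 = 196608 then 1 else 0 := one_apply sym_s i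

theorem s_ne : B.s ≠ 0 := by
  intro h
  have h1 := s_apply ⟨196608, sl_U⟩
  rw [h, if_pos rfl] at h1
  exact zero_ne_one h1

theorem F_s : F B.s B.s = 1 := by
  rw [F_sum]
  have h : ∀ i : Lane U, (B.s : Lane U → ℚ) i * (B.s : Lane U → ℚ) i =
      (if i.1 = (⟨196608, sl_U⟩ : Lane U).1 then (1 : ℚ) else 0) * (fun _ => 1) i := by
    intro i
    rw [s_apply]
    show _ = (if i.1 = 196608 then (1 : ℚ) else 0) * 1
    split_ifs <;> norm_num
  rw [Finset.sum_congr rfl fun i _ => h i]
  exact sum_ite_lane ⟨196608, sl_U⟩ fun _ => 1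

theorem sum_c : ∑ i, B.c i ^ 2 = 1225 := by
  show ∑ i : Fin 24, (((i.1 : ℚ) + 1) / 2) ^ 2 = 1225
  simp only [Fin.sum_univ_succ, Fin.sum_univ_zero]
  norm_num [Fin.val_succ]

theorem ok (hl : Lines) : B.Ok M where
  mem := fun i => hl _ (List.getElem_mem i.2)
  c_pos := fun i => by
    show (0 : ℚ) < ((i.1 : ℚ) + 1) / 2
    positivity
  c_inj := fun i j h => by
    have h1 : ((i.1 : ℚ) + 1) / 2 = ((j.1 : ℚ) + 1) / 2 := h
    have h2 : (i.1 : ℚ) = j.1 := by linarith
    exact Fin.ext (by exact_mod_cast h2)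
  ne := ne
  gen := gen
  s_neg := s_neg
  s_ne := s_ne

theorem ok₁ (hv : ∀ j, ∀ b ∈ M.S, b = M.d j ∨ M.F b (M.d j) ≤ 1) : B.Ok₁ M 62 29 where
  pos := F_self_nonneg
  val := hv
  ne₀ := ne₀
  c₁_pos := by norm_num
  c₀_pos := by norm_num
  bound₁ := by
    rw [sum_c, M_F, F_s]
    norm_num
  bound₀ := by
    rw [sum_c, M_F, F_s]
    norm_num

/-! ### Planes -/

/-- The lanes of a list. -/
noncomputable def bits (l : List ℕ) : ℕ :=
  List.rec (motive := fun _ => ℕ) 0 (fun k _ ih => Nat.lor (Nat.shiftLeft 1 k) ih) l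

/-- The planes of `u`. -/
noncomputable def uB : Pl :=
  .cons (bits [0, 192, 832, 2880, 8640, 26048, 62466, 62468, 62470, 62471, 62476, 62480, 196608])
    (.cons (bits [64, 192, 1600, 2880, 14784, 26048, 62467, 62468, 62469, 62471, 62478, 62480])
    (.cons (bits [0, 64, 192, 5056, 8640, 14784, 26048, 62469, 62472, 62476, 62480, 62528])
    (.cons (bits [0, 64, 192, 62470, 62471, 62477, 62478, 62528, 65536])
    (.cons (bits [384, 832, 1600, 2880, 5056, 8640, 14784, 26048, 65536])
    (.sgn (bits []))))))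

/-- The planes of `62 a₀ + 29 a₁ + u`. -/
noncomputable def vB : Pl :=
  .cons (bits [0, 192, 832, 2880, 8640, 26048, 61440, 61441, 61472, 61473, 62466, 62468, 62470, 62471, 62476, 62480, 196608])
    (.cons (bits [64, 192, 1600, 2880, 14784, 26048, 61440, 61473, 62465, 62467, 62468, 62469, 62471, 62478, 62480])
    (.cons (bits [0, 64, 192, 5056, 8640, 14784, 26048, 61441, 61472, 62469, 62472, 62476, 62480, 62528])
    (.cons (bits [0, 64, 192, 61440, 61473, 62470, 62471, 62477, 62478, 62528, 65536])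
    (.cons (bits [384, 832, 1600, 2880, 5056, 8640, 14784, 26048, 61440, 61473, 65536])
    (.cons (bits [61441, 61472])
    (.cons (bits [61440, 61473, 62465])
    (.sgn (bits [61441, 61472]))))))))

theorem u_eq' : B.u = vecV uB := by
  rw [u_eq]
  exact vecV_congr (by decide +kernel)

theorem v_eq : B.v M 62 29 = vecV vB := by
  unfold Base.v
  rw [u_eq, M_a₀, M_a₁, show (62 : ℚ) = ((62 : ℕ) : ℚ) by norm_num, show (29 : ℚ) = ((29 : ℕ) : ℚ) by norm_num,
    ← vecV_nP, ← vecV_nP, ← vecV_add, ← vecV_add]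
  exact vecV_congr (by decide +kernel)

/-! ### The base theorem -/

/-- What is used about the model. -/
structure Pack (K₀ : Type) [Group K₀] : Prop where
  hG : MGroup M K₀
  hR : MRep M
  hL : MLat M
  hO : MOrbit M
  lines : Lines
  val : ∀ j, ∀ b ∈ M.S, b = M.d j ∨ M.F b (M.d j) ≤ 1
  tau : E 41 * E 40 = 1

theorem E_mem_G' (h41 : E 41 * E 40 = 1) {n : ℕ} (h : n < 46) : E n ∈ G := by
  by_cases h1 : n < 41
  · exact E_mem_G h1
  · by_cases h2 : n = 41
    · subst h2
      rw [eq_inv_of_mul_eq_one_left h41]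
      exact G.inv_mem (E_mem_G (by norm_num))
    · exact C_le_G (N_le_C (ProgM.Inv.E_mem_N' (Or.inr ⟨by omega, h⟩)))

variable {K₀ : Type} [Group K₀]

/-- An element of `C` fixing `u` is trivial. -/
theorem eq_one_C (hG : MGroup M K₀) (hR : MRep M) (hL : MLat M) (hl : Lines) {k : V ≃ₗ[ℚ] V} (hk : k ∈ C)
    (h : k (vecV uB) = vecV uB) : k = 1 :=
  B.eq_one_of_mem_C hG hR hL (ok hl) k hk (by rw [u_eq']; exact h)

namespace Pack

variable (P : Pack K₀)
include P

/-- An element of `G` fixing `a₀`, `a₁`, `u` is trivial. -/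
theorem eq_one₃ {k : V ≃ₗ[ℚ] V} (hk : k ∈ G) (h0 : k (vecV a0B) = vecV a0B) (h1 : k (vecV a1B) = vecV a1B)
    (hu : k (vecV uB) = vecV uB) : k = 1 :=
  B.eq_one P.hG P.hR P.hL (ok P.lines) P.hO k hk (by rw [M_a₀]; exact h0) (by rw [M_a₁]; exact h1)
    (by rw [u_eq']; exact hu)

/-- An element of `G` fixing the vector of `vB` is trivial. -/
theorem eq_one {k : V ≃ₗ[ℚ] V} (hk : k ∈ G) (h : k (vecV vB) = vecV vB) : k = 1 :=
  B.eq_one₁ P.hG P.hR P.hL (ok P.lines) (ok₁ P.val) P.hO k hk (by rw [v_eq]; exact h)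

/-- Elements of `G` are equal if they agree on the vector of `vB`. -/
theorem eq_of_eq {a b : V ≃ₗ[ℚ] V} (ha : a ∈ G) (hb : b ∈ G) (h : a (vecV vB) = b (vecV vB)) : a = b := by
  have h1 : b⁻¹ * a = 1 := P.eq_one (G.mul_mem (G.inv_mem hb) ha) (by
    rw [LinearEquiv.mul_apply, h]
    exact b.symm_apply_apply _)
  exact (inv_mul_eq_one.1 h1).symm

/-- Words in the letters. -/
theorem W_mem_G {w : List ℕ} (h : ∀ n ∈ w, n < 46) : W w ∈ G :=
  W_mem fun n hn => E_mem_G' P.tau (h n hn)

/-- RELATORS: one kernel computation. -/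
theorem eq_one_of_fix {n : ℕ} {w : List ℕ} (hw : ∀ n ∈ w, n < 46) (h : checkFix (w.map prog) (up n vB) = true) :
    W w = 1 :=
  P.eq_one (P.W_mem_G hw) (W_fix_of_up h)

/-- RELATIONS: one kernel computation. -/
theorem eq_of_check {n : ℕ} {w₁ w₂ : List ℕ} (h₁ : ∀ n ∈ w₁, n < 46) (h₂ : ∀ n ∈ w₂, n < 46)
    (h : check (w₁.map prog) (up n vB) (w₂.map prog) (up n vB) = true) : W w₁ = W w₂ :=
  P.eq_of_eq (P.W_mem_G h₁) (P.W_mem_G h₂) (W_eq_of_up h)

end Pack

end Cfsg.Agent.MonsterX.BaseVec
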