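import Cfsg.Agent.MonsterX.LatCharsTwo
import Cfsg.Agent.BabyM.CoTwoMod

/-!
Leech lattice inputs of the `K`-side of the Monster: `Chars` (functions multiplicative on triangles
are commutators), and the vectors orthogonal to a minimal vector.
-/

set_option autoImplicit false

namespace Cfsg.Agent.MonsterX.KSLat

open Cfsg Cfsg.Agent.MonsterX.KSide Cfsg.Agent.MonsterX.Lat Cfsg.Agent.MonsterX.LatChars
  Cfsg.Agent.MonsterX.LatCharsTwo
open Cfsg.Agent.BabyM.CoTwoMod (evn rad mem_evn mem_rad)
open Cfsg.Agent.SporadicStructure.Co2RankThree (dt)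

theorem le_nrm {v : leechLattice} (h : v ≠ 0) : 32 ≤ nrm v :=
  Cfsg.Agent.Leech.Basic.le_sqNorm v.2 fun h' => h (Subtype.ext h')

theorem nrm_two (z : leechLattice) : nrm (2 • z) = 4 * nrm z := by
  rw [← KS.dot_self, ← KS.dot_self, two_smul, dot_add_left, dot_comm z (z + z), dot_add_left]
  ring

theorem nrm_add (v w : leechLattice) : nrm (v + w) = nrm v + 2 * dot v w + nrm w := by
  rw [← KS.dot_self, dot_add_left, dot_comm v (v + w), dot_comm w (v + w), dot_add_left,
    dot_add_left, KS.dot_self, KS.dot_self, dot_comm w v]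
  ring

theorem nrm_sub (v w : leechLattice) : nrm (v - w) = nrm v - 2 * dot v w + nrm w := by
  rw [sub_eq_add_neg, nrm_add, dot_neg_right, nrm_neg]
  ring

theorem nrm_zero : nrm 0 = 0 := by
  have := nrm_two 0
  rw [smul_zero] at this
  omega

theorem eq_zero_of_nrm {v : leechLattice} (h : nrm v ≤ 31) : v = 0 := by
  by_contra hne
  have := le_nrm hne
  omega

/-- Minimal vectors congruent modulo twice the lattice are equal or opposite. -/
theorem eq_or_neg_of_mod_two {v w z : leechLattice} (hv : nrm v = 32) (hw : nrm w = 32)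
    (h : v - w = 2 • z) : v = w ∨ v = -w := by
  by_cases hz : z = 0
  · left
    rw [hz, smul_zero, sub_eq_zero] at h
    exact h
  · right
    have h1 := le_nrm hz
    have h2 : nrm (v - w) = 4 * nrm z := by rw [h, nrm_two]
    rw [nrm_sub, hv, hw] at h2
    have h3 : nrm (v + w) ≤ 31 := by
      rw [nrm_add, hv, hw]
      omega
    exact eq_neg_of_add_eq_zero_left (eq_zero_of_nrm h3)

/-! ### Chars -/

section

variable {G V P W : Type*} [Group G] [AddCommGroup V] [Module ℚ V]
  [DistribMulAction G V] [SMulCommClass G ℚ V] [Group P] [AddCommGroup W] [Module ℚ W]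
  (M : KS G V P W)

include M

/-- `Chars`, from the multiplication of short elements and the commutators. -/
theorem chars_of
    (hmul : ∀ x ∈ M.Sh, ∀ y ∈ M.Sh, ∀ u, nrm u = 32 →
      (u = M.lam x - M.lam y ∨ u = M.lam x + M.lam y) →
      x * y ∈ M.Sh ∧ (M.lam (x * y) = u ∨ M.lam (x * y) = -u))
    (hq : ∀ y : leechLattice, ∃ q : P, ∀ x ∈ M.Sh,
      (q * x * q⁻¹ = x ↔ (16 : ℤ) ∣ dot (M.lam x) y)) : M.Chars := by
  classical
  intro ε hε hεz hεm
  have hlift : ∀ v : leechLattice, ∃ x : P, nrm v = 32 → x ∈ M.Sh ∧ (M.lam x = v ∨ M.lam x = -v) := by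
    intro v
    by_cases hv : nrm v = 32
    · obtain ⟨x, hx, h⟩ := M.lam_surj v hv
      refine ⟨x, fun _ => ⟨hx, ?_⟩⟩
      rcases h with h | h
      · exact Or.inl h.symm
      · right; rw [h, neg_neg]
    · exact ⟨1, fun h => absurd h hv⟩
  choose l hl using hlift
  set e : leechLattice → ZMod 2 := fun v => if ε (l v) = 1 then 0 else 1 with he
  have key : ∀ x ∈ M.Sh, ∀ v, nrm v = 32 → (M.lam x = v ∨ M.lam x = -v) →
      e v = if ε x = 1 then 0 else 1 := by
    intro x hx v hv h
    obtain ⟨h1, h2⟩ := hl v hv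
    have h3 : M.lam (l v) = M.lam x ∨ M.lam (l v) = -M.lam x := by
      rcases h with h | h <;> rcases h2 with h2 | h2 <;> rw [h, h2]
      · exact Or.inl rfl
      · exact Or.inr rfl
      · right; rw [neg_neg]
      · exact Or.inl rfl
    have h4 : ε (l v) = ε x := by
      rcases M.lam_inj x hx (l v) h1 h3 with h4 | h4
      · rw [h4]
      · rw [h4]; exact hεz x hx
    show (if ε (l v) = 1 then (0 : ZMod 2) else 1) = _
    rw [h4]
  have htri : Tri e := by
    refine ⟨fun v hv => ?_, fun v w hv hw hvw => ?_⟩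
    · obtain ⟨h1, h2⟩ := hl v hv
      have hnv : nrm (-v) = 32 := by rw [nrm_neg, hv]
      rw [key (l v) h1 v hv h2, key (l v) h1 (-v) hnv (by rw [neg_neg]; exact h2.symm)]
    · obtain ⟨h1, h2⟩ := hl v hv
      obtain ⟨h3, h4⟩ := hl w hw
      have hu : nrm (v - w) = 32 := by rw [nrm_sub, hv, hw, hvw]; norm_num
      have hnu : nrm (-(v - w)) = 32 := by rw [nrm_neg, hu]
      have h5 : l v * l w ∈ M.Sh ∧
          (M.lam (l v * l w) = v - w ∨ M.lam (l v * l w) = -(v - w)) := by
        rcases h2 with h2 | h2 <;> rcases h4 with h4 | h4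
        · exact hmul _ h1 _ h3 _ hu (Or.inl (by rw [h2, h4]))
        · exact hmul _ h1 _ h3 _ hu (Or.inr (by rw [h2, h4, sub_eq_add_neg]))
        · have := hmul _ h1 _ h3 _ hnu (Or.inr (by rw [h2, h4]; abel))
          rw [neg_neg] at this
          exact ⟨this.1, this.2.symm⟩
        · have := hmul _ h1 _ h3 _ hnu (Or.inl (by rw [h2, h4]; abel))
          rw [neg_neg] at this
          exact ⟨this.1, this.2.symm⟩
      rw [key _ h5.1 _ hu h5.2, key _ h1 v hv h2, key _ h3 w hw h4]
      have h6 := hεm _ h1 _ h3 h5.1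
      have hm1 : ¬ ((-1 : ℚ) = 1) := by norm_num
      have h11 : (1 : ZMod 2) + 1 = 0 := by decide
      rcases hε _ h1 with a | a <;> rcases hε _ h3 with b | b <;> rcases hε _ h5.1 with c | c <;>
        rw [a, b, c] at h6 ⊢ <;> first | (exfalso; norm_num at h6; done) | simp [hm1, h11]
  obtain ⟨y, hy⟩ := exists_pr htri
  obtain ⟨q, hqy⟩ := hq y
  refine ⟨q, fun x hx => ?_⟩
  rw [hqy x hx, ← pr_eq_zero_iff, ← hy _ (M.lam_norm x hx),
    key x hx _ (M.lam_norm x hx) (Or.inl rfl)]
  by_cases h : ε x = 1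
  · simp [h]
  · simp [h]

/-- `Chars`, from coordinates `ab : P → A` and `ψ` of the lattice modulo 2. -/
theorem chars_of_coord {A : Type*} [AddCommGroup A] (hA : ∀ a : A, a + a = 0)
    (ab : P → A) (hab : ∀ x y, ab (x * y) = ab x + ab y) (ψ : leechLattice →+ A)
    (hker : ∀ v, ψ v = 0 → ∃ z, v = 2 • z) (hlam : ∀ x ∈ M.Sh, ψ (M.lam x) = ab x)
    (hSh : ∀ x v, nrm v = 32 → ψ v = ab x → x ∈ M.Sh)
    (hq : ∀ y : leechLattice, ∃ q : P, ∀ x ∈ M.Sh,
      (q * x * q⁻¹ = x ↔ (16 : ℤ) ∣ dot (M.lam x) y)) : M.Chars := by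
  have hneg : ∀ a : A, -a = a := fun a => neg_eq_of_add_eq_zero_left (hA a)
  refine chars_of M (fun x hx y hy u hu h => ?_) hq
  have h1 : ψ u = ab (x * y) := by
    rw [hab, ← hlam x hx, ← hlam y hy]
    rcases h with h | h
    · rw [h, map_sub, sub_eq_add_neg, hneg]
    · rw [h, map_add]
  have h2 := hSh _ u hu h1
  refine ⟨h2, ?_⟩
  obtain ⟨z, hz⟩ := hker (M.lam (x * y) - u) (by rw [map_sub, hlam _ h2, h1, sub_self])
  exact eq_or_neg_of_mod_two (M.lam_norm _ h2) hu hz

end

/-! ### The vectors orthogonal to a minimal vector -/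

theorem not_mem_rad_of_perp {r s : leechLattice} (hr : nrm r = 32) (hs : nrm s = 32)
    (h : dot s r = 0) : s ∉ rad r := by
  intro hm
  obtain ⟨z, hz | hz⟩ := mem_rad.1 hm
  · have h1 : nrm s = 4 * nrm z := by rw [hz, nrm_two]
    have h2 := Cfsg.Agent.Leech.Basic.sixteen_dvd_sqNorm z.2
    have h3 : (16 : ℤ) ∣ nrm z := h2
    omega
  · have h1 : nrm (s - r) = 4 * nrm z := by
      rw [hz, add_sub_cancel_right, nrm_two]
    rw [nrm_sub, hs, hr, h] at h1
    have h2 : z = 0 := eq_zero_of_nrm (by omega)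
    rw [h2, nrm_zero] at h1
    norm_num at h1

/-- There is a minimal vector orthogonal to a given minimal vector. -/
theorem exists_perp (r : leechLattice) (hr : nrm r = 32) : ∃ s, nrm s = 32 ∧ dot s r = 0 := by
  obtain ⟨p, hp⟩ := Leech.Trans.exists_notMem ∅ (by simp)
  obtain ⟨q, hq⟩ := Leech.Trans.exists_notMem {p} (by simp)
  simp only [Finset.mem_singleton] at hq
  have hpq : p ≠ q := Ne.symm hq
  obtain ⟨g, hg⟩ := Leech.Trans.co0_transitive_min r
    (Leech.Trans.lv p q 4 4 hpq Leech.Trans.four_or Leech.Trans.four_or) hr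
    (Leech.Trans.sqNorm_lv _ _ _ _ _ _ _)
  refine ⟨g⁻¹ • Leech.Trans.lv p q 4 (-4) hpq Leech.Trans.four_or Leech.Trans.neg_four_or, ?_, ?_⟩
  · rw [nrm_smul, nrm_lv]
  · rw [← dot_smul g, smul_inv_smul, hg, dot_lv, Leech.Trans.lv_coe, Leech.Trans.two_left,
      Leech.Trans.two_right hpq]
    norm_num

/-- The group generated by the minimal vectors orthogonal to `r`, twice the lattice and `r`. -/
def perpGroup (r : leechLattice) : AddSubgroup leechLattice :=
  AddSubgroup.closure ({s | nrm s = 32 ∧ dot s r = 0} ∪ {x | ∃ z, x = 2 • z} ∪ {r})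

theorem rad_le_perp (r : leechLattice) : rad r ≤ perpGroup r := by
  intro x hx
  have hr : r ∈ perpGroup r := AddSubgroup.subset_closure (Or.inr rfl)
  have h2 : ∀ z : leechLattice, 2 • z ∈ perpGroup r :=
    fun z => AddSubgroup.subset_closure (Or.inl (Or.inr ⟨z, rfl⟩))
  obtain ⟨z, rfl | rfl⟩ := mem_rad.1 hx
  · exact h2 z
  · exact add_mem (h2 z) hr

theorem perp_le_evn {r : leechLattice} (hr : nrm r = 32) : perpGroup r ≤ evn r := by
  rw [perpGroup, AddSubgroup.closure_le]
  rintro x ((⟨hx, hxr⟩ | ⟨z, rfl⟩) | rfl)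
  · show (16 : ℤ) ∣ dot r x
    rw [dot_comm, hxr]
    exact dvd_zero _
  · exact Cfsg.Agent.BabyM.CoTwoMod.rad_le_evn r (by
      have := KS.dot_self r
      rw [hr] at this
      exact this) (Cfsg.Agent.BabyM.CoTwoMod.two_smul_mem_rad r z)
  · show (16 : ℤ) ∣ dot x x
    rw [KS.dot_self, hr]
    norm_num

theorem smul_mem_perp {r : leechLattice} {g : Co0} (hg : g • r = r) {x : leechLattice}
    (hx : x ∈ perpGroup r) : g • x ∈ perpGroup r := by
  unfold perpGroup at hx
  induction hx using AddSubgroup.closure_induction with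
  | mem y hy =>
    apply AddSubgroup.subset_closure
    rcases hy with (⟨hy, hyr⟩ | ⟨z, rfl⟩) | rfl
    · refine Or.inl (Or.inl ⟨by rw [nrm_smul, hy], ?_⟩)
      have h1 := dot_smul g y r
      rwa [hg, hyr] at h1
    · refine Or.inl (Or.inr ⟨g • z, ?_⟩)
      rw [two_smul, two_smul, Cfsg.Agent.LeechMat.Core.co0_smul_add]
    · right; exact hg
  | zero => rw [Cfsg.Agent.LeechMat.Core.co0_smul_zero]; exact zero_mem _
  | add y z _ _ h1 h2 => rw [Cfsg.Agent.LeechMat.Core.co0_smul_add]; exact add_mem h1 h2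
  | neg y _ h1 => rw [Cfsg.Agent.LeechMat.Core.co0_smul_neg]; exact neg_mem h1

theorem perpGroup_eq {r : leechLattice} (hr : nrm r = 32) : perpGroup r = evn r := by
  have hrr : dt r r = 32 := by
    have := KS.dot_self r
    rw [hr] at this
    exact this
  rcases Cfsg.Agent.BabyM.CoTwoMod.irreducible r hrr (perpGroup r) (rad_le_perp r)
    (perp_le_evn hr) (fun g hg x hx => smul_mem_perp hg hx) with h | h
  · exfalso
    obtain ⟨s, hs, hsr⟩ := exists_perp r hr
    apply not_mem_rad_of_perp hr hs hsr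
    rw [← h]
    exact AddSubgroup.subset_closure (Or.inl (Or.inl ⟨hs, hsr⟩))
  · exact h

/-- The minimal vectors orthogonal to `r` span, modulo 2 and `r`, all vectors of even inner product
with `r`. -/
theorem perp_span (r : leechLattice) (hr : nrm r = 32) (x : leechLattice)
    (hx : (16 : ℤ) ∣ dot r x) : x ∈ AddSubgroup.closure
      ({s | nrm s = 32 ∧ dot s r = 0} ∪ {x | ∃ z, x = 2 • z} ∪ {r}) := by
  have h : x ∈ evn r := hx
  rw [← perpGroup_eq hr] at h
  exact h

/-- `-1` in `Co0`. -/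
theorem exists_negOne : ∃ n : Co0, ∀ v : leechLattice, n • v = -v :=
  ⟨⟨Equiv.neg leechLattice, ⟨fun v w => neg_add v w, fun v => by
    show sqNorm ((-v : leechLattice) : GolayPt → ℤ) = _
    exact nrm_neg v⟩⟩, fun _ => rfl⟩

/-- An element of `Co0` fixing up to sign all minimal vectors orthogonal to `r`, and `r`, is `±1`. -/
theorem pm_of_perp (r : leechLattice) (hr : nrm r = 32) (A : Co0)
    (h : ∀ s, nrm s = 32 → dot s r = 0 → A • s = s ∨ A • s = -s)
    (hr' : A • r = r ∨ A • r = -r) :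
    (∀ v : leechLattice, A • v = v) ∨ (∀ v : leechLattice, A • v = -v) := by
  have hrr : dt r r = 32 := by
    have := KS.dot_self r
    rw [hr] at this
    exact this
  have key : ∀ A : Co0, (∀ s, nrm s = 32 → dot s r = 0 → A • s = s ∨ A • s = -s) →
      A • r = r → A = 1 := by
    intro A h hr'
    apply Cfsg.Agent.BabyM.CoTwoMod.faithful r hrr A hr'
    intro x hx
    rw [← perpGroup_eq hr] at hx
    unfold perpGroup at hx
    induction hx using AddSubgroup.closure_induction with
    | mem y hy =>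
      rcases hy with (⟨hy, hyr⟩ | ⟨z, rfl⟩) | rfl
      · rcases h y hy hyr with h1 | h1
        · rw [h1, sub_self]; exact zero_mem _
        · have : A • y - y = 2 • (-y) := by rw [h1, two_smul]; abel
          rw [this]
          exact Cfsg.Agent.BabyM.CoTwoMod.two_smul_mem_rad r _
      · have : A • ((2 • z : leechLattice)) - (2 • z : leechLattice) = 2 • (A • z - z) := by
          rw [two_smul ℕ z, Cfsg.Agent.LeechMat.Core.co0_smul_add, two_smul ℕ (A • z - z)]; abel
        rw [this]
        exact Cfsg.Agent.BabyM.CoTwoMod.two_smul_mem_rad r _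
      · rw [hr', sub_self]; exact zero_mem _
    | zero => rw [Cfsg.Agent.LeechMat.Core.co0_smul_zero, sub_zero]; exact zero_mem _
    | add y z _ _ h1 h2 =>
      have : A • (y + z) - (y + z) = (A • y - y) + (A • z - z) := by
        rw [Cfsg.Agent.LeechMat.Core.co0_smul_add]; abel
      rw [this]
      exact add_mem h1 h2
    | neg y _ h1 =>
      have : A • (-y) - (-y) = -(A • y - y) := by
        rw [Cfsg.Agent.LeechMat.Core.co0_smul_neg]; abel
      rw [this]
      exact neg_mem h1
  rcases hr' with h1 | h1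
  · left
    intro v
    rw [key A h h1, one_smul]
  · right
    obtain ⟨n, hn⟩ := exists_negOne
    have h2 : n * A = 1 := by
      apply key
      · intro s hs hsr
        rw [mul_smul, hn]
        rcases h s hs hsr with h3 | h3 <;> rw [h3]
        · exact Or.inr rfl
        · left; rw [neg_neg]
      · rw [mul_smul, hn, h1, neg_neg]
    intro v
    have h3 : (n * A) • v = v := by rw [h2, one_smul]
    rw [mul_smul, hn] at h3
    exact (neg_eq_iff_eq_neg.1 h3)

end Cfsg.Agent.MonsterX.KSLat
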