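import Cfsg.Agent.MonsterX.Swar

/-!
# Covering of the frames by the orbits of a stabiliser

`K` acts on a set `Y` with a faithful 24-bit code on which it acts `F₂`-linearly (the classes of
`2^{1+24}` modulo its centre); `y0` is the base frame, the fields of `G` are the codes of its
neighbours.  A row check shows, for a representative `r m`, that every neighbour of the frame
`(r m)⁻¹ y0` is moved by some element of `L` to one of the frames `(r m')⁻¹ y0`.
-/

set_option autoImplicit false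

namespace Cfsg.Agent.MonsterX.FrameCover

open Cfsg.Agent.MonsterX.Lin24 Cfsg.Agent.MonsterX.Swar

/-! ### The abstract covering theorem -/

section Abstract

variable {K Y : Type*} [Group K] [MulAction K Y]

/-- The frames `l (r i)⁻¹ y0` are all the frames `h y0`, `h ∈ K`, if they are closed under taking
neighbours. -/
theorem cover_of_edges (y0 : Y) (Γ : Set Y) (hΓ : ∀ k : K, k • y0 = y0 → ∀ y ∈ Γ, k • y ∈ Γ)
    (ξ : K) (h1 : ξ • y0 ∈ Γ) (h2 : ξ⁻¹ • y0 ∈ Γ)
    (hgen : ∀ H : Subgroup K, (∀ k : K, k • y0 = y0 → k ∈ H) → ξ ∈ H → H = ⊤)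
    {ι : Type*} (r : ι → K) (L : Subgroup K) (i0 : ι) (hi0 : r i0 = 1)
    (hrow : ∀ i, ∀ y ∈ Γ, ∃ l ∈ L, ∃ i', l • (r i)⁻¹ • y = (r i')⁻¹ • y0) :
    ∀ h : K, ∃ l ∈ L, ∃ i, h • y0 = l • (r i)⁻¹ • y0 := by
  let P : K → Prop := fun h => ∃ l ∈ L, ∃ i, h • y0 = l • (r i)⁻¹ • y0
  have hP1 : P 1 := ⟨1, L.one_mem, i0, by rw [hi0]; simp⟩
  have hstab : ∀ h k : K, k • y0 = y0 → P h → P (h * k) := by
    rintro h k hk ⟨l, hl, i, e⟩
    exact ⟨l, hl, i, by rw [mul_smul, hk, e]⟩
  have hedge : ∀ h x : K, x • y0 ∈ Γ → P h → P (h * x) := by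
    rintro h x hx ⟨l, hl, i, e⟩
    have hd : (r i * l⁻¹ * h) • y0 = y0 := by
      rw [mul_smul, mul_smul, e, inv_smul_smul, smul_inv_smul]
    obtain ⟨l', hl', i', e'⟩ := hrow i _ (hΓ _ hd _ hx)
    refine ⟨l * l'⁻¹, L.mul_mem hl (L.inv_mem hl'), i', ?_⟩
    rw [← e', mul_smul l, inv_smul_smul, ← mul_smul, ← mul_smul, ← mul_smul]
    congr 1
    group
  let H : Subgroup K :=
    { carrier := {g | ∀ h, P h ↔ P (h * g)}
      mul_mem' := fun {a b} ha hb h => by
        have h3 := hb (h * a)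
        rw [← mul_assoc]
        exact (ha h).trans h3
      one_mem' := fun h => by rw [mul_one]
      inv_mem' := fun {a} ha h => by
        have h3 := ha (h * a⁻¹)
        rw [inv_mul_cancel_right] at h3
        exact h3.symm }
  have hH : H = ⊤ := by
    apply hgen
    · intro k hk h
      refine ⟨hstab h k hk, fun h3 => ?_⟩
      have h4 := hstab (h * k) k⁻¹ (inv_smul_eq_iff.2 hk.symm) h3
      rwa [mul_inv_cancel_right] at h4
    · intro h
      refine ⟨hedge h ξ h1, fun h3 => ?_⟩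
      have h4 := hedge (h * ξ) ξ⁻¹ h2 h3
      rwa [mul_inv_cancel_right] at h4
  intro h
  have h3 : h ∈ H := by rw [hH]; trivial
  have h4 := (h3 1).1 hP1
  rwa [one_mul] at h4

/-- The `ξ`-edge belonging to a neighbour `k ξ⁻¹ y0` of `y0`. -/
theorem edge_of_row {V : Type*} [MulAction K V] (y0 : Y) (D : Subgroup K)
    (hD : ∀ k : K, k • y0 = y0 → k ∈ D) (ξ k r r' l : K) (b : V) (hl : l • b = b)
    (h : l • r⁻¹ • (k • ξ⁻¹ • y0) = r'⁻¹ • y0) :
    ∃ d ∈ D, ξ • k⁻¹ • r • b = d • r' • b := by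
  have hd : (r' * l * r⁻¹ * k * ξ⁻¹) • y0 = y0 := by
    rw [mul_smul, mul_smul, mul_smul, mul_smul, h, smul_inv_smul]
  refine ⟨(r' * l * r⁻¹ * k * ξ⁻¹)⁻¹, D.inv_mem (hD _ hd), ?_⟩
  have e : r' • b = (r' * l) • b := by rw [mul_smul, hl]
  rw [e, ← mul_smul, ← mul_smul, ← mul_smul]
  congr 1
  group

end Abstract

/-! ### Composition of matrices -/

/-- The first `n` columns of `A ∘ B`. -/
noncomputable def compN (A B n : ℕ) : ℕ :=
  Nat.rec (motive := fun _ => ℕ) 0
    (fun i r => Nat.lor r ((lin A (col B i)) <<< (24 * i))) n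

/-- The columns of `A ∘ B`. -/
noncomputable def comp (A B : ℕ) : ℕ := compN A B 24

theorem compN_succ (A B n : ℕ) :
    compN A B (n + 1) = compN A B n ||| ((lin A (col B n)) <<< (24 * n)) := rfl

theorem testBit_compN (A B n : ℕ) (j : ℕ) :
    (compN A B n).testBit j = (decide (j < 24 * n) && (lin A (col B (j / 24))).testBit (j % 24)) := by
  induction n with
  | zero =>
    change (0 : ℕ).testBit j = _
    simp
  | succ n ih =>
    rw [compN_succ, Nat.testBit_or, ih, Nat.testBit_shiftLeft]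
    by_cases h1 : j < 24 * n
    · have h2 : j < 24 * (n + 1) := by omega
      have h3 : ¬ 24 * n ≤ j := by omega
      simp [h1, h2, h3]
    · by_cases h2 : j < 24 * (n + 1)
      · have h3 : j / 24 = n := by omega
        have h4 : j - 24 * n = j % 24 := by omega
        rw [h3, h4]
        have h5 : 24 * n ≤ j := by omega
        simp [h1, h2, h5]
      · have h6 : (lin A (col B n)).testBit (j - 24 * n) = false := Nat.testBit_lt_two_pow
          (lt_of_lt_of_le (lin_lt _ _) (Nat.pow_le_pow_right (by norm_num) (by omega)))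
        rw [h6]
        simp [h1, h2]

theorem col_comp (A B : ℕ) {i : ℕ} (hi : i < 24) : col (comp A B) i = lin A (col B i) := by
  apply Nat.eq_of_testBit_eq
  intro t
  unfold col comp
  rw [show (16777216 : ℕ) = 2 ^ 24 by norm_num, Nat.testBit_mod_two_pow, Nat.testBit_shiftRight,
    testBit_compN]
  by_cases ht : t < 24
  · have h1 : 24 * i + t < 24 * 24 := by omega
    have h2 : (24 * i + t) / 24 = i := by omega
    have h3 : (24 * i + t) % 24 = t := by omega
    rw [h2, h3]
    simp [ht, h1, col]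
  · have h1 : (lin A ((B >>> (24 * i)) % 2 ^ 24)).testBit t = false := Nat.testBit_lt_two_pow
      (lt_of_lt_of_le (lin_lt _ _) (Nat.pow_le_pow_right (by norm_num) (by omega)))
    rw [h1]
    simp [ht]

theorem lin_comp (A B v : ℕ) : lin (comp A B) v = lin A (lin B v) := by
  apply lin_cmp
  have h : ∀ n, n ≤ 24 → allB n (fun i => Nat.beq (col (comp A B) i) (lin A (col B i))) = true := by
    intro n
    induction n with
    | zero => intro _; rfl
    | succ n ih =>
      intro hn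
      change cond (Nat.beq (col (comp A B) n) (lin A (col B n)))
        (allB n fun i => Nat.beq (col (comp A B) i) (lin A (col B i))) false = true
      rw [col_comp A B (by omega), ih (by omega)]
      have : Nat.beq (lin A (col B n)) (lin A (col B n)) = true := Nat.beq_refl _
      rw [this]
      rfl
  exact h 24 le_rfl

/-- The columns of a product of letters (the head of the list is applied last). -/
noncomputable def evalW (lt : ℕ → ℕ) (w : List ℕ) : ℕ :=
  List.rec (motive := fun _ => ℕ) idc (fun a _ r => comp (lt a) r) w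

/-! ### Coded sets -/

/-- A set with an action of `K` and a faithful 24-bit code. -/
structure Coded (K Y : Type*) [Group K] [MulAction K Y] where
  /-- the base point -/
  y0 : Y
  /-- the code -/
  code : Y → ℕ
  inj : ∀ y y' : Y, code y = code y' → y = y'
  lt : ∀ y : Y, code y < 2 ^ 24

section Rep

variable {K Y : Type*} [Group K] [MulAction K Y] (S : Coded K Y)

/-- `g` acts as the linear map with columns `c`. -/
def Rep (g : K) (c : ℕ) : Prop := ∀ y : Y, S.code (g • y) = lin c (S.code y)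

variable {S}

theorem Rep.one : Rep S 1 idc := fun y => by rw [one_smul, lin_one (S.lt y)]

theorem Rep.mul {g h : K} {A B : ℕ} (hg : Rep S g A) (hh : Rep S h B) :
    Rep S (g * h) (comp A B) := fun y => by
  rw [mul_smul, hg, hh, lin_comp]

theorem Rep.inv {g : K} {A B : ℕ} (hg : Rep S g A) (hc : cmpOK B A idc = true) :
    Rep S g⁻¹ B := fun y => by
  have h1 := hg (g⁻¹ • y)
  rw [smul_inv_smul] at h1
  rw [h1, ← lin_cmp hc, lin_one (S.lt _)]

theorem Rep.word {gen : ℕ → K} {lt : ℕ → ℕ} (w : List ℕ) (h : ∀ a ∈ w, Rep S (gen a) (lt a)) :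
    Rep S ((w.map gen).prod) (evalW lt w) := by
  induction w with
  | nil => exact Rep.one
  | cons a w ih =>
    rw [List.map_cons, List.prod_cons]
    exact (h a (List.mem_cons_self)).mul (ih fun b hb => h b (List.mem_cons_of_mem _ hb))

/-- Some element of `L` acts by the columns `c`. -/
def InL (S : Coded K Y) (L : Subgroup K) (c : ℕ) : Prop := ∃ l ∈ L, Rep S l c

theorem InL.mul {L : Subgroup K} {A B C : ℕ} (hA : InL S L A) (hB : InL S L B)
    (h : cmpOK A B C = true) : InL S L C := by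
  obtain ⟨l, hl, h1⟩ := hA
  obtain ⟨l', hl', h2⟩ := hB
  exact ⟨l * l', L.mul_mem hl hl', fun y => by rw [mul_smul, h1, h2, lin_cmp h]⟩

theorem InL.inv {L : Subgroup K} {A B : ℕ} (hA : InL S L A) (h : cmpOK B A idc = true) :
    InL S L B := by
  obtain ⟨l, hl, h1⟩ := hA
  exact ⟨l⁻¹, L.inv_mem hl, h1.inv h⟩

/-- Maps on codes given by elements of `L`. -/
def PL (S : Coded K Y) (L : Subgroup K) (φ : ℕ → ℕ) : Prop :=
  ∃ l ∈ L, ∀ y : Y, S.code (l • y) = φ (S.code y)

theorem PL.id (L : Subgroup K) : PL S L fun x => x := ⟨1, L.one_mem, fun y => by rw [one_smul]⟩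

theorem PL.lin {L : Subgroup K} {c : ℕ} (hc : InL S L c) {φ : ℕ → ℕ} (h : PL S L φ) :
    PL S L fun x => lin c (φ x) := by
  obtain ⟨l, hl, h1⟩ := hc
  obtain ⟨l', hl', h2⟩ := h
  exact ⟨l * l', L.mul_mem hl hl', fun y => by rw [mul_smul, h1, h2]⟩

/-! ### Rows -/

/-- **Soundness of a row.** -/
theorem row_sound {L : Subgroup K} {n : ℕ} {C F : ℕ → ℕ} {nt s R G W : ℕ} {r : ℕ → K} {g : K}
    (hC : ∀ i, i < 4 → InL S L (C i)) (hR : Rep S g R)
    (hF : ∀ t, t < nt → S.code ((r t)⁻¹ • S.y0) = F t) (hF' : ∀ t, F t < 2 ^ 40)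
    (hnt : nt ≤ 256) (hG : G < 2 ^ (40 * n))
    (h : rowOK (ones n) C F nt s R G W = true) {e : ℕ} (he : e < n) {y : Y}
    (hy : S.code y = fld G e) :
    tg W e < nt ∧ ∃ l ∈ L, l • g • y = (r (tg W e))⁻¹ • S.y0 := by
  obtain ⟨h1, φ, ⟨l, hl, h2⟩, h3⟩ := Swar.row_sound (P := PL S L) (PL.id L)
    (fun i hi φ hφ => PL.lin (hC i hi) hφ) hF' hnt hG h e he
  refine ⟨h1, l, hl, S.inj _ _ ?_⟩
  rw [h2, hR, hy, h3, hF _ h1]

/-- The points with codes in the fields of `G`. -/
def Nb (S : Coded K Y) (n G : ℕ) : Set Y := {y | ∃ e, e < n ∧ S.code y = fld G e}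

/-- **The covering theorem.** -/
theorem cover {L : Subgroup K} {n : ℕ} {C F : ℕ → ℕ} {nt s G : ℕ} {R W : ℕ → ℕ} {r : ℕ → K}
    (hC : ∀ i, i < 4 → InL S L (C i)) (hR : ∀ t, t < nt → Rep S (r t)⁻¹ (R t))
    (hF : ∀ t, t < nt → S.code ((r t)⁻¹ • S.y0) = F t) (hF' : ∀ t, F t < 2 ^ 40)
    (hnt : nt ≤ 256) (hnt0 : 0 < nt) (hr0 : r 0 = 1) (hG : G < 2 ^ (40 * n))
    (h : ∀ t, t < nt → rowOK (ones n) C F nt s (R t) G (W t) = true)
    (hst : ∀ k : K, k • S.y0 = S.y0 → ∀ y ∈ Nb S n G, k • y ∈ Nb S n G)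
    (ξ : K) (h1 : ξ • S.y0 ∈ Nb S n G) (h2 : ξ⁻¹ • S.y0 ∈ Nb S n G)
    (hgen : ∀ H : Subgroup K, (∀ k : K, k • S.y0 = S.y0 → k ∈ H) → ξ ∈ H → H = ⊤) :
    ∀ k : K, ∃ l ∈ L, ∃ i, i < nt ∧ k • S.y0 = l • (r i)⁻¹ • S.y0 := by
  intro k
  obtain ⟨l, hl, i, e⟩ := cover_of_edges S.y0 (Nb S n G) hst ξ h1 h2 hgen
    (fun i : Fin nt => r i) L ⟨0, hnt0⟩ hr0 (fun i y hy => by
      obtain ⟨e, he, hy⟩ := hy
      obtain ⟨h3, l, hl, h4⟩ := row_sound hC (hR i i.2) hF hF' hnt hG (h i i.2) he hy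
      exact ⟨l, hl, ⟨_, h3⟩, h4⟩) k
  exact ⟨l, hl, i, i.2, e⟩

/-! ### Invariance of the set of neighbours -/

/-- The bit mask of the fields `a, …, a+m-1`. -/
noncomputable def mask1 (G a m : ℕ) : ℕ :=
  Nat.rec (motive := fun _ => ℕ) 0 (fun k r => Nat.lor r (1 <<< fld G (a + k))) m

/-- The bit mask of the first `m * k` fields. -/
noncomputable def mask2 (G m k : ℕ) : ℕ :=
  Nat.rec (motive := fun _ => ℕ) 0 (fun i r => Nat.lor r (mask1 G (m * i) m)) k

theorem testBit_one_shl (s v : ℕ) : (1 <<< s).testBit v = decide (s = v) := by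
  rw [Nat.one_shiftLeft, Nat.testBit_two_pow]

theorem testBit_mask1 (G a m v : ℕ) :
    (mask1 G a m).testBit v = true ↔ ∃ e, a ≤ e ∧ e < a + m ∧ fld G e = v := by
  induction m with
  | zero =>
    change (0 : ℕ).testBit v = true ↔ _
    constructor
    · intro h; simp at h
    · rintro ⟨e, h1, h2, _⟩; omega
  | succ m ih =>
    change (mask1 G a m ||| (1 <<< fld G (a + m))).testBit v = true ↔ _
    rw [Nat.testBit_or, Bool.or_eq_true, ih, testBit_one_shl]
    constructor
    · rintro (⟨e, h1, h2, h3⟩ | h)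
      · exact ⟨e, h1, by omega, h3⟩
      · exact ⟨a + m, by omega, by omega, by simpa using h⟩
    · rintro ⟨e, h1, h2, h3⟩
      by_cases he : e < a + m
      · exact Or.inl ⟨e, h1, he, h3⟩
      · have : e = a + m := by omega
        subst this
        exact Or.inr (by simpa using h3)

theorem testBit_mask2 (G m k v : ℕ) :
    (mask2 G m k).testBit v = true ↔ ∃ e, e < m * k ∧ fld G e = v := by
  induction k with
  | zero =>
    change (0 : ℕ).testBit v = true ↔ _
    constructor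
    · intro h; simp at h
    · rintro ⟨e, h1, _⟩; simp at h1
  | succ k ih =>
    change (mask2 G m k ||| mask1 G (m * k) m).testBit v = true ↔ _
    rw [Nat.testBit_or, Bool.or_eq_true, ih, testBit_mask1]
    constructor
    · rintro (⟨e, h1, h2⟩ | ⟨e, h1, h2, h3⟩)
      · exact ⟨e, by rw [Nat.mul_succ]; omega, h2⟩
      · exact ⟨e, by rw [Nat.mul_succ]; omega, h3⟩
    · rintro ⟨e, h1, h2⟩
      rw [Nat.mul_succ] at h1
      by_cases he : e < m * k
      · exact Or.inl ⟨e, he, h2⟩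
      · exact Or.inr ⟨e, by omega, h1, h2⟩

theorem fld_linS {n : ℕ} (c : ℕ) {G : ℕ} (hG : G < 2 ^ (40 * n)) {e : ℕ} (he : e < n) :
    fld (linS (ones n) c G) e = lin c (fld G e) := by
  have hb : Bd n (fld G) := fun e _ => Nat.mod_lt _ (by norm_num)
  have hGp : G = pack n (fld G) := by rw [← eq_pack, Nat.mod_eq_of_lt hG]
  have h1 : linS (ones n) c G = pack n fun e => lin c (fld G e) := by
    conv_lhs => rw [hGp]
    exact linS_eq hb c
  have hb2 : Bd n fun e => lin c (fld G e) := fun e _ => lt_trans (lin_lt c _) (by norm_num)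
  have h2 : pack n (fld (linS (ones n) c G)) = pack n fun e => lin c (fld G e) := by
    rw [← eq_pack, h1, Nat.mod_eq_of_lt (pack_lt hb2)]
  exact pack_inj (fun e _ => Nat.mod_lt _ (by norm_num)) hb2 h2 e he

/-- The set of neighbours is preserved by a map with columns `c` if the mask of the images is the
mask. -/
theorem nb_of_mask {G c m k : ℕ} (hG : G < 2 ^ (40 * (m * k)))
    (h : Nat.beq (mask2 (linS (ones (m * k)) c G) m k) (mask2 G m k) = true) {g : K}
    (hg : Rep S g c) : ∀ y ∈ Nb S (m * k) G, g • y ∈ Nb S (m * k) G := by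
  rintro y ⟨e, he, hy⟩
  have h1 := Nat.eq_of_beq_eq_true h
  have h2 : (mask2 (linS (ones (m * k)) c G) m k).testBit (S.code (g • y)) = true := by
    rw [testBit_mask2]
    exact ⟨e, he, by rw [fld_linS c hG he, hg, hy]⟩
  rw [h1, testBit_mask2] at h2
  obtain ⟨e', he', h3⟩ := h2
  exact ⟨e', he', h3.symm⟩

/-- Invariance under the closure of a finite set of elements. -/
theorem nb_of_gens {n G : ℕ} (A : Set K) (hA : ∀ g ∈ A, ∀ y ∈ Nb S n G, g • y ∈ Nb S n G)
    (k : K) (hk : k ∈ Subgroup.closure A) : ∀ y ∈ Nb S n G, k • y ∈ Nb S n G := by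
  have hfin : (Nb S n G).Finite := by
    have : (Nb S n G) ⊆ (fun y => S.code y) ⁻¹' (Finset.range n).image (fld G) := by
      rintro y ⟨e, he, hy⟩
      rw [Set.mem_preimage]
      exact Finset.mem_coe.2 (Finset.mem_image.2 ⟨e, Finset.mem_range.2 he, hy.symm⟩)
    exact Set.Finite.subset (Set.Finite.preimage (fun a _ b _ h => S.inj a b h)
      (Finset.finite_toSet _)) this
  have hinv : ∀ g ∈ A, ∀ y ∈ Nb S n G, g⁻¹ • y ∈ Nb S n G := by
    intro g hg y hy
    have himg : (fun y => g • y) '' Nb S n G = Nb S n G :=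
      Set.eq_of_subset_of_ncard_le (by rintro _ ⟨y, hy, rfl⟩; exact hA g hg y hy)
        (by rw [Set.ncard_image_of_injective _ (MulAction.injective g)]) hfin
    rw [← himg] at hy
    obtain ⟨z, hz, rfl⟩ := hy
    simpa using hz
  induction hk using Subgroup.closure_induction_left with
  | one => intro y hy; rwa [one_smul]
  | mul_left x hx g _ ih =>
    intro y hy
    rw [mul_smul]
    exact hA x hx _ (ih y hy)
  | inv_mul_cancel x hx g _ ih =>
    intro y hy
    rw [mul_smul]
    exact hinv x hx _ (ih y hy)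

end Rep

end Cfsg.Agent.MonsterX.FrameCover
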