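import Cfsg.Agent.MonsterX.Psi
import Cfsg.Agent.MonsterX.FrameCover
import Cfsg.Agent.MonsterX.FrameStab

/-!
# The frame action: codes of classes of the lattice modulo twice the lattice

`codeL v` is the 24-bit code (Pauli coordinates `d <<< 12 ||| (θ_d xor δ)` of the model) of the class of the
lattice vector `v` modulo twice the lattice.

A group `H` each element of which induces an element of `Co0`, unique up to sign (`Ind H R`), acts on the set
`Y24` of all codes; `coded` is the `Coded` structure of this action, with base point the class of `8 e_∞`.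
-/

set_option autoImplicit false

namespace Cfsg.Agent.MonsterX.FrameAct

open Cfsg Cfsg.Agent.LeechMat.Core Cfsg.Agent.LeechMat.Code Cfsg.Agent.LeechMat.Elements
open Cfsg.Agent.Monster.PauliBasic Cfsg.Agent.Monster.PauliBits
open Cfsg.Agent.MonsterX.Psi Cfsg.Agent.MonsterX.Lin24 Cfsg.Agent.MonsterX.FrameCover
open Cfsg.Agent.MonsterX.FrameStab

/-! ### Codes of lattice vectors -/

/-- Columns: codes of the vectors `vZ 0, …, vZ 11, vX 0, …, vX 11`. -/
def Mc : ℕ := 0x110000008000004000002000000a000006000002000b3e00069e00020000001e00000100000090000048000004000082000001800001400001e000800000400000e00000c10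

/-- The inverse of `Mc`. -/
def Mi : ℕ := 0x48b00020700000200040000020000010000008000007100005000003000001000000080000000800000400000e00040800020400010000008800000d00004d00002d00007d800000

theorem Mi_Mc : cmpOK Mi Mc idc = true := by decide +kernel

theorem Mc_Mi : cmpOK Mc Mi idc = true := by decide +kernel

/-- The number of a pair of binary vectors. -/
def pn (p : B 12 × B 12) : ℕ := (idx p.1 <<< 12) ^^^ idx p.2

theorem pn_add (p q : B 12 × B 12) : pn (p + q) = pn p ^^^ pn q := by
  unfold pn
  rw [Prod.fst_add, Prod.snd_add, idx_add, idx_add, Nat.shiftLeft_xor_distrib]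
  exact (xor_mid _ _ _ _)

theorem pn_lt (p : B 12 × B 12) : pn p < 2 ^ 24 := by
  unfold pn
  refine Nat.xor_lt_two_pow ?_ ?_
  · rw [Nat.shiftLeft_eq]
    have := idx_lt p.1
    calc idx p.1 * 2 ^ 12 < 2 ^ 12 * 2 ^ 12 := Nat.mul_lt_mul_of_pos_right this (by norm_num)
      _ = 2 ^ 24 := by norm_num
  · exact lt_trans (idx_lt p.2) (by norm_num)

theorem pn_testBit (p : B 12 × B 12) (k : ℕ) : (pn p).testBit k =
    if h : k < 12 then decide (p.2 ⟨k, h⟩ = 1) else
      if h : k - 12 < 12 then decide (p.1 ⟨k - 12, h⟩ = 1) else false := by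
  unfold pn
  rw [Nat.testBit_xor, Nat.testBit_shiftLeft, testBit_idx, testBit_idx]
  by_cases h : k < 12
  · have h' : ¬ (12 ≤ k) := by omega
    simp [h, h']
  · have h' : 12 ≤ k := by omega
    simp [h, h']

theorem pn_inj {p q : B 12 × B 12} (h : pn p = pn q) : p = q := by
  have hz : ∀ a b : ZMod 2, decide (a = 1) = decide (b = 1) → a = b := by decide
  apply Prod.ext
  · funext k
    have h1 := congrArg (fun x => x.testBit (k.val + 12)) h
    simp only [pn_testBit] at h1
    have h2 : ¬ (k.val + 12 < 12) := by omega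
    have h3 : k.val + 12 - 12 < 12 := by omega
    rw [dif_neg h2, dif_pos h3, dif_neg h2, dif_pos h3] at h1
    have h4 : (⟨k.val + 12 - 12, h3⟩ : Fin 12) = k := Fin.ext (by simp)
    rw [h4] at h1
    exact hz _ _ h1
  · funext k
    have h1 := congrArg (fun x => x.testBit k.val) h
    simp only [pn_testBit] at h1
    rw [dif_pos k.2, dif_pos k.2] at h1
    exact hz _ _ h1

theorem pn_zero : pn 0 = 0 := by
  have := pn_add 0 0
  rw [add_zero, Nat.xor_self] at this
  exact this

theorem pn_surj {n : ℕ} (h : n < 2 ^ 24) : ∃ p, pn p = n := by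
  refine ⟨(vec 12 (n >>> 12), vec 12 n), ?_⟩
  apply Nat.eq_of_testBit_eq
  intro k
  rw [pn_testBit]
  have hd : ∀ x i, decide (bit x i = 1) = x.testBit i := by
    intro x i
    unfold bit
    cases x.testBit i <;> decide
  by_cases h1 : k < 12
  · rw [dif_pos h1]
    exact hd _ _
  · rw [dif_neg h1]
    by_cases h2 : k - 12 < 12
    · rw [dif_pos h2]
      show decide (bit (n >>> 12) (k - 12) = 1) = _
      rw [hd, Nat.testBit_shiftRight]
      congr 1
      omega
    · rw [dif_neg h2]
      symm
      apply Nat.testBit_lt_two_pow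
      exact lt_of_lt_of_le h (Nat.pow_le_pow_right (by norm_num) (by omega))

/-- The code of the class of a lattice vector. -/
noncomputable def codeL (v : leechLattice) : ℕ := lin Mc (pn (psi v))

theorem codeL_lt (v : leechLattice) : codeL v < 2 ^ 24 := lin_lt _ _

theorem codeL_add (v w : leechLattice) : codeL (v + w) = codeL v ^^^ codeL w := by
  unfold codeL
  rw [map_add, pn_add, lin_xor]

theorem codeL_eq_iff {v w : leechLattice} : codeL v = codeL w ↔ ∃ u, v - w = 2 • u := by
  rw [← psi_eq_iff]
  constructor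
  · intro h
    have h1 : lin Mi (codeL v) = lin Mi (codeL w) := by rw [h]
    unfold codeL at h1
    rw [← lin_cmp Mi_Mc, ← lin_cmp Mi_Mc, lin_one (pn_lt _), lin_one (pn_lt _)] at h1
    exact pn_inj h1
  · intro h
    unfold codeL
    rw [h]

theorem codeL_zero : codeL 0 = 0 := by
  have := codeL_add 0 0
  rw [add_zero, Nat.xor_self] at this
  exact this

theorem codeL_neg (v : leechLattice) : codeL (-v) = codeL v := by
  rw [codeL_eq_iff]
  exact ⟨-v, by rw [two_nsmul]; abel⟩

theorem codeL_two (v : leechLattice) : codeL (2 • v) = 0 := by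
  rw [two_nsmul, codeL_add, Nat.xor_self]

theorem codeL_surj {n : ℕ} (h : n < 2 ^ 24) : ∃ v, codeL v = n := by
  obtain ⟨p, hp⟩ := pn_surj (lin_lt Mi n)
  obtain ⟨v, hv⟩ := psi_surjective p
  refine ⟨v, ?_⟩
  unfold codeL
  rw [hv, hp, ← lin_cmp Mc_Mi, lin_one h]

/-- The base vectors: `vZ 0, …, vZ 11, vX 0, …, vX 11`. -/
def bv (j : Fin 24) : leechLattice :=
  if h : j.val < 12 then vZ ⟨j, h⟩ else vX ⟨j.val - 12, by omega⟩

/-- Additive induction from the base vectors. -/
theorem induction_bv {p : leechLattice → Prop} (h0 : p 0) (hadd : ∀ v w, p v → p w → p (v + w))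
    (hneg : ∀ v, p v → p (-v)) (h2 : ∀ v, p (2 • v)) (hb : ∀ j, p (bv j)) (v : leechLattice) : p v := by
  let U : AddSubgroup leechLattice :=
    { carrier := {v | p v}
      add_mem' := fun {a b} ha hb => hadd a b ha hb
      zero_mem' := h0
      neg_mem' := fun {a} ha => hneg a ha }
  have hX : ∀ k : Fin 12, vX k ∈ U := by
    intro k
    have h1 := hb ⟨k.val + 12, by omega⟩
    have h3 : ¬ (k.val + 12 < 12) := by omega
    have h4 : bv ⟨k.val + 12, by omega⟩ = vX k := by
      unfold bv
      rw [dif_neg h3]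
      congr 1
    rw [h4] at h1
    exact h1
  have hZ : ∀ k : Fin 12, vZ k ∈ U := by
    intro k
    have h1 := hb ⟨k.val, by omega⟩
    have h4 : bv ⟨k.val, by omega⟩ = vZ k := by
      unfold bv
      rw [dif_pos k.2]
    rw [h4] at h1
    exact h1
  have hl : ∀ q, lift q ∈ U := by
    intro q
    unfold lift
    exact U.add_mem (U.sum_mem fun k _ => U.nsmul_mem (hX k) _) (U.sum_mem fun k _ => U.nsmul_mem (hZ k) _)
  obtain ⟨u, hu⟩ := psi_eq_iff.1 (psi_lift (psi v)).symm
  have h5 : v = lift (psi v) + 2 • u := by rw [← hu]; abel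
  rw [h5]
  exact hadd _ _ (hl _) (h2 u)

theorem smul_two (A : Co0) (v : leechLattice) : A • (2 • v) = 2 • (A • v) := by
  rw [two_nsmul, co0_smul_add, two_nsmul]

/-- The columns of the code matrix of `A` may be checked on the base vectors. -/
theorem codeL_smul_of_base {A : Co0} {c : ℕ}
    (h : ∀ j : Fin 24, codeL (A • bv j) = lin c (codeL (bv j))) (v : leechLattice) :
    codeL (A • v) = lin c (codeL v) := by
  refine induction_bv (p := fun v => codeL (A • v) = lin c (codeL v)) ?_ ?_ ?_ ?_ h v
  · rw [co0_smul_zero, codeL_zero, lin_zero]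
  · intro v w hv hw
    rw [co0_smul_add, codeL_add, codeL_add, lin_xor, hv, hw]
  · intro v hv
    rw [co0_smul_neg, codeL_neg, codeL_neg, hv]
  · intro v
    rw [smul_two, codeL_two, codeL_two, lin_zero]

theorem codeL_smul_congr (A : Co0) {v w : leechLattice} (h : codeL v = codeL w) :
    codeL (A • v) = codeL (A • w) := by
  rw [codeL_eq_iff] at h ⊢
  obtain ⟨u, hu⟩ := h
  exact ⟨A • u, by rw [← co0_smul_sub, hu, smul_two]⟩

/-! ### The action on codes -/

/-- A group each element of which induces an element of `Co0`, unique up to sign. -/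
structure Ind (H : Type*) [Group H] (R : H → Co0 → Prop) : Prop where
  one : R 1 1
  mul : ∀ {h k : H} {A B : Co0}, R h A → R k B → R (h * k) (A * B)
  inv : ∀ {h : H} {A : Co0}, R h A → R h⁻¹ A⁻¹
  ex : ∀ h : H, ∃ A, R h A
  pm : ∀ {A : Co0}, R 1 A → (∀ v : leechLattice, A • v = v) ∨ (∀ v : leechLattice, A • v = -v)

variable {H : Type*} [Group H] {R : H → Co0 → Prop}

theorem Ind.codeL_eq (I : Ind H R) {h : H} {A B : Co0} (hA : R h A) (hB : R h B) (v : leechLattice) :
    codeL (A • v) = codeL (B • v) := by
  have h1 := I.mul (I.inv hA) hB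
  rw [inv_mul_cancel] at h1
  have h2 : codeL ((A⁻¹ * B) • v) = codeL v := by
    rcases I.pm h1 with h3 | h3
    · rw [h3]
    · rw [h3, codeL_neg]
  have h4 := codeL_smul_congr A h2
  rw [← mul_smul, mul_inv_cancel_left] at h4
  exact h4.symm

/-- The element of `Co0` induced by `h`. -/
noncomputable def Ind.A (I : Ind H R) (h : H) : Co0 := (I.ex h).choose

theorem Ind.R_A (I : Ind H R) (h : H) : R h (I.A h) := (I.ex h).choose_spec

/-- The set of all codes, with the action of `H`. -/
def Fr (_ : Ind H R) : Type := {n : ℕ // n < 2 ^ 24}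

variable (I : Ind H R)

/-- The class of a lattice vector. -/
noncomputable def cl (v : leechLattice) : Fr I := ⟨codeL v, codeL_lt v⟩

theorem cl_surj (y : Fr I) : ∃ v, cl I v = y := by
  obtain ⟨v, hv⟩ := codeL_surj y.2
  exact ⟨v, Subtype.ext hv⟩

theorem cl_eq_iff {v w : leechLattice} : cl I v = cl I w ↔ codeL v = codeL w :=
  ⟨fun h => congrArg Subtype.val h, fun h => Subtype.ext h⟩

/-- A vector in the class `y`. -/
noncomputable def rv (y : Fr I) : leechLattice := (cl_surj I y).choose

theorem cl_rv (y : Fr I) : cl I (rv I y) = y := (cl_surj I y).choose_spec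

/-- The action on the codes. -/
noncomputable def act (h : H) (y : Fr I) : Fr I := cl I (I.A h • rv I y)

theorem act_cl {h : H} {A : Co0} (hA : R h A) (v : leechLattice) :
    act I h (cl I v) = cl I (A • v) := by
  unfold act
  rw [cl_eq_iff, I.codeL_eq (I.R_A h) hA]
  exact codeL_smul_congr A ((cl_eq_iff I).1 (cl_rv I _))

/-- The action on the codes. -/
noncomputable instance : MulAction H (Fr I) where
  smul := act I
  one_smul y := by
    obtain ⟨v, rfl⟩ := cl_surj I y
    exact (act_cl I I.one v).trans (by rw [one_smul])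
  mul_smul h k y := by
    obtain ⟨v, rfl⟩ := cl_surj I y
    show act I (h * k) (cl I v) = act I h (act I k (cl I v))
    rw [act_cl I (I.mul (I.R_A h) (I.R_A k)), act_cl I (I.R_A k), act_cl I (I.R_A h), mul_smul]

theorem smul_cl {h : H} {A : Co0} (hA : R h A) (v : leechLattice) :
    h • cl I v = cl I (A • v) := act_cl I hA v

/-- The coded set; the base point is the class of `8 e_∞`. -/
def coded : Coded H (Fr I) where
  y0 := ⟨4096, by norm_num⟩
  code := Subtype.val
  inj := fun _ _ h => Subtype.ext h
  lt := fun y => y.2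

/-- The code matrix of a group element from the one of an induced element of `Co0`. -/
theorem rep {h : H} {A : Co0} {c : ℕ} (hA : R h A)
    (hc : ∀ v, codeL (A • v) = lin c (codeL v)) : Rep (coded I) h c := by
  intro y
  obtain ⟨v, rfl⟩ := cl_surj I y
  exact (congrArg Subtype.val (smul_cl I hA v)).trans (hc v)

theorem rep_trivial {h : H} (hA : R h 1) : Rep (coded I) h idc :=
  rep I hA fun v => by rw [one_smul, lin_one (codeL_lt v)]

end Cfsg.Agent.MonsterX.FrameAct
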