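import Cfsg.Agent.MonsterX.PairValTab

/-! Kernel checks of the inner products of the pair table, classes 0, 1, 2, 3, 4, 5. -/

set_option autoImplicit false
set_option maxRecDepth 100000
set_option Elab.async false

namespace Cfsg.Agent.MonsterX.PairVal0

open Cfsg.Agent.MonsterX.PairValTab

theorem v_0_0 : valsC 0 0 3 = true := by decide +kernel

theorem v_0_3 : valsC 0 3 1 = true := by decide +kernel

theorem all_0 {m : ℕ} (h : m < 4) : valC 0 m = true := by
  by_cases h0 : m < 3
  · exact valsC_spec v_0_0 m (by omega) (by omega)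
  exact valsC_spec v_0_3 m (by omega) (by omega)

theorem v_1_0 : valsC 1 0 3 = true := by decide +kernel

theorem v_1_3 : valsC 1 3 1 = true := by decide +kernel

theorem all_1 {m : ℕ} (h : m < 4) : valC 1 m = true := by
  by_cases h0 : m < 3
  · exact valsC_spec v_1_0 m (by omega) (by omega)
  exact valsC_spec v_1_3 m (by omega) (by omega)

theorem v_2_0 : valsC 2 0 3 = true := by decide +kernel

theorem v_2_3 : valsC 2 3 3 = true := by decide +kernel

theorem all_2 {m : ℕ} (h : m < 6) : valC 2 m = true := by
  by_cases h0 : m < 3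
  · exact valsC_spec v_2_0 m (by omega) (by omega)
  exact valsC_spec v_2_3 m (by omega) (by omega)

theorem v_3_0 : valsC 3 0 3 = true := by decide +kernel

theorem v_3_3 : valsC 3 3 3 = true := by decide +kernel

theorem v_3_6 : valsC 3 6 3 = true := by decide +kernel

theorem v_3_9 : valsC 3 9 1 = true := by decide +kernel

theorem all_3 {m : ℕ} (h : m < 10) : valC 3 m = true := by
  by_cases h0 : m < 3
  · exact valsC_spec v_3_0 m (by omega) (by omega)
  by_cases h3 : m < 6
  · exact valsC_spec v_3_3 m (by omega) (by omega)
  by_cases h6 : m < 9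
  · exact valsC_spec v_3_6 m (by omega) (by omega)
  exact valsC_spec v_3_9 m (by omega) (by omega)

theorem v_4_0 : valsC 4 0 3 = true := by decide +kernel

theorem v_4_3 : valsC 4 3 3 = true := by decide +kernel

theorem v_4_6 : valsC 4 6 1 = true := by decide +kernel

theorem all_4 {m : ℕ} (h : m < 7) : valC 4 m = true := by
  by_cases h0 : m < 3
  · exact valsC_spec v_4_0 m (by omega) (by omega)
  by_cases h3 : m < 6
  · exact valsC_spec v_4_3 m (by omega) (by omega)
  exact valsC_spec v_4_6 m (by omega) (by omega)

theorem v_5_0 : valsC 5 0 3 = true := by decide +kernel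

theorem v_5_3 : valsC 5 3 3 = true := by decide +kernel

theorem v_5_6 : valsC 5 6 3 = true := by decide +kernel

theorem all_5 {m : ℕ} (h : m < 9) : valC 5 m = true := by
  by_cases h0 : m < 3
  · exact valsC_spec v_5_0 m (by omega) (by omega)
  by_cases h3 : m < 6
  · exact valsC_spec v_5_3 m (by omega) (by omega)
  exact valsC_spec v_5_6 m (by omega) (by omega)

end Cfsg.Agent.MonsterX.PairVal0
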