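import Cfsg.Agent.MonsterX.PairValTab

/-! Kernel checks of the inner products of the pair table, classes 6, 7, 8. -/

set_option autoImplicit false
set_option maxRecDepth 100000
set_option Elab.async false

namespace Cfsg.Agent.MonsterX.PairVal1

open Cfsg.Agent.MonsterX.PairValTab

theorem v_6_0 : valsC 6 0 3 = true := by decide +kernel

theorem v_6_3 : valsC 6 3 3 = true := by decide +kernel

theorem v_6_6 : valsC 6 6 3 = true := by decide +kernel

theorem v_6_9 : valsC 6 9 2 = true := by decide +kernel

theorem all_6 {m : ℕ} (h : m < 11) : valC 6 m = true := by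
  by_cases h0 : m < 3
  · exact valsC_spec v_6_0 m (by omega) (by omega)
  by_cases h3 : m < 6
  · exact valsC_spec v_6_3 m (by omega) (by omega)
  by_cases h6 : m < 9
  · exact valsC_spec v_6_6 m (by omega) (by omega)
  exact valsC_spec v_6_9 m (by omega) (by omega)

theorem v_7_0 : valsC 7 0 3 = true := by decide +kernel

theorem v_7_3 : valsC 7 3 2 = true := by decide +kernel

theorem all_7 {m : ℕ} (h : m < 5) : valC 7 m = true := by
  by_cases h0 : m < 3
  · exact valsC_spec v_7_0 m (by omega) (by omega)
  exact valsC_spec v_7_3 m (by omega) (by omega)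

theorem v_8_0 : valsC 8 0 3 = true := by decide +kernel

theorem v_8_3 : valsC 8 3 3 = true := by decide +kernel

theorem v_8_6 : valsC 8 6 3 = true := by decide +kernel

theorem v_8_9 : valsC 8 9 3 = true := by decide +kernel

theorem v_8_12 : valsC 8 12 2 = true := by decide +kernel

theorem all_8 {m : ℕ} (h : m < 14) : valC 8 m = true := by
  by_cases h0 : m < 3
  · exact valsC_spec v_8_0 m (by omega) (by omega)
  by_cases h3 : m < 6
  · exact valsC_spec v_8_3 m (by omega) (by omega)
  by_cases h6 : m < 9
  · exact valsC_spec v_8_6 m (by omega) (by omega)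
  by_cases h9 : m < 12
  · exact valsC_spec v_8_9 m (by omega) (by omega)
  exact valsC_spec v_8_12 m (by omega) (by omega)

end Cfsg.Agent.MonsterX.PairVal1
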