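import Cfsg.Agent.MonsterX.PairValTab

/-! Kernel checks of the inner products of the pair table, classes 9, 10. -/

set_option autoImplicit false
set_option maxRecDepth 100000
set_option Elab.async false

namespace Cfsg.Agent.MonsterX.PairVal2

open Cfsg.Agent.MonsterX.PairValTab

theorem v_9_0 : valsC 9 0 3 = true := by decide +kernel

theorem v_9_3 : valsC 9 3 3 = true := by decide +kernel

theorem v_9_6 : valsC 9 6 3 = true := by decide +kernel

theorem v_9_9 : valsC 9 9 3 = true := by decide +kernel

theorem all_9 {m : ℕ} (h : m < 12) : valC 9 m = true := by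
  by_cases h0 : m < 3
  · exact valsC_spec v_9_0 m (by omega) (by omega)
  by_cases h3 : m < 6
  · exact valsC_spec v_9_3 m (by omega) (by omega)
  by_cases h6 : m < 9
  · exact valsC_spec v_9_6 m (by omega) (by omega)
  exact valsC_spec v_9_9 m (by omega) (by omega)

theorem v_10_0 : valsC 10 0 3 = true := by decide +kernel

theorem v_10_3 : valsC 10 3 3 = true := by decide +kernel

theorem v_10_6 : valsC 10 6 3 = true := by decide +kernel

theorem v_10_9 : valsC 10 9 3 = true := by decide +kernel

theorem all_10 {m : ℕ} (h : m < 12) : valC 10 m = true := by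
  by_cases h0 : m < 3
  · exact valsC_spec v_10_0 m (by omega) (by omega)
  by_cases h3 : m < 6
  · exact valsC_spec v_10_3 m (by omega) (by omega)
  by_cases h6 : m < 9
  · exact valsC_spec v_10_6 m (by omega) (by omega)
  exact valsC_spec v_10_9 m (by omega) (by omega)

end Cfsg.Agent.MonsterX.PairVal2
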