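import Cfsg.Agent.MonsterX.PairValTab

/-! Kernel checks of the inner products of the pair table, classes 11. -/

set_option autoImplicit false
set_option maxRecDepth 100000
set_option Elab.async false

namespace Cfsg.Agent.MonsterX.PairVal3

open Cfsg.Agent.MonsterX.PairValTab

theorem v_11_0 : valsC 11 0 3 = true := by decide +kernel

theorem v_11_3 : valsC 11 3 3 = true := by decide +kernel

theorem v_11_6 : valsC 11 6 3 = true := by decide +kernel

theorem v_11_9 : valsC 11 9 3 = true := by decide +kernel

theorem v_11_12 : valsC 11 12 3 = true := by decide +kernel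

theorem v_11_15 : valsC 11 15 3 = true := by decide +kernel

theorem v_11_18 : valsC 11 18 3 = true := by decide +kernel

theorem all_11 {m : ℕ} (h : m < 21) : valC 11 m = true := by
  by_cases h0 : m < 3
  · exact valsC_spec v_11_0 m (by omega) (by omega)
  by_cases h3 : m < 6
  · exact valsC_spec v_11_3 m (by omega) (by omega)
  by_cases h6 : m < 9
  · exact valsC_spec v_11_6 m (by omega) (by omega)
  by_cases h9 : m < 12
  · exact valsC_spec v_11_9 m (by omega) (by omega)
  by_cases h12 : m < 15
  · exact valsC_spec v_11_12 m (by omega) (by omega)
  by_cases h15 : m < 18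
  · exact valsC_spec v_11_15 m (by omega) (by omega)
  exact valsC_spec v_11_18 m (by omega) (by omega)

end Cfsg.Agent.MonsterX.PairVal3
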