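import Cfsg.Agent.MonsterX.CertPairs

/-!
The bound `F b (d j) ≤ 1` for `b ∈ S`, `b ≠ d j`, from a table of pairs.
-/

set_option autoImplicit false

namespace Cfsg.Agent.MonsterX.ValTab

open Cfsg.Agent.MonsterX.Model Cfsg.Agent.MonsterX.CertPairs

variable {W : Type} [AddCommGroup W] [Module ℚ W] {M : MData W}

/-- **`val`** from a table of pairs. -/
theorem val (T : PairTab M) (hC : ∀ g ∈ M.C, ∀ x y, M.F (g x) (g y) = M.F x y)
    (h : ∀ j i, T.y j i = M.a₀ ∨ M.F M.a₀ (T.y j i) ≤ 1) :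
    ∀ j, ∀ b ∈ M.S, b = M.d j ∨ M.F b (M.d j) ≤ 1 := by
  intro j b hb
  obtain ⟨i, l, hl, hd, rfl⟩ := T.cov j b hb
  rcases h j i with h1 | h1
  · left
    have h2 : (T.u j i)⁻¹ M.a₀ = M.d j := by
      rw [← h1]
      exact (T.u j i).symm_apply_apply _
    rw [h2, hd]
  · right
    rw [T.F_eq hC j i hl hd]
    exact h1

end Cfsg.Agent.MonsterX.ValTab
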