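import Cfsg.Agent.MonsterX.PairZero
import Cfsg.Agent.MonsterX.PairVal0
import Cfsg.Agent.MonsterX.PairVal1
import Cfsg.Agent.MonsterX.PairVal2
import Cfsg.Agent.MonsterX.PairVal3
import Cfsg.Agent.MonsterX.ProgEqT
import Cfsg.Agent.MonsterX.ProgM.Inv
import Cfsg.Agent.MonsterX.CertPairs
import Cfsg.Agent.MonsterX.ValTab

/-!
# The fields `trans`, `trans₂`, `T_sub`, `t_d`, and `val`, of the concrete model, from the pair table
-/

set_option autoImplicit false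
set_option maxRecDepth 100000

namespace Cfsg.Agent.MonsterX.FieldsP

open Cfsg Cfsg.Agent.Monster.VecEngine Cfsg.Agent.Monster.VecSpace
open Cfsg.Agent.MonsterX.Space Cfsg.Agent.MonsterX.Conc Cfsg.Agent.MonsterX.Model Cfsg.Agent.MonsterX.InstData
open Cfsg.Agent.MonsterX.InstEval Cfsg.Agent.MonsterX.PairValTab Cfsg.Agent.MonsterX.PairZero
open Cfsg.Agent.MonsterX.CertUTab Cfsg.Agent.MonsterX.CertPairs Cfsg.Agent.MonsterX.ProgEqBase

/-! ### Letters -/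

theorem W_eq_of_SEq {w₁ w₂ : List ℕ} (h : SEq w₁ w₂) : W w₁ = W w₂ := by
  apply LinearEquiv.ext
  intro v
  apply Subtype.ext
  rw [W_coe, W_coe]
  exact h v.1 v.2

theorem E41_E40 : E 41 * E 40 = 1 := by
  have h := W_eq_of_SEq ProgEqT.tau_tauInv
  rw [W_cons, W_single, W_nil] at h
  exact h

theorem E41 : E 41 = (E 40)⁻¹ := eq_inv_of_mul_eq_one_left E41_E40

theorem E_mem_G' {n : ℕ} (h : n < 46) : E n ∈ M.G := by
  rw [M_G]
  by_cases h1 : n < 41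
  · exact E_mem_G h1
  · by_cases h2 : n = 41
    · subst h2
      rw [E41]
      exact G.inv_mem τ_mem_G
    · exact C_le_G (N_le_C (ProgM.Inv.E_mem_N' (Or.inr ⟨by omega, h⟩)))

theorem W_mem_G' {w : List ℕ} (h : ∀ n ∈ w, n < 46) : W w ∈ M.G := W_mem fun n hn => E_mem_G' (h n hn)

theorem lt_bj : ∀ j < 12, ∀ n ∈ bj j, n < 46 := by decide +kernel

theorem W_bj_mem_G {j : ℕ} (hj : j < 12) : W (bj j) ∈ M.G := W_mem_G' (lt_bj j hj)

/-- field `trans` of `MOrbit` -/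
theorem trans : ∀ j, ∃ g ∈ M.G, g (M.d j) = M.a₀ := by
  intro j
  change Fin 12 at j
  refine ⟨(W (bj j.1))⁻¹, M.G.inv_mem (W_bj_mem_G j.2), ?_⟩
  rw [M_d']
  exact (W (bj j.1)).symm_apply_apply _

/-! ### The values -/

theorem nr_eq : ∀ j < 12, nr j = [4, 4, 6, 10, 7, 9, 11, 5, 14, 12, 12, 21].getD j 0 := by decide

theorem valC_all {j m : ℕ} (hj : j < 12) (hm : m < nr j) : valC j m = true := by
  rw [nr_eq j hj] at hm
  interval_cases j
  · exact PairVal0.all_0 hm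
  · exact PairVal0.all_1 hm
  · exact PairVal0.all_2 hm
  · exact PairVal0.all_3 hm
  · exact PairVal0.all_4 hm
  · exact PairVal0.all_5 hm
  · exact PairVal1.all_6 hm
  · exact PairVal1.all_7 hm
  · exact PairVal1.all_8 hm
  · exact PairVal2.all_9 hm
  · exact PairVal2.all_10 hm
  · exact PairVal3.all_11 hm

/-- The vector `y` of the pair `(j, m, b)`. -/
noncomputable def yv (j m : ℕ) (b : Bool) : V := W (wd j m b) (W (bj j) M.a₀)

theorem yv_true (j m : ℕ) : yv j m true = W [1] (yv j m false) := by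
  unfold yv wd
  rw [if_pos rfl, W_append]
  simp only [Bool.false_eq_true, if_false, List.append_nil]
  rfl

theorem x1_a1 : W [1] (vecV a1B) = vecV a0B := by
  have h : W [1] (vecV a1B) = W [] (vecV a0B) := W_eq_of_up (n := 0) (by decide +kernel)
  rw [h, W_nil]
  rfl

theorem x1_a0 : W [1] (vecV a0B) = vecV a1B := by
  have h : W [1] (vecV a0B) = W [] (vecV a1B) := W_eq_of_up (n := 0) (by decide +kernel)
  rw [h, W_nil]
  rfl

/-- The value of the pair `(j, m, b)`, times `256`. -/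
def vb (j m : ℕ) (b : Bool) : ℤ := if b then (vs j m).2 else (vs j m).1

theorem F_false {j m : ℕ} (hj : j < 12) (hm : m < nr j) :
    F (vecV a0B) (yv j m false) = ((vs j m).1 : ℚ) / 2 ^ 8 ∧ F (vecV a1B) (yv j m false) = ((vs j m).2 : ℚ) / 2 ^ 8 := by
  have h := formIs_sound sym_a0B (valC_all hj hm)
  rw [W_append] at h
  unfold yv wd
  simp only [Bool.false_eq_true, if_false, List.append_nil]
  rw [M_a₀]
  exact h

theorem F_a₀_yv {j m : ℕ} (hj : j < 12) (hm : m < nr j) (b : Bool) :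
    F (vecV a0B) (yv j m b) = (vb j m b : ℚ) / 2 ^ 8 := by
  cases b with
  | false => exact (F_false hj hm).1
  | true =>
    rw [yv_true, ← x1_a1, F_W]
    exact (F_false hj hm).2

theorem F_a₁_yv {j m : ℕ} (hj : j < 12) (hm : m < nr j) (b : Bool) :
    F (vecV a1B) (yv j m b) = (vb j m (!b) : ℚ) / 2 ^ 8 := by
  cases b with
  | false => exact (F_false hj hm).2
  | true =>
    rw [yv_true, ← x1_a0, F_W]
    exact (F_false hj hm).1

/-! ### The checks on the table -/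

theorem tab_T : ∀ j < 12, j ≠ 0 → ∀ m < nr j, ∀ b : Bool, vb j m b = 256 → vb j m (!b) ≠ 256 := by decide +kernel

/-- The pairs of inner product `0`. -/
def ZP (j m : ℕ) (b : Bool) : Prop :=
  (j = 0 ∧ m = 0 ∧ b = false) ∨ (j = 0 ∧ m = 2 ∧ b = false) ∨ (j = 0 ∧ m = 2 ∧ b = true) ∨ (j = 1 ∧ m = 0 ∧ b = false) ∨
  (j = 1 ∧ m = 2 ∧ b = false) ∨ (j = 1 ∧ m = 2 ∧ b = true) ∨ (j = 2 ∧ m = 0 ∧ b = false) ∨ (j = 3 ∧ m = 3 ∧ b = false) ∨
  (j = 4 ∧ m = 3 ∧ b = false) ∨ (j = 5 ∧ m = 0 ∧ b = false) ∨ (j = 6 ∧ m = 5 ∧ b = false) ∨ (j = 9 ∧ m = 3 ∧ b = false)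

instance (j m : ℕ) (b : Bool) : Decidable (ZP j m b) := by unfold ZP; infer_instance

theorem tab_Z : ∀ j < 12, ∀ m < nr j, ∀ b : Bool, vb j m b = 0 → ZP j m b := by decide +kernel

theorem tab_V : ∀ j < 12, ∀ m < nr j, ∀ b : Bool, vb j m b ≤ 256 ∨ (j, m, b) = (0, 0, true) := by decide +kernel

theorem zOK {j m : ℕ} {b : Bool} (h : ZP j m b) : ZOK j m b := by
  unfold ZP at h
  rcases h with ⟨rfl, rfl, rfl⟩ | ⟨rfl, rfl, rfl⟩ | ⟨rfl, rfl, rfl⟩ | ⟨rfl, rfl, rfl⟩ | ⟨rfl, rfl, rfl⟩ |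
    ⟨rfl, rfl, rfl⟩ | ⟨rfl, rfl, rfl⟩ | ⟨rfl, rfl, rfl⟩ | ⟨rfl, rfl, rfl⟩ | ⟨rfl, rfl, rfl⟩ | ⟨rfl, rfl, rfl⟩ |
    ⟨rfl, rfl, rfl⟩
  · exact z0
  · exact z1
  · exact z2
  · exact z3
  · exact z4
  · exact z5
  · exact z6
  · exact z7
  · exact z8
  · exact z9
  · exact z10
  · exact z11

/-! ### The fields -/

/-- A pair table of the concrete model with the words of `CertUTab`. -/
structure Words (T : PairTab M) where
  /-- number of the representative -/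
  m : ∀ j : Fin 12, T.I j → ℕ
  /-- sign -/
  b : ∀ j : Fin 12, T.I j → Bool
  lt : ∀ j i, m j i < nr j.1
  eq : ∀ (j : Fin 12) (i : T.I j), T.u j i = W (wd j.1 (m j i) (b j i))

variable {T : PairTab M} (P : Words T)

include P

theorem y_eq (j : Fin 12) (i : T.I j) : T.y j i = yv j.1 (P.m j i) (P.b j i) := by
  unfold PairTab.y yv
  rw [P.eq, M_d']

theorem Fa₀ (j : Fin 12) (i : T.I j) : M.F M.a₀ (T.y j i) = (vb j.1 (P.m j i) (P.b j i) : ℚ) / 2 ^ 8 := by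
  rw [y_eq P, M_a₀]
  exact F_a₀_yv j.2 (P.lt j i) _

theorem Fa₁ (j : Fin 12) (i : T.I j) : M.F M.a₁ (T.y j i) = (vb j.1 (P.m j i) (!(P.b j i)) : ℚ) / 2 ^ 8 := by
  rw [y_eq P, M_a₁]
  exact F_a₁_yv j.2 (P.lt j i) _

/-- field `T_sub` of `MOrbit` -/
theorem T_sub (hσ : ∀ g ∈ M.C, ∀ x, M.σ (g x) = g (M.σ x)) (hσa : M.σ M.a₀ = M.a₁) :
    ∀ j, j ≠ M.j₀ → ∀ s ∈ M.S, M.F s (M.d j) = 1 → M.F (M.σ s) (M.d j) ≠ 1 := by
  refine T.T_sub C_isom hσ hσa ?_
  intro j hj i h1 h2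
  change Fin 12 at j
  rw [Fa₀ P] at h1
  rw [Fa₁ P] at h2
  have e1 : vb j.1 (P.m j i) (P.b j i) = 256 := by
    have : (vb j.1 (P.m j i) (P.b j i) : ℚ) = 256 := by
      rw [div_eq_iff (by norm_num)] at h1; rw [h1]; norm_num
    exact_mod_cast this
  have e2 : vb j.1 (P.m j i) (!(P.b j i)) = 256 := by
    have : (vb j.1 (P.m j i) (!(P.b j i)) : ℚ) = 256 := by
      rw [div_eq_iff (by norm_num)] at h2; rw [h2]; norm_num
    exact_mod_cast this
  have hj' : j.1 ≠ 0 := fun h => hj (Fin.ext h)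
  exact tab_T j.1 j.2 hj' _ (P.lt j i) _ e1 e2

theorem zero_mem (j : Fin 12) (i : T.I j) (h : M.F M.a₀ (T.y j i) = 0) : ZOK j.1 (P.m j i) (P.b j i) := by
  rw [Fa₀ P, div_eq_zero_iff] at h
  have e : vb j.1 (P.m j i) (P.b j i) = 0 := by
    rcases h with h | h
    · exact_mod_cast h
    · exact absurd h (by norm_num)
  exact zOK (tab_Z j.1 j.2 _ (P.lt j i) _ e)

/-- field `trans₂` of `MOrbit` -/
theorem trans₂ : ∀ j, ∀ b ∈ M.S, M.F b (M.d j) = 0 → ∃ g ∈ M.G, g b = M.a₀ ∧ g (M.d j) = M.a₁ := by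
  refine T.trans₂ C_isom ?_
  intro j i h
  change Fin 12 at j
  obtain ⟨v, w, hw, e1, e2, e3⟩ := (zero_mem P j i h).tr
  have hCG : M.C ≤ M.G := fun x hx => Subgroup.subset_closure (Or.inl hx)
  have hu : W (wd j.1 (P.m j i) (P.b j i)) ∈ M.C := by rw [← P.eq]; exact T.u_mem j i
  refine ⟨W w * (W (wd j.1 (P.m j i) (P.b j i)))⁻¹, M.G.mul_mem (W_mem_G' hw) (M.G.inv_mem (hCG hu)), ?_, ?_⟩
  · rw [LinearEquiv.mul_apply]
    have h2 : (W (wd j.1 (P.m j i) (P.b j i)))⁻¹ M.a₀ = W v M.a₀ := by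
      rw [← e1]
      nth_rewrite 2 [e1]
      exact (W (wd j.1 (P.m j i) (P.b j i))).symm_apply_apply _
    rw [h2, e2]
  · rw [y_eq P, LinearEquiv.mul_apply]
    unfold yv
    have h2 : (W (wd j.1 (P.m j i) (P.b j i)))⁻¹ (W (wd j.1 (P.m j i) (P.b j i)) (W (bj j.1) M.a₀)) =
        W (bj j.1) M.a₀ := (W (wd j.1 (P.m j i) (P.b j i))).symm_apply_apply _
    rw [h2, e3, M_a₀, M_a₁, x1_a0]

/-- field `t_d` of `MTrans` -/
theorem t_d (ht : ∀ g ∈ M.C, g M.a₀ = M.a₀ → g * M.t₀ = M.t₀ * g) :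
    ∀ j, ∀ g ∈ M.C, M.F (g M.a₀) (M.d j) = 0 → (g * M.t₀ * g⁻¹) (M.d j) = M.d j := by
  refine T.t_d C_isom ht ?_
  intro j i h
  change Fin 12 at j
  have h1 := (zero_mem P j i h).fix
  rw [y_eq P]
  exact h1

/-- `F b (d j) ≤ 1` for `b ∈ S`, `b ≠ d j` -/
theorem val : ∀ j, ∀ b ∈ M.S, b = M.d j ∨ M.F b (M.d j) ≤ 1 := by
  refine ValTab.val T C_isom ?_
  intro j i
  change Fin 12 at j
  rcases tab_V j.1 j.2 _ (P.lt j i) (P.b j i) with h | h
  · right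
    rw [Fa₀ P, div_le_one (by norm_num)]
    have : (vb j.1 (P.m j i) (P.b j i) : ℚ) ≤ (256 : ℤ) := by exact_mod_cast h
    refine this.trans ?_
    norm_num
  · left
    have h0 : j.1 = 0 := congrArg Prod.fst h
    have hm : P.m j i = 0 := congrArg (fun t : ℕ × ℕ × Bool => t.2.1) h
    have hb : P.b j i = true := congrArg (fun t : ℕ × ℕ × Bool => t.2.2) h
    rw [y_eq P, h0, hm, hb, yv_true]
    have e : yv 0 0 false = W [1] M.a₀ := by
      unfold yv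
      have h1 : wd 0 0 false = [1] := by decide
      have h2 : W (bj 0) M.a₀ = M.a₀ := by
        have : bj 0 = [] := by decide +kernel
        rw [this, W_nil]; rfl
      rw [h1, h2]
    rw [e, M_a₀, x1_a0, x1_a1]

end Cfsg.Agent.MonsterX.FieldsP
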