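import Cfsg.Agent.MonsterX.CertFr
import Cfsg.Agent.MonsterX.ConcGrp

/-!
# The fields `closed`, `disjoint`, `card_X`, `card_pairs` of the concrete model of the Monster

From the coverage of the frames (`CertFr`), the `τ`-identities and the invariants (`CertGlue`), the spanning tree
(`CertLenT`) and the length `196560` of the base orbit.
-/

set_option autoImplicit false
set_option maxRecDepth 100000

namespace Cfsg.Agent.MonsterX.CertAsm

open Cfsg Cfsg.Agent.MonsterX.Space Cfsg.Agent.MonsterX.Conc Cfsg.Agent.MonsterX.InstData Cfsg.Agent.MonsterX.Model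
open Cfsg.Agent.MonsterX.FrameGam Cfsg.Agent.MonsterX.FrameAct Cfsg.Agent.MonsterX.FrameConc
open Cfsg.Agent.MonsterX.FrameInst Cfsg.Agent.MonsterX.FrameCover Cfsg.Agent.MonsterX.CertFrame
open Cfsg.Agent.MonsterX.CertCovB Cfsg.Agent.MonsterX.CertLenT Cfsg.Agent.MonsterX.CertTab
open Cfsg.Agent.MonsterX.CertVec (nth allN allN_spec)
open Cfsg.Agent.MonsterX.CertFr Cfsg.Agent.MonsterX.CertGlue Cfsg.Agent.MonsterX.CertOrb
open Cfsg.Agent.MonsterX.CertOrbModel

variable {u : leechLattice → V} (U : ULink u)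

theorem cast {u : leechLattice → V} {U : ULink u} {j : Fin 12} {o n o' n' : ℕ} (h : ClassCov U j o n) (ho : o = o')
    (hn : n = n') : ClassCov U j o' n' := by
  subst ho hn
  exact h

/-- All classes. -/
theorem all (j : Fin 12) : ClassCov U j (nth 0 offT j.1) (nth 0 nclT j.1) := by
  fin_cases j
  · exact cast (cls0 U) (by decide +kernel) (by decide +kernel)
  · exact cast (cls1 U) (by decide +kernel) (by decide +kernel)
  · exact cast (cls2 U) (by decide +kernel) (by decide +kernel)
  · exact cast (cls3 U) (by decide +kernel) (by decide +kernel)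
  · exact cast (cls4 U) (by decide +kernel) (by decide +kernel)
  · exact cast (cls5 U) (by decide +kernel) (by decide +kernel)
  · exact cast (cls6 U) (by decide +kernel) (by decide +kernel)
  · exact cast (cls7 U) (by decide +kernel) (by decide +kernel)
  · exact cast (cls8 U) (by decide +kernel) (by decide +kernel)
  · exact cast (cls9 U) (by decide +kernel) (by decide +kernel)
  · exact cast (cls10 U) (by decide +kernel) (by decide +kernel)
  · exact cast (cls11 U) (by decide +kernel) (by decide +kernel)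

theorem kw_ok (r : Fin 251) : (nth [] kw r.1).all okC = true := by
  have h := allN_spec (f := fun r => (nth [] kw r).all okC) (a := 0) (n := 251) (by decide +kernel) r.1 r.2
  rwa [Nat.zero_add] at h

theorem ncl_pos (j : Fin 12) : 0 < nth 0 nclT j.1 := by
  have h := allN_spec (f := fun j => Nat.blt 0 (nth 0 nclT j)) (a := 0) (n := 12) (by decide +kernel) j.1 j.2
  rw [Nat.zero_add, Nat.blt_eq] at h
  exact h

theorem range_ok (r : Fin 251) : nth 0 offT (jof r).1 ≤ r.1 ∧ r.1 < nth 0 offT (jof r).1 + nth 0 nclT (jof r).1 := by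
  have h := allN_spec (f := fun r => and (Nat.ble (nth 0 offT (nth 0 kj r)) r)
    (Nat.blt r (Nat.add (nth 0 offT (nth 0 kj r)) (nth 0 nclT (nth 0 kj r))))) (a := 0) (n := 251)
    (by decide +kernel) r.1 r.2
  rw [Nat.zero_add, Bool.and_eq_true, Nat.blt_eq] at h
  exact ⟨Nat.le_of_ble_eq_true h.1, h.2⟩

/-- The global number of the `m`-th class of `j`. -/
noncomputable def gl (j : Fin 12) (m : Fin (nth 0 nclT j.1)) : Fin 251 := ⟨nth 0 offT j.1 + m.1, (all U j).lt m.1 m.2⟩

theorem jof_val (r : Fin 251) : (jof r).1 = nth 0 kj r.1 := rfl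

theorem gl_val (j : Fin 12) (m : Fin (nth 0 nclT j.1)) : (gl U j m).1 = nth 0 offT j.1 + m.1 := rfl

theorem jof_gl (j : Fin 12) (m : Fin (nth 0 nclT j.1)) : jof (gl U j m) = j := by
  apply Fin.ext
  rw [jof_val, gl_val]
  exact (all U j).cls m.1 m.2

theorem c_eq (j : Fin 12) (m : Fin (nth 0 nclT j.1)) :
    (((prodF EC (nth [] kw (nth 0 offT j.1 + m.1)))⁻¹)⁻¹ : C) • M.d j = v (gl U j m) := by
  rw [inv_inv, v_eq, jof_gl]
  exact congrArg (fun g : V ≃ₗ[ℚ] V => g (M.d j)) (prodF_coe U (kw_ok (gl U j m)))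

include U in
/-- **The orbits of `N` cover the orbits of `C`.** -/
theorem refines : Refines C N M.d v jof where
  le := N_le_C
  rep := v_mem
  cov j x hx := by
    obtain ⟨tgt, hc, -⟩ := (all U j).ex
    have : Nonempty (Fin (nth 0 nclT j.1)) := ⟨⟨0, ncl_pos j⟩⟩
    obtain ⟨m, hm⟩ := hc.cov U.frames x hx
    refine ⟨gl U j m, jof_gl U j m, ?_⟩
    rw [← c_eq U j m]
    exact hm

theorem gl_inj (j : Fin 12) (m n : Fin (nth 0 nclT j.1)) (h : gl U j m = gl U j n) : m = n := by
  have := Fin.ext_iff.1 h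
  apply Fin.ext
  have h2 : nth 0 offT j.1 + m.1 = nth 0 offT j.1 + n.1 := this
  omega

theorem finite_N [Finite C] : Finite N :=
  Finite.of_injective (fun d : N => (⟨d, N_le_C d.2⟩ : C)) fun _ _ e =>
    Subtype.ext (congrArg (fun z : C => (z : V ≃ₗ[ℚ] V)) e)

/-- Balance in one class. -/
theorem balance_gl [Finite C] (j : Fin 12) (m n : Fin (nth 0 nclT j.1)) :
    Nat.card (MulAction.orbit N (v (gl U j m))) * pn j.1 m.1 n.1 =
      Nat.card (MulAction.orbit N (v (gl U j n))) * pn j.1 n.1 m.1 := by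
  obtain ⟨tgt, hc, hp⟩ := (all U j).ex
  have : Finite N := finite_N
  have h := hc.balance U.frames (fun m n hmn => by
    rw [c_eq U j m, c_eq U j n] at hmn
    exact gl_inj U j m n (disj _ _ hmn)) m n
  rw [c_eq U j m, c_eq U j n, hp, hp] at h
  exact h

theorem exists_gl (r : Fin 251) (j : Fin 12) (hj : jof r = j) :
    ∃ m : Fin (nth 0 nclT j.1), r = gl U j m ∧ m.1 = r.1 - nth 0 offT j.1 := by
  subst hj
  have h := range_ok r
  refine ⟨⟨r.1 - nth 0 offT (jof r).1, by omega⟩, ?_, rfl⟩
  apply Fin.ext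
  show r.1 = nth 0 offT (jof r).1 + (r.1 - nth 0 offT (jof r).1)
  omega

theorem P_eq (r s : Fin 251) : P r s = pn (jof r).1 (r.1 - nth 0 offT (jof r).1) (s.1 - nth 0 offT (jof r).1) := rfl

include U in
/-- Balance for the `ξ`-edges. -/
theorem balance [Finite C] (r s : Fin 251) (h : jof r = jof s) :
    Nat.card (MulAction.orbit N (v r)) * P r s = Nat.card (MulAction.orbit N (v s)) * P s r := by
  obtain ⟨m, hm, hm'⟩ := exists_gl U r (jof r) rfl
  obtain ⟨n, hn, hn'⟩ := exists_gl U s (jof r) h.symm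
  have h1 := balance_gl U (jof r) m n
  rw [← hm, ← hn, hm', hn'] at h1
  rw [P_eq, P_eq, ← h]
  exact h1

noncomputable instance : Fintype M.J := inferInstanceAs (Fintype (Fin 12))

noncomputable instance : DecidableEq M.J := inferInstanceAs (DecidableEq (Fin 12))

include U in
theorem exists_jof (j : Fin 12) : ∃ r, jof r = j := ⟨gl U j ⟨0, ncl_pos j⟩, jof_gl U j _⟩

include U in
/-- **The orbit table of the concrete model.** -/
theorem table : OrbTable M N ConcGrp.N0 (E 12) (CertOrbNZero.rep τ cF pick) jof tp tm :=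
  CertOrbNZero.orbTable (M := M) ConcGrp.tauData (refines U) (exists_jof U) disj nzero cls_pick

include U in
/-- Field `closed` of `MOrbit`. -/
theorem closed : ∀ j, ∀ g ∈ M.C, ∃ k, ∃ h ∈ M.C, M.τ (g (M.d j)) = h (M.d k) := (table U).closed

include U in
/-- Field `disjoint` of `MOrbit`. -/
theorem disjoint : ∀ j k, ∀ g ∈ M.C, g (M.d j) = M.d k → j = k := (table U).disjoint

theorem clen_zero : clen 0 = 196560 := by
  have h : Nat.beq (nth 0 clsT 0) 196560 = true := by decide +kernel
  rw [Nat.beq_eq] at h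
  exact h

include U in
/-- The lengths of the orbits of `N`. -/
theorem lengths [Finite M.C] (hS : M.S.ncard = 196560) (r : Fin 251) :
    Nat.card (MulAction.orbit N (CertOrbNZero.rep τ cF pick r)) = len r := by
  have : Finite C := ‹Finite M.C›
  refine CertLen.lengths (table U) (P := P) (fun r s h => ?_) tree (j₀ := (0 : Fin 12)) (n := 196560) (by norm_num) ?_ ?_ r
  · rw [CertOrbNZero.card_rep nzero cls_pick, CertOrbNZero.card_rep nzero cls_pick]
    exact balance U r s h
  · rw [← hS]
    exact CertLen.card_base d_j₀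
  · rw [← clen_zero]
    exact sum_cls 0

include U in
/-- The lengths of the orbits of `C`. -/
theorem card_C [Finite M.C] (hS : M.S.ncard = 196560) (j : Fin 12) :
    Nat.card (MulAction.orbit M.C (M.d j)) = clen j := by
  rw [CertLen.card_C (table U) (lengths U hS) j]
  exact sum_cls j

include U in
/-- **Field `card_X` of `MOrbit`.** -/
theorem card_X [Finite M.C] (hS : M.S.ncard = 196560) : M.X.ncard = 97239461142009186000 := by
  rw [(table U).card_X len (lengths U hS)]
  exact sum_len

/-- The numbers of `s ∈ S` with inner product `0` with `d j`. -/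
noncomputable def zeroT : List ℕ := [93151, 4440, 506, 63, 16, 1, 3, 0, 0, 1, 0, 0]

theorem pairs_ok : Nat.beq (sumN (fun j => Nat.mul (nth 0 clsT j) (nth 0 zeroT j)) 12)
    (11707448673375 * 196560) = true := by decide +kernel

theorem sum_pairs : ∑ j : Fin 12, clen j * nth 0 zeroT j.1 = 11707448673375 * 196560 := by
  have h := pairs_ok
  rw [Nat.beq_eq, sumN_eq] at h
  exact h

include U in
/-- **Field `card_pairs` of `MOrbit`.** -/
theorem card_pairs [Finite M.C] (hS : M.S.ncard = 196560)
    (hZ : ∀ j : Fin 12, {s | s ∈ M.S ∧ M.F s (M.d j) = 0}.ncard = nth 0 zeroT j.1) :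
    {p : V × V | p.1 ∈ M.S ∧ p.2 ∈ M.X ∧ M.F p.1 p.2 = 0}.ncard = 11707448673375 * 196560 := by
  rw [(table U).card_pairs M_C_isom clen (fun j => nth 0 zeroT (show Fin 12 from j).1) (card_C U hS) hZ]
  exact sum_pairs

end Cfsg.Agent.MonsterX.CertAsm
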