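import Cfsg.Agent.MonsterX.KStab
import Cfsg.Agent.MonsterX.KStabTau
import Cfsg.Agent.MonsterX.OrbDone

/-!
# Field `stab` of `MOrbit` for the concrete model, without hypotheses
-/

set_option autoImplicit false

namespace Cfsg.Agent.MonsterX.KStabDone

/-- The facts on `τ`. -/
theorem tauIn : KStab.TauIn KStabTau.x₁ where
  mem := KStabTau.x₁_mem
  hz := KStabTau.hz
  hz' := KStabTau.hz'
  hX := KStabTau.hX
  h1 := KStabTau.h1
  h2 := KStabTau.h2
  hj := by
    have h := KStabTau.hj
    rw [one_smul] at h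
    exact h

/-- **Field `stab` of `MOrbit`.** -/
theorem stab : ∀ g ∈ InstData.M.G,
    (∀ s ∈ InstData.M.S, g s ∈ InstData.M.S ∧ g (InstData.M.σ s) = InstData.M.σ (g s)) → g ∈ InstData.M.C :=
  KStab.stab OrbDone.closed tauIn

end Cfsg.Agent.MonsterX.KStabDone
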