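import Cfsg.Agent.MonsterX.BabyQuot
import Cfsg.Agent.BabyM.CoTwoMod

set_option autoImplicit false

/-!
The local hypotheses `BabyHyp` of the centraliser of a 2A-involution `t` in a group of Monster type,
from the description of `C(z) = 2^{1+24}.Co1` by the Leech lattice and the facts on `Co2`.
-/

namespace Cfsg.Agent.MonsterX.BabyIrr

open Subgroup Cfsg Cfsg.Agent.MonsterX.SimpleCrit Cfsg.Agent.BabyM.CoTwoMod
open Cfsg.Agent.SporadicStructure.Co2RankThree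
open Cfsg.Agent.SporadicA.Co0Basic (negCo0 negCo0_apply)

/-! ### Lattice lemmas -/

theorem dbl_le_evn (u : leechLattice) {x : leechLattice} (hx : x ∈ dbl) : (16 : ℤ) ∣ dt u x := by
  obtain ⟨z, rfl⟩ := mem_dbl.1 hx
  rw [dt_two_smul_right]
  obtain ⟨k, hk⟩ := eight_dvd_dt u z
  exact ⟨k, by rw [hk]; ring⟩

theorem dt_congr_right {u x y : leechLattice} (h : x - y ∈ dbl) :
    (16 : ℤ) ∣ dt u x ↔ (16 : ℤ) ∣ dt u y := by
  have h1 := dbl_le_evn u h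
  rw [dt_sub_right] at h1
  constructor <;> intro h2 <;> omega

theorem dt_congr_left {u x y : leechLattice} (h : x - y ∈ dbl) :
    (16 : ℤ) ∣ dt x u ↔ (16 : ℤ) ∣ dt y u := by
  rw [dt_comm x, dt_comm y]; exact dt_congr_right h

theorem smul_dbl (A : Co0) {x : leechLattice} (hx : x ∈ dbl) : A • x ∈ dbl := by
  obtain ⟨z, rfl⟩ := mem_dbl.1 hx
  rw [smul_two]
  exact mem_dbl.2 ⟨_, rfl⟩

theorem add_self_mem (x : leechLattice) : x + x ∈ dbl := mem_dbl.2 ⟨x, (two_smul ℕ x).symm⟩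

theorem le_dt {z : leechLattice} (hz : z ≠ 0) : 32 ≤ dt z z := by
  rw [← norm_eq]
  exact Cfsg.Agent.Leech.Basic.le_sqNorm z.2 (fun h => hz (Subtype.ext h))

theorem dt_self_nonneg (z : leechLattice) : 0 ≤ dt z z := by
  rw [← norm_eq]
  exact Cfsg.Agent.Leech.Basic.sqNorm_nonneg _

/-- Two minimal vectors congruent modulo twice the lattice are equal up to sign. -/
theorem eq_or_neg_of_congr {u v : leechLattice} (hu : dt u u = 32) (hv : dt v v = 32)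
    (h : u - v ∈ dbl) : v = u ∨ v = -u := by
  obtain ⟨z, hz⟩ := mem_dbl.1 h
  have h4 : ∀ z : leechLattice, dt (2 • z) (2 • z) = 4 * dt z z := by
    intro z
    rw [dt_two_smul_right, dt_comm, dt_two_smul_right]; ring
  have e1 : dt (u - v) (u - v) = 64 - 2 * dt u v := by
    rw [dt_sub_left, dt_sub_right, dt_sub_right, hu, hv, dt_comm v u]; ring
  have e2 : dt (u + v) (u + v) = 64 + 2 * dt u v := by
    rw [dt_add_left, dt_add_right, dt_add_right, hu, hv, dt_comm v u]; ring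
  have e3 : u + v = 2 • (z + v) := by
    rw [smul_add, ← hz, two_smul]; abel
  rw [hz, h4] at e1
  rw [e3, h4] at e2
  by_cases h0 : z = 0
  · left
    rw [h0, smul_zero] at hz
    exact (sub_eq_zero.1 hz).symm
  · right
    have h1 := le_dt h0
    by_cases h2 : z + v = 0
    · rw [h2, smul_zero] at e3
      exact eq_neg_of_add_eq_zero_right e3
    · have h3 := le_dt h2
      omega

theorem ncard_ne (u : leechLattice) (hu : dt u u = 32) : ∃ w, w ∈ A u := by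
  have : (A u).Nonempty := by
    apply Set.nonempty_of_ncard_ne_zero
    rw [ncard_A u hu]
    norm_num
  exact this

theorem exists_O8 (u w : leechLattice) (hu : dt u u = 32) (hw : w ∈ A u) : ∃ x, x ∈ O8 u w := by
  have : (O8 u w).Nonempty := by
    apply Set.nonempty_of_ncard_ne_zero
    rw [ncard_O8 u w hu hw]
    norm_num
  exact this

/-! ### The group `Q` and the map to the lattice -/

variable {Γ : Type*} [Group Γ]

/-- `Q` is an extraspecial group with centre `⟨z⟩` described by the Leech lattice modulo two, and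
`C` (the centraliser of `z`) induces on it the group `Co1`. -/
structure QData (C : Subgroup Γ) (z : Γ) (Q : Subgroup Γ) (θ : Γ → leechLattice) : Prop where
  z_sq : z * z = 1
  z_mem : z ∈ Q
  le : Q ≤ C
  cent : ∀ c ∈ C, c * z = z * c
  inv : ∀ c ∈ C, ∀ q ∈ Q, c * q * c⁻¹ ∈ Q
  mul : ∀ q ∈ Q, ∀ r ∈ Q, θ (q * r) - (θ q + θ r) ∈ dbl
  ker : ∀ q ∈ Q, θ q ∈ dbl → q = 1 ∨ q = z
  surj : ∀ x : leechLattice, ∃ q ∈ Q, θ q - x ∈ dbl
  comm : ∀ q ∈ Q, ∀ r ∈ Q, q * r = r * q ↔ (16 : ℤ) ∣ dt (θ q) (θ r)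
  act : ∀ c ∈ C, ∃ A : Co0, ∀ q ∈ Q, θ (c * q * c⁻¹) - A • θ q ∈ dbl
  onto : ∀ A : Co0, ∃ c ∈ C, ∀ q ∈ Q, θ (c * q * c⁻¹) - A • θ q ∈ dbl
  triv : ∀ c ∈ C, (∀ q ∈ Q, θ (c * q * c⁻¹) - θ q ∈ dbl) → c ∈ Q

namespace QData

variable {C : Subgroup Γ} {z : Γ} {Q : Subgroup Γ} {θ : Γ → leechLattice}

theorem one (h : QData C z Q θ) : θ 1 ∈ dbl := by
  have := h.mul 1 Q.one_mem 1 Q.one_mem
  rw [one_mul] at this
  have h2 : θ 1 = -(θ 1 - (θ 1 + θ 1)) := by abel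
  rw [h2]
  exact neg_mem this

theorem mul' (h : QData C z Q θ) {q r : Γ} (hq : q ∈ Q) (hr : r ∈ Q) {x y : leechLattice}
    (hx : θ q - x ∈ dbl) (hy : θ r - y ∈ dbl) : θ (q * r) - (x + y) ∈ dbl := by
  have h2 : θ (q * r) - (x + y) = (θ (q * r) - (θ q + θ r)) + ((θ q - x) + (θ r - y)) := by abel
  rw [h2]
  exact add_mem (h.mul q hq r hr) (add_mem hx hy)

theorem inv_congr (h : QData C z Q θ) {q : Γ} (hq : q ∈ Q) : θ q⁻¹ - θ q ∈ dbl := by
  have h2 := h.mul q hq q⁻¹ (Q.inv_mem hq)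
  rw [mul_inv_cancel] at h2
  have h3 : θ q⁻¹ - θ q = θ 1 - (θ 1 - (θ q + θ q⁻¹)) - (θ q + θ q) := by abel
  rw [h3]
  exact sub_mem (sub_mem h.one h2) (add_self_mem _)

theorem inv' (h : QData C z Q θ) {q : Γ} (hq : q ∈ Q) {x : leechLattice} (hx : θ q - x ∈ dbl) :
    θ q⁻¹ - x ∈ dbl := by
  have h2 : θ q⁻¹ - x = (θ q⁻¹ - θ q) + (θ q - x) := by abel
  rw [h2]
  exact add_mem (h.inv_congr hq) hx

/-- An element of `Q` acts trivially on `Q / ⟨z⟩`. -/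
theorem conj_congr (h : QData C z Q θ) {q r : Γ} (hq : q ∈ Q) (hr : r ∈ Q) :
    θ (q * r * q⁻¹) - θ r ∈ dbl := by
  have h1 := h.mul' (Q.mul_mem hq hr) (Q.inv_mem hq) (h.mul q hq r hr) (h.inv_congr hq)
  have h2 : θ (q * r * q⁻¹) - θ r = (θ (q * r * q⁻¹) - (θ q + θ r + θ q)) + (θ q + θ q) := by abel
  rw [h2]
  exact add_mem h1 (add_self_mem _)

/-- Elements with congruent images. -/
theorem eq_or (h : QData C z Q θ) {q r : Γ} (hq : q ∈ Q) (hr : r ∈ Q) (hqr : θ q - θ r ∈ dbl) :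
    q = r ∨ q = z * r := by
  have h1 := h.mul' hq (Q.inv_mem hr) (x := θ r) (y := θ r) hqr (h.inv_congr hr)
  have h2 : θ (q * r⁻¹) ∈ dbl := by
    have h3 : θ (q * r⁻¹) = (θ (q * r⁻¹) - (θ r + θ r)) + (θ r + θ r) := by abel
    rw [h3]
    exact add_mem h1 (add_self_mem _)
  rcases h.ker _ (Q.mul_mem hq (Q.inv_mem hr)) h2 with h8 | h8
  · left; exact mul_inv_eq_one.1 h8
  · right; exact mul_inv_eq_iff_eq_mul.1 h8

theorem z_comm (h : QData C z Q θ) {q : Γ} (hq : q ∈ Q) : q * z = z * q := h.cent q (h.le hq)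

/-- Commutators in `Q`. -/
theorem conj_eq (h : QData C z Q θ) {q r : Γ} (hq : q ∈ Q) (hr : r ∈ Q) :
    q * r * q⁻¹ = r ∨ q * r * q⁻¹ = z * r :=
  h.eq_or (Q.mul_mem (Q.mul_mem hq hr) (Q.inv_mem hq)) hr (h.conj_congr hq hr)

theorem conj_of_not (h : QData C z Q θ) {q r : Γ} (hq : q ∈ Q) (hr : r ∈ Q)
    (hn : ¬ (16 : ℤ) ∣ dt (θ q) (θ r)) : q * r * q⁻¹ = z * r := by
  rcases h.conj_eq hq hr with h1 | h1
  · exfalso
    apply hn
    rw [← h.comm q hq r hr]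
    exact mul_inv_eq_iff_eq_mul.1 h1
  · exact h1

theorem z_dbl (h : QData C z Q θ) : θ z ∈ dbl := by
  obtain ⟨w, hw⟩ := ncard_ne u0 dt_u0_u0
  obtain ⟨x, hx⟩ := exists_O8 u0 w dt_u0_u0 hw
  obtain ⟨q, hq, hqw⟩ := h.surj w
  obtain ⟨r, hr, hrx⟩ := h.surj x
  have hn : ¬ (16 : ℤ) ∣ dt (θ q) (θ r) := by
    rw [dt_congr_left hqw, dt_congr_right hrx, hx.2.2]
    norm_num
  have h1 := h.conj_of_not hq hr hn
  have h2 := h.conj_congr hq hr
  rw [h1] at h2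
  have h3 := h.mul z h.z_mem r hr
  have h4 : θ z = (θ (z * r) - θ r) - (θ (z * r) - (θ z + θ r)) := by abel
  rw [h4]
  exact sub_mem h2 h3

theorem z_mul_congr (h : QData C z Q θ) {r : Γ} (hr : r ∈ Q) : θ (z * r) - θ r ∈ dbl := by
  have h2 : θ (z * r) - θ r = (θ (z * r) - (θ z + θ r)) + θ z := by abel
  rw [h2]
  exact add_mem (h.mul z h.z_mem r hr) h.z_dbl

/-! ### Lifting elements of `Co2` -/

section

variable {t : Γ} {u : leechLattice}

/-- An element of `C(z)` commuting with `t` acts through an element fixing `u`. -/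
theorem exists_fix (h : QData C z Q θ) (ht : t ∈ Q) (hu : dt u u = 32) (htu : θ t - u ∈ dbl) {c : Γ}
    (hc : c ∈ C) (hct : c ∈ centralizer ({t} : Set Γ)) :
    ∃ A : Co0, A • u = u ∧ ∀ q ∈ Q, θ (c * q * c⁻¹) - A • θ q ∈ dbl := by
  obtain ⟨A, hA⟩ := h.act c hc
  have h1 := hA t ht
  rw [mem_cent.1 hct, mul_inv_cancel_right] at h1
  have h2 : u - A • u ∈ dbl := by
    have h3 : u - A • u = (θ t - A • θ t) - (θ t - u) + A • (θ t - u) := by
      rw [smul_sub']; abel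
    rw [h3]
    exact add_mem (sub_mem h1 htu) (smul_dbl A htu)
  rcases eq_or_neg_of_congr hu (by rw [dt_smul, hu]) h2 with h3 | h3
  · exact ⟨A, h3, hA⟩
  · refine ⟨negCo0 * A, ?_, fun q hq => ?_⟩
    · rw [mul_smul, h3]
      show negCo0.1 (-u) = u
      rw [negCo0_apply, neg_neg]
    · have h4 : (negCo0 * A) • θ q = -(A • θ q) := by
        rw [mul_smul]
        exact negCo0_apply _
      rw [h4]
      have h5 : θ (c * q * c⁻¹) - -(A • θ q) = (θ (c * q * c⁻¹) - A • θ q) + (A • θ q + A • θ q) := by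
        abel
      rw [h5]
      exact add_mem (hA q hq) (add_self_mem _)

/-- Every element fixing `u` lifts to an element of `C(z) ∩ C(t)`. -/
theorem exists_lift (h : QData C z Q θ) (ht : t ∈ Q) (hu : dt u u = 32) (htu : θ t - u ∈ dbl)
    (A : Co0) (hA : A • u = u) :
    ∃ c ∈ C, c ∈ centralizer ({t} : Set Γ) ∧
      ∀ q ∈ Q, θ (c * q * c⁻¹) - A • θ q ∈ dbl := by
  obtain ⟨c, hc, hcA⟩ := h.onto A
  have h1 : θ (c * t * c⁻¹) - θ t ∈ dbl := by
    have h2 : θ (c * t * c⁻¹) - θ t = (θ (c * t * c⁻¹) - A • θ t) + A • (θ t - u) - (θ t - u) := by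
      rw [smul_sub', hA]; abel
    rw [h2]
    exact sub_mem (add_mem (hcA t ht) (smul_dbl A htu)) htu
  rcases h.eq_or (h.inv c hc t ht) ht h1 with h2 | h2
  · exact ⟨c, hc, mem_cent.2 (mul_inv_eq_iff_eq_mul.1 h2), hcA⟩
  · -- correct by an element of `Q`
    obtain ⟨w, hw⟩ := ncard_ne u hu
    obtain ⟨x, hx⟩ := exists_O8 u w hu hw
    -- a vector of odd inner product with `u`
    have hex : ∃ v : leechLattice, ¬ (16 : ℤ) ∣ dt v u := by
      obtain ⟨a, ha⟩ := Cfsg.Agent.S0400.result u0 u (by rw [norm_eq]; exact dt_u0_u0)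
        (by rw [norm_eq]; exact hu)
      have ha : a • u0 = u := ha
      refine ⟨a • Cfsg.Agent.SporadicA.Co0Basic.e8 none, ?_⟩
      rw [← ha, dt_smul, dt_comm, dt_u0_e8]
      norm_num
    obtain ⟨v, hv⟩ := hex
    obtain ⟨q₀, hq₀, hqv⟩ := h.surj v
    have hn : ¬ (16 : ℤ) ∣ dt (θ q₀) (θ t) := by
      rw [dt_congr_left hqv, dt_congr_right htu]
      exact hv
    have h3 := h.conj_of_not hq₀ ht hn
    have hq₀z := h.le hq₀
    refine ⟨q₀ * c, mul_mem hq₀z hc, ?_, fun q hq => ?_⟩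
    · rw [mem_cent, ← mul_inv_eq_iff_eq_mul]
      calc q₀ * c * t * (q₀ * c)⁻¹ = q₀ * (c * t * c⁻¹) * q₀⁻¹ := by group
        _ = q₀ * (z * t) * q₀⁻¹ := by rw [h2]
        _ = (q₀ * z) * t * q₀⁻¹ := by group
        _ = z * (q₀ * t * q₀⁻¹) := by rw [h.z_comm hq₀]; group
        _ = t := by rw [h3, ← mul_assoc, h.z_sq, one_mul]
    · have e1 : q₀ * c * q * (q₀ * c)⁻¹ = q₀ * (c * q * c⁻¹) * q₀⁻¹ := by group
      rw [e1]
      have e2 := h.conj_congr hq₀ (h.inv c hc q hq)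
      have e3 : θ (q₀ * (c * q * c⁻¹) * q₀⁻¹) - A • θ q =
          (θ (q₀ * (c * q * c⁻¹) * q₀⁻¹) - θ (c * q * c⁻¹)) + (θ (c * q * c⁻¹) - A • θ q) := by abel
      rw [e3]
      exact add_mem e2 (hcA q hq)

theorem mem_ct_iff (h : QData C z Q θ) (ht : t ∈ Q) (htu : θ t - u ∈ dbl) {q : Γ} (hq : q ∈ Q) :
    q ∈ centralizer ({t} : Set Γ) ↔ θ q ∈ evn u := by
  rw [mem_cent, h.comm q hq t ht, mem_evn, dt_congr_right htu, dt_comm]

/-! ### Irreducibility -/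

theorem irr (h : QData C z Q θ) (ht : t ∈ Q) (hu : dt u u = 32) (htu : θ t - u ∈ dbl)
    (R : Subgroup Γ) (hRQ : R ≤ Q) (hRt : R ≤ centralizer ({t} : Set Γ)) (hzR : z ∈ R) (htR : t ∈ R)
    (hR : ∀ c ∈ C, c ∈ centralizer ({t} : Set Γ) → ∀ r ∈ R,
      c * r * c⁻¹ ∈ R) :
    (∀ r ∈ R, r = 1 ∨ r = z ∨ r = t ∨ r = t * z) ∨ R = Q ⊓ centralizer ({t} : Set Γ) := by
  let U : AddSubgroup leechLattice :=
    { carrier := {x | ∃ n ∈ R, θ n - x ∈ dbl}
      add_mem' := by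
        rintro a b ⟨n, hn, hna⟩ ⟨m, hm, hmb⟩
        exact ⟨n * m, R.mul_mem hn hm, h.mul' (hRQ hn) (hRQ hm) hna hmb⟩
      zero_mem' := ⟨1, R.one_mem, by rw [sub_zero]; exact h.one⟩
      neg_mem' := by
        rintro a ⟨n, hn, hna⟩
        refine ⟨n, hn, ?_⟩
        have h2 : θ n - -a = (θ n - a) + (a + a) := by abel
        rw [h2]
        exact add_mem hna (add_self_mem _) }
  have hU : ∀ x, x ∈ U ↔ ∃ n ∈ R, θ n - x ∈ dbl := fun x => Iff.rfl
  have huU : u ∈ U := (hU u).2 ⟨t, htR, htu⟩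
  have hdU : dbl ≤ U := fun x hx => (hU x).2 ⟨1, R.one_mem, sub_mem h.one hx⟩
  have h1 : rad u ≤ U := by
    intro x hx
    obtain ⟨w, rfl | rfl⟩ := mem_rad.1 hx
    · exact hdU (mem_dbl.2 ⟨w, rfl⟩)
    · exact add_mem (hdU (mem_dbl.2 ⟨w, rfl⟩)) huU
  have h2 : U ≤ evn u := by
    intro x hx
    obtain ⟨n, hn, hnx⟩ := (hU x).1 hx
    rw [mem_evn, ← dt_congr_right hnx]
    exact (h.mem_ct_iff ht htu (hRQ hn)).1 (hRt hn)
  have h3 : ∀ g : Co0, g • u = u → ∀ x ∈ U, g • x ∈ U := by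
    intro g hg x hx
    obtain ⟨n, hn, hnx⟩ := (hU x).1 hx
    obtain ⟨c, hc, hct, hcq⟩ := h.exists_lift ht hu htu g hg
    refine (hU _).2 ⟨c * n * c⁻¹, hR c hc hct n hn, ?_⟩
    have h4 : θ (c * n * c⁻¹) - g • x = (θ (c * n * c⁻¹) - g • θ n) + (g • (θ n - x)) := by
      rw [smul_sub']
      abel
    rw [h4]
    exact add_mem (hcq n (hRQ hn)) (smul_dbl g hnx)
  rcases irreducible u hu U h1 h2 h3 with h4 | h4
  · left
    intro r hr
    have h5 : θ r ∈ rad u := by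
      rw [← h4]
      exact (hU _).2 ⟨r, hr, by rw [sub_self]; exact zero_mem _⟩
    obtain ⟨w, hw | hw⟩ := mem_rad.1 h5
    · rcases h.ker r (hRQ hr) (mem_dbl.2 ⟨w, hw⟩) with h6 | h6
      · exact Or.inl h6
      · exact Or.inr (Or.inl h6)
    · have h6 : θ r - θ t ∈ dbl := by
        have h7 : θ r - θ t = 2 • w - (θ t - u) := by rw [hw]; abel
        rw [h7]
        exact sub_mem (mem_dbl.2 ⟨w, rfl⟩) htu
      rcases h.eq_or (hRQ hr) ht h6 with h7 | h7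
      · exact Or.inr (Or.inr (Or.inl h7))
      · refine Or.inr (Or.inr (Or.inr ?_))
        rw [h7, h.z_comm ht]
  · right
    refine le_antisymm (le_inf hRQ hRt) ?_
    rintro q ⟨hq, hqt⟩
    have h5 : θ q ∈ U := by rw [h4]; exact (h.mem_ct_iff ht htu hq).1 hqt
    obtain ⟨n, hn, h6⟩ := (hU _).1 h5
    rcases h.eq_or (hRQ hn) hq h6 with h7 | h7
    · rw [← h7]; exact hn
    · have h8 : q = z * n := by
        rw [h7, ← mul_assoc, h.z_sq, one_mul]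
      rw [h8]
      exact R.mul_mem hzR hn

/-! ### Simplicity -/

theorem act_mul (h : QData C z Q θ) {c d : Γ} {A B : Co0}
    (hd : d ∈ C)
    (hA : ∀ q ∈ Q, θ (c * q * c⁻¹) - A • θ q ∈ dbl) (hB : ∀ q ∈ Q, θ (d * q * d⁻¹) - B • θ q ∈ dbl) :
    ∀ q ∈ Q, θ (c * d * q * (c * d)⁻¹) - (A * B) • θ q ∈ dbl := by
  intro q hq
  have e1 : c * d * q * (c * d)⁻¹ = c * (d * q * d⁻¹) * c⁻¹ := by group
  rw [e1, mul_smul]
  have e2 := hA _ (h.inv d hd q hq)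
  have e3 : θ (c * (d * q * d⁻¹) * c⁻¹) - A • B • θ q =
      (θ (c * (d * q * d⁻¹) * c⁻¹) - A • θ (d * q * d⁻¹)) + A • (θ (d * q * d⁻¹) - B • θ q) := by
    rw [smul_sub']; abel
  rw [e3]
  exact add_mem e2 (smul_dbl A (hB q hq))

theorem act_inv (h : QData C z Q θ) {c : Γ} {A : Co0} (hc : c ∈ C)
    (hA : ∀ q ∈ Q, θ (c * q * c⁻¹) - A • θ q ∈ dbl) :
    ∀ q ∈ Q, θ (c⁻¹ * q * (c⁻¹)⁻¹) - A⁻¹ • θ q ∈ dbl := by
  intro q hq
  have e1 : c⁻¹ * q * (c⁻¹)⁻¹ ∈ Q := h.inv _ (inv_mem hc) q hq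
  have e2 := hA _ e1
  have e3 : c * (c⁻¹ * q * (c⁻¹)⁻¹) * c⁻¹ = q := by group
  rw [e3] at e2
  have e4 : θ (c⁻¹ * q * (c⁻¹)⁻¹) - A⁻¹ • θ q =
      -(A⁻¹ • (θ q - A • θ (c⁻¹ * q * (c⁻¹)⁻¹))) := by
    rw [smul_sub', inv_smul_smul]; abel
  rw [e4]
  exact neg_mem (smul_dbl _ e2)

theorem top (h : QData C z Q θ) (ht : t ∈ Q) (hu : dt u u = 32) (htu : θ t - u ∈ dbl)
    (R : Subgroup Γ) (hQR : Q ⊓ centralizer ({t} : Set Γ) ≤ R)
    (hRz : R ≤ C) (hRt : R ≤ centralizer ({t} : Set Γ))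
    (hR : ∀ c ∈ C, c ∈ centralizer ({t} : Set Γ) → ∀ r ∈ R,
      c * r * c⁻¹ ∈ R) :
    R = Q ⊓ centralizer ({t} : Set Γ) ∨
      R = C ⊓ centralizer ({t} : Set Γ) := by
  let N : Subgroup (MulAction.stabilizer Co0 u) :=
    { carrier := {A | ∃ r ∈ R, ∀ q ∈ Q, θ (r * q * r⁻¹) - (A : Co0) • θ q ∈ dbl}
      mul_mem' := by
        rintro A B ⟨r, hr, hA⟩ ⟨s, hs, hB⟩
        exact ⟨r * s, R.mul_mem hr hs, h.act_mul (hRz hs) hA hB⟩
      one_mem' := ⟨1, R.one_mem, fun q _ => by simp [zero_mem]⟩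
      inv_mem' := by
        rintro A ⟨r, hr, hA⟩
        exact ⟨r⁻¹, R.inv_mem hr, h.act_inv (hRz hr) hA⟩ }
  have hN : ∀ A : MulAction.stabilizer Co0 u, A ∈ N ↔
    ∃ r ∈ R, ∀ q ∈ Q, θ (r * q * r⁻¹) - (A : Co0) • θ q ∈ dbl := fun _ => Iff.rfl
  have hnorm : N.Normal := by
    refine ⟨fun A hA g => ?_⟩
    obtain ⟨r, hr, hA⟩ := (hN _).1 hA
    obtain ⟨c, hc, hct, hcq⟩ := h.exists_lift ht hu htu g.1 g.2
    refine (hN _).2 ⟨c * r * c⁻¹, hR c hc hct r hr, ?_⟩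
    exact h.act_mul (inv_mem hc) (h.act_mul (hRz hr) hcq hA) (h.act_inv hc hcq)
  have hs := isSimpleGroup_stab u hu
  rcases hnorm.eq_bot_or_eq_top with h1 | h1
  · left
    refine le_antisymm ?_ hQR
    intro r hr
    obtain ⟨A, hAu, hA⟩ := h.exists_fix ht hu htu (hRz hr) (hRt hr)
    have h2 : (⟨A, hAu⟩ : MulAction.stabilizer Co0 u) ∈ N := (hN _).2 ⟨r, hr, hA⟩
    rw [h1, Subgroup.mem_bot] at h2
    have h3 : A = 1 := congrArg Subtype.val h2
    refine ⟨h.triv r (hRz hr) fun q hq => ?_, hRt hr⟩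
    have := hA q hq
    rwa [h3, one_smul] at this
  · right
    refine le_antisymm (le_inf hRz hRt) ?_
    rintro c ⟨hcz, hct⟩
    obtain ⟨A, hAu, hA⟩ := h.exists_fix ht hu htu hcz hct
    have h2 : (⟨A, hAu⟩ : MulAction.stabilizer Co0 u) ∈ N := by rw [h1]; trivial
    obtain ⟨r, hr, hrA⟩ := (hN _).1 h2
    have h3 := h.act_mul hcz (h.act_inv (hRz hr) hrA) hA
    have h4 : r⁻¹ * c ∈ Q := by
      apply h.triv _ (mul_mem (inv_mem (hRz hr)) hcz)
      intro q hq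
      have := h3 q hq
      rwa [inv_mul_cancel, one_smul] at this
    have h5 : r⁻¹ * c ∈ R := hQR (Subgroup.mem_inf.2 ⟨h4, mul_mem (inv_mem (hRt hr)) hct⟩)
    have h6 : c = r * (r⁻¹ * c) := by group
    rw [h6]
    exact R.mul_mem hr h5

/-! ### Commutators and squares -/

theorem commutator (h : QData C z Q θ) (ht : t ∈ Q) (hu : dt u u = 32) (htu : θ t - u ∈ dbl) :
    ∃ a ∈ Q, a ∈ centralizer ({t} : Set Γ) ∧ ∃ b ∈ Q, b ∈ centralizer ({t} : Set Γ) ∧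
      a * b * a⁻¹ * b⁻¹ = z := by
  obtain ⟨w, hw⟩ := ncard_ne u hu
  obtain ⟨x, hx⟩ := exists_O8 u w hu hw
  obtain ⟨q, hq, hqw⟩ := h.surj w
  obtain ⟨r, hr, hrx⟩ := h.surj x
  have hn : ¬ (16 : ℤ) ∣ dt (θ q) (θ r) := by
    rw [dt_congr_left hqw, dt_congr_right hrx, hx.2.2]
    norm_num
  refine ⟨q, hq, ?_, r, hr, ?_, ?_⟩
  · rw [h.mem_ct_iff ht htu hq, mem_evn, dt_congr_right hqw, hw.2]
    norm_num
  · rw [h.mem_ct_iff ht htu hr, mem_evn, dt_congr_right hrx, hx.2.1]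
    norm_num
  · rw [h.conj_of_not hq hr hn, mul_inv_cancel_right]

/-- `t` is the product of two elements conjugate in its centraliser. -/
theorem exists_sq (h : QData C z Q θ) (ht : t ∈ Q) (hu : dt u u = 32) (htu : θ t - u ∈ dbl) :
    ∃ a ∈ Q, a ∈ centralizer ({t} : Set Γ) ∧ ∃ c ∈ C,
      c ∈ centralizer ({t} : Set Γ) ∧ t = a * (c * a * c⁻¹) := by
  obtain ⟨w, hw⟩ := ncard_ne u hu
  -- `w' = - u - w` is in `A u` as well
  have hw' : -u - w ∈ A u := by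
    constructor
    · rw [dt_sub_left, dt_sub_right, dt_sub_right, dt_neg_left, dt_neg_left, dt_neg_right,
        dt_neg_right, hu, hw.1, hw.2, dt_comm w u, hw.2]
      norm_num
    · rw [dt_sub_right, dt_neg_right, hu, hw.2]; norm_num
  obtain ⟨g, hg, hgw⟩ := exists_A u w (-u - w) hu hw hw'
  obtain ⟨a, ha, haw⟩ := h.surj w
  obtain ⟨c, hc, hct, hcq⟩ := h.exists_lift ht hu htu g hg
  have hca := h.inv c hc a ha
  have e1 : θ (c * a * c⁻¹) - (-u - w) ∈ dbl := by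
    have e2 : θ (c * a * c⁻¹) - (-u - w) = (θ (c * a * c⁻¹) - g • θ a) + g • (θ a - w) := by
      rw [smul_sub', hgw]; abel
    rw [e2]
    exact add_mem (hcq a ha) (smul_dbl g haw)
  have e3 := h.mul' ha hca haw e1
  have e4 : θ t - θ (a * (c * a * c⁻¹)) ∈ dbl := by
    have e5 : θ t - θ (a * (c * a * c⁻¹)) =
        (θ t - u) - (θ (a * (c * a * c⁻¹)) - (w + (-u - w))) + (u + u) := by abel
    rw [e5]
    exact add_mem (sub_mem htu e3) (add_self_mem _)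
  have hat : a ∈ centralizer ({t} : Set Γ) := by
    rw [h.mem_ct_iff ht htu ha, mem_evn, dt_congr_right haw, hw.2]
    norm_num
  rcases h.eq_or ht (Q.mul_mem ha hca) e4 with e6 | e6
  · exact ⟨a, ha, hat, c, hc, hct, e6⟩
  · -- multiply by an element of `Q` not commuting with the conjugate
    obtain ⟨x, hx⟩ := exists_O8 u (-u - w) hu hw'
    obtain ⟨r, hr, hrx⟩ := h.surj x
    have hrt : r ∈ centralizer ({t} : Set Γ) := by
      rw [h.mem_ct_iff ht htu hr, mem_evn, dt_congr_right hrx, hx.2.1]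
      norm_num
    have hn : ¬ (16 : ℤ) ∣ dt (θ r) (θ (c * a * c⁻¹)) := by
      rw [dt_congr_left hrx, dt_congr_right e1, dt_comm, hx.2.2]
      norm_num
    have e7 := h.conj_of_not hr hca hn
    refine ⟨a, ha, hat, r * c, mul_mem (h.le hr) hc, mul_mem hrt hct, ?_⟩
    have e8 : r * c * a * (r * c)⁻¹ = r * (c * a * c⁻¹) * r⁻¹ := by group
    rw [e8, e7, e6]
    calc z * (a * (c * a * c⁻¹)) = (z * a) * (c * a * c⁻¹) := by group
      _ = a * (z * (c * a * c⁻¹)) := by rw [← h.z_comm ha]; group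

end

end QData

end Cfsg.Agent.MonsterX.BabyIrr
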