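import Cfsg.Agent.MonsterX.SimpleCrit
import Cfsg.Prelude.Def_SporadicB
import Mathlib.GroupTheory.QuotientGroup.Basic

set_option autoImplicit false

/-!
The centraliser of a 2A-involution in a group of Monster type is a non-split double cover of a
simple group. Everything is expressed through elements and subgroups of the big group `G`.
-/

namespace Cfsg.Agent.MonsterX.BabyQuot

open Subgroup Cfsg.Agent.MonsterX.SimpleCrit

universe u

variable {G : Type u} [Group G]

/-- Local hypotheses at two commuting involutions `z` (2B), `t` (2A) and the normal subgroup `Q`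
of the centraliser of `z`. -/
structure BabyHyp (z t : G) (Q : Subgroup G) : Prop where
  zz : z * z = 1
  tt : t * t = 1
  z1 : z ≠ 1
  t1 : t ≠ 1
  tz : t ≠ z
  two : IsPGroup 2 Q
  zmem : z ∈ Q
  tmem : t ∈ Q
  le : Q ≤ centralizer ({z} : Set G)
  inv : ∀ c ∈ centralizer ({z} : Set G), ∀ q ∈ Q, c * q * c⁻¹ ∈ Q
  /-- `t * z` is not conjugate to `z` in the centraliser of `t` -/
  nfus : ∀ g ∈ centralizer ({t} : Set G), g * z * g⁻¹ ≠ t * z
  /-- irreducibility of the action of `C(z) ∩ C(t)` between `⟨z, t⟩` and `C_Q(t)` -/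
  irr : ∀ R : Subgroup G, R ≤ Q → R ≤ centralizer ({t} : Set G) → z ∈ R → t ∈ R →
    (∀ c ∈ centralizer ({z} : Set G), c ∈ centralizer ({t} : Set G) → ∀ r ∈ R, c * r * c⁻¹ ∈ R) →
    (∀ r ∈ R, r = 1 ∨ r = z ∨ r = t ∨ r = t * z) ∨ R = Q ⊓ centralizer ({t} : Set G)
  /-- simplicity of `(C(z) ∩ C(t)) / C_Q(t)` -/
  top : ∀ R : Subgroup G, Q ⊓ centralizer ({t} : Set G) ≤ R → R ≤ centralizer ({z} : Set G) →
    R ≤ centralizer ({t} : Set G) →
    (∀ c ∈ centralizer ({z} : Set G), c ∈ centralizer ({t} : Set G) → ∀ r ∈ R, c * r * c⁻¹ ∈ R) →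
    R = Q ⊓ centralizer ({t} : Set G) ∨
      R = centralizer ({z} : Set G) ⊓ centralizer ({t} : Set G)
  fus : ∃ g ∈ centralizer ({t} : Set G), g * z * g⁻¹ ∈ Q ∧ g * z * g⁻¹ ≠ z
  out : ∃ q ∈ Q, q ∈ centralizer ({t} : Set G) ∧ ∃ g ∈ centralizer ({t} : Set G),
    g * q * g⁻¹ ∈ centralizer ({z} : Set G) ∧ g * q * g⁻¹ ∉ Q
  comm : ∃ a ∈ Q, a ∈ centralizer ({t} : Set G) ∧ ∃ b ∈ Q, b ∈ centralizer ({t} : Set G) ∧
    a * b * a⁻¹ * b⁻¹ = z

namespace BabyHyp

variable {z t : G} {Q : Subgroup G}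

theorem tz_comm (h : BabyHyp z t Q) : t * z = z * t := mem_cent.mp (h.le h.tmem)

theorem z_mem_ct (h : BabyHyp z t Q) : z ∈ centralizer ({t} : Set G) :=
  mem_cent.mpr h.tz_comm.symm

theorem t_mem_ct (h : BabyHyp z t Q) : t ∈ centralizer ({t} : Set G) := mem_cent.mpr rfl

/-- `t` as an element of its centraliser. -/
def tH (h : BabyHyp z t Q) : centralizer ({t} : Set G) := ⟨t, h.t_mem_ct⟩

/-- `z` as an element of the centraliser of `t`. -/
def zH (h : BabyHyp z t Q) : centralizer ({t} : Set G) := ⟨z, h.z_mem_ct⟩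

theorem mem_zpowers_t (h : BabyHyp z t Q) {x : centralizer ({t} : Set G)} :
    x ∈ zpowers h.tH ↔ (x : G) = 1 ∨ (x : G) = t := by
  constructor
  · rintro ⟨k, rfl⟩
    have h1 : h.tH * h.tH = 1 := Subtype.ext h.tt
    rcases Int.even_or_odd' k with ⟨m, rfl | rfl⟩
    · left
      show ((h.tH ^ (2 * m) : centralizer ({t} : Set G)) : G) = 1
      rw [zpow_mul, zpow_ofNat, pow_two, h1, one_zpow]; rfl
    · right
      show ((h.tH ^ (2 * m + 1) : centralizer ({t} : Set G)) : G) = t
      rw [zpow_add, zpow_mul, zpow_ofNat, pow_two, h1, one_zpow, one_mul, zpow_one]; rfl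
  · rintro (hx | hx)
    · rw [show x = 1 from Subtype.ext hx]; exact one_mem _
    · rw [show x = h.tH from Subtype.ext hx]; exact mem_zpowers _

theorem zpowers_normal (h : BabyHyp z t Q) : (zpowers h.tH).Normal := by
  refine ⟨fun n hn g => ?_⟩
  rw [h.mem_zpowers_t] at hn ⊢
  rcases hn with hn | hn
  · left; simp [hn]
  · right
    have h1 := mem_cent.mp g.2
    simp only [coe_mul, coe_inv, hn]
    rw [h1, mul_inv_cancel_right]

/-- The quotient of the centraliser of `t` by `⟨t⟩`. -/
abbrev Quot (h : BabyHyp z t Q) : Type u := centralizer ({t} : Set G) ⧸ zpowers h.tH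

instance (h : BabyHyp z t Q) : (zpowers h.tH).Normal := h.zpowers_normal

/-- The projection. -/
def pr (h : BabyHyp z t Q) : centralizer ({t} : Set G) →* h.Quot :=
  QuotientGroup.mk' (zpowers h.tH)

theorem pr_surj (h : BabyHyp z t Q) : Function.Surjective h.pr := QuotientGroup.mk'_surjective _

theorem pr_eq (h : BabyHyp z t Q) {x y : centralizer ({t} : Set G)} :
    h.pr x = h.pr y ↔ (y : G) = x ∨ (y : G) = x * t := by
  rw [pr, QuotientGroup.mk'_eq_mk']
  constructor
  · rintro ⟨w, hw, rfl⟩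
    rcases h.mem_zpowers_t.mp hw with h1 | h1
    · left; simp [h1]
    · right; simp [h1]
  · rintro (h1 | h1)
    · exact ⟨1, one_mem _, Subtype.ext (by simp [h1])⟩
    · exact ⟨h.tH, mem_zpowers _, Subtype.ext (by simp [h1, tH])⟩

theorem pr_eq_one (h : BabyHyp z t Q) {x : centralizer ({t} : Set G)} :
    h.pr x = 1 ↔ (x : G) = 1 ∨ (x : G) = t := by
  rw [← h.mem_zpowers_t, pr, QuotientGroup.mk'_apply, QuotientGroup.eq_one_iff]

theorem mem_cent_bar (h : BabyHyp z t Q) {x : centralizer ({t} : Set G)} :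
    h.pr x ∈ centralizer ({h.pr h.zH} : Set h.Quot) ↔ (x : G) ∈ centralizer ({z} : Set G) := by
  rw [mem_cent, mem_cent, ← map_mul, ← map_mul, h.pr_eq]
  simp only [coe_mul]
  constructor
  · rintro (h1 | h1)
    · exact h1.symm
    · exfalso
      have h2 : (x : G)⁻¹ * z * (x : G)⁻¹⁻¹ = t * z := by
        have h3 := mem_cent.mp x.2
        have h1' : z * (x : G) = (x : G) * z * t := h1
        calc (x : G)⁻¹ * z * (x : G)⁻¹⁻¹ = (x : G)⁻¹ * (z * (x : G)) := by group
          _ = z * t := by rw [h1']; group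
          _ = t * z := h.tz_comm.symm
      exact h.nfus _ (inv_mem x.2) h2
  · intro h1
    exact Or.inl h1.symm

/-- The image of `C_Q(t)` in the quotient. -/
def Qbar (h : BabyHyp z t Q) : Subgroup h.Quot := (Q.subgroupOf (centralizer ({t} : Set G))).map h.pr

theorem mem_Qbar (h : BabyHyp z t Q) {x : centralizer ({t} : Set G)} :
    h.pr x ∈ h.Qbar ↔ (x : G) ∈ Q := by
  constructor
  · rintro ⟨y, hy, hyx⟩
    have hy' : (y : G) ∈ Q := hy
    rcases h.pr_eq.mp hyx with h1 | h1
    · rw [h1]; exact hy'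
    · rw [h1]; exact mul_mem hy' h.tmem
  · intro hx
    exact ⟨x, hx, rfl⟩

/-- `R ∪ Rz` for a subgroup `R` centralised by the involution `z`. -/
def adj (z : G) (hz : z * z = 1) (R : Subgroup G) (hR : R ≤ centralizer ({z} : Set G)) :
    Subgroup G where
  carrier := {x | x ∈ R ∨ x * z ∈ R}
  one_mem' := Or.inl (one_mem _)
  mul_mem' := by
    have hz' : z⁻¹ = z := inv_eq_of_mul_eq_one_left hz
    have key : ∀ y, y * z ∈ R → y * z = z * y := by
      intro y hy
      have h1 := mem_cent.mp (hR hy)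
      calc y * z = (y * z * z) * z := by rw [mul_assoc (y * z), hz, mul_one]
        _ = (z * (y * z)) * z := by rw [h1]
        _ = z * y * (z * z) := by group
        _ = z * y := by rw [hz, mul_one]
    rintro a b (ha | ha) (hb | hb)
    · exact Or.inl (mul_mem ha hb)
    · right
      rw [mul_assoc]
      exact mul_mem ha hb
    · right
      rw [mul_assoc, mem_cent.mp (hR hb), ← mul_assoc]
      exact mul_mem ha hb
    · left
      have h1 : a * b = (a * z) * (b * z) := by
        rw [key b hb, ← mul_assoc, mul_assoc a z z, hz, mul_one]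
      rw [h1]
      exact mul_mem ha hb
  inv_mem' := by
    have hz' : z⁻¹ = z := inv_eq_of_mul_eq_one_left hz
    rintro a (ha | ha)
    · exact Or.inl (inv_mem ha)
    · right
      have h1 := mem_cent.mp (hR ha)
      have h2 : a * z = z * a := by
        calc a * z = (a * z * z) * z := by rw [mul_assoc (a * z), hz, mul_one]
          _ = (z * (a * z)) * z := by rw [h1]
          _ = z * a * (z * z) := by group
          _ = z * a := by rw [hz, mul_one]
      have h3 : a⁻¹ * z = (a * z)⁻¹ := by rw [h2, mul_inv_rev, hz']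
      rw [h3]
      exact inv_mem ha

/-- The simplicity criterion holds for the quotient. -/
theorem hyp_bar (h : BabyHyp z t Q) : Hyp (h.pr h.zH) h.Qbar where
  sq := by
    rw [← map_mul, show h.zH * h.zH = 1 from Subtype.ext h.zz, map_one]
  ne := by
    rw [Ne, h.pr_eq_one]
    rintro (h1 | h1)
    · exact h.z1 h1
    · exact h.tz h1.symm
  two := (h.two.comap_subtype).map _
  mem := h.mem_Qbar.mpr h.zmem
  le := by
    intro x hx
    obtain ⟨y, rfl⟩ := h.pr_surj x
    exact h.mem_cent_bar.mpr (h.le (h.mem_Qbar.mp hx))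
  inv := by
    intro c hc q hq
    obtain ⟨c, rfl⟩ := h.pr_surj c
    obtain ⟨q, rfl⟩ := h.pr_surj q
    rw [← map_inv, ← map_mul, ← map_mul, h.mem_Qbar]
    exact h.inv _ (h.mem_cent_bar.mp hc) _ (h.mem_Qbar.mp hq)
  irr := by
    intro Rb hRQ hRinv
    -- the preimage in G
    let R : Subgroup G := (Rb.comap h.pr).map (centralizer ({t} : Set G)).subtype
    have memR : ∀ x : centralizer ({t} : Set G), (x : G) ∈ R ↔ h.pr x ∈ Rb := by
      intro x
      constructor
      · rintro ⟨y, hy, hyx⟩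
        rw [← show y = x from Subtype.ext hyx]
        exact hy
      · intro hx
        exact ⟨x, hx, rfl⟩
    have hRt : R ≤ centralizer ({t} : Set G) := by
      rintro _ ⟨x, _, rfl⟩
      exact x.2
    have hRQ' : R ≤ Q := by
      rintro _ ⟨x, hx, rfl⟩
      exact h.mem_Qbar.mp (hRQ hx)
    have hRz : R ≤ centralizer ({z} : Set G) := hRQ'.trans h.le
    have htR : t ∈ R := (memR h.tH).mpr (by
      rw [h.pr_eq_one.mpr (Or.inr rfl)]; exact one_mem _)
    have hRinv' : ∀ c ∈ centralizer ({z} : Set G), c ∈ centralizer ({t} : Set G) →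
        ∀ r ∈ R, c * r * c⁻¹ ∈ R := by
      intro c hc hc' r hr
      have h1 := hRinv (h.pr ⟨c, hc'⟩) (h.mem_cent_bar.mpr hc) (h.pr ⟨r, hRt hr⟩)
        ((memR ⟨r, hRt hr⟩).mp hr)
      rw [← map_inv, ← map_mul, ← map_mul, ← memR] at h1
      exact h1
    let R' : Subgroup G := adj z h.zz R hRz
    have hRR' : R ≤ R' := fun x hx => Or.inl hx
    have hzR' : z ∈ R' := Or.inr (by rw [h.zz]; exact one_mem _)
    have hR'Q : R' ≤ Q := by
      rintro x (hx | hx)
      · exact hRQ' hx
      · have h1 := mul_mem (hRQ' hx) h.zmem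
        rwa [mul_assoc, h.zz, mul_one] at h1
    have hR't : R' ≤ centralizer ({t} : Set G) := by
      rintro x (hx | hx)
      · exact hRt hx
      · have h1 := mul_mem (hRt hx) h.z_mem_ct
        rwa [mul_assoc, h.zz, mul_one] at h1
    have hR'inv : ∀ c ∈ centralizer ({z} : Set G), c ∈ centralizer ({t} : Set G) →
        ∀ r ∈ R', c * r * c⁻¹ ∈ R' := by
      rintro c hc hc' r (hr | hr)
      · exact Or.inl (hRinv' c hc hc' r hr)
      · right
        have h1 := hRinv' c hc hc' _ hr
        have h2 : c * (r * z) * c⁻¹ = c * r * c⁻¹ * z := by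
          have h3 := mem_cent.mp (inv_mem hc)
          calc c * (r * z) * c⁻¹ = c * r * (z * c⁻¹) := by group
            _ = c * r * (c⁻¹ * z) := by rw [h3]
            _ = c * r * c⁻¹ * z := by group
        rwa [h2] at h1
    rcases h.irr R' hR'Q hR't hzR' (hRR' htR) hR'inv with h1 | h1
    · left
      intro rb hrb
      obtain ⟨r, rfl⟩ := h.pr_surj rb
      have hr : (r : G) ∈ R := (memR r).mpr hrb
      rcases h1 r (hRR' hr) with h2 | h2 | h2 | h2
      · left; exact h.pr_eq_one.mpr (Or.inl h2)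
      · right
        rw [show r = h.zH from Subtype.ext h2]
      · left; exact h.pr_eq_one.mpr (Or.inr h2)
      · right
        refine (h.pr_eq.mpr (Or.inr ?_)).symm
        rw [h2, h.tz_comm]; rfl
    · right
      -- z lies in R
      obtain ⟨a, ha, hat, b, hb, hbt, hab⟩ := h.comm
      have haR' : a ∈ R' := by rw [h1]; exact ⟨ha, hat⟩
      have hbR' : b ∈ R' := by rw [h1]; exact ⟨hb, hbt⟩
      have hza : z * a = a * z := (mem_cent.mp (h.le ha)).symm
      have hzb : z * b = b * z := (mem_cent.mp (h.le hb)).symm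
      have hzi : z⁻¹ = z := inv_eq_of_mul_eq_one_left h.zz
      have hzR : z ∈ R := by
        -- replace a and b by elements of R
        obtain ⟨a', ha', hab'⟩ : ∃ a' ∈ R, a' * b * a'⁻¹ * b⁻¹ = z := by
          rcases haR' with h2 | h2
          · exact ⟨a, h2, hab⟩
          · refine ⟨a * z, h2, ?_⟩
            calc a * z * b * (a * z)⁻¹ * b⁻¹ = a * (z * b) * z⁻¹ * a⁻¹ * b⁻¹ := by group
              _ = a * (b * z) * z⁻¹ * a⁻¹ * b⁻¹ := by rw [hzb]
              _ = a * b * a⁻¹ * b⁻¹ := by group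
              _ = z := hab
        have hza' : z * a' = a' * z := (mem_cent.mp (hRz ha')).symm
        obtain ⟨b', hb', hab''⟩ : ∃ b' ∈ R, a' * b' * a'⁻¹ * b'⁻¹ = z := by
          rcases hbR' with h2 | h2
          · exact ⟨b, h2, hab'⟩
          · refine ⟨b * z, h2, ?_⟩
            have h3 : z * a'⁻¹ = a'⁻¹ * z := by
              rw [eq_inv_mul_iff_mul_eq, ← mul_assoc, ← hza', mul_inv_cancel_right]
            calc a' * (b * z) * a'⁻¹ * (b * z)⁻¹ = a' * b * (z * a'⁻¹) * z⁻¹ * b⁻¹ := by group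
              _ = a' * b * (a'⁻¹ * z) * z⁻¹ * b⁻¹ := by rw [h3]
              _ = a' * b * a'⁻¹ * b⁻¹ := by group
              _ = z := hab'
        rw [← hab'']
        exact mul_mem (mul_mem (mul_mem ha' hb') (inv_mem ha')) (inv_mem hb')
      have hRR : R = Q ⊓ centralizer ({t} : Set G) := by
        rw [← h1]
        refine le_antisymm hRR' ?_
        rintro x (hx | hx)
        · exact hx
        · have h2 := mul_mem hx hzR
          rwa [mul_assoc, h.zz, mul_one] at h2
      ext xb
      obtain ⟨x, rfl⟩ := h.pr_surj xb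
      rw [← memR, h.mem_Qbar, hRR]
      exact ⟨fun h2 => h2.1, fun h2 => ⟨h2, x.2⟩⟩
  top := by
    intro Rb hQR hRC hRinv
    let R : Subgroup G := (Rb.comap h.pr).map (centralizer ({t} : Set G)).subtype
    have memR : ∀ x : centralizer ({t} : Set G), (x : G) ∈ R ↔ h.pr x ∈ Rb := by
      intro x
      constructor
      · rintro ⟨y, hy, hyx⟩
        rw [← show y = x from Subtype.ext hyx]
        exact hy
      · intro hx
        exact ⟨x, hx, rfl⟩
    have hRt : R ≤ centralizer ({t} : Set G) := by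
      rintro _ ⟨x, _, rfl⟩
      exact x.2
    have hRz : R ≤ centralizer ({z} : Set G) := by
      rintro _ ⟨x, hx, rfl⟩
      exact h.mem_cent_bar.mp (hRC hx)
    have hQR' : Q ⊓ centralizer ({t} : Set G) ≤ R := by
      rintro x ⟨hx, hx'⟩
      exact (memR ⟨x, hx'⟩).mpr (hQR (h.mem_Qbar.mpr hx))
    have hRinv' : ∀ c ∈ centralizer ({z} : Set G), c ∈ centralizer ({t} : Set G) →
        ∀ r ∈ R, c * r * c⁻¹ ∈ R := by
      intro c hc hc' r hr
      have h1 := hRinv (h.pr ⟨c, hc'⟩) (h.mem_cent_bar.mpr hc) (h.pr ⟨r, hRt hr⟩)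
        ((memR ⟨r, hRt hr⟩).mp hr)
      rw [← map_inv, ← map_mul, ← map_mul, ← memR] at h1
      exact h1
    rcases h.top R hQR' hRz hRt hRinv' with h1 | h1
    · left
      ext xb
      obtain ⟨x, rfl⟩ := h.pr_surj xb
      rw [← memR, h.mem_Qbar, h1]
      exact ⟨fun h2 => h2.1, fun h2 => ⟨h2, x.2⟩⟩
    · right
      ext xb
      obtain ⟨x, rfl⟩ := h.pr_surj xb
      rw [← memR, h.mem_cent_bar, h1]
      exact ⟨fun h2 => h2.1, fun h2 => ⟨h2, x.2⟩⟩
  fus := by
    obtain ⟨g, hg, h1, h2⟩ := h.fus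
    refine ⟨h.pr ⟨g, hg⟩, ?_, ?_⟩
    · rw [← map_inv, ← map_mul, ← map_mul, h.mem_Qbar]
      exact h1
    · rw [← map_inv, ← map_mul, ← map_mul, Ne, h.pr_eq]
      rintro (h3 | h3)
      · exact h2 h3.symm
      · have h4 : z = g * z * g⁻¹ * t := h3
        apply h.nfus g hg
        rw [h.tz_comm]
        calc g * z * g⁻¹ = (g * z * g⁻¹ * t) * t := by rw [mul_assoc _ t t, h.tt, mul_one]
          _ = z * t := by rw [← h4]
  out := by
    obtain ⟨q, hq, hqt, g, hg, h1, h2⟩ := h.out
    refine ⟨h.pr ⟨q, hqt⟩, h.mem_Qbar.mpr hq, h.pr ⟨g, hg⟩, ?_, ?_⟩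
    · rw [← map_inv, ← map_mul, ← map_mul, h.mem_cent_bar]
      exact h1
    · rw [← map_inv, ← map_mul, ← map_mul, h.mem_Qbar]
      exact h2
  nab := by
    obtain ⟨a, ha, hat, b, hb, hbt, hab⟩ := h.comm
    refine ⟨h.pr ⟨a, hat⟩, h.mem_Qbar.mpr ha, h.pr ⟨b, hbt⟩, h.mem_Qbar.mpr hb, ?_⟩
    rw [← map_mul, ← map_mul, Ne, h.pr_eq]
    have hab' : a * b = z * (b * a) := by
      rw [← hab]; group
    rintro (h1 | h1)
    · have h2 : b * a = a * b := h1
      rw [← h2] at hab'
      exact h.z1 (by simpa using hab'.symm)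
    · have h2 : b * a = a * b * t := h1
      rw [hab'] at h2
      have h3 : z * (b * a) = (b * a) * z :=
        (mem_cent.mp (h.le (mul_mem hb ha))).symm
      rw [h3, mul_assoc] at h2
      have h4 : z * t = 1 := by simpa using h2.symm
      apply h.tz
      have h5 := eq_inv_of_mul_eq_one_right h4
      rw [h5]
      exact inv_eq_of_mul_eq_one_left h.zz

/-- The quotient of the centraliser of `t` by `⟨t⟩` is simple. -/
theorem isSimpleGroup_quot [Finite G] (h : BabyHyp z t Q) : IsSimpleGroup h.Quot :=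
  h.hyp_bar.isSimpleGroup

/-- The centre of the centraliser of `t` is `⟨t⟩`. -/
theorem center_eq [Finite G] (h : BabyHyp z t Q) :
    center (centralizer ({t} : Set G)) = zpowers h.tH := by
  apply le_antisymm
  · intro x hx
    have hs := h.isSimpleGroup_quot
    have hc : center h.Quot = ⊥ := by
      rcases hs.eq_bot_or_eq_top_of_normal (center h.Quot) inferInstance with h1 | h1
      · exact h1
      · exfalso
        obtain ⟨a, _, b, _, hab⟩ := h.hyp_bar.nab
        have ha : a ∈ center h.Quot := by rw [h1]; trivial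
        exact hab (mem_center_iff.mp ha b).symm
    have h2 : h.pr x ∈ center h.Quot := by
      rw [mem_center_iff]
      intro y
      obtain ⟨y, rfl⟩ := h.pr_surj y
      rw [← map_mul, ← map_mul, mem_center_iff.mp hx y]
    rw [hc, mem_bot] at h2
    rw [h.mem_zpowers_t]
    exact h.pr_eq_one.mp h2
  · intro x hx
    rw [mem_center_iff]
    intro y
    rcases h.mem_zpowers_t.mp hx with h1 | h1
    · apply Subtype.ext; simp [h1]
    · apply Subtype.ext
      simp only [coe_mul, h1]
      exact mem_cent.mp y.2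

end BabyHyp

end Cfsg.Agent.MonsterX.BabyQuot
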