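import Cfsg.Agent.MonsterX.CertBase

/-!
The words of the representatives `b_j` of the orbits of `C` on the axes (applied to the base axis, the first letter acts
first), in the order 2A, 2B, 4A, 4B, 4C, 6A, 6C, 6F, 8B, 10A, 10B, 12C.
-/

set_option autoImplicit false

namespace Cfsg.Agent.MonsterX.CertB

open Cfsg.Agent.MonsterX.CertVec

/-- The table of the words of the representatives. -/
noncomputable def bT : List (List ℕ) :=
  [[], [42, 39, 40], [42, 39, 42, 39, 40], [42, 39, 40, 38, 39, 42, 39, 40],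
   [42, 39, 40, 38, 39, 36, 37, 39, 40], [42, 39, 40, 42, 39, 40, 37, 39, 36, 25, 39, 40],
   [42, 39, 40, 42, 39, 40, 36, 38, 36, 39, 36, 39, 40],
   [42, 39, 40, 38, 39, 36, 37, 39, 40, 43, 39, 38, 39, 40],
   [42, 39, 40, 42, 39, 40, 37, 39, 36, 36, 39, 40],
   [42, 39, 40, 38, 39, 42, 39, 40, 42, 39, 37, 39, 40],
   [42, 39, 40, 38, 39, 42, 39, 40, 42, 39, 36, 36, 39, 40],
   [42, 39, 40, 38, 39, 42, 39, 40, 36, 36, 39, 37, 39, 40]]

/-- The word of the representative `b_j`. -/
noncomputable def bw (j : ℕ) : List ℕ := nth [] bT j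

end Cfsg.Agent.MonsterX.CertB
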