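import Cfsg.Agent.Monster.VecSpace
import Cfsg.Agent.Monster.PlaneArith

/-!
Certificate layer for the vector identities of the Monster model (generic in the table of generators).

* words are lists of letters `i : ι`, `prog i` is the program of the letter;
* `W prog U w` is the group element of a word, the first letter acts first;
* `chk prog a b w₁ w₂` is the kernel check of `w₁ a = w₂ b`;
* `cnt U B c f` = number of the lanes of the block `B` where `|f| = c`: invariant under the monomial programs which
  preserve `B`; `cntsIs` is the kernel check of a list of such numbers.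
-/

set_option autoImplicit false

namespace Cfsg.Agent.MonsterX.CertVec

open Cfsg.Agent.Monster.VecEngine Cfsg.Agent.Lib.PermNet Cfsg.Agent.Monster.VecSpace Cfsg.Agent.Monster.PlaneArith

/-! ### Words -/

section words

variable {ι : Type} (prog : ι → Prog)

/-- The programs of a word. -/
noncomputable def dec (w : List ι) : List Prog :=
  List.rec (motive := fun _ => List Prog) [] (fun i _ ih => prog i :: ih) w

@[simp] theorem dec_nil : dec prog [] = [] := rfl

@[simp] theorem dec_cons (i : ι) (w : List ι) : dec prog (i :: w) = prog i :: dec prog w := rfl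

theorem dec_eq (w : List ι) : dec prog w = w.map prog := by
  induction w with
  | nil => rfl
  | cons i w ih => rw [dec_cons, ih]; rfl

theorem dec_append (w w' : List ι) : dec prog (w ++ w') = dec prog w ++ dec prog w' := by
  simp [dec_eq]

variable {prog}

theorem good_dec {m U : ℕ} {w : Pl} (hL : ∀ i, GoodW m U w (prog i)) (v : List ι) :
    ∀ P ∈ dec prog v, GoodW m U w P := by
  intro P hP
  rw [dec_eq, List.mem_map] at hP
  obtain ⟨i, _, rfl⟩ := hP
  exact hL i

variable (prog)

/-- The group element of a letter. -/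
noncomputable def E (U : ℕ) (i : ι) : (Lane U → ℚ) ≃ₗ[ℚ] (Lane U → ℚ) := semE ℚ U (prog i)

/-- The group element of a word, the first letter acts first. -/
noncomputable def W (U : ℕ) (w : List ι) : (Lane U → ℚ) ≃ₗ[ℚ] (Lane U → ℚ) := wordE ℚ U (dec prog w)

theorem W_eq (U : ℕ) (w : List ι) : W prog U w = wordE ℚ U (w.map prog) := by
  unfold W
  rw [dec_eq]

@[simp] theorem W_nil (U : ℕ) : W prog U [] = 1 := rfl

theorem W_cons (U : ℕ) (i : ι) (w : List ι) : W prog U (i :: w) = W prog U w * E prog U i := by
  unfold W E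
  rw [dec_cons, wordE_cons]

theorem W_append (U : ℕ) (w w' : List ι) : W prog U (w ++ w') = W prog U w' * W prog U w := by
  unfold W
  rw [dec_append, wordE_append]

theorem W_singleton (U : ℕ) (i : ι) : W prog U [i] = E prog U i := by
  rw [W_cons, W_nil, one_mul]

theorem W_mem {U : ℕ} {w : List ι} (H : Subgroup ((Lane U → ℚ) ≃ₗ[ℚ] (Lane U → ℚ)))
    (h : ∀ i ∈ w, E prog U i ∈ H) : W prog U w ∈ H := by
  induction w with
  | nil => rw [W_nil]; exact H.one_mem
  | cons i w ih =>
    rw [W_cons]
    exact H.mul_mem (ih fun j hj => h j (by simp [hj])) (h i (by simp))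

end words

/-- All letters of the word satisfy `p`. -/
noncomputable def allL {ι : Type} (p : ι → Bool) (w : List ι) : Bool :=
  List.rec (motive := fun _ => Bool) true (fun i _ ih => and (p i) ih) w

theorem allL_spec {ι : Type} {p : ι → Bool} {w : List ι} (h : allL p w = true) : ∀ i ∈ w, p i = true := by
  induction w with
  | nil => simp
  | cons i w ih =>
    have h' : and (p i) (allL p w) = true := h
    rw [Bool.and_eq_true] at h'
    intro j hj
    rcases List.mem_cons.1 hj with rfl | hj
    · exact h'.1
    · exact ih h'.2 j hj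

/-! ### Identities -/

/-- The kernel check of `w₁ a = w₂ b`. -/
noncomputable def chk {ι : Type} (prog : ι → Prog) (a b : Pl) (w₁ w₂ : List ι) : Bool :=
  check (dec prog w₁) a (dec prog w₂) b

theorem chk_sound {ι : Type} {prog : ι → Prog} {m U : ℕ} {w : Pl} (hL : ∀ i, GoodW m U w (prog i)) {a b : Pl}
    {w₁ w₂ : List ι} (h : chk prog a b w₁ w₂ = true) :
    W prog U w₁ (vecU ℚ U a) = W prog U w₂ (vecU ℚ U b) :=
  checkE_sound ℚ (by norm_num) (good_dec hL w₁) (good_dec hL w₂) h

/-- `f a ∧ … ∧ f (a + n - 1)`. -/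
noncomputable def allN (f : ℕ → Bool) (a n : ℕ) : Bool :=
  Nat.rec (motive := fun _ => Bool) true (fun k ih => and (f (Nat.add a k)) ih) n

theorem allN_spec {f : ℕ → Bool} {a n : ℕ} (h : allN f a n = true) : ∀ k, k < n → f (a + k) = true := by
  induction n with
  | zero => intro k hk; omega
  | succ n ih =>
    have h' : and (f (a + n)) (allN f a n) = true := h
    rw [Bool.and_eq_true] at h'
    intro k hk
    rcases Nat.lt_succ_iff_lt_or_eq.1 hk with hk | rfl
    · exact ih h'.2 k hk
    · exact h'.1

/-- Lookup in a table. -/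
noncomputable def nth {α : Type} (d : α) (T : List α) : ℕ → α :=
  List.rec (motive := fun _ => ℕ → α) (fun _ => d)
    (fun P _ ih i => Bool.rec (ih (Nat.sub i 1)) P (Nat.beq i 0)) T

theorem nth_nil {α : Type} (d : α) (i : ℕ) : nth d [] i = d := rfl

theorem nth_cons_zero {α : Type} (d P : α) (L : List α) : nth d (P :: L) 0 = P := rfl

theorem nth_cons_succ {α : Type} (d P : α) (L : List α) (i : ℕ) : nth d (P :: L) (i + 1) = nth d L i := by
  show (Bool.rec (nth d L (Nat.sub (i + 1) 1)) P (Nat.beq (i + 1) 0) : α) = _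
  have h : Nat.beq (i + 1) 0 = false := rfl
  rw [h]
  rfl

theorem nth_eq {α : Type} (d : α) (L : List α) (i : ℕ) : nth d L i = L.getD i d := by
  induction L generalizing i with
  | nil => rfl
  | cons P L ih =>
    cases i with
    | zero => rfl
    | succ i => rw [nth_cons_succ, ih]; rfl

/-! ### Counting values in blocks -/

/-- Only permutations and sign changes. -/
noncomputable def mono (P : Prog) : Bool :=
  Prog.rec (motive := fun _ => Bool) true (fun _ _ ih => ih) (fun _ _ ih => ih) (fun _ _ _ => false)
    (fun _ _ => false) (fun _ _ _ _ => false) P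

theorem mono_sem {m : ℕ} (P : Prog) (hP : P.ok m = true) (hm : mono P = true) :
    ∃ (e : Equiv.Perm ℕ) (s : ℕ → Bool), (∀ (f : ℕ → ℚ) (i : ℕ), sem ℚ P f i = if s i then - f (e i) else f (e i)) ∧
      ∀ B B', fol P B B' = true → ∀ i, B'.testBit i = B.testBit (e i) := by
  induction P with
  | nil =>
    refine ⟨1, fun _ => false, fun f i => rfl, fun B B' h i => ?_⟩
    have : B = B' := Nat.eq_of_beq_eq_true (show Nat.beq B B' = true from h)
    rw [this]; rfl
  | perm N P ih =>
    have hP' : and (N.ok m) (P.ok m) = true := hP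
    rw [Bool.and_eq_true] at hP'
    obtain ⟨e, s, h1, h2⟩ := ih hP'.2 hm
    refine ⟨N.perm * e, s, fun f i => ?_, fun B B' h i => ?_⟩
    · show sem ℚ P (lcomp ℚ N.perm f) i = _
      rw [h1]; rfl
    · have h' : seqB (N.app B) (fun U' => fol P U' B') = true := h
      rw [seqB_eq] at h'
      rw [h2 _ _ h' i, testBit_app hP'.1]; rfl
  | neg M P ih =>
    obtain ⟨e, s, h1, h2⟩ := ih hP hm
    refine ⟨e, fun i => xor (s i) (M.testBit (e i)), fun f i => ?_, fun B B' h i => h2 B B' h i⟩
    show sem ℚ P (lneg ℚ M f) i = _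
    rw [h1]
    show (if s i = true then -(if M.testBit (e i) = true then - f (e i) else f (e i)) else
      if M.testBit (e i) = true then - f (e i) else f (e i)) = _
    cases hs : s i <;> cases hM : M.testBit (e i) <;> simp [hs, hM]
  | dbl M P ih => exact absurd (show false = true from hm) (by simp)
  | half P ih => exact absurd (show false = true from hm) (by simp)
  | bfly M d P ih => exact absurd (show false = true from hm) (by simp)

/-- The number of the lanes of the block `B` where the absolute value is `c`. -/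
noncomputable def cnt (U B : ℕ) (c : ℚ) (f : Lane U → ℚ) : ℕ :=
  Nat.card {i : Lane U // B.testBit i.1 = true ∧ (f i = c ∨ f i = -c)}

theorem cnt_semE {m U B : ℕ} {w : Pl} {P : Prog} (hP : GoodW m U w P) (hm : mono P = true) (hB : fol P B B = true)
    (c : ℚ) (f : Lane U → ℚ) : cnt U B c (semE ℚ U P f) = cnt U B c f := by
  obtain ⟨e, s, h1, h2⟩ := mono_sem P hP.ok hm
  have hU : ∀ i, U.testBit i = U.testBit (e i) := h2 U U hP.pres.fol
  have hB' : ∀ i, B.testBit i = B.testBit (e i) := h2 B B hB
  let eU : Lane U ≃ Lane U :=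
    { toFun := fun i => ⟨e i.1, by rw [← hU]; exact i.2⟩
      invFun := fun j => ⟨e.symm j.1, by rw [hU, Equiv.apply_symm_apply]; exact j.2⟩
      left_inv := fun i => Subtype.ext (e.symm_apply_apply _)
      right_inv := fun i => Subtype.ext (e.apply_symm_apply _) }
  have hf : ∀ i : Lane U, semE ℚ U P f i = if s i.1 then - f (eU i) else f (eU i) := by
    intro i
    rw [semE_apply ℚ (by norm_num) hP]
    show sem ℚ P (ext ℚ U f) i.1 = _
    rw [h1]
    rw [ext_apply_of_true ℚ (by rw [← hU]; exact i.2)]
    rfl
  refine Nat.card_congr (Equiv.subtypeEquiv eU fun i => ?_)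
  have h3 : B.testBit i.1 = B.testBit (eU i).1 := hB' i.1
  rw [h3]
  refine and_congr_right fun _ => ?_
  have h4 := hf i
  cases hs : s i.1 with
  | false =>
    rw [hs] at h4
    simp only [Bool.false_eq_true, if_false] at h4
    rw [h4]
  | true =>
    rw [hs] at h4
    simp only [if_true] at h4
    rw [h4]
    constructor
    · rintro (h | h)
      · right; linarith
      · left; linarith
    · rintro (h | h)
      · right; linarith
      · left; linarith

/-- The program is monomial and preserves the blocks. -/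
noncomputable def monoB (Bs : List ℕ) (P : Prog) : Bool :=
  and (mono P) (List.rec (motive := fun _ => Bool) true (fun B _ ihB => and (fol P B B) ihB) Bs)

theorem monoB_spec {Bs : List ℕ} {P : Prog} (h : monoB Bs P = true) :
    mono P = true ∧ ∀ B ∈ Bs, fol P B B = true := by
  have h' : and (mono P) (List.rec (motive := fun _ => Bool) true (fun B _ ihB => and (fol P B B) ihB) Bs) = true := h
  rw [Bool.and_eq_true] at h'
  refine ⟨h'.1, ?_⟩
  have h2 := h'.2
  clear h' h
  induction Bs with
  | nil => simp
  | cons B Bs ih =>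
    have h3 : and (fol P B B) (List.rec (motive := fun _ => Bool) true (fun B _ ihB => and (fol P B B) ihB) Bs) =
      true := h2
    rw [Bool.and_eq_true] at h3
    intro B' hB'
    rcases List.mem_cons.1 hB' with rfl | hB'
    · exact h3.1
    · exact ih h3.2 B' hB'

/-- The subgroup preserving the counts. -/
def cntGroup (U : ℕ) (Bs : List ℕ) : Subgroup ((Lane U → ℚ) ≃ₗ[ℚ] (Lane U → ℚ)) where
  carrier := {g | ∀ B ∈ Bs, ∀ c f, cnt U B c (g f) = cnt U B c f}
  one_mem' _ _ _ _ := rfl
  mul_mem' {a b} ha hb B hB c f := by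
    show cnt U B c (a (b f)) = _
    rw [ha B hB, hb B hB]
  inv_mem' {a} ha B hB c f := by
    have h := ha B hB c (a⁻¹ f)
    have h1 : a (a⁻¹ f) = f := a.apply_symm_apply f
    rw [h1] at h
    exact h.symm

theorem mem_cntGroup {U : ℕ} {Bs : List ℕ} {g : (Lane U → ℚ) ≃ₗ[ℚ] (Lane U → ℚ)} :
    g ∈ cntGroup U Bs ↔ ∀ B ∈ Bs, ∀ c f, cnt U B c (g f) = cnt U B c f := Iff.rfl

theorem semE_mem_cntGroup {m U : ℕ} {w : Pl} {P : Prog} {Bs : List ℕ} (hP : GoodW m U w P) (h : monoB Bs P = true) :
    semE ℚ U P ∈ cntGroup U Bs :=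
  fun B hB c f => cnt_semE hP (monoB_spec h).1 ((monoB_spec h).2 B hB) c f

/-! ### The kernel computation of the counts -/

/-- The lanes of `B` where the value is the natural number `c`. -/
noncomputable def eqc (Y : Pl) : ℕ → ℕ → ℕ :=
  Pl.rec (motive := fun _ => ℕ → ℕ → ℕ)
    (fun s B c => Bool.rec 0 (Nat.xor B (Nat.land B s)) (Nat.beq c 0))
    (fun p _ ih B c => Bool.rec (seq (Nat.xor B (Nat.land B p)) fun B' => ih B' (Nat.div c 2))
      (seq (Nat.land B p) fun B' => ih B' (Nat.div c 2)) (Nat.beq (Nat.mod c 2) 1)) Y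

theorem testBit_eqc (Y : Pl) (B c i : ℕ) :
    (eqc Y B c).testBit i = true ↔ B.testBit i = true ∧ val Y i = (c : ℤ) := by
  induction Y generalizing B c with
  | sgn s =>
    show (Bool.rec 0 (Nat.xor B (Nat.land B s)) (Nat.beq c 0) : ℕ).testBit i = true ↔ _
    rw [val_sgn]
    cases h : Nat.beq c 0 with
    | false =>
      have hc : c ≠ 0 := by
        rintro rfl
        exact absurd h (by decide)
      show (0 : ℕ).testBit i = true ↔ _
      simp only [Nat.zero_testBit, Bool.false_eq_true, false_iff, not_and]
      intro _ hv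
      unfold bt at hv
      split_ifs at hv <;> omega
    | true =>
      have hc : c = 0 := Nat.eq_of_beq_eq_true h
      subst hc
      show (B ^^^ (B &&& s)).testBit i = true ↔ _
      rw [Nat.testBit_xor, Nat.testBit_and]
      unfold bt
      cases B.testBit i <;> cases s.testBit i <;> simp
  | cons p L ih =>
    show (Bool.rec (seq (Nat.xor B (Nat.land B p)) fun B' => eqc L B' (Nat.div c 2))
      (seq (Nat.land B p) fun B' => eqc L B' (Nat.div c 2)) (Nat.beq (Nat.mod c 2) 1) : ℕ).testBit i = true ↔ _
    rw [val_cons]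
    have hdm := Nat.div_add_mod c 2
    cases h : Nat.beq (Nat.mod c 2) 1 with
    | false =>
      have hc : c % 2 = 0 := by
        rcases Nat.mod_two_eq_zero_or_one c with h1 | h1
        · exact h1
        · exfalso
          have : Nat.beq (Nat.mod c 2) 1 = true := by
            show Nat.beq (c % 2) 1 = true
            rw [h1]; rfl
          rw [this] at h
          exact absurd h (by simp)
      show (seq (Nat.xor B (Nat.land B p)) fun B' => eqc L B' (Nat.div c 2)).testBit i = true ↔ _
      rw [seq_eq, ih]
      show (B ^^^ (B &&& p)).testBit i = true ∧ val L i = ((c / 2 : ℕ) : ℤ) ↔ _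
      rw [Nat.testBit_xor, Nat.testBit_and]
      unfold bt
      have h5 : ((c / 2 : ℕ) : ℤ) * 2 = c := by omega
      constructor
      · rintro ⟨h1, h2⟩
        cases h3 : B.testBit i <;> cases h4 : p.testBit i <;> rw [h3, h4] at h1 <;> simp_all
        omega
      · rintro ⟨h1, h2⟩
        cases h4 : p.testBit i
        · rw [h4] at h2
          simp only [Bool.false_eq_true, if_false] at h2
          refine ⟨by simp [h1], by omega⟩
        · rw [h4] at h2
          simp only [if_true] at h2
          omega
    | true =>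
      have hc : c % 2 = 1 := Nat.eq_of_beq_eq_true h
      show (seq (Nat.land B p) fun B' => eqc L B' (Nat.div c 2)).testBit i = true ↔ _
      rw [seq_eq, ih]
      show (B &&& p).testBit i = true ∧ val L i = ((c / 2 : ℕ) : ℤ) ↔ _
      rw [Nat.testBit_and]
      unfold bt
      have h5 : ((c / 2 : ℕ) : ℤ) * 2 + 1 = c := by omega
      constructor
      · rintro ⟨h1, h2⟩
        cases h3 : B.testBit i <;> cases h4 : p.testBit i <;> rw [h3, h4] at h1 <;> simp_all
        omega
      · rintro ⟨h1, h2⟩
        cases h4 : p.testBit i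
        · rw [h4] at h2
          simp only [Bool.false_eq_true, if_false] at h2
          omega
        · rw [h4] at h2
          simp only [if_true] at h2
          refine ⟨by simp [h1], by omega⟩

/-- The sign plane. -/
noncomputable def top (Y : Pl) : ℕ := Pl.rec (motive := fun _ => ℕ) (fun s => s) (fun _ _ ih => ih) Y

theorem testBit_top (Y : Pl) (i : ℕ) : (top Y).testBit i = true ↔ val Y i < 0 := by
  induction Y with
  | sgn s =>
    show s.testBit i = true ↔ _
    rw [val_sgn]; unfold bt
    cases s.testBit i <;> simp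
  | cons p L ih =>
    show (top L).testBit i = true ↔ _
    rw [ih, val_cons]; unfold bt
    cases p.testBit i <;> simp <;> omega

/-- Absolute values. -/
noncomputable def absP (Y : Pl) : Pl := norm (neg (top Y) Y)

theorem val_absP (Y : Pl) (i : ℕ) : val (absP Y) i = |val Y i| := by
  unfold absP
  rw [val_norm, val_neg]
  by_cases h : (top Y).testBit i = true
  · rw [if_pos h, abs_of_neg ((testBit_top Y i).1 h)]
  · rw [if_neg h, abs_of_nonneg (not_lt.1 fun h' => h ((testBit_top Y i).2 h'))]

/-- Check a list of numbers `(B, c, n)`: in the block `B` (contained in `U`) there are `n` lanes where the value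
of `Y` is `c`. -/
noncomputable def cntsIs (m k U : ℕ) (Y : Pl) (l : List (ℕ × ℕ × ℕ)) : Bool :=
  List.rec (motive := fun _ => Bool) true
    (fun t _ ih => and (and (Nat.blt t.2.2 (Nat.pow 2 k)) (seqB (eqc Y (Nat.land U t.1) t.2.1) fun P => cardIs m k t.2.2 P)) ih) l

theorem card_testBit_lane {U B m : ℕ} (hU : U < 2 ^ 2 ^ m) (p : ℕ → Prop) [DecidablePred p] {P : ℕ}
    (h : ∀ i, P.testBit i = true ↔ (U &&& B).testBit i = true ∧ p i) :
    Nat.card {i : Lane U // B.testBit i.1 = true ∧ p i.1} = ((Finset.range (2 ^ m)).filter fun i => P.testBit i = true).card := by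
  classical
  rw [Nat.card_eq_fintype_card, ← Fintype.card_coe]
  refine Fintype.card_congr ⟨fun i => ⟨i.1.1, ?_⟩, fun j => ⟨⟨j.1, ?_⟩, ?_, ?_⟩, fun _ => rfl, fun _ => rfl⟩
  · rw [Finset.mem_filter, Finset.mem_range]
    refine ⟨?_, (h _).2 ⟨?_, i.2.2⟩⟩
    · exact (Nat.pow_lt_pow_iff_right (by norm_num : 1 < 2)).1 (lt_of_le_of_lt (Nat.ge_two_pow_of_testBit i.1.2) hU)
    · rw [Nat.testBit_and, i.2.1, i.1.2]; rfl
  · have h1 := ((h _).1 (Finset.mem_filter.1 j.2).2).1
    rw [Nat.testBit_and, Bool.and_eq_true] at h1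
    exact h1.1
  · have h1 := ((h _).1 (Finset.mem_filter.1 j.2).2).1
    rw [Nat.testBit_and, Bool.and_eq_true] at h1
    exact h1.2
  · exact ((h _).1 (Finset.mem_filter.1 j.2).2).2

theorem cntsIs_sound {m k U : ℕ} (hU : U < 2 ^ 2 ^ m) {x z : Pl} (hz : ∀ i, val z i = |val x i|) {l : List (ℕ × ℕ × ℕ)}
    (h : cntsIs m k U z l = true) : ∀ t ∈ l, cnt U t.1 (t.2.1 : ℚ) (vecU ℚ U x) = t.2.2 := by
  classical
  induction l with
  | nil => simp
  | cons t l ih =>
    have h' : and (and (Nat.blt t.2.2 (Nat.pow 2 k))
      (seqB (eqc z (Nat.land U t.1) t.2.1) fun P => cardIs m k t.2.2 P)) (cntsIs m k U z l) = true := h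
    rw [Bool.and_eq_true, Bool.and_eq_true, seqB_eq] at h'
    obtain ⟨⟨h1, h2⟩, h3⟩ := h'
    intro t' ht'
    rcases List.mem_cons.1 ht' with rfl | ht'
    · have hlt : t'.2.2 < 2 ^ k := by
        have h6 : Nat.blt t'.2.2 (Nat.pow 2 k) = true := h1
        rw [Nat.blt_eq] at h6
        exact h6
      have h4 := cardIs_sound hlt h2
      unfold cnt
      have h5 := card_testBit_lane (U := U) (B := t'.1) (m := m) hU
        (fun i => (val x i : ℚ) = (t'.2.1 : ℚ) ∨ (val x i : ℚ) = -(t'.2.1 : ℚ))
        (P := eqc z (Nat.land U t'.1) t'.2.1) (fun i => by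
          rw [testBit_eqc, hz]
          show (U &&& t'.1).testBit i = true ∧ _ ↔ _
          refine and_congr_right fun _ => ?_
          constructor
          · intro h6
            rcases abs_choice (val x i) with h7 | h7
            · left; rw [h7] at h6; exact_mod_cast h6
            · right
              rw [h7] at h6
              have : val x i = -(t'.2.1 : ℤ) := by omega
              rw [this]; push_cast; ring
          · rintro (h6 | h6)
            · have : val x i = (t'.2.1 : ℤ) := by exact_mod_cast h6
              rw [this]; exact abs_of_nonneg (by positivity)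
            · have : val x i = -(t'.2.1 : ℤ) := by
                have h7 : (val x i : ℚ) = ((-(t'.2.1 : ℤ) : ℤ) : ℚ) := by rw [h6]; push_cast; ring
                exact_mod_cast h7
              rw [this, abs_neg]; exact abs_of_nonneg (by positivity))
      rw [show (Nat.card {i : Lane U // t'.1.testBit i.1 = true ∧ (vecU ℚ U x i = (t'.2.1 : ℚ) ∨
        vecU ℚ U x i = -(t'.2.1 : ℚ))}) = _ from h5]
      exact h4
    · exact ih h3 t' ht'

/-- Apply a word to `a` and check the counts of the result. -/
noncomputable def chkCnt {ι : Type} (m k U : ℕ) (prog : ι → Prog) (a : Pl) (w : List ι) (l : List (ℕ × ℕ × ℕ)) : Bool :=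
  runL (dec prog w) a fun y => go (absP y) fun z => cntsIs m k U z l

theorem chkCnt_sound {ι : Type} {prog : ι → Prog} {M m k U : ℕ} (hU : U < 2 ^ 2 ^ m) {wt : Pl}
    (hL : ∀ i, GoodW M U wt (prog i)) {a : Pl} {w : List ι} {l : List (ℕ × ℕ × ℕ)}
    (h : chkCnt m k U prog a w l = true) :
    ∀ t ∈ l, cnt U t.1 (t.2.1 : ℚ) (W prog U w (vecU ℚ U a)) = t.2.2 := by
  have hg := good_dec hL w
  obtain ⟨y, hy, hk⟩ := runL_sound ℚ (by norm_num) (dec prog w) (fun P hP => (hg P hP).ok) a _ h
  rw [go_eq] at hk
  have hz : ∀ i, val (norm (absP y)) i = |val y i| := fun i => by rw [val_norm, val_absP]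
  have h1 := cntsIs_sound hU hz hk
  have h2 : W prog U w (vecU ℚ U a) = vecU ℚ U y := by
    unfold W
    rw [wordE_apply ℚ (by norm_num) hg, vecU_eq, vecU_eq, ← res_semL ℚ (fun P hP => (hg P hP).pres), hy]
  rw [h2]
  exact h1

end Cfsg.Agent.MonsterX.CertVec
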