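import Cfsg.Agent.MonsterX.ProgTable
import Cfsg.Agent.MonsterX.CertVec

/-!
The base vector, the words and the monomial invariants for the certificates of the Monster model.

* `a0` = `256` times the axis of `x_{01}`;
* `wv w` = the vector of the word `w` (letters of `ProgTable`, the first letter acts first) applied to `a0`;
* `ident w₁ w₂` = kernel check of `wv w₁ = wv w₂`, `ident_sound`;
* `inv3 w` = the three counts (zeros of the matrix off the diagonal, zeros and `±2` in the `Y ∪ Z` region).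
-/

set_option autoImplicit false
set_option maxRecDepth 100000

namespace Cfsg.Agent.MonsterX.CertBase

open Cfsg.Agent.Monster.VecEngine Cfsg.Agent.Monster.VecSpace Cfsg.Agent.MonsterX.ProgBase
  Cfsg.Agent.MonsterX.ProgTable Cfsg.Agent.MonsterX.CertVec

/-- One lane. -/
noncomputable def b1 (i : ℕ) : ℕ := Nat.shiftLeft 1 i

/-- `256` times the axis of `x_{01}`. -/
noncomputable def a0 : Pl :=
  .cons 0 (.cons 0 (.cons 0 (.cons 0 (.cons 0 (.cons 0 (.cons 0 (.cons 0
    (.cons (Nat.lor (Nat.lor (b1 61440) (b1 61441)) (Nat.lor (b1 61472) (b1 61473)))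
      (.cons (Nat.lor (b1 62465) (Nat.lor (b1 61441) (b1 61472)))
        (.sgn (Nat.lor (b1 61441) (b1 61472))))))))))))

/-- The vector of a word. -/
noncomputable def wv (w : List ℕ) : Lane U → ℚ := W prog U w (vecU ℚ U a0)

/-- Kernel check of `wv w₁ = wv w₂`. -/
noncomputable def ident (w₁ w₂ : List ℕ) : Bool := chk prog a0 a0 w₁ w₂

theorem ident_sound {w₁ w₂ : List ℕ} (h : ident w₁ w₂ = true) : wv w₁ = wv w₂ := chk_sound prog_good h

theorem wv_append (w w' : List ℕ) : wv (w ++ w') = W prog U w' (wv w) := by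
  unfold wv
  rw [W_append]; rfl

/-- The lanes of the matrix off the diagonal. -/
noncomputable def BOff : ℕ :=
  Nat.rec (motive := fun _ => ℕ) 0
    (fun s ih => Nat.lor ih (Nat.shiftLeft (Nat.xor 0xffffff (Nat.shiftLeft 1 s)) (Nat.add 61440 (Nat.mul 32 s)))) 24

/-- The lanes of `Y` and `Z`. -/
noncomputable def BYZ : ℕ :=
  Nat.shiftLeft (Nat.mul 0xffffff (Nat.div (Nat.sub (Nat.pow 2 131072) 1) (Nat.sub (Nat.pow 2 32) 1))) 131072

/-- The blocks. -/
noncomputable def Bs : List ℕ := [BOff, BYZ]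

/-- The monomial letters. -/
def isD (i : ℕ) : Bool := or (Nat.blt i 39) (and (Nat.ble 42 i) (Nat.ble i 44))

theorem monoB_lt : ∀ k, k < 39 → monoB Bs (prog (0 + k)) = true :=
  allN_spec (f := fun i => monoB Bs (prog i)) (a := 0) (n := 39) (by decide +kernel)

theorem monoB_inv : ∀ k, k < 3 → monoB Bs (prog (42 + k)) = true :=
  allN_spec (f := fun i => monoB Bs (prog i)) (a := 42) (n := 3) (by decide +kernel)

theorem monoB_of_isD {i : ℕ} (h : isD i = true) : monoB Bs (prog i) = true := by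
  unfold isD at h
  have h' : (Nat.blt i 39 || (Nat.ble 42 i && Nat.ble i 44)) = true := h
  rw [Bool.or_eq_true, Bool.and_eq_true, Nat.blt_eq, Nat.ble_eq, Nat.ble_eq] at h'
  rcases h' with h1 | ⟨h1, h2⟩
  · have := monoB_lt i h1
    rwa [Nat.zero_add] at this
  · have := monoB_inv (i - 42) (by omega)
    rwa [Nat.add_sub_cancel' h1] at this

theorem E_mem_cntGroup {i : ℕ} (h : isD i = true) : E prog U i ∈ cntGroup U Bs :=
  semE_mem_cntGroup (prog_good i) (monoB_of_isD h)

theorem U_lt : U < 2 ^ 2 ^ 18 := by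
  have h : Nat.blt U (Nat.pow 2 (Nat.pow 2 18)) = true := by decide +kernel
  rw [Nat.blt_eq] at h
  exact h

/-- Kernel check of the three counts. -/
noncomputable def invIs (w : List ℕ) (c₁ c₂ c₃ : ℕ) : Bool :=
  chkCnt 18 20 U prog a0 w [(BOff, 0, c₁), (BYZ, 0, c₂), (BYZ, 2, c₃)]

/-- The three counts. -/
noncomputable def inv3 (f : Lane U → ℚ) : ℕ × ℕ × ℕ := (cnt U BOff 0 f, cnt U BYZ 0 f, cnt U BYZ 2 f)

theorem inv3_of_mem {g : (Lane U → ℚ) ≃ₗ[ℚ] (Lane U → ℚ)} (hg : g ∈ cntGroup U Bs) (f : Lane U → ℚ) :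
    inv3 (g f) = inv3 f := by
  have h := mem_cntGroup.1 hg
  unfold inv3
  rw [h BOff (by simp [Bs]) 0 f, h BYZ (by simp [Bs]) 0 f, h BYZ (by simp [Bs]) 2 f]

theorem invIs_sound {w : List ℕ} {c₁ c₂ c₃ : ℕ} (h : invIs w c₁ c₂ c₃ = true) : inv3 (wv w) = (c₁, c₂, c₃) := by
  have h1 := chkCnt_sound (m := 18) (k := 20) U_lt prog_good h
  have e1 := h1 (BOff, 0, c₁) (by simp)
  have e2 := h1 (BYZ, 0, c₂) (by simp)
  have e3 := h1 (BYZ, 2, c₃) (by simp)
  simp only [Nat.cast_zero, Nat.cast_ofNat] at e1 e2 e3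
  unfold inv3 wv
  rw [e1, e2, e3]

end Cfsg.Agent.MonsterX.CertBase
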