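import Cfsg.Agent.MonsterX.FrameInst
import Cfsg.Agent.MonsterX.Conc

/-!
# The frames of the concrete model

`ULink u`: the map `u : leechLattice → V` onto the rank one vectors of the `300`-dimensional part, and the
action of the letters on it.  Everything else on frames follows for `K = Conc.C`, `D = Conc.N`, `ξ = Conc.ξ`.
-/

set_option autoImplicit false

namespace Cfsg.Agent.MonsterX.FrameConc

open Cfsg Cfsg.Agent.MonsterX.Space Cfsg.Agent.MonsterX.Conc
open Cfsg.Agent.MonsterX.FrameStab Cfsg.Agent.MonsterX.FrameAct Cfsg.Agent.MonsterX.FrameLet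
open Cfsg.Agent.MonsterX.FrameInst Cfsg.Agent.MonsterX.FrameCover Cfsg.Agent.MonsterX.FrameGam
open Cfsg.Agent.MonsterX.CertFrame

/-- `g` acts on the vectors `u v` through `A`. -/
def Acts (u : leechLattice → V) (g : V ≃ₗ[ℚ] V) (A : Co0) : Prop := ∀ v, g (u v) = u (A • v)

/-- The action of the letters on the vectors `u v`. -/
structure ULink (u : leechLattice → V) : Prop where
  q : ∀ n < 24, Acts u (E n) 1
  sign : ∀ i < 12, ∃ A, Acts u (E (24 + i)) A ∧ IsSign A (cb.getD i 0)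
  shift : ∃ A, Acts u (E 36) A ∧ IsPerm A (Equiv.optionCongr (Equiv.addRight (1 : ZMod 23)))
  cube : ∃ A, Acts u (E 37) A ∧ IsPerm A cubeTwist
  inv : ∃ A, Acts u (E 38) A ∧ IsPerm A projInv
  xi : ∃ A, Acts u (E 39) A ∧ IsXi A
  shift_inv : E 42 = (E 36)⁻¹
  cube_inv : E 43 = (E 37)⁻¹
  xi_sq : E 39 * E 39 = 1
  /-- elements of `Co0` are determined up to sign by their action on the vectors `u v` -/
  pm : ∀ A : Co0, (∀ v, u (A • v) = u v) →
    (∀ v : leechLattice, A • v = v) ∨ (∀ v : leechLattice, A • v = -v)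
  /-- the kernel of the action on the vectors `u v` is `2^{1+24}` -/
  ker : ∀ k ∈ C, (∀ v, k (u v) = u v) → k ∈ Q

variable {u : leechLattice → V}

theorem Acts.one : Acts u 1 1 := fun v => by rw [one_smul]; rfl

theorem Acts.mul {g h : V ≃ₗ[ℚ] V} {A B : Co0} (hg : Acts u g A) (hh : Acts u h B) :
    Acts u (g * h) (A * B) := fun v => by
  rw [LinearEquiv.mul_apply, hh, hg, mul_smul]

theorem Acts.inv {g : V ≃ₗ[ℚ] V} {A : Co0} (hg : Acts u g A) : Acts u g⁻¹ A⁻¹ := fun v => by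
  have h1 := hg (A⁻¹ • v)
  rw [smul_inv_smul] at h1
  rw [← h1, ← LinearEquiv.mul_apply, inv_mul_cancel]
  rfl

theorem ULink.exists_letter (U : ULink u) {n : ℕ} (hn : n < 40) : ∃ A, Acts u (E n) A := by
  by_cases h1 : n < 24
  · exact ⟨1, U.q n h1⟩
  by_cases h2 : n < 36
  · obtain ⟨i, rfl⟩ : ∃ i, n = 24 + i := ⟨n - 24, by omega⟩
    obtain ⟨A, hA, _⟩ := U.sign i (by omega)
    exact ⟨A, hA⟩
  have h3 : n = 36 ∨ n = 37 ∨ n = 38 ∨ n = 39 := by omega
  rcases h3 with rfl | rfl | rfl | rfl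
  · exact ⟨_, U.shift.choose_spec.1⟩
  · exact ⟨_, U.cube.choose_spec.1⟩
  · exact ⟨_, U.inv.choose_spec.1⟩
  · exact ⟨_, U.xi.choose_spec.1⟩

theorem ULink.exists_acts (U : ULink u) (k : V ≃ₗ[ℚ] V) (hk : k ∈ C) : ∃ A, Acts u k A := by
  unfold C at hk
  induction hk using Subgroup.closure_induction with
  | mem g hg =>
    obtain ⟨n, hn, rfl⟩ := hg
    exact U.exists_letter hn
  | one => exact ⟨1, Acts.one⟩
  | mul x y _ _ hx hy =>
    obtain ⟨A, hA⟩ := hx
    obtain ⟨B, hB⟩ := hy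
    exact ⟨A * B, hA.mul hB⟩
  | inv x _ hx =>
    obtain ⟨A, hA⟩ := hx
    exact ⟨A⁻¹, hA.inv⟩

/-- The relation "`k` induces `A`". -/
def R (u : leechLattice → V) (k : C) (A : Co0) : Prop := Acts u (k : V ≃ₗ[ℚ] V) A

theorem ULink.ind (U : ULink u) : Ind C (R u) where
  one := Acts.one
  mul := fun h1 h2 => Acts.mul h1 h2
  inv := fun h1 => Acts.inv h1
  ex := fun h => U.exists_acts h h.2
  pm := fun {A} h1 => U.pm A fun v => (h1 v).symm

/-- The letters as elements of `C` (the letters `≥ 40` other than `42`, `43` are replaced by `1`). -/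
noncomputable def EC (a : ℕ) : C := by
  classical
  exact if h : E a ∈ C then ⟨E a, h⟩ else 1

theorem EC_coe {a : ℕ} (h : E a ∈ C) : (EC a : V ≃ₗ[ℚ] V) = E a := by
  unfold EC
  rw [dif_pos h]

theorem EC_coe_lt {a : ℕ} (h : a < 40) : (EC a : V ≃ₗ[ℚ] V) = E a := EC_coe (E_mem_C h)

theorem ULink.mem_42 (U : ULink u) : E 42 ∈ C := by
  rw [U.shift_inv]
  exact C.inv_mem (E_mem_C (by norm_num))

theorem ULink.mem_43 (U : ULink u) : E 43 ∈ C := by
  rw [U.cube_inv]
  exact C.inv_mem (E_mem_C (by norm_num))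

theorem ULink.letters (U : ULink u) : Letters U.ind EC where
  q := fun a ha => by
    show Acts u _ _
    rw [EC_coe_lt (by omega)]
    exact U.q a ha
  sign := fun i hi => by
    obtain ⟨A, hA, hA'⟩ := U.sign i hi
    refine ⟨A, ?_, hA'⟩
    show Acts u _ _
    rw [EC_coe_lt (by omega)]
    exact hA
  shift := by
    obtain ⟨A, hA, hA'⟩ := U.shift
    refine ⟨A, ?_, hA'⟩
    show Acts u _ _
    rw [EC_coe_lt (by norm_num)]
    exact hA
  cube := by
    obtain ⟨A, hA, hA'⟩ := U.cube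
    refine ⟨A, ?_, hA'⟩
    show Acts u _ _
    rw [EC_coe_lt (by norm_num)]
    exact hA
  inv := by
    obtain ⟨A, hA, hA'⟩ := U.inv
    refine ⟨A, ?_, hA'⟩
    show Acts u _ _
    rw [EC_coe_lt (by norm_num)]
    exact hA
  xi := by
    obtain ⟨A, hA, hA'⟩ := U.xi
    refine ⟨A, ?_, hA'⟩
    show Acts u _ _
    rw [EC_coe_lt (by norm_num)]
    exact hA
  shift_inv := by
    apply Subtype.ext
    rw [EC_coe U.mem_42, U.shift_inv]
    show _ = ((EC 36 : C) : V ≃ₗ[ℚ] V)⁻¹
    rw [EC_coe_lt (by norm_num)]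
  cube_inv := by
    apply Subtype.ext
    rw [EC_coe U.mem_43, U.cube_inv]
    show _ = ((EC 37 : C) : V ≃ₗ[ℚ] V)⁻¹
    rw [EC_coe_lt (by norm_num)]

/-- **The frames of the concrete model.** -/
theorem ULink.frames (U : ULink u) : Frames C N ξ (coded U.ind).y0 (nb U.ind) := by
  have h39 : ((EC 39 : C) : V ≃ₗ[ℚ] V) = ξ := EC_coe_lt (by norm_num)
  have h := FrameInst.frames C N U.ind EC U.letters
    (by
      unfold N
      congr 1
      ext g
      constructor
      · rintro ⟨n, hn, rfl⟩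
        exact ⟨n, hn, (EC_coe_lt (by omega)).symm⟩
      · rintro ⟨n, hn, rfl⟩
        exact ⟨n, hn, EC_coe_lt (by omega)⟩)
    (by rw [h39]; exact C_eq)
    (fun k hk => Q_le_N (U.ker k k.2 fun v => by
      have h1 := hk v
      rw [one_smul] at h1
      exact h1))
    (by rw [h39]; exact U.xi_sq)
  rw [h39] at h
  exact h

end Cfsg.Agent.MonsterX.FrameConc
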