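import Cfsg.Agent.MonsterX.CertLane
import Cfsg.Agent.MonsterX.FrameConc
import Cfsg.Agent.MonsterX.InstData

/-!
# Coverage of the 98280 lines: the group side

`U : ULink u`.  The points of `Fr U.ind` whose code is the code of a lane of the 98280-part are permuted by `C`
(`onLane_smul`); the class `y₁` of the base axis is one of them.
-/

set_option autoImplicit false
set_option maxRecDepth 100000

namespace Cfsg.Agent.MonsterX.CertCov

open Cfsg Cfsg.Agent.MonsterX.Space Cfsg.Agent.MonsterX.Conc
open Cfsg.Agent.MonsterX.Lin24 Cfsg.Agent.MonsterX.FrameCover Cfsg.Agent.MonsterX.FrameGam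
open Cfsg.Agent.MonsterX.FrameAct Cfsg.Agent.MonsterX.FrameInst Cfsg.Agent.MonsterX.FrameConc
open Cfsg.Agent.MonsterX.CertLin Cfsg.Agent.MonsterX.CertSPl Cfsg.Agent.MonsterX.CertLane
open Cfsg.Agent.BabyM.STabTrack Cfsg.Agent.MonsterX.ProgTable

variable {u : leechLattice → V} (U : ULink u)

/-- The code of the point is the code of a lane. -/
def OnLane (y : Fr U.ind) : Prop := ∃ i, UX.testBit i = true ∧ (coded U.ind).code y = num P i

theorem num_P_lt (i : ℕ) : num P i < 2 ^ 24 := by
  have := num_lt P i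
  rwa [length_P] at this

/-- The point with a given code. -/
def pt (c : ℕ) (h : c < 2 ^ 24) : Fr U.ind := ⟨c, h⟩

theorem code_pt (c : ℕ) (h : c < 2 ^ 24) : (coded U.ind).code (pt U c h) = c := rfl

theorem rep_lt {n : ℕ} (hn : n < 40) : Rep (coded U.ind) (EC n) (ltc n) :=
  U.letters.rep n (by omega) (by
    by_cases h : n < 39
    · exact Or.inl (isD_of_lt h)
    · exact Or.inr (by omega))

theorem onLane_letter {n : ℕ} (hn : n < 40) {y : Fr U.ind} (h : OnLane U y) : OnLane U (EC n • y) := by
  obtain ⟨i, hi, hy⟩ := h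
  have h1 := rep_lt U hn y
  by_cases h24 : n < 24
  · refine ⟨i, hi, ?_⟩
    rw [h1, ltc_q n h24, lin_one ((coded U.ind).lt y), hy]
  · obtain ⟨h2, h3⟩ := lane_letter (by omega) hn hi
    exact ⟨_, h2, by rw [h1, hy, h3]⟩

theorem onLane_letter_inv {n : ℕ} (hn : n < 40) {y : Fr U.ind} (h : OnLane U y) : OnLane U ((EC n)⁻¹ • y) := by
  obtain ⟨i, hi, hy⟩ := h
  by_cases h24 : n < 24
  · refine ⟨i, hi, ?_⟩
    have h1 := rep_lt U hn ((EC n)⁻¹ • y)
    rw [ltc_q n h24, lin_one ((coded U.ind).lt _), smul_inv_smul] at h1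
    rw [← h1, hy]
  · set j := permOf (prog n) i with hj
    have hj2 : UX.testBit j = true := by
      obtain ⟨k, rfl⟩ : ∃ k, n = 24 + k := ⟨n - 24, by omega⟩
      have h5 := allB_sound chk_letters k (by omega)
      unfold chk at h5
      rw [Bool.and_eq_true] at h5
      have h6 : appP (prog (24 + k)) UX = UX := Nat.eq_of_beq_eq_true h5.1
      rw [← h6, testBit_appP (prog_ok _)] at hi
      exact hi
    obtain ⟨h2, h3⟩ := lane_letter (by omega) hn hj2
    rw [hj, Equiv.symm_apply_apply] at h3
    refine ⟨j, hj2, ?_⟩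
    have h4 : EC n • pt U (num P j) (num_P_lt j) = y := by
      apply (coded U.ind).inj
      rw [rep_lt U hn, code_pt, hy, h3]
    rw [← h4, inv_smul_smul, code_pt]

theorem onLane_iff {n : ℕ} (hn : n < 40) (y : Fr U.ind) : OnLane U (EC n • y) ↔ OnLane U y := by
  constructor
  · intro h
    have := onLane_letter_inv U hn h
    rwa [inv_smul_smul] at this
  · exact onLane_letter U hn

theorem onLane_mem {g : V ≃ₗ[ℚ] V} (hg : g ∈ C) : ∀ y : Fr U.ind, OnLane U ((⟨g, hg⟩ : C) • y) ↔ OnLane U y := by
  unfold C at hg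
  induction hg using Subgroup.closure_induction with
  | mem g hg =>
    obtain ⟨n, hn, rfl⟩ := hg
    intro y
    have h : (⟨E n, E_mem_C hn⟩ : C) = EC n := Subtype.ext (EC_coe_lt hn).symm
    have := onLane_iff U hn y
    rw [← h] at this
    exact this
  | one =>
    intro y
    have : OnLane U ((1 : C) • y) ↔ OnLane U y := by rw [one_smul]
    exact this
  | mul a b ha hb iha ihb =>
    intro y
    have h := (iha ((⟨b, hb⟩ : C) • y)).trans (ihb y)
    rw [← mul_smul] at h
    exact h
  | inv a ha iha =>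
    intro y
    have h := iha ((⟨a, ha⟩ : C)⁻¹ • y)
    rw [smul_inv_smul] at h
    exact h.symm

/-- `C` permutes the points of the lanes. -/
theorem onLane_smul (k : C) {y : Fr U.ind} (h : OnLane U y) : OnLane U (k • y) :=
  (onLane_mem U k.2 y).2 h

/-! ### The class of the base axis -/

/-- The code of the class of the base axis. -/
noncomputable def y₁ : Fr U.ind := pt U 6 (by norm_num)

theorem code_y₁ : (coded U.ind).code (y₁ U) = 6 := rfl

/-- A lane with the code `6`. -/
def lane₁ : ℕ := 62465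

theorem lane₁_ok : UX.testBit lane₁ = true ∧ num P lane₁ = 6 := by
  constructor
  · have : CertLin.tb UX lane₁ = true := by decide +kernel
    rwa [CertLin.tb_eq] at this
  · have h : Nat.beq (num P lane₁) 6 = true := by decide +kernel
    exact Nat.eq_of_beq_eq_true h

theorem onLane_y₁ : OnLane U (y₁ U) := ⟨lane₁, lane₁_ok.1, by rw [lane₁_ok.2]; rfl⟩

end Cfsg.Agent.MonsterX.CertCov
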