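import Mathlib

/-!
# The words of the representatives of the `L j`-orbits on the lines (helper47, `pairs.txt`)

`uT`: for every class `j` the words `u` with `u a_r = a₀`, `r` the representatives.  Order of the classes:
2A, 2B, 4A, 4B, 4C, 6A, 6C, 6F, 8B, 10A, 10B, 12C.
-/

set_option autoImplicit false

namespace Cfsg.Agent.MonsterX.CertUTab

/-- The table of words. -/
def uT : List (List (List ℕ)) := [
  [[1], [37], [42, 38, 36], [42, 39, 43]],
  [[42], [43], [38, 43, 43, 36], [42, 39, 38]],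
  [[38, 43, 43, 36], [42, 42], [39, 38], [39, 43], [39, 37, 39, 36], [39, 43, 39, 37]],
  [[], [37], [43], [42, 42, 43, 43], [38], [38, 43], [42, 39, 38], [38, 39, 43], [42, 39, 43], [36, 38, 39, 36]],
  [[], [37], [38], [37, 36, 38, 1], [36, 39, 38], [36, 39, 43], [42, 39, 38, 37]],
  [[1], [37], [38], [25], [37, 42, 38, 42, 43, 25], [42, 39, 43], [25, 39, 43], [39, 43], [42, 26, 39, 38]],
  [[], [37], [42, 38, 42], [36, 37], [42, 37], [37, 42, 37, 42, 25], [43, 39, 37], [36, 39, 43], [39, 43], [38, 39, 43], [36, 38, 39, 43]],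
  [[], [37, 36, 36], [37], [42], [39, 38]],
  [[], [43], [42, 37, 37], [42, 42], [38, 42], [36, 39, 43], [39, 37, 42], [39, 38], [42, 39, 43], [39, 43], [39, 43, 36], [39, 37, 39, 36], [39, 42, 39, 38], [39, 43, 39, 37]],
  [[], [37], [38], [42, 1], [42, 37], [42, 43], [42, 25], [38, 42], [43, 43, 25], [43, 39, 37], [28, 43, 39, 36], [25, 37, 39, 37]],
  [[], [42], [42, 37, 37], [36], [37], [42, 42], [39, 25], [34, 39, 38], [39, 38], [28, 39, 43], [39, 37], [29, 39, 42, 37, 42]],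
  [[], [37], [38], [43], [42, 43], [42, 37], [38, 43], [38, 37], [38, 37, 25], [42, 25], [38, 39, 43], [43, 36, 39, 37], [43, 39, 38], [43, 39, 37], [42, 39, 38], [37, 39, 38], [38, 39, 43, 42], [38, 39, 37, 42], [37, 31, 39, 37], [43, 25, 39, 36, 38], [27, 35, 39, 43, 35, 39, 37, 42]]]

/-- The codes of the representatives. -/
def cT : List (List ℕ) := [
  [0x6, 0x82, 0x8, 0x3dcb2],
  [0xc, 0x3d8, 0x20, 0x67d20a],
  [0x20, 0x18, 0xb3f19c, 0x1fa74, 0x2a45f1, 0x97a31],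
  [0x6, 0x82, 0x3d8, 0x88, 0xc74, 0xdc6, 0x67d20a, 0xcfef96, 0x3dcb2, 0x7d87be],
  [0x6, 0x82, 0xc74, 0x40, 0x59f2f6, 0xf726, 0xb7fbaa],
  [0x6, 0x82, 0xc74, 0x1006, 0x1802, 0x3dcb2, 0x1f500, 0x1fa74, 0x67c16e],
  [0x6, 0x82, 0x93c, 0xc34, 0x104, 0x1900, 0x97a26, 0xf726, 0x1fa74, 0xcfef96, 0x67e122],
  [0x6, 0x7f4, 0x82, 0xc, 0xb3f19c],
  [0x6, 0x3d8, 0x14, 0x18, 0x49e, 0xf726, 0xda05e0, 0xb3f19c, 0x3dcb2, 0x1fa74, 0xfa089a, 0x2a45f1, 0x9dd749, 0x97a31],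
  [0x6, 0x82, 0xc74, 0xc, 0x104, 0x7b0, 0x100c, 0x49e, 0x1022, 0x97a26, 0x97aa4, 0xbb170],
  [0x6, 0xc, 0x14, 0xc76, 0x82, 0x18, 0x1018, 0xb3e9b6, 0xb3f19c, 0x1e512, 0x49f834, 0x69e0f6],
  [0x6, 0x82, 0xc74, 0x3d8, 0x7b0, 0x104, 0xdc6, 0x7b4, 0x17b4, 0x100c, 0xcfef96, 0x1837c8, 0xffb00e, 0x97a26, 0x67d20a, 0xef79a4, 0x34cb78, 0x4c4be, 0xbb674, 0x3df56a, 0x5d2c68]]

/-- The words of class `j`. -/
def us (j : ℕ) : List (List ℕ) := uT.getD j []

/-- The word of the representative `m` of class `j`. -/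
def uw (j m : ℕ) : List ℕ := (us j).getD m []

/-- The number of representatives of class `j`. -/
def nr (j : ℕ) : ℕ := (us j).length

/-- The codes of class `j`. -/
def cs (j : ℕ) : List ℕ := cT.getD j []

end Cfsg.Agent.MonsterX.CertUTab
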