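import Cfsg.Agent.MonsterX.CertCov
import Cfsg.Agent.MonsterX.CertUTab

/-!
# Words in the letters of `C` acting on the codes
-/

set_option autoImplicit false
set_option maxRecDepth 100000

namespace Cfsg.Agent.MonsterX.CertCovB

open Cfsg Cfsg.Agent.MonsterX.Space Cfsg.Agent.MonsterX.Conc
open Cfsg.Agent.MonsterX.Lin24 Cfsg.Agent.MonsterX.FrameCover Cfsg.Agent.MonsterX.FrameGam
open Cfsg.Agent.MonsterX.FrameAct Cfsg.Agent.MonsterX.FrameInst Cfsg.Agent.MonsterX.FrameConc
open Cfsg.Agent.MonsterX.CertCov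

/-- The letters of words in `C`. -/
def okC (a : ℕ) : Bool := Nat.ble a 39 || (Nat.beq a 42 || Nat.beq a 43)

theorem okC_cases {a : ℕ} (h : okC a = true) : a < 40 ∨ a = 42 ∨ a = 43 := by
  unfold okC at h
  rw [Bool.or_eq_true, Bool.or_eq_true] at h
  rcases h with h | h | h
  · have := Nat.le_of_ble_eq_true h
    omega
  · exact Or.inr (Or.inl (Nat.eq_of_beq_eq_true h))
  · exact Or.inr (Or.inr (Nat.eq_of_beq_eq_true h))

variable {u : leechLattice → V} (U : ULink u)

include U in
theorem E_mem {a : ℕ} (h : okC a = true) : E a ∈ C := by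
  rcases okC_cases h with h | rfl | rfl
  · exact E_mem_C h
  · exact U.mem_42
  · exact U.mem_43

include U in
theorem EC_ok {a : ℕ} (h : okC a = true) : (EC a : V ≃ₗ[ℚ] V) = E a := EC_coe (E_mem U h)

include U in
theorem prodF_coe {w : List ℕ} (h : w.all okC = true) : ((prodF EC w : C) : V ≃ₗ[ℚ] V) = W w := by
  induction w with
  | nil => rw [W_nil]; rfl
  | cons a w ih =>
    rw [List.all_cons, Bool.and_eq_true] at h
    rw [W_cons, ← ih h.2, ← EC_ok U h.1]
    rfl

theorem rep_ok {a : ℕ} (h : okC a = true) : Rep (coded U.ind) (EC a) (ltc a) := by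
  rcases okC_cases h with h | rfl | rfl
  · exact rep_lt U h
  · exact U.letters.rep 42 (by norm_num) (Or.inl rfl)
  · exact U.letters.rep 43 (by norm_num) (Or.inl rfl)

theorem rep_word {w : List ℕ} (h : w.all okC = true) : Rep (coded U.ind) (prodF EC w) (evalF ltc w) :=
  rep_prodF w fun a ha => rep_ok U (List.all_eq_true.1 h a ha)

/-- The subgroup of the elements of `C` fixing a vector. -/
def Fx (b : V) : Subgroup C where
  carrier := {k | (k : V ≃ₗ[ℚ] V) b = b}
  one_mem' := rfl
  mul_mem' := by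
    intro k l hk hl
    show (k : V ≃ₗ[ℚ] V) ((l : V ≃ₗ[ℚ] V) b) = b
    rw [show (l : V ≃ₗ[ℚ] V) b = b from hl, show (k : V ≃ₗ[ℚ] V) b = b from hk]
  inv_mem' := by
    intro k hk
    show (k : V ≃ₗ[ℚ] V)⁻¹ b = b
    have h : (k : V ≃ₗ[ℚ] V) b = b := hk
    conv_lhs => rw [← h]
    exact (k : V ≃ₗ[ℚ] V).symm_apply_apply b

theorem mem_Fx {b : V} {k : C} : k ∈ Fx b ↔ (k : V ≃ₗ[ℚ] V) b = b := Iff.rfl

/-- A word fixing `b` acts by its columns. -/
theorem inL_word {b : V} {w : List ℕ} {e : ℕ} (hw : w.all okC = true) (hf : W w b = b)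
    (he : Nat.beq (evalF ltc w) e = true) : InL (coded U.ind) (Fx b) e := by
  refine ⟨prodF EC w, ?_, ?_⟩
  · rw [mem_Fx, prodF_coe U hw]
    exact hf
  · rw [← Nat.eq_of_beq_eq_true he]
    exact rep_word U hw

/-- The action of a word on a code. -/
noncomputable def linW (w : List ℕ) : ℕ → ℕ :=
  List.rec (motive := fun _ => ℕ → ℕ) (fun c => c) (fun a _ ih c => ih (lin (ltc a) c)) w

theorem code_word {w : List ℕ} (h : w.all okC = true) (y : Fr U.ind) :
    (coded U.ind).code (prodF EC w • y) = linW w ((coded U.ind).code y) := by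
  induction w generalizing y with
  | nil => show (coded U.ind).code ((1 : C) • y) = _; rw [one_smul]; rfl
  | cons a w ih =>
    rw [List.all_cons, Bool.and_eq_true] at h
    show (coded U.ind).code ((prodF EC w * EC a) • y) = linW w (lin (ltc a) ((coded U.ind).code y))
    rw [mul_smul, ih h.2, rep_ok U h.1]

/-- The words map the codes to `6`. -/
noncomputable def chkU (ws : List (List ℕ)) : List ℕ → Bool :=
  List.rec (motive := fun _ => List ℕ → Bool) (fun _ => true)
    (fun w _ ih cs => List.rec (motive := fun _ => Bool) true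
      (fun c cs _ => and (Nat.beq (linW w c) 6) (and (w.all okC) (ih cs))) cs) ws

theorem chkU_sound {ws : List (List ℕ)} {cs : List ℕ} (h : chkU ws cs = true) (hl : cs.length ≤ ws.length)
    {c : ℕ} (hc : c ∈ cs) :
    ∃ m, m < ws.length ∧ linW (ws.getD m []) c = 6 ∧ (ws.getD m []).all okC = true := by
  induction ws generalizing cs with
  | nil =>
    cases cs with
    | nil => exact absurd hc (by simp)
    | cons c' cs => exact absurd hl (by simp)
  | cons w ws ih =>
    cases cs with
    | nil => exact absurd hc (by simp)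
    | cons c' cs =>
      have h' : and (Nat.beq (linW w c') 6) (and (w.all okC) (chkU ws cs)) = true := h
      rw [Bool.and_eq_true, Bool.and_eq_true] at h'
      rcases List.mem_cons.1 hc with rfl | hc
      · exact ⟨0, by simp, Nat.eq_of_beq_eq_true h'.1, h'.2.1⟩
      · obtain ⟨m, h1, h2, h3⟩ := ih h'.2.2 (by simpa using hl) hc
        exact ⟨m + 1, by simpa using h1, by simpa using h2, by simpa using h3⟩

/-- The assembly for one class. -/
theorem cov_of {ws : List (List ℕ)} {cs : List ℕ} (h : chkU ws cs = true) (hl : cs.length ≤ ws.length)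
    {L : Subgroup C} {y : Fr U.ind} (hy : ∃ c ∈ cs, ∃ l ∈ L, (coded U.ind).code (l • y) = c) :
    ∃ m, m < ws.length ∧ (ws.getD m []).all okC = true ∧ ∃ l ∈ L,
      (prodF EC (ws.getD m []) * l) • y = y₁ U := by
  obtain ⟨c, hc, l, hl', h1⟩ := hy
  obtain ⟨m, hm, h2, h3⟩ := chkU_sound h hl hc
  refine ⟨m, hm, h3, l, hl', ?_⟩
  apply (coded U.ind).inj
  rw [mul_smul, code_word U h3, h1, h2]
  rfl

end Cfsg.Agent.MonsterX.CertCovB
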