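import Cfsg.Agent.MonsterX.InstData

/-!
# The generators of the stabilisers `L j` of `d j` in `C` (helper484, `lj.txt`)

`fixJ_K` : the word `lJ_K` fixes `d J`.
-/

set_option autoImplicit false
set_option maxRecDepth 100000
set_option Elab.async false

namespace Cfsg.Agent.MonsterX.CertLj

open Cfsg.Agent.Monster.VecEngine Cfsg.Agent.Monster.VecSpace Cfsg.Agent.MonsterX.Space
open Cfsg.Agent.MonsterX.ProgTable Cfsg.Agent.MonsterX.Conc Cfsg.Agent.MonsterX.InstData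

/-- The kernel check that the word `w` fixes `d j`. -/
noncomputable def fixChk (j : ℕ) (w : List ℕ) : Bool :=
  check ((bj j ++ w).map prog) (up 8 a0B) ((bj j).map prog) (up 8 a0B)

theorem fix_of_chk {j : ℕ} {w : List ℕ} (h : fixChk j w = true) :
    W w (W (bj j) (vecV a0B)) = W (bj j) (vecV a0B) := by
  have h1 := W_eq_of_up (n := 8) h
  rwa [W_append, LinearEquiv.mul_apply] at h1

/-- Generator `0` of the stabiliser of `d 0` (class 2A). -/
def l0_0 : List ℕ := [39]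

theorem fix0_0 : W l0_0 (W (bj 0) (vecV a0B)) = W (bj 0) (vecV a0B) :=
  fix_of_chk (by decide +kernel)

/-- Generator `1` of the stabiliser of `d 0` (class 2A). -/
def l0_1 : List ℕ := [25, 39, 42, 42, 25]

theorem fix0_1 : W l0_1 (W (bj 0) (vecV a0B)) = W (bj 0) (vecV a0B) :=
  fix_of_chk (by decide +kernel)

/-- Generator `0` of the stabiliser of `d 1` (class 2B). -/
def l1_0 : List ℕ := [25, 39, 12, 13]

theorem fix1_0 : W l1_0 (W (bj 1) (vecV a0B)) = W (bj 1) (vecV a0B) :=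
  fix_of_chk (by decide +kernel)

/-- Generator `1` of the stabiliser of `d 1` (class 2B). -/
def l1_1 : List ℕ := [36, 25, 39, 42]

theorem fix1_1 : W l1_1 (W (bj 1) (vecV a0B)) = W (bj 1) (vecV a0B) :=
  fix_of_chk (by decide +kernel)

/-- Generator `2` of the stabiliser of `d 1` (class 2B). -/
def l1_2 : List ℕ := [36, 37, 36, 37, 36, 37, 13, 17, 19, 20, 21, 22, 23]

theorem fix1_2 : W l1_2 (W (bj 1) (vecV a0B)) = W (bj 1) (vecV a0B) :=
  fix_of_chk (by decide +kernel)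

/-- Generator `0` of the stabiliser of `d 2` (class 4A). -/
def l2_0 : List ℕ := [37, 3, 5, 6, 8, 9, 14, 16, 0, 12, 0, 12]

theorem fix2_0 : W l2_0 (W (bj 2) (vecV a0B)) = W (bj 2) (vecV a0B) :=
  fix_of_chk (by decide +kernel)

/-- Generator `1` of the stabiliser of `d 2` (class 4A). -/
def l2_1 : List ℕ := [36, 36, 36, 37, 38, 42, 42, 42, 37, 38, 36, 36, 37, 14, 16, 18, 19, 20, 21, 25, 29, 30, 32, 2, 6, 11, 16, 21]

theorem fix2_1 : W l2_1 (W (bj 2) (vecV a0B)) = W (bj 2) (vecV a0B) :=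
  fix_of_chk (by decide +kernel)

/-- Generator `0` of the stabiliser of `d 3` (class 4B). -/
def l3_0 : List ℕ := [36, 25, 39, 42, 1, 2, 3, 12, 13, 14, 17, 18, 20]

theorem fix3_0 : W l3_0 (W (bj 3) (vecV a0B)) = W (bj 3) (vecV a0B) :=
  fix_of_chk (by decide +kernel)

/-- Generator `1` of the stabiliser of `d 3` (class 4B). -/
def l3_1 : List ℕ := [36, 37, 36, 37, 36, 37, 5, 9, 23, 4, 14, 21, 15, 3, 8, 18, 19, 22]

theorem fix3_1 : W l3_1 (W (bj 3) (vecV a0B)) = W (bj 3) (vecV a0B) :=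
  fix_of_chk (by decide +kernel)

/-- Generator `2` of the stabiliser of `d 3` (class 4B). -/
def l3_2 : List ℕ := [43, 38, 36, 36, 36, 36, 36, 38, 36, 1, 3, 2, 4, 7, 15, 17, 19, 21]

theorem fix3_2 : W l3_2 (W (bj 3) (vecV a0B)) = W (bj 3) (vecV a0B) :=
  fix_of_chk (by decide +kernel)

/-- Generator `0` of the stabiliser of `d 4` (class 4C). -/
def l4_0 : List ℕ := [25, 39, 1, 2, 3, 4, 5, 8, 11, 12, 15, 17, 19, 21]

theorem fix4_0 : W l4_0 (W (bj 4) (vecV a0B)) = W (bj 4) (vecV a0B) :=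
  fix_of_chk (by decide +kernel)

/-- Generator `1` of the stabiliser of `d 4` (class 4C). -/
def l4_1 : List ℕ := [42, 37, 42, 42, 38, 36, 36, 43, 36, 13, 14, 15, 18, 21, 23]

theorem fix4_1 : W l4_1 (W (bj 4) (vecV a0B)) = W (bj 4) (vecV a0B) :=
  fix_of_chk (by decide +kernel)

/-- Generator `2` of the stabiliser of `d 4` (class 4C). -/
def l4_2 : List ℕ := [36, 36, 36, 38, 36, 36, 38, 42, 42, 1, 3, 6, 4, 9, 11, 13, 15, 21, 22, 23]

theorem fix4_2 : W l4_2 (W (bj 4) (vecV a0B)) = W (bj 4) (vecV a0B) :=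
  fix_of_chk (by decide +kernel)

/-- Generator `3` of the stabiliser of `d 4` (class 4C). -/
def l4_3 : List ℕ := [43, 36, 43, 42, 38, 36, 37, 42, 37, 1, 3, 5, 7, 9, 10, 11, 13, 16, 17, 18, 19, 22, 23]

theorem fix4_3 : W l4_3 (W (bj 4) (vecV a0B)) = W (bj 4) (vecV a0B) :=
  fix_of_chk (by decide +kernel)

/-- Generator `0` of the stabiliser of `d 5` (class 6A). -/
def l5_0 : List ℕ := [43, 36, 37, 36, 37, 36, 37, 37, 4, 7, 10, 13, 14, 17, 18, 20, 21, 22]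

theorem fix5_0 : W l5_0 (W (bj 5) (vecV a0B)) = W (bj 5) (vecV a0B) :=
  fix_of_chk (by decide +kernel)

/-- Generator `1` of the stabiliser of `d 5` (class 6A). -/
def l5_1 : List ℕ := [37, 42, 42, 37, 13, 15, 19, 21, 23, 25, 39, 37, 37, 42, 38, 36, 37, 13, 16, 21, 22, 26, 4, 8, 12, 16, 17, 19, 20, 21, 22, 23]

theorem fix5_1 : W l5_1 (W (bj 5) (vecV a0B)) = W (bj 5) (vecV a0B) :=
  fix_of_chk (by decide +kernel)

/-- Generator `0` of the stabiliser of `d 6` (class 6C). -/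
def l6_0 : List ℕ := [43, 42, 38, 42, 43, 36, 36, 43, 38, 14, 15, 17, 20, 22, 23, 32, 1, 3, 7, 15, 17, 18, 19, 21]

theorem fix6_0 : W l6_0 (W (bj 6) (vecV a0B)) = W (bj 6) (vecV a0B) :=
  fix_of_chk (by decide +kernel)

/-- Generator `1` of the stabiliser of `d 6` (class 6C). -/
def l6_1 : List ℕ := [42, 42, 37, 38, 42, 37, 36, 43, 38, 13, 17, 18, 20, 21, 32, 4, 7, 8, 11, 14, 17, 19, 21, 22]

theorem fix6_1 : W l6_1 (W (bj 6) (vecV a0B)) = W (bj 6) (vecV a0B) :=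
  fix_of_chk (by decide +kernel)

/-- Generator `2` of the stabiliser of `d 6` (class 6C). -/
def l6_2 : List ℕ := [36, 36, 36, 43, 36, 38, 14, 16, 17, 18, 25, 39, 38, 42, 37, 42, 42, 42, 15, 18, 20, 21, 22, 23, 25, 32, 22, 8, 15, 12, 7, 14, 3, 9, 16, 23]

theorem fix6_2 : W l6_2 (W (bj 6) (vecV a0B)) = W (bj 6) (vecV a0B) :=
  fix_of_chk (by decide +kernel)

/-- Generator `0` of the stabiliser of `d 7` (class 6F). -/
def l7_0 : List ℕ := [37, 42, 37, 37, 36, 37, 38, 36, 37, 16, 17, 18, 21, 23, 26, 27, 3, 6, 4, 14, 15, 19]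

theorem fix7_0 : W l7_0 (W (bj 7) (vecV a0B)) = W (bj 7) (vecV a0B) :=
  fix_of_chk (by decide +kernel)

/-- Generator `1` of the stabiliser of `d 7` (class 6F). -/
def l7_1 : List ℕ := [36, 37, 42, 43, 15, 17, 20, 39, 42, 37, 37, 36, 37, 42, 13, 15, 16, 21, 22, 23, 25, 33, 1, 2, 6, 9, 11, 13, 14, 15, 16, 17, 21, 23]

theorem fix7_1 : W l7_1 (W (bj 7) (vecV a0B)) = W (bj 7) (vecV a0B) :=
  fix_of_chk (by decide +kernel)

/-- Generator `0` of the stabiliser of `d 8` (class 8B). -/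
def l8_0 : List ℕ := [37, 42, 42, 43, 36, 37, 42, 37, 36, 1, 3, 6, 9, 10, 11, 14, 17, 19, 21, 22]

theorem fix8_0 : W l8_0 (W (bj 8) (vecV a0B)) = W (bj 8) (vecV a0B) :=
  fix_of_chk (by decide +kernel)

/-- Generator `1` of the stabiliser of `d 8` (class 8B). -/
def l8_1 : List ℕ := [36, 37, 42, 37, 36, 37, 42, 42, 43, 42, 42, 43, 38, 36, 43, 14, 18, 22, 23, 26, 27, 33, 35, 0, 7, 8, 14, 16, 18, 20, 22, 23]

theorem fix8_1 : W l8_1 (W (bj 8) (vecV a0B)) = W (bj 8) (vecV a0B) :=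
  fix_of_chk (by decide +kernel)

/-- Generator `0` of the stabiliser of `d 9` (class 10A). -/
def l9_0 : List ℕ := [36, 36, 37, 36, 37, 36, 37, 42, 3, 2, 7, 8, 10, 16, 17, 19, 21, 22, 23]

theorem fix9_0 : W l9_0 (W (bj 9) (vecV a0B)) = W (bj 9) (vecV a0B) :=
  fix_of_chk (by decide +kernel)

/-- Generator `1` of the stabiliser of `d 9` (class 10A). -/
def l9_1 : List ℕ := [37, 36, 43, 36, 43, 36, 37, 42, 43, 42, 14, 18, 11, 23, 7, 22, 17, 6]

theorem fix9_1 : W l9_1 (W (bj 9) (vecV a0B)) = W (bj 9) (vecV a0B) :=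
  fix_of_chk (by decide +kernel)

/-- Generator `2` of the stabiliser of `d 9` (class 10A). -/
def l9_2 : List ℕ := [43, 36, 43, 13, 15, 39, 36, 38, 42, 43, 42, 43, 43, 36, 38, 1, 5, 10, 12, 15, 23]

theorem fix9_2 : W l9_2 (W (bj 9) (vecV a0B)) = W (bj 9) (vecV a0B) :=
  fix_of_chk (by decide +kernel)

/-- Generator `0` of the stabiliser of `d 10` (class 10B). -/
def l10_0 : List ℕ := [37, 36, 43, 42, 42, 37, 37, 38, 42, 37, 36, 13, 14, 31, 0, 1, 2, 5, 6, 14, 15, 16, 18, 19, 21, 22, 23]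

theorem fix10_0 : W l10_0 (W (bj 10) (vecV a0B)) = W (bj 10) (vecV a0B) :=
  fix_of_chk (by decide +kernel)

/-- Generator `1` of the stabiliser of `d 10` (class 10B). -/
def l10_1 : List ℕ := [43, 42, 14, 16, 17, 18, 23, 39, 43, 42, 42, 37, 37, 42, 37, 42, 37, 38, 14, 16, 20, 22, 31, 0, 2, 3, 4, 5, 6, 7, 8, 9, 13, 14, 15, 16, 17, 18, 20, 21, 22, 23]

theorem fix10_1 : W l10_1 (W (bj 10) (vecV a0B)) = W (bj 10) (vecV a0B) :=
  fix_of_chk (by decide +kernel)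

/-- Generator `0` of the stabiliser of `d 11` (class 12C). -/
def l11_0 : List ℕ := [43, 43, 42, 43, 42, 37, 42, 42, 42, 43, 18, 19, 20, 23, 26, 27, 0, 1, 7, 8, 13, 18, 19, 21, 22, 23]

theorem fix11_0 : W l11_0 (W (bj 11) (vecV a0B)) = W (bj 11) (vecV a0B) :=
  fix_of_chk (by decide +kernel)

/-- Generator `1` of the stabiliser of `d 11` (class 12C). -/
def l11_1 : List ℕ := [39, 37, 36, 36, 37, 38, 42, 43, 36, 37, 37, 15, 16, 18, 20, 22, 26, 27, 29, 33, 3, 8, 10, 12, 14, 15, 18, 19, 22]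

theorem fix11_1 : W l11_1 (W (bj 11) (vecV a0B)) = W (bj 11) (vecV a0B) :=
  fix_of_chk (by decide +kernel)

end Cfsg.Agent.MonsterX.CertLj
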