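import Cfsg.Agent.MonsterX.CertCovB
import Cfsg.Agent.MonsterX.CertLj
import Cfsg.Agent.MonsterX.CertS0
import Cfsg.Agent.MonsterX.CertS1
import Cfsg.Agent.MonsterX.CertS2
import Cfsg.Agent.MonsterX.CertS3
import Cfsg.Agent.MonsterX.CertS4
import Cfsg.Agent.MonsterX.CertS5
import Cfsg.Agent.MonsterX.CertS6
import Cfsg.Agent.MonsterX.CertS7
import Cfsg.Agent.MonsterX.CertS8
import Cfsg.Agent.MonsterX.CertS9
import Cfsg.Agent.MonsterX.CertS10
import Cfsg.Agent.MonsterX.CertS11

/-!
# Coverage of the lines by the orbits of the stabilisers `L j`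

`cov` : for every `j` and every point `y` on the lanes there are `l` in the stabiliser of `d j` in `C` and a word
`uw j m` of the table such that `(uw j m) l` moves `y` to the class of the base axis.
-/

set_option autoImplicit false
set_option maxRecDepth 100000

namespace Cfsg.Agent.MonsterX.CertCovC

open Cfsg Cfsg.Agent.MonsterX.Space Cfsg.Agent.MonsterX.Conc Cfsg.Agent.MonsterX.InstData
open Cfsg.Agent.MonsterX.FrameGam Cfsg.Agent.MonsterX.FrameAct Cfsg.Agent.MonsterX.FrameConc
open Cfsg.Agent.MonsterX.CertCov Cfsg.Agent.MonsterX.CertCovB Cfsg.Agent.MonsterX.CertUTab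
open Cfsg.Agent.MonsterX.CertLj

variable {u : leechLattice → V} (U : ULink u)

/-- The statement for one class. -/
def Cov (j : ℕ) : Prop := ∀ y : Fr U.ind, OnLane U y →
  ∃ m, m < nr j ∧ (uw j m).all okC = true ∧ ∃ l ∈ Fx (W (bj j) (vecV a0B)),
    (prodF EC (uw j m) * l) • y = y₁ U

theorem cov0 : Cov U 0 := by
  rintro y ⟨i, hi, hy⟩
  have h0 := inL_word U (w := l0_0) (e := CertS0.e0) (by decide) fix0_0 (by decide +kernel)
  have h1 := inL_word U (w := l0_1) (e := CertS0.e1) (by decide) fix0_1 (by decide +kernel)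
  have h := CertS0.cover h0 h1 hi hy
  rw [CertS0.codes_eq] at h
  exact cov_of U (ws := us 0) (cs := cs 0) (by decide +kernel) (by decide) h

theorem cov1 : Cov U 1 := by
  rintro y ⟨i, hi, hy⟩
  have h0 := inL_word U (w := l1_0) (e := CertS1.e0) (by decide) fix1_0 (by decide +kernel)
  have h1 := inL_word U (w := l1_1) (e := CertS1.e1) (by decide) fix1_1 (by decide +kernel)
  have h2 := inL_word U (w := l1_2) (e := CertS1.e2) (by decide) fix1_2 (by decide +kernel)
  have h := CertS1.cover h0 h1 h2 hi hy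
  rw [CertS1.codes_eq] at h
  exact cov_of U (ws := us 1) (cs := cs 1) (by decide +kernel) (by decide) h

theorem cov2 : Cov U 2 := by
  rintro y ⟨i, hi, hy⟩
  have h0 := inL_word U (w := l2_0) (e := CertS2.e0) (by decide) fix2_0 (by decide +kernel)
  have h1 := inL_word U (w := l2_1) (e := CertS2.e1) (by decide) fix2_1 (by decide +kernel)
  have h := CertS2.cover h0 h1 hi hy
  rw [CertS2.codes_eq] at h
  exact cov_of U (ws := us 2) (cs := cs 2) (by decide +kernel) (by decide) h

theorem cov3 : Cov U 3 := by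
  rintro y ⟨i, hi, hy⟩
  have h0 := inL_word U (w := l3_0) (e := CertS3.e0) (by decide) fix3_0 (by decide +kernel)
  have h1 := inL_word U (w := l3_1) (e := CertS3.e1) (by decide) fix3_1 (by decide +kernel)
  have h2 := inL_word U (w := l3_2) (e := CertS3.e2) (by decide) fix3_2 (by decide +kernel)
  have h := CertS3.cover h0 h1 h2 hi hy
  rw [CertS3.codes_eq] at h
  exact cov_of U (ws := us 3) (cs := cs 3) (by decide +kernel) (by decide) h

theorem cov4 : Cov U 4 := by
  rintro y ⟨i, hi, hy⟩
  have h0 := inL_word U (w := l4_0) (e := CertS4.e0) (by decide) fix4_0 (by decide +kernel)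
  have h1 := inL_word U (w := l4_1) (e := CertS4.e1) (by decide) fix4_1 (by decide +kernel)
  have h2 := inL_word U (w := l4_2) (e := CertS4.e2) (by decide) fix4_2 (by decide +kernel)
  have h3 := inL_word U (w := l4_3) (e := CertS4.e3) (by decide) fix4_3 (by decide +kernel)
  have h := CertS4.cover h0 h1 h2 h3 hi hy
  rw [CertS4.codes_eq] at h
  exact cov_of U (ws := us 4) (cs := cs 4) (by decide +kernel) (by decide) h

theorem cov5 : Cov U 5 := by
  rintro y ⟨i, hi, hy⟩
  have h0 := inL_word U (w := l5_0) (e := CertS5.e0) (by decide) fix5_0 (by decide +kernel)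
  have h1 := inL_word U (w := l5_1) (e := CertS5.e1) (by decide) fix5_1 (by decide +kernel)
  have h := CertS5.cover h0 h1 hi hy
  rw [CertS5.codes_eq] at h
  exact cov_of U (ws := us 5) (cs := cs 5) (by decide +kernel) (by decide) h

theorem cov6 : Cov U 6 := by
  rintro y ⟨i, hi, hy⟩
  have h0 := inL_word U (w := l6_0) (e := CertS6.e0) (by decide) fix6_0 (by decide +kernel)
  have h1 := inL_word U (w := l6_1) (e := CertS6.e1) (by decide) fix6_1 (by decide +kernel)
  have h2 := inL_word U (w := l6_2) (e := CertS6.e2) (by decide) fix6_2 (by decide +kernel)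
  have h := CertS6.cover h0 h1 h2 hi hy
  rw [CertS6.codes_eq] at h
  exact cov_of U (ws := us 6) (cs := cs 6) (by decide +kernel) (by decide) h

theorem cov7 : Cov U 7 := by
  rintro y ⟨i, hi, hy⟩
  have h0 := inL_word U (w := l7_0) (e := CertS7.e0) (by decide) fix7_0 (by decide +kernel)
  have h1 := inL_word U (w := l7_1) (e := CertS7.e1) (by decide) fix7_1 (by decide +kernel)
  have h := CertS7.cover h0 h1 hi hy
  rw [CertS7.codes_eq] at h
  exact cov_of U (ws := us 7) (cs := cs 7) (by decide +kernel) (by decide) h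

theorem cov8 : Cov U 8 := by
  rintro y ⟨i, hi, hy⟩
  have h0 := inL_word U (w := l8_0) (e := CertS8.e0) (by decide) fix8_0 (by decide +kernel)
  have h1 := inL_word U (w := l8_1) (e := CertS8.e1) (by decide) fix8_1 (by decide +kernel)
  have h := CertS8.cover h0 h1 hi hy
  rw [CertS8.codes_eq] at h
  exact cov_of U (ws := us 8) (cs := cs 8) (by decide +kernel) (by decide) h

theorem cov9 : Cov U 9 := by
  rintro y ⟨i, hi, hy⟩
  have h0 := inL_word U (w := l9_0) (e := CertS9.e0) (by decide) fix9_0 (by decide +kernel)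
  have h1 := inL_word U (w := l9_1) (e := CertS9.e1) (by decide) fix9_1 (by decide +kernel)
  have h2 := inL_word U (w := l9_2) (e := CertS9.e2) (by decide) fix9_2 (by decide +kernel)
  have h := CertS9.cover h0 h1 h2 hi hy
  rw [CertS9.codes_eq] at h
  exact cov_of U (ws := us 9) (cs := cs 9) (by decide +kernel) (by decide) h

theorem cov10 : Cov U 10 := by
  rintro y ⟨i, hi, hy⟩
  have h0 := inL_word U (w := l10_0) (e := CertS10.e0) (by decide) fix10_0 (by decide +kernel)
  have h1 := inL_word U (w := l10_1) (e := CertS10.e1) (by decide) fix10_1 (by decide +kernel)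
  have h := CertS10.cover h0 h1 hi hy
  rw [CertS10.codes_eq] at h
  exact cov_of U (ws := us 10) (cs := cs 10) (by decide +kernel) (by decide) h

theorem cov11 : Cov U 11 := by
  rintro y ⟨i, hi, hy⟩
  have h0 := inL_word U (w := l11_0) (e := CertS11.e0) (by decide) fix11_0 (by decide +kernel)
  have h1 := inL_word U (w := l11_1) (e := CertS11.e1) (by decide) fix11_1 (by decide +kernel)
  have h := CertS11.cover h0 h1 hi hy
  rw [CertS11.codes_eq] at h
  exact cov_of U (ws := us 11) (cs := cs 11) (by decide +kernel) (by decide) h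

/-- **The coverage of the lines.** -/
theorem cov : ∀ j, j < 12 → Cov U j := by
  intro j hj
  have h : j = 0 ∨ j = 1 ∨ j = 2 ∨ j = 3 ∨ j = 4 ∨ j = 5 ∨ j = 6 ∨ j = 7 ∨ j = 8 ∨ j = 9 ∨ j = 10 ∨ j = 11 := by
    omega
  rcases h with rfl | rfl | rfl | rfl | rfl | rfl | rfl | rfl | rfl | rfl | rfl | rfl
  · exact cov0 U
  · exact cov1 U
  · exact cov2 U
  · exact cov3 U
  · exact cov4 U
  · exact cov5 U
  · exact cov6 U
  · exact cov7 U
  · exact cov8 U
  · exact cov9 U
  · exact cov10 U
  · exact cov11 U

end Cfsg.Agent.MonsterX.CertCovC
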