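import Cfsg.Agent.MonsterX.CertLenT
import Cfsg.Agent.MonsterX.CertCovB
import Cfsg.Agent.MonsterX.CertLj
import Cfsg.Agent.MonsterX.Frames.J0
import Cfsg.Agent.MonsterX.Frames.J1
import Cfsg.Agent.MonsterX.Frames.J2
import Cfsg.Agent.MonsterX.Frames.J3
import Cfsg.Agent.MonsterX.Frames.J4
import Cfsg.Agent.MonsterX.Frames.J5
import Cfsg.Agent.MonsterX.Frames.J6
import Cfsg.Agent.MonsterX.Frames.J7
import Cfsg.Agent.MonsterX.Frames.J8
import Cfsg.Agent.MonsterX.Frames.J9
import Cfsg.Agent.MonsterX.Frames.J10
import Cfsg.Agent.MonsterX.Frames.J11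

/-!
# The coverage of the frames, for the twelve classes, in the global numbering

`ClassCov U j off n` : the cover certificate of the class `j` with the words `kw (off + m)`, `m < n`, and the numbers
`pn j m k` of the `ξ`-edges.
-/

set_option autoImplicit false
set_option maxRecDepth 100000

namespace Cfsg.Agent.MonsterX.CertFr

open Cfsg Cfsg.Agent.MonsterX.Space Cfsg.Agent.MonsterX.Conc Cfsg.Agent.MonsterX.InstData Cfsg.Agent.MonsterX.Model
open Cfsg.Agent.MonsterX.FrameGam Cfsg.Agent.MonsterX.FrameAct Cfsg.Agent.MonsterX.FrameConc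
open Cfsg.Agent.MonsterX.FrameInst Cfsg.Agent.MonsterX.FrameCover Cfsg.Agent.MonsterX.CertFrame
open Cfsg.Agent.MonsterX.CertCovB Cfsg.Agent.MonsterX.CertLenT Cfsg.Agent.MonsterX.CertTab
open Cfsg.Agent.MonsterX.CertVec (nth allN allN_spec)

/-- The stabiliser of `d j` in the full linear group. -/
noncomputable def St (j : Fin 12) : Subgroup (V ≃ₗ[ℚ] V) := MulAction.stabilizer (V ≃ₗ[ℚ] V) (M.d j)

/-- Coverage of one class. -/
structure ClassCov {u : leechLattice → V} (U : ULink u) (j : Fin 12) (o n : ℕ) : Prop where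
  lt : ∀ m, m < n → o + m < 251
  cls : ∀ m, m < n → nth 0 kj (o + m) = j.1
  offs : nth 0 offT j.1 = o
  ex : ∃ tgt : Fin n → Fin 3542 → Fin n,
    Cover C (coded U.ind).y0 (nb U.ind) (St j) (M.d j) (fun m : Fin n => (prodF EC (nth [] kw (o + m.1)))⁻¹) tgt ∧
    ∀ m k : Fin n, Nat.card {i : Fin 3542 // tgt m i = k} = pn j.1 m.1 k.1

theorem Cover.congr {G V Y : Type*} [Group G] [MulAction G V] {K : Subgroup G} [MulAction K Y] {y₀ : Y} {ι : Type*}
    {nb : ι → Y} {L : Subgroup G} {b : V} {μ : Type*} {c c' : μ → K} {tgt : μ → ι → μ}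
    (h : Cover K y₀ nb L b c tgt) (hc : c' = c) : Cover K y₀ nb L b c' tgt := by
  rw [hc]; exact h

theorem rep_isK {u : leechLattice → V} (U : ULink u) (a : ℕ) (ha : a < 44) (h : FrameData.isK a = true) :
    Rep (coded U.ind) (EC a) (ltc a) := by
  refine rep_ok U ?_
  unfold FrameData.isK at h
  unfold okC
  rw [Bool.or_eq_true, Bool.or_eq_true] at h
  rw [Bool.or_eq_true, Bool.or_eq_true]
  tauto

theorem mem_St {u : leechLattice → V} (U : ULink u) {j : Fin 12} {w : List ℕ} (hw : w.all okC = true)
    (h : W w (W (bj j.1) (vecV a0B)) = W (bj j.1) (vecV a0B)) : ((prodF EC w : C) : V ≃ₗ[ℚ] V) ∈ St j := by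
  rw [prodF_coe U hw]
  exact h

/-- The check of the words and of the numbers. -/
noncomputable def tabOK (j off n : ℕ) (p : ℕ → ℕ) : Bool :=
  allN (fun m => and (and (Nat.blt (Nat.add off m) 251) (Nat.beq (nth 0 kj (Nat.add off m)) j))
    (allN (fun k => Nat.beq (Nat.mod (Nat.shiftRight (p m) (Nat.mul 12 k)) 4096) (pn j m k)) 0 n)) 0 n

theorem tab_sound {j off n : ℕ} {p : ℕ → ℕ} (h : tabOK j off n p = true) (m : ℕ) (hm : m < n) :
    (off + m < 251 ∧ nth 0 kj (off + m) = j) ∧ ∀ k, k < n → (p m >>> (12 * k)) % 4096 = pn j m k := by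
  have h1 := allN_spec h m hm
  rw [Nat.zero_add, Bool.and_eq_true, Bool.and_eq_true] at h1
  refine ⟨⟨?_, ?_⟩, fun k hk => ?_⟩
  · have := h1.1.1
    rw [Nat.blt_eq] at this
    exact this
  · have := h1.1.2
    rw [Nat.beq_eq] at this
    exact this
  · have h2 := allN_spec h1.2 k hk
    rw [Nat.zero_add, Nat.beq_eq] at h2
    exact h2

theorem mk {u : leechLattice → V} {U : ULink u} {j : Fin 12} {o n : ℕ} {p : ℕ → ℕ} (h : tabOK j.1 o n p = true)
    (ho : nth 0 offT j.1 = o) {kw' : ℕ → List ℕ} (hk : ∀ m : Fin n, kw' m.1 = nth [] kw (o + m.1))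
    {tgt : Fin n → Fin 3542 → Fin n}
    (hc : Cover C (coded U.ind).y0 (nb U.ind) (St j) (M.d j) (fun m : Fin n => (prodF EC (kw' m.1))⁻¹) tgt)
    (hp : ∀ m k : Fin n, Nat.card {i : Fin 3542 // tgt m i = k} = (p m.1 >>> (12 * k.1)) % 4096) :
    ClassCov U j o n where
  lt m hm := (tab_sound h m hm).1.1
  cls m hm := (tab_sound h m hm).1.2
  offs := ho
  ex := ⟨tgt, Cover.congr hc (funext fun m => by rw [hk]), fun m k => by rw [hp, (tab_sound h m.1 m.2).2 k.1 k.2]⟩

variable {u : leechLattice → V} (U : ULink u)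

theorem cls0 : ClassCov U (0 : Fin 12) 0 3 :=
  mk (p := Frames.J0.p) (by decide +kernel) (by decide +kernel) (kw' := FrameData.nthW Frames.J0.kw)
    (by decide +kernel)
    (Frames.J0.cover rfl (rep_isK U) (St 0) (M.d (0 : Fin 12)) (fun l hl => hl)
      (by
        intro i hi
        interval_cases i
        · exact mem_St U (w := CertLj.l0_0) (by decide) CertLj.fix0_0
        · exact mem_St U (w := CertLj.l0_1) (by decide) CertLj.fix0_1)
      (nb U.ind) code_nb)
    Frames.J0.card_tgt

theorem cls1 : ClassCov U (1 : Fin 12) 3 5 :=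
  mk (p := Frames.J1.p) (by decide +kernel) (by decide +kernel) (kw' := FrameData.nthW Frames.J1.kw)
    (by decide +kernel)
    (Frames.J1.cover rfl (rep_isK U) (St 1) (M.d (1 : Fin 12)) (fun l hl => hl)
      (by
        intro i hi
        interval_cases i
        · exact mem_St U (w := CertLj.l1_0) (by decide) CertLj.fix1_0
        · exact mem_St U (w := CertLj.l1_1) (by decide) CertLj.fix1_1
        · exact mem_St U (w := CertLj.l1_2) (by decide) CertLj.fix1_2)
      (nb U.ind) code_nb)
    Frames.J1.card_tgt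

theorem cls2 : ClassCov U (2 : Fin 12) 8 9 :=
  mk (p := Frames.J2.p) (by decide +kernel) (by decide +kernel) (kw' := FrameData.nthW Frames.J2.kw)
    (by decide +kernel)
    (Frames.J2.cover rfl (rep_isK U) (St 2) (M.d (2 : Fin 12)) (fun l hl => hl)
      (by
        intro i hi
        interval_cases i
        · exact mem_St U (w := CertLj.l2_0) (by decide) CertLj.fix2_0
        · exact mem_St U (w := CertLj.l2_1) (by decide) CertLj.fix2_1)
      (nb U.ind) code_nb)
    Frames.J2.card_tgt

theorem cls3 : ClassCov U (3 : Fin 12) 17 16 :=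
  mk (p := Frames.J3.p) (by decide +kernel) (by decide +kernel) (kw' := FrameData.nthW Frames.J3.kw)
    (by decide +kernel)
    (Frames.J3.cover rfl (rep_isK U) (St 3) (M.d (3 : Fin 12)) (fun l hl => hl)
      (by
        intro i hi
        interval_cases i
        · exact mem_St U (w := CertLj.l3_0) (by decide) CertLj.fix3_0
        · exact mem_St U (w := CertLj.l3_1) (by decide) CertLj.fix3_1
        · exact mem_St U (w := CertLj.l3_2) (by decide) CertLj.fix3_2)
      (nb U.ind) code_nb)
    Frames.J3.card_tgt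

theorem cls4 : ClassCov U (4 : Fin 12) 33 14 :=
  mk (p := Frames.J4.p) (by decide +kernel) (by decide +kernel) (kw' := FrameData.nthW Frames.J4.kw)
    (by decide +kernel)
    (Frames.J4.cover rfl (rep_isK U) (St 4) (M.d (4 : Fin 12)) (fun l hl => hl)
      (by
        intro i hi
        interval_cases i
        · exact mem_St U (w := CertLj.l4_0) (by decide) CertLj.fix4_0
        · exact mem_St U (w := CertLj.l4_1) (by decide) CertLj.fix4_1
        · exact mem_St U (w := CertLj.l4_2) (by decide) CertLj.fix4_2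
        · exact mem_St U (w := CertLj.l4_3) (by decide) CertLj.fix4_3)
      (nb U.ind) code_nb)
    Frames.J4.card_tgt

theorem cls5 : ClassCov U (5 : Fin 12) 47 10 :=
  mk (p := Frames.J5.p) (by decide +kernel) (by decide +kernel) (kw' := FrameData.nthW Frames.J5.kw)
    (by decide +kernel)
    (Frames.J5.cover rfl (rep_isK U) (St 5) (M.d (5 : Fin 12)) (fun l hl => hl)
      (by
        intro i hi
        interval_cases i
        · exact mem_St U (w := CertLj.l5_0) (by decide) CertLj.fix5_0
        · exact mem_St U (w := CertLj.l5_1) (by decide) CertLj.fix5_1)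
      (nb U.ind) code_nb)
    Frames.J5.card_tgt

theorem cls6 : ClassCov U (6 : Fin 12) 57 23 :=
  mk (p := Frames.J6.p) (by decide +kernel) (by decide +kernel) (kw' := FrameData.nthW Frames.J6.kw)
    (by decide +kernel)
    (Frames.J6.cover rfl (rep_isK U) (St 6) (M.d (6 : Fin 12)) (fun l hl => hl)
      (by
        intro i hi
        interval_cases i
        · exact mem_St U (w := CertLj.l6_0) (by decide) CertLj.fix6_0
        · exact mem_St U (w := CertLj.l6_1) (by decide) CertLj.fix6_1
        · exact mem_St U (w := CertLj.l6_2) (by decide) CertLj.fix6_2)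
      (nb U.ind) code_nb)
    Frames.J6.card_tgt

theorem cls7 : ClassCov U (7 : Fin 12) 80 8 :=
  mk (p := Frames.J7.p) (by decide +kernel) (by decide +kernel) (kw' := FrameData.nthW Frames.J7.kw)
    (by decide +kernel)
    (Frames.J7.cover rfl (rep_isK U) (St 7) (M.d (7 : Fin 12)) (fun l hl => hl)
      (by
        intro i hi
        interval_cases i
        · exact mem_St U (w := CertLj.l7_0) (by decide) CertLj.fix7_0
        · exact mem_St U (w := CertLj.l7_1) (by decide) CertLj.fix7_1)
      (nb U.ind) code_nb)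
    Frames.J7.card_tgt

theorem cls8 : ClassCov U (8 : Fin 12) 88 37 :=
  mk (p := Frames.J8.p) (by decide +kernel) (by decide +kernel) (kw' := FrameData.nthW Frames.J8.kw)
    (by decide +kernel)
    (Frames.J8.cover rfl (rep_isK U) (St 8) (M.d (8 : Fin 12)) (fun l hl => hl)
      (by
        intro i hi
        interval_cases i
        · exact mem_St U (w := CertLj.l8_0) (by decide) CertLj.fix8_0
        · exact mem_St U (w := CertLj.l8_1) (by decide) CertLj.fix8_1)
      (nb U.ind) code_nb)
    Frames.J8.card_tgt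

theorem cls9 : ClassCov U (9 : Fin 12) 125 23 :=
  mk (p := Frames.J9.p) (by decide +kernel) (by decide +kernel) (kw' := FrameData.nthW Frames.J9.kw)
    (by decide +kernel)
    (Frames.J9.cover rfl (rep_isK U) (St 9) (M.d (9 : Fin 12)) (fun l hl => hl)
      (by
        intro i hi
        interval_cases i
        · exact mem_St U (w := CertLj.l9_0) (by decide) CertLj.fix9_0
        · exact mem_St U (w := CertLj.l9_1) (by decide) CertLj.fix9_1
        · exact mem_St U (w := CertLj.l9_2) (by decide) CertLj.fix9_2)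
      (nb U.ind) code_nb)
    Frames.J9.card_tgt

theorem cls10 : ClassCov U (10 : Fin 12) 148 38 :=
  mk (p := Frames.J10.p) (by decide +kernel) (by decide +kernel) (kw' := FrameData.nthW Frames.J10.kw)
    (by decide +kernel)
    (Frames.J10.cover rfl (rep_isK U) (St 10) (M.d (10 : Fin 12)) (fun l hl => hl)
      (by
        intro i hi
        interval_cases i
        · exact mem_St U (w := CertLj.l10_0) (by decide) CertLj.fix10_0
        · exact mem_St U (w := CertLj.l10_1) (by decide) CertLj.fix10_1)
      (nb U.ind) code_nb)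
    Frames.J10.card_tgt

theorem cls11 : ClassCov U (11 : Fin 12) 186 65 :=
  mk (p := Frames.J11.p) (by decide +kernel) (by decide +kernel) (kw' := FrameData.nthW Frames.J11.kw)
    (by decide +kernel)
    (Frames.J11.cover rfl (rep_isK U) (St 11) (M.d (11 : Fin 12)) (fun l hl => hl)
      (by
        intro i hi
        interval_cases i
        · exact mem_St U (w := CertLj.l11_0) (by decide) CertLj.fix11_0
        · exact mem_St U (w := CertLj.l11_1) (by decide) CertLj.fix11_1)
      (nb U.ind) code_nb)
    Frames.J11.card_tgt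

end Cfsg.Agent.MonsterX.CertFr
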