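import Cfsg.Agent.MonsterX.CertTab

/-!
The three counts of the representatives `0`-`35` (kernel computation).
-/

set_option autoImplicit false
set_option Elab.async false
set_option maxRecDepth 100000

namespace Cfsg.Agent.MonsterX.CertInvI0

open Cfsg.Agent.MonsterX.CertVec Cfsg.Agent.MonsterX.CertTab

theorem inv_0 : allN invOK 0 3 = true := by decide +kernel

theorem inv_3 : allN invOK 3 3 = true := by decide +kernel

theorem inv_6 : allN invOK 6 3 = true := by decide +kernel

theorem inv_9 : allN invOK 9 3 = true := by decide +kernel

theorem inv_12 : allN invOK 12 3 = true := by decide +kernel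

theorem inv_15 : allN invOK 15 3 = true := by decide +kernel

theorem inv_18 : allN invOK 18 3 = true := by decide +kernel

theorem inv_21 : allN invOK 21 3 = true := by decide +kernel

theorem inv_24 : allN invOK 24 3 = true := by decide +kernel

theorem inv_27 : allN invOK 27 3 = true := by decide +kernel

theorem inv_30 : allN invOK 30 3 = true := by decide +kernel

theorem inv_33 : allN invOK 33 3 = true := by decide +kernel

end Cfsg.Agent.MonsterX.CertInvI0
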