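import Cfsg.Agent.MonsterX.ProgBase

/-!
# The central involution of `2^{1+24}.Co1` as a program: the sign change on the lanes `Y`, `Z`
-/

set_option autoImplicit false

namespace Cfsg.Agent.MonsterX.ProgZ

open Cfsg.Agent.Monster.VecEngine Cfsg.Agent.MonsterX.ProgBase

/-- The lanes from `2 ^ 17` on. -/
noncomputable def hiM : ℕ := Nat.shiftLeft (Nat.sub (Nat.shiftLeft 1 131072) 1) 131072

/-- The central involution `z`. -/
noncomputable def z : Prog := .neg hiM .nil

theorem z_check : good z = true := by decide +kernel

theorem z_good : Good z := good_sound z_check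

end Cfsg.Agent.MonsterX.ProgZ
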