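import Cfsg.Agent.MonsterX.ProgX
import Cfsg.Agent.MonsterX.ProgD
import Cfsg.Agent.MonsterX.ProgY0
import Cfsg.Agent.MonsterX.ProgY1
import Cfsg.Agent.MonsterX.ProgY2
import Cfsg.Agent.MonsterX.ProgPA
import Cfsg.Agent.MonsterX.ProgPD
import Cfsg.Agent.MonsterX.ProgPG
import Cfsg.Agent.MonsterX.ProgXi
import Cfsg.Agent.MonsterX.ProgTau
import Cfsg.Agent.MonsterX.ProgZ

/-!
# Table of the generator programs of the 196884-dimensional model

Letters: `0..11` = `x_c`, `12..23` = `x_delta`, `24..35` = `y_c`, `36` = `pa`, `37` = `pd`, `38` = `pg`, `39` = `xi`,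
`40` = `tau`, `41` = `tau⁻¹`, `42` = `pa⁻¹`, `43` = `pd⁻¹`, `44` = `pg⁻¹`,
`45` = `z`.
-/

set_option autoImplicit false

namespace Cfsg.Agent.MonsterX.ProgTable

open Cfsg.Agent.Monster.VecEngine Cfsg.Agent.MonsterX.ProgBase

/-- The programs of the letters. -/
noncomputable def gens : List Prog :=
  [ProgX.xc0,
    ProgX.xc1,
    ProgX.xc2,
    ProgX.xc3,
    ProgX.xc4,
    ProgX.xc5,
    ProgX.xc6,
    ProgX.xc7,
    ProgX.xc8,
    ProgX.xc9,
    ProgX.xc10,
    ProgX.xc11,
    ProgD.xd0,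
    ProgD.xd1,
    ProgD.xd2,
    ProgD.xd3,
    ProgD.xd4,
    ProgD.xd5,
    ProgD.xd6,
    ProgD.xd7,
    ProgD.xd8,
    ProgD.xd9,
    ProgD.xd10,
    ProgD.xd11,
    ProgY0.yc0,
    ProgY0.yc1,
    ProgY0.yc2,
    ProgY0.yc3,
    ProgY1.yc4,
    ProgY1.yc5,
    ProgY1.yc6,
    ProgY1.yc7,
    ProgY2.yc8,
    ProgY2.yc9,
    ProgY2.yc10,
    ProgY2.yc11,
    ProgPA.pa,
    ProgPD.pd,
    ProgPG.pg,
    ProgXi.xi,
    ProgTau.tau,
    ProgTau.tauInv,
    ProgPA.paInv,
    ProgPD.pdInv,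
    ProgPG.pgInv,
    ProgZ.z]

theorem gens_length : gens.length = 46 := rfl

/-- Kernel-fast access to a list of programs. -/
noncomputable def nth (l : List Prog) : ℕ → Prog :=
  List.rec (motive := fun _ => ℕ → Prog) (fun _ => .nil)
    (fun P _ ih n => Bool.rec (ih (Nat.pred n)) P (Nat.beq n 0)) l

theorem nth_mem_or (l : List Prog) (n : ℕ) : nth l n ∈ l ∨ nth l n = .nil := by
  induction l generalizing n with
  | nil => exact Or.inr rfl
  | cons P l ih =>
    have h : nth (P :: l) n = Bool.rec (nth l (Nat.pred n)) P (Nat.beq n 0) := rfl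
    rw [h]
    cases Nat.beq n 0 with
    | false =>
      rcases ih (Nat.pred n) with h | h
      · exact Or.inl (List.mem_cons_of_mem _ h)
      · exact Or.inr h
    | true => exact Or.inl (by simp)

/-- The program of a letter (`nil` for numbers which are not letters). -/
noncomputable def prog (n : ℕ) : Prog := nth gens n

theorem gens_good : ∀ P ∈ gens, Good P := by
  intro P hP
  simp only [gens, List.mem_cons, List.not_mem_nil, or_false] at hP
  rcases hP with rfl | rfl | rfl | rfl | rfl | rfl | rfl | rfl | rfl | rfl | rfl | rfl | rfl | rfl | rfl | rfl | rfl | rfl | rfl | rfl | rfl | rfl | rfl | rfl | rfl | rfl | rfl | rfl | rfl | rfl | rfl | rfl | rfl | rfl | rfl | rfl | rfl | rfl | rfl | rfl | rfl | rfl | rfl | rfl | rfl | rfl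
  · exact ProgX.xc0_good
  · exact ProgX.xc1_good
  · exact ProgX.xc2_good
  · exact ProgX.xc3_good
  · exact ProgX.xc4_good
  · exact ProgX.xc5_good
  · exact ProgX.xc6_good
  · exact ProgX.xc7_good
  · exact ProgX.xc8_good
  · exact ProgX.xc9_good
  · exact ProgX.xc10_good
  · exact ProgX.xc11_good
  · exact ProgD.xd0_good
  · exact ProgD.xd1_good
  · exact ProgD.xd2_good
  · exact ProgD.xd3_good
  · exact ProgD.xd4_good
  · exact ProgD.xd5_good
  · exact ProgD.xd6_good
  · exact ProgD.xd7_good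
  · exact ProgD.xd8_good
  · exact ProgD.xd9_good
  · exact ProgD.xd10_good
  · exact ProgD.xd11_good
  · exact ProgY0.yc0_good
  · exact ProgY0.yc1_good
  · exact ProgY0.yc2_good
  · exact ProgY0.yc3_good
  · exact ProgY1.yc4_good
  · exact ProgY1.yc5_good
  · exact ProgY1.yc6_good
  · exact ProgY1.yc7_good
  · exact ProgY2.yc8_good
  · exact ProgY2.yc9_good
  · exact ProgY2.yc10_good
  · exact ProgY2.yc11_good
  · exact ProgPA.pa_good
  · exact ProgPD.pd_good
  · exact ProgPG.pg_good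
  · exact ProgXi.xi_good
  · exact ProgTau.tau_good
  · exact ProgTau.tauInv_good
  · exact ProgPA.paInv_good
  · exact ProgPD.pdInv_good
  · exact ProgPG.pgInv_good
  · exact ProgZ.z_good

theorem nil_good : Good .nil := by
  refine ⟨rfl, ?_⟩
  show and (Nat.beq U U) (eqP (norm (msk U (.sgn 0))) (norm (msk U (.sgn 0)))) = true
  rw [Bool.and_eq_true]
  refine ⟨Nat.beq_refl U, ?_⟩
  show Nat.beq _ _ = true
  exact Nat.beq_refl _

/-- All letters are good. -/
theorem prog_good (n : ℕ) : Good (prog n) := by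
  rcases nth_mem_or gens n with h | h
  · exact gens_good _ h
  · unfold prog; rw [h]; exact nil_good

end Cfsg.Agent.MonsterX.ProgTable
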