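import Cfsg.Agent.MonsterX.CommT
import Cfsg.Agent.MonsterX.ProgTable

/-!
# All generator programs commute with the transposition of the matrix
-/

set_option autoImplicit false
set_option maxRecDepth 100000

namespace Cfsg.Agent.MonsterX.GensT

open Cfsg.Agent.Monster.VecEngine Cfsg.Agent.MonsterX.Space Cfsg.Agent.MonsterX.CommT
open Cfsg.Agent.MonsterX.ProgTable


theorem xc0_goodT : GoodT ProgX.xc0 := mono_sound ProgX.xc0_good (by decide +kernel)

theorem xc1_goodT : GoodT ProgX.xc1 := mono_sound ProgX.xc1_good (by decide +kernel)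

theorem xc2_goodT : GoodT ProgX.xc2 := mono_sound ProgX.xc2_good (by decide +kernel)

theorem xc3_goodT : GoodT ProgX.xc3 := mono_sound ProgX.xc3_good (by decide +kernel)

theorem xc4_goodT : GoodT ProgX.xc4 := mono_sound ProgX.xc4_good (by decide +kernel)

theorem xc5_goodT : GoodT ProgX.xc5 := mono_sound ProgX.xc5_good (by decide +kernel)

theorem xc6_goodT : GoodT ProgX.xc6 := mono_sound ProgX.xc6_good (by decide +kernel)

theorem xc7_goodT : GoodT ProgX.xc7 := mono_sound ProgX.xc7_good (by decide +kernel)

theorem xc8_goodT : GoodT ProgX.xc8 := mono_sound ProgX.xc8_good (by decide +kernel)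

theorem xc9_goodT : GoodT ProgX.xc9 := mono_sound ProgX.xc9_good (by decide +kernel)

theorem xc10_goodT : GoodT ProgX.xc10 := mono_sound ProgX.xc10_good (by decide +kernel)

theorem xc11_goodT : GoodT ProgX.xc11 := mono_sound ProgX.xc11_good (by decide +kernel)

theorem xd0_goodT : GoodT ProgD.xd0 := mono_sound ProgD.xd0_good (by decide +kernel)

theorem xd1_goodT : GoodT ProgD.xd1 := mono_sound ProgD.xd1_good (by decide +kernel)

theorem xd2_goodT : GoodT ProgD.xd2 := mono_sound ProgD.xd2_good (by decide +kernel)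

theorem xd3_goodT : GoodT ProgD.xd3 := mono_sound ProgD.xd3_good (by decide +kernel)

theorem xd4_goodT : GoodT ProgD.xd4 := mono_sound ProgD.xd4_good (by decide +kernel)

theorem xd5_goodT : GoodT ProgD.xd5 := mono_sound ProgD.xd5_good (by decide +kernel)

theorem xd6_goodT : GoodT ProgD.xd6 := mono_sound ProgD.xd6_good (by decide +kernel)

theorem xd7_goodT : GoodT ProgD.xd7 := mono_sound ProgD.xd7_good (by decide +kernel)

theorem xd8_goodT : GoodT ProgD.xd8 := mono_sound ProgD.xd8_good (by decide +kernel)

theorem xd9_goodT : GoodT ProgD.xd9 := mono_sound ProgD.xd9_good (by decide +kernel)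

theorem xd10_goodT : GoodT ProgD.xd10 := mono_sound ProgD.xd10_good (by decide +kernel)

theorem xd11_goodT : GoodT ProgD.xd11 := mono_sound ProgD.xd11_good (by decide +kernel)

theorem yc0_goodT : GoodT ProgY0.yc0 := mono_sound ProgY0.yc0_good (by decide +kernel)

theorem yc1_goodT : GoodT ProgY0.yc1 := mono_sound ProgY0.yc1_good (by decide +kernel)

theorem yc2_goodT : GoodT ProgY0.yc2 := mono_sound ProgY0.yc2_good (by decide +kernel)

theorem yc3_goodT : GoodT ProgY0.yc3 := mono_sound ProgY0.yc3_good (by decide +kernel)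

theorem yc4_goodT : GoodT ProgY1.yc4 := mono_sound ProgY1.yc4_good (by decide +kernel)

theorem yc5_goodT : GoodT ProgY1.yc5 := mono_sound ProgY1.yc5_good (by decide +kernel)

theorem yc6_goodT : GoodT ProgY1.yc6 := mono_sound ProgY1.yc6_good (by decide +kernel)

theorem yc7_goodT : GoodT ProgY1.yc7 := mono_sound ProgY1.yc7_good (by decide +kernel)

theorem yc8_goodT : GoodT ProgY2.yc8 := mono_sound ProgY2.yc8_good (by decide +kernel)

theorem yc9_goodT : GoodT ProgY2.yc9 := mono_sound ProgY2.yc9_good (by decide +kernel)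

theorem yc10_goodT : GoodT ProgY2.yc10 := mono_sound ProgY2.yc10_good (by decide +kernel)

theorem yc11_goodT : GoodT ProgY2.yc11 := mono_sound ProgY2.yc11_good (by decide +kernel)

theorem pa_goodT : GoodT ProgPA.pa := mono_sound ProgPA.pa_good (by decide +kernel)

theorem pd_goodT : GoodT ProgPD.pd := mono_sound ProgPD.pd_good (by decide +kernel)

theorem pg_goodT : GoodT ProgPG.pg := mono_sound ProgPG.pg_good (by decide +kernel)

theorem xi_goodT : GoodT ProgXi.xi := xi_sound ProgXi.xi_good (by decide +kernel)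

theorem tau_goodT : GoodT ProgTau.tau := tau_sound ProgTau.tau_good (by decide +kernel)

theorem tauInv_goodT : GoodT ProgTau.tauInv := tau_sound ProgTau.tauInv_good (by decide +kernel)

theorem paInv_goodT : GoodT ProgPA.paInv := mono_sound ProgPA.paInv_good (by decide +kernel)

theorem pdInv_goodT : GoodT ProgPD.pdInv := mono_sound ProgPD.pdInv_good (by decide +kernel)

theorem pgInv_goodT : GoodT ProgPG.pgInv := mono_sound ProgPG.pgInv_good (by decide +kernel)

theorem z_goodT : GoodT ProgZ.z := mono_sound ProgZ.z_good (by decide +kernel)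

theorem gens_goodT : ∀ P ∈ gens, GoodT P := by
  intro P hP
  simp only [gens, List.mem_cons, List.not_mem_nil, or_false] at hP
  rcases hP with rfl | rfl | rfl | rfl | rfl | rfl | rfl | rfl | rfl | rfl | rfl | rfl | rfl | rfl | rfl | rfl | rfl | rfl | rfl | rfl | rfl | rfl | rfl | rfl | rfl | rfl | rfl | rfl | rfl | rfl | rfl | rfl | rfl | rfl | rfl | rfl | rfl | rfl | rfl | rfl | rfl | rfl | rfl | rfl | rfl | rfl
  · exact xc0_goodT
  · exact xc1_goodT
  · exact xc2_goodT
  · exact xc3_goodT
  · exact xc4_goodT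
  · exact xc5_goodT
  · exact xc6_goodT
  · exact xc7_goodT
  · exact xc8_goodT
  · exact xc9_goodT
  · exact xc10_goodT
  · exact xc11_goodT
  · exact xd0_goodT
  · exact xd1_goodT
  · exact xd2_goodT
  · exact xd3_goodT
  · exact xd4_goodT
  · exact xd5_goodT
  · exact xd6_goodT
  · exact xd7_goodT
  · exact xd8_goodT
  · exact xd9_goodT
  · exact xd10_goodT
  · exact xd11_goodT
  · exact yc0_goodT
  · exact yc1_goodT
  · exact yc2_goodT
  · exact yc3_goodT
  · exact yc4_goodT
  · exact yc5_goodT
  · exact yc6_goodT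
  · exact yc7_goodT
  · exact yc8_goodT
  · exact yc9_goodT
  · exact yc10_goodT
  · exact yc11_goodT
  · exact pa_goodT
  · exact pd_goodT
  · exact pg_goodT
  · exact xi_goodT
  · exact tau_goodT
  · exact tauInv_goodT
  · exact paInv_goodT
  · exact pdInv_goodT
  · exact pgInv_goodT
  · exact z_goodT

theorem prog_goodT (n : ℕ) : GoodT (prog n) := by
  rcases nth_mem_or gens n with h | h
  · exact gens_goodT _ h
  · show GoodT (nth gens n)
    rw [h]; exact GoodT.nil

end Cfsg.Agent.MonsterX.GensT
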