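import Cfsg.Agent.MonsterX.CertSPl
import Cfsg.Agent.MonsterX.FrameGam
import Cfsg.Agent.MonsterX.GensT
import Cfsg.Agent.BabyM.STabTrack

/-!
# The letters permute the lanes of the 98280 lines

The permutation of the lanes given by the program of a letter of `C` acts on the codes of the lines (`CertSPl.P`)
through the matrix of the letter.
-/

set_option autoImplicit false
set_option maxRecDepth 100000

namespace Cfsg.Agent.MonsterX.CertLane

open Cfsg.Agent.Lib.PermNet Cfsg.Agent.Monster.PauliBits
open Cfsg.Agent.Monster.VecEngine hiding go go_eq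
open Cfsg.Agent.MonsterX.Lin24 Cfsg.Agent.MonsterX.FrameCover Cfsg.Agent.MonsterX.FrameGam
open Cfsg.Agent.MonsterX.CertLin Cfsg.Agent.MonsterX.CertSPl Cfsg.Agent.BabyM.STabTrack
open Cfsg.Agent.MonsterX.ProgTable

/-- Apply the permutation of a program to a list of planes. -/
noncomputable def appL (Pr : Prog) (P : List ℕ) : List ℕ :=
  List.rec (motive := fun _ => List ℕ) [] (fun p _ ih => appP Pr p :: ih) P

theorem appL_eq (Pr : Prog) (P : List ℕ) : appL Pr P = P.map (appP Pr) := by
  induction P with
  | nil => rfl
  | cons p P ih =>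
    show appP Pr p :: appL Pr P = _
    rw [ih, List.map_cons]

/-- Two lists of planes agree on the lanes of `U`. -/
noncomputable def eqOn (U : ℕ) (P : List ℕ) : List ℕ → Bool :=
  List.rec (motive := fun _ => List ℕ → Bool)
    (fun Q => List.rec (motive := fun _ => Bool) true (fun _ _ _ => false) Q)
    (fun p _ ih Q => List.rec (motive := fun _ => Bool) false
      (fun q Q _ => and (Nat.beq (Nat.land (Nat.xor p q) U) 0) (ih Q)) Q) P

theorem eqOn_sound {U : ℕ} {P Q : List ℕ} (h : eqOn U P Q = true) {i : ℕ} (hi : U.testBit i = true) :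
    lane P i = lane Q i := by
  induction P generalizing Q with
  | nil =>
    cases Q with
    | nil => rfl
    | cons q Q => exact absurd (show false = true from h) (by simp)
  | cons p P ih =>
    cases Q with
    | nil => exact absurd (show false = true from h) (by simp)
    | cons q Q =>
      have h' : and (Nat.beq (Nat.land (Nat.xor p q) U) 0) (eqOn U P Q) = true := h
      rw [Bool.and_eq_true] at h'
      have h1 : (p ^^^ q) &&& U = 0 := Nat.eq_of_beq_eq_true h'.1
      have h2 := congrArg (fun x => Nat.testBit x i) h1
      simp only [Nat.testBit_and, Nat.testBit_xor, Nat.zero_testBit, hi, Bool.and_true] at h2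
      show bit p i :: lane P i = bit q i :: lane Q i
      rw [ih h'.2]
      congr 1
      unfold bit
      revert h2
      cases p.testBit i <;> cases q.testBit i <;> simp

/-- The check of a letter. -/
noncomputable def chk (c : ℕ) (Pr : Prog) : Bool :=
  and (Nat.beq (appP Pr UX) UX)
    (go (appL Pr P) fun Q => go (mulP (rows c) Q) fun R => eqOn UX P R)

theorem lane_map {Pr : Prog} (hP : Pr.ok 262144 = true) (Q : List ℕ) (i : ℕ) :
    lane (Q.map (appP Pr)) i = lane Q (permOf Pr i) := by
  induction Q with
  | nil => rfl
  | cons q Q ih =>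
    show bit (appP Pr q) i :: lane (Q.map (appP Pr)) i = bit q (permOf Pr i) :: lane Q (permOf Pr i)
    rw [ih]
    congr 1
    unfold bit
    rw [testBit_appP hP]

theorem chk_sound {c : ℕ} {Pr : Prog} (hP : Pr.ok 262144 = true) (h : chk c Pr = true) {j : ℕ}
    (hj : UX.testBit j = true) : UX.testBit ((permOf Pr).symm j) = true ∧
      num P ((permOf Pr).symm j) = lin c (num P j) := by
  unfold chk at h
  rw [Bool.and_eq_true, go_eq, go_eq] at h
  have h1 : appP Pr UX = UX := Nat.eq_of_beq_eq_true h.1
  have h2 : UX.testBit ((permOf Pr).symm j) = true := by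
    rw [← h1, testBit_appP hP, Equiv.apply_symm_apply]
    exact hj
  refine ⟨h2, ?_⟩
  have h3 := eqOn_sound h.2 h2
  rw [lane_mulP, appL_eq, lane_map hP, Equiv.apply_symm_apply, ← bits_num P length_P,
    ← bits_num P length_P, mulV_rows] at h3
  refine bits_inj ?_ (lin_lt _ _) h3
  have := num_lt P ((permOf Pr).symm j)
  rwa [length_P] at this

theorem chk_letters : allB 16 (fun i => chk (ltc (24 + i)) (prog (24 + i))) = true := by decide +kernel

theorem prog_ok (n : ℕ) : (prog n).ok 262144 = true := (prog_good n).ok

/-- The letters `24, …, 39` of `C` permute the codes of the lines. -/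
theorem lane_letter {n : ℕ} (h1 : 24 ≤ n) (h2 : n < 40) {j : ℕ} (hj : UX.testBit j = true) :
    UX.testBit ((permOf (prog n)).symm j) = true ∧
      num P ((permOf (prog n)).symm j) = lin (ltc n) (num P j) := by
  obtain ⟨i, rfl⟩ : ∃ i, n = 24 + i := ⟨n - 24, by omega⟩
  exact chk_sound (prog_ok _) (allB_sound chk_letters i (by omega)) hj

end Cfsg.Agent.MonsterX.CertLane
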