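import Cfsg.Agent.MonsterX.CertOrbModel
import Cfsg.Agent.BabyM.CertAbs

/-!
# The lengths of the `D`-orbits from a spanning tree of balanced edges

`OrbTable` + balance for the `ξ`-edges + a spanning tree + the length of the base orbit of `C`.
-/

set_option autoImplicit false

namespace Cfsg.Agent.MonsterX.CertLen

open Cfsg.Agent.MonsterX.CertOrb Cfsg.Agent.MonsterX.CertOrbModel Cfsg.Agent.MonsterX.Model

variable {W : Type} [AddCommGroup W] [Module ℚ W]

/-- The weight of the `τ`-edges from `r` to `s`. -/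
def ta {ρ : Type*} [DecidableEq ρ] (tp tm : ρ → ρ) (r s : ρ) : ℕ :=
  (if tp r = s then 1 else 0) + (if tm r = s then 1 else 0)

/-- A spanning tree of balanced edges. -/
structure Tree {ρ κ : Type*} [DecidableEq ρ] (jof : ρ → κ) (tp tm : ρ → ρ) (P : ρ → ρ → ℕ) (len : ρ → ℕ)
    (par : ρ → ρ) (rk : ρ → ℕ) (r₀ : ρ) : Prop where
  rk_lt : ∀ r, r ≠ r₀ → rk (par r) < rk r
  edge : ∀ r, r ≠ r₀ →
    (jof r = jof (par r) ∧ P r (par r) ≠ 0 ∧ len r * P r (par r) = len (par r) * P (par r) r) ∨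
    (ta tp tm r (par r) ≠ 0 ∧ len r * ta tp tm r (par r) = len (par r) * ta tp tm (par r) r)
  pos : len r₀ ≠ 0

theorem finite_D {M : MData W} {ρ : Type*} {D D₀ : Subgroup (W ≃ₗ[ℚ] W)} {e : W ≃ₗ[ℚ] W} {v : ρ → W}
    {jof : ρ → M.J} {tp tm : ρ → ρ} (h : OrbTable M D D₀ e v jof tp tm) [Finite M.C] : Finite D :=
  Finite.of_injective (fun d : D => (⟨d, h.ref.le d.2⟩ : M.C)) fun x y e =>
    Subtype.ext (congrArg (fun z : M.C => (z : W ≃ₗ[ℚ] W)) e)

/-- **The lengths of the `D`-orbits.** -/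
theorem lengths {M : MData W} {ρ : Type*} [Fintype ρ] [DecidableEq ρ] {D D₀ : Subgroup (W ≃ₗ[ℚ] W)}
    {e : W ≃ₗ[ℚ] W} {v : ρ → W} {jof : ρ → M.J} {tp tm : ρ → ρ} (h : OrbTable M D D₀ e v jof tp tm)
    [Finite M.C] [DecidableEq M.J] {P : ρ → ρ → ℕ}
    (hP : ∀ r s, jof r = jof s → Nat.card (MulAction.orbit D (v r)) * P r s =
      Nat.card (MulAction.orbit D (v s)) * P s r)
    {len : ρ → ℕ} {par : ρ → ρ} {rk : ρ → ℕ} {r₀ : ρ} (T : Tree jof tp tm P len par rk r₀) {j₀ : M.J} {n : ℕ}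
    (hn : n ≠ 0) (hS : Nat.card (MulAction.orbit M.C (M.d j₀)) = n)
    (hlen : (∑ r, if jof r = j₀ then len r else 0) = n) :
    ∀ r, Nat.card (MulAction.orbit D (v r)) = len r := by
  have hfD : Finite D := finite_D h
  set x : ρ → ℕ := fun r => Nat.card (MulAction.orbit D (v r)) with hx
  have hτ := h.tau.balance v h.disj tp tm h.htp h.htm
  -- numbers of the edges
  have hedge : ∀ r, r ≠ r₀ → ∃ p q : ℕ, p ≠ 0 ∧ x r * p = x (par r) * q ∧ len r * p = len (par r) * q := by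
    intro r hr
    rcases T.edge r hr with ⟨h1, h2, h3⟩ | ⟨h2, h3⟩
    · exact ⟨_, _, h2, hP _ _ h1, h3⟩
    · exact ⟨_, _, h2, hτ r (par r), h3⟩
  choose! p q hpq using hedge
  have key := Cfsg.Agent.BabyM.CertAbs.prop_of_tree x len par rk r₀ p q (fun r hr => (hpq r hr).1) T.rk_lt
    (fun r hr => (hpq r hr).2.1) (fun r hr => (hpq r hr).2.2)
  have hsum : (∑ r, if jof r = j₀ then x r else 0) = n := by
    rw [← hS, h.ref.card_orbit_K h.disj j₀]
  have h1 : n * len r₀ = x r₀ * n := by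
    calc n * len r₀ = (∑ r, if jof r = j₀ then x r else 0) * len r₀ := by rw [hsum]
      _ = ∑ r, if jof r = j₀ then x r * len r₀ else 0 := by
        rw [Finset.sum_mul]
        refine Finset.sum_congr rfl fun r _ => ?_
        split_ifs <;> simp
      _ = ∑ r, if jof r = j₀ then x r₀ * len r else 0 := by
        refine Finset.sum_congr rfl fun r _ => ?_
        rw [key r]
      _ = x r₀ * ∑ r, if jof r = j₀ then len r else 0 := by
        rw [Finset.mul_sum]
        refine Finset.sum_congr rfl fun r _ => ?_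
        split_ifs <;> simp
      _ = x r₀ * n := by rw [hlen]
  have h2 : x r₀ = len r₀ := by
    have h3 : len r₀ * n = x r₀ * n := by rw [← h1, mul_comm]
    exact (Nat.eq_of_mul_eq_mul_right (Nat.pos_of_ne_zero hn) h3).symm
  intro r
  have h3 := key r
  rw [h2, mul_comm (len r₀)] at h3
  exact Nat.eq_of_mul_eq_mul_right (Nat.pos_of_ne_zero T.pos) h3

/-- The base orbit of `C`. -/
theorem card_base {M : MData W} {j₀ : M.J} (hd : M.d j₀ = M.a₀) : Nat.card (MulAction.orbit M.C (M.d j₀)) = M.S.ncard := by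
  rw [← Nat.card_coe_set_eq]
  refine Nat.card_congr (Equiv.setCongr ?_)
  ext x
  constructor
  · rintro ⟨⟨g, hg⟩, rfl⟩
    exact ⟨g, hg, by rw [← hd]; rfl⟩
  · rintro ⟨g, hg, rfl⟩
    exact ⟨⟨g, hg⟩, by rw [hd]; rfl⟩

/-- The lengths of the `C`-orbits. -/
theorem card_C {M : MData W} {ρ : Type*} [Fintype ρ] {D D₀ : Subgroup (W ≃ₗ[ℚ] W)}
    {e : W ≃ₗ[ℚ] W} {v : ρ → W} {jof : ρ → M.J} {tp tm : ρ → ρ} (h : OrbTable M D D₀ e v jof tp tm)
    [Finite M.C] [DecidableEq M.J] {len : ρ → ℕ} (hl : ∀ r, Nat.card (MulAction.orbit D (v r)) = len r) (j : M.J) :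
    Nat.card (MulAction.orbit M.C (M.d j)) = ∑ r, if jof r = j then len r else 0 := by
  rw [h.ref.card_orbit_K h.disj j]
  refine Finset.sum_congr rfl fun r _ => ?_
  rw [hl]

end Cfsg.Agent.MonsterX.CertLen
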