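import Cfsg.Agent.Monster.PauliBits
import Cfsg.Agent.MonsterX.FrameCover

/-!
# Routing certificates: bit-sliced `F₂`-linear maps with lane masks

A state is a list of planes; lane `i` of the state is the vector `lane P i = (bit p i)_{p ∈ P}`.  A step applies the
linear map with packed columns `c` (`Lin24.lin`) to the lanes of a mask; `fin` checks that every lane of `U` has ended
in the code of one of the representatives.

`route`: every lane of `U` is moved by some element of `L` to a representative.
-/

set_option autoImplicit false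

namespace Cfsg.Agent.MonsterX.CertLin

open Cfsg.Agent.Monster.PauliBits Cfsg.Agent.MonsterX.Lin24 Cfsg.Agent.MonsterX.FrameCover

/-! ### Vectors and matrices -/

/-- Scalar product of a row with a vector. -/
def dotR : List Bool → List (ZMod 2) → ZMod 2
  | [], _ => 0
  | _ :: _, [] => 0
  | b :: r, x :: v => (if b then x else 0) + dotR r v

/-- Matrix times vector. -/
def mulV (M : List (List Bool)) (v : List (ZMod 2)) : List (ZMod 2) := M.map fun r => dotR r v

/-- The vector in lane `i`. -/
def lane (P : List ℕ) (i : ℕ) : List (ZMod 2) := P.map fun p => bit p i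

/-- Exclusive or of the planes selected by the row, added to `acc`. -/
noncomputable def rowX (r : List Bool) : List ℕ → ℕ → ℕ :=
  List.rec (motive := fun _ => List ℕ → ℕ → ℕ) (fun _ acc => acc)
    (fun b _ ih P acc => List.rec (motive := fun _ => ℕ) acc
      (fun p Q _ => Bool.rec (ih Q acc) (ih Q (Nat.xor acc p)) b) P) r

theorem bit_rowX (r : List Bool) (P : List ℕ) (acc i : ℕ) :
    bit (rowX r P acc) i = bit acc i + dotR r (lane P i) := by
  induction r generalizing P acc with
  | nil => exact (add_zero _).symm
  | cons b r ih =>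
    cases P with
    | nil => exact (add_zero _).symm
    | cons p P =>
      cases b with
      | false =>
        have h : rowX (false :: r) (p :: P) acc = rowX r P acc := rfl
        rw [h, ih]
        show _ = bit acc i + ((if false = true then bit p i else 0) + dotR r (lane P i))
        simp
      | true =>
        have h : rowX (true :: r) (p :: P) acc = rowX r P (acc ^^^ p) := rfl
        rw [h, ih, bit_xor]
        show _ = bit acc i + ((if true = true then bit p i else 0) + dotR r (lane P i))
        rw [if_pos rfl, add_assoc]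

/-- Matrix times planes. -/
noncomputable def mulP (M : List (List Bool)) (P : List ℕ) : List ℕ :=
  List.rec (motive := fun _ => List ℕ) [] (fun r _ ih => rowX r P 0 :: ih) M

theorem lane_mulP (M : List (List Bool)) (P : List ℕ) (i : ℕ) : lane (mulP M P) i = mulV M (lane P i) := by
  induction M with
  | nil => rfl
  | cons r M ih =>
    show bit (rowX r P 0) i :: lane (mulP M P) i = dotR r (lane P i) :: mulV M (lane P i)
    rw [ih, bit_rowX, bit_zero, zero_add]

/-- Select: `Q` in the lanes of `m`, `P` outside. -/
noncomputable def sel (m : ℕ) (P : List ℕ) : List ℕ → List ℕ :=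
  List.rec (motive := fun _ => List ℕ → List ℕ) (fun _ => [])
    (fun p _ ih Q => List.rec (motive := fun _ => List ℕ) []
      (fun q Q' _ => Nat.xor p (Nat.land (Nat.xor p q) m) :: ih Q') Q) P

theorem bit_sel (p q m i : ℕ) :
    bit (Nat.xor p (Nat.land (Nat.xor p q) m)) i = if m.testBit i then bit q i else bit p i := by
  show bit (p ^^^ ((p ^^^ q) &&& m)) i = _
  unfold bit
  rw [Nat.testBit_xor, Nat.testBit_and, Nat.testBit_xor]
  cases p.testBit i <;> cases q.testBit i <;> cases m.testBit i <;> decide

theorem lane_sel (m : ℕ) (P Q : List ℕ) (h : P.length = Q.length) (i : ℕ) :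
    lane (sel m P Q) i = if m.testBit i then lane Q i else lane P i := by
  induction P generalizing Q with
  | nil =>
    cases Q with
    | nil => show [] = _; split_ifs <;> rfl
    | cons q Q => simp at h
  | cons p P ih =>
    cases Q with
    | nil => simp at h
    | cons q Q =>
      show bit (Nat.xor p (Nat.land (Nat.xor p q) m)) i :: lane (sel m P Q) i = _
      rw [ih Q (by simpa using h), bit_sel]
      split_ifs <;> rfl

theorem length_mulP (M : List (List Bool)) (P : List ℕ) : (mulP M P).length = M.length := by
  induction M with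
  | nil => rfl
  | cons r M ih => show (rowX r P 0 :: mulP M P).length = _; simp [ih]

theorem length_sel (m : ℕ) (P Q : List ℕ) (h : P.length = Q.length) : (sel m P Q).length = P.length := by
  induction P generalizing Q with
  | nil => rfl
  | cons p P ih =>
    cases Q with
    | nil => simp at h
    | cons q Q =>
      show (Nat.xor p (Nat.land (Nat.xor p q) m) :: sel m P Q).length = _
      simp [ih Q (by simpa using h)]

/-! ### Running -/

/-- Evaluate all planes, then return `r`. -/
noncomputable def force (P : List ℕ) (r : Bool) : Bool :=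
  List.rec (motive := fun _ => Bool) r (fun p _ ih => Bool.rec ih ih (Nat.beq p 0)) P

@[simp] theorem force_eq (P : List ℕ) (r : Bool) : force P r = r := by
  induction P with
  | nil => rfl
  | cons p P ih =>
    show (Bool.rec (force P r) (force P r) (Nat.beq p 0) : Bool) = r
    cases Nat.beq p 0 <;> exact ih

/-- Continue with the evaluated planes. -/
noncomputable def go (P : List ℕ) (k : List ℕ → Bool) : Bool := (fun z => force z (k z)) P

theorem go_eq (P : List ℕ) (k : List ℕ → Bool) : go P k = k P := by
  show force P (k P) = _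
  rw [force_eq]

/-! ### Bits of numbers -/

/-- Bit `p` of `c`. -/
noncomputable def tb (c p : ℕ) : Bool := Nat.beq (Nat.land (Nat.shiftRight c p) 1) 1

theorem tb_eq (c p : ℕ) : tb c p = c.testBit p := by
  have h : tb c p = Nat.beq ((c >>> p) &&& 1) 1 := rfl
  rw [h, Nat.testBit, Nat.land_comm 1]
  rcases Nat.and_one_is_mod (c >>> p) ▸ Nat.mod_two_eq_zero_or_one (c >>> p) with h | h <;> rw [h] <;> rfl

/-- Bits `j, …, j+n-1` of the row `k` of the matrix with packed columns `c`. -/
noncomputable def rowN (c k n : ℕ) : ℕ → List Bool :=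
  Nat.rec (motive := fun _ => ℕ → List Bool) (fun _ => [])
    (fun _ ih j => tb c (Nat.add (Nat.mul 24 j) k) :: ih (Nat.succ j)) n

theorem rowN_succ (c k n j : ℕ) : rowN c k (n + 1) j = tb c (24 * j + k) :: rowN c k n (j + 1) := rfl

/-- Rows `k, …, k+n-1`. -/
noncomputable def rowsN (c n : ℕ) : ℕ → List (List Bool) :=
  Nat.rec (motive := fun _ => ℕ → List (List Bool)) (fun _ => [])
    (fun _ ih k => rowN c k 24 0 :: ih (Nat.succ k)) n

theorem rowsN_succ (c n k : ℕ) : rowsN c (n + 1) k = rowN c k 24 0 :: rowsN c n (k + 1) := rfl

/-- The rows of the matrix with packed columns `c`. -/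
noncomputable def rows (c : ℕ) : List (List Bool) := rowsN c 24 0

/-- Bits `j, …, j+n-1` of `x`, as elements of `ZMod 2`. -/
def bitsN (x : ℕ) : ℕ → ℕ → List (ZMod 2)
  | 0, _ => []
  | n + 1, j => bit x j :: bitsN x n (j + 1)

/-- The bits of a 24-bit number. -/
def bits (x : ℕ) : List (ZMod 2) := bitsN x 24 0

theorem bit_cond (b : Bool) (x k : ℕ) : bit (cond b x 0) k = if b then bit x k else 0 := by
  cases b <;> simp

theorem bit_col (c j k : ℕ) (hk : k < 24) : bit (col c j) k = if c.testBit (24 * j + k) then 1 else 0 := by
  unfold bit col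
  rw [show (16777216 : ℕ) = 2 ^ 24 by norm_num, Nat.testBit_mod_two_pow, Nat.testBit_shiftRight]
  simp [hk]

theorem dotR_rowN (c x k : ℕ) (hk : k < 24) (n j : ℕ) :
    bit (linN c x (j + n)) k = bit (linN c x j) k + dotR (rowN c k n j) (bitsN x n j) := by
  induction n generalizing j with
  | zero => exact (add_zero _).symm
  | succ n ih =>
    have h1 : j + (n + 1) = (j + 1) + n := by omega
    rw [h1, ih (j + 1), linN_succ, bit_xor, bit_cond, bit_col c j k hk, rowN_succ]
    show _ = _ + ((if tb c (24 * j + k) = true then bit x j else 0) + dotR (rowN c k n (j + 1)) (bitsN x n (j + 1)))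
    rw [tb_eq, add_assoc]
    congr 2
    unfold bit
    cases c.testBit (24 * j + k) <;> cases x.testBit j <;> rfl

theorem mulV_cons (r : List Bool) (M : List (List Bool)) (v : List (ZMod 2)) :
    mulV (r :: M) v = dotR r v :: mulV M v := rfl

theorem bitsN_succ (x n j : ℕ) : bitsN x (n + 1) j = bit x j :: bitsN x n (j + 1) := rfl

theorem dot_row (c x k : ℕ) (hk : k < 24) : dotR (rowN c k 24 0) (bits x) = bit (lin c x) k := by
  have h := dotR_rowN c x k hk 24 0
  rw [Nat.zero_add, linN_zero, bit_zero, zero_add] at h
  exact h.symm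

theorem mulV_rowsN (c x n k : ℕ) (hk : k + n ≤ 24) :
    mulV (rowsN c n k) (bits x) = bitsN (lin c x) n k := by
  induction n generalizing k with
  | zero => rfl
  | succ n ih =>
    rw [rowsN_succ, mulV_cons, bitsN_succ, ih (k + 1) (by omega), dot_row c x k (by omega)]

theorem bits_def (x : ℕ) : bits x = bitsN x 24 0 := rfl

theorem rows_def (c : ℕ) : rows c = rowsN c 24 0 := rfl

theorem mulV_rows (c x : ℕ) : mulV (rows c) (bits x) = bits (lin c x) := by
  rw [rows_def, mulV_rowsN c x 24 0 (by norm_num), ← bits_def]

theorem length_rowsN (c n k : ℕ) : (rowsN c n k).length = n := by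
  induction n generalizing k with
  | zero => rfl
  | succ n ih => rw [rowsN_succ, List.length_cons, ih]

theorem length_rows (c : ℕ) : (rows c).length = 24 := length_rowsN c 24 0

/-- The number in lane `i`. -/
def num : List ℕ → ℕ → ℕ
  | [], _ => 0
  | p :: P, i => (p.testBit i).toNat + 2 * num P i

theorem num_lt (P : List ℕ) (i : ℕ) : num P i < 2 ^ P.length := by
  induction P with
  | nil => show 0 < 2 ^ 0; norm_num
  | cons p P ih =>
    show (p.testBit i).toNat + 2 * num P i < 2 ^ (P.length + 1)
    have : (p.testBit i).toNat ≤ 1 := Bool.toNat_le _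
    rw [pow_succ]
    omega

theorem testBit_num_zero (p : ℕ) (P : List ℕ) (i : ℕ) : (num (p :: P) i).testBit 0 = p.testBit i := by
  show ((p.testBit i).toNat + 2 * num P i).testBit 0 = _
  rw [Nat.testBit_zero]
  cases p.testBit i <;> simp [Nat.add_mod]

theorem testBit_num_succ (p : ℕ) (P : List ℕ) (i k : ℕ) :
    (num (p :: P) i).testBit (k + 1) = (num P i).testBit k := by
  show ((p.testBit i).toNat + 2 * num P i).testBit (k + 1) = _
  rw [Nat.testBit_succ]
  congr 1
  cases p.testBit i <;> simp
  omega

theorem bitsN_num (P : List ℕ) (i : ℕ) (x j : ℕ) (h : ∀ k, x.testBit (j + k) = (num P i).testBit k) :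
    bitsN x P.length j = lane P i := by
  induction P generalizing j with
  | nil => rfl
  | cons p P ih =>
    show bit x j :: bitsN x P.length (j + 1) = bit p i :: lane P i
    rw [ih (j + 1) (fun k => by
      have h1 := h (k + 1)
      rw [testBit_num_succ] at h1
      rw [← h1]
      congr 1
      omega)]
    congr 1
    have h0 := h 0
    rw [testBit_num_zero, add_zero] at h0
    unfold bit
    rw [h0]

theorem bits_num (P : List ℕ) (hP : P.length = 24) (i : ℕ) : bits (num P i) = lane P i := by
  have := bitsN_num P i (num P i) 0 (fun k => by rw [zero_add])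
  rw [hP] at this
  exact this

theorem bitsN_inj {x y : ℕ} (n j : ℕ) (h : bitsN x n j = bitsN y n j) :
    ∀ k, j ≤ k → k < j + n → x.testBit k = y.testBit k := by
  induction n generalizing j with
  | zero => intro k h1 h2; omega
  | succ n ih =>
    have h' : bit x j :: bitsN x n (j + 1) = bit y j :: bitsN y n (j + 1) := h
    injection h' with h1 h2
    intro k hk1 hk2
    by_cases hk : k = j
    · subst hk
      unfold bit at h1
      revert h1
      cases x.testBit k <;> cases y.testBit k <;> decide
    · exact ih (j + 1) h2 k (by omega) (by omega)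

theorem bits_inj {x y : ℕ} (hx : x < 2 ^ 24) (hy : y < 2 ^ 24) (h : bits x = bits y) : x = y := by
  apply Nat.eq_of_testBit_eq
  intro k
  by_cases hk : k < 24
  · exact bitsN_inj 24 0 h k (by omega) (by omega)
  · rw [Nat.testBit_lt_two_pow (lt_of_lt_of_le hx (Nat.pow_le_pow_right (by norm_num) (by omega))),
      Nat.testBit_lt_two_pow (lt_of_lt_of_le hy (Nat.pow_le_pow_right (by norm_num) (by omega)))]

/-! ### Steps -/

/-- A list of steps `(columns, mask)`. -/
inductive Steps : Type
  | nil : Steps
  | cons (c : ℕ) (m : ℕ) (s : Steps) : Steps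

/-- Run the steps. -/
noncomputable def run (s : Steps) : List ℕ → (List ℕ → Bool) → Bool :=
  Steps.rec (motive := fun _ => List ℕ → (List ℕ → Bool) → Bool) (fun P k => k P)
    (fun c m _ ih P k => go (sel m P (mulP (rows c) P)) fun Q => ih Q k) s

/-- All maps of the steps satisfy `good`. -/
def Steps.All (good : ℕ → Prop) : Steps → Prop
  | .nil => True
  | .cons c _ s => good c ∧ s.All good

/-- The numbers reachable from `x` by maps satisfying `good`. -/
inductive Reach (good : ℕ → Prop) (x : ℕ) : ℕ → Prop
  | refl : Reach good x x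
  | step {y : ℕ} (c : ℕ) (hc : good c) (h : Reach good x y) : Reach good x (lin c y)

theorem Reach.step' {good : ℕ → Prop} {x y z c : ℕ} (h : Reach good x y) (hc : good c)
    (e : Nat.beq (lin c y) z = true) : Reach good x z := by
  rw [← Nat.eq_of_beq_eq_true e]
  exact .step c hc h

theorem Reach.trans {good : ℕ → Prop} {x y z : ℕ} (h1 : Reach good x y) (h2 : Reach good y z) :
    Reach good x z := by
  induction h2 with
  | refl => exact h1
  | step c hc _ ih => exact .step c hc ih

theorem run_sound {good : ℕ → Prop} (s : Steps) (hs : s.All good) (P : List ℕ)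
    (hP : P.length = 24) (k : List ℕ → Bool) (h : run s P k = true) :
    ∃ Q : List ℕ, Q.length = 24 ∧ k Q = true ∧ ∀ i, Reach good (num P i) (num Q i) := by
  induction s generalizing P with
  | nil => exact ⟨P, hP, h, fun i => .refl⟩
  | cons c m s ih =>
    have h' : go (sel m P (mulP (rows c) P)) (fun Q => run s Q k) = true := h
    rw [go_eq] at h'
    have hl : P.length = (mulP (rows c) P).length := by rw [length_mulP, hP, length_rows]
    have hl2 : (sel m P (mulP (rows c) P)).length = 24 := by rw [length_sel _ _ _ hl, hP]
    obtain ⟨Q, hQ, hk, hr⟩ := ih hs.2 _ hl2 h'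
    refine ⟨Q, hQ, hk, fun i => Reach.trans ?_ (hr i)⟩
    have h1 := bits_num _ hl2 i
    rw [lane_sel m P _ hl, lane_mulP, ← bits_num P hP, mulV_rows] at h1
    have hlt : num (sel m P (mulP (rows c) P)) i < 2 ^ 24 := by
      have := num_lt (sel m P (mulP (rows c) P)) i
      rwa [hl2] at this
    split_ifs at h1
    · rw [bits_inj hlt (lin_lt _ _) h1]
      exact .step c hs.1 .refl
    · have h2 := num_lt P i
      rw [hP] at h2
      rw [bits_inj hlt h2 h1]
      exact .refl

/-! ### Final comparison -/

/-- Bits `j, …, j+n-1` of `x`. -/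
noncomputable def bitsB (x n : ℕ) : ℕ → List Bool :=
  Nat.rec (motive := fun _ => ℕ → List Bool) (fun _ => []) (fun _ ih j => tb x j :: ih (Nat.succ j)) n

/-- The lanes of `m` hold the code `c` (planes `P`, little endian). -/
noncomputable def isC (m : ℕ) (P : List ℕ) : List Bool → Bool :=
  List.rec (motive := fun _ => List Bool → Bool)
    (fun c => List.rec (motive := fun _ => Bool) true (fun _ _ _ => false) c)
    (fun p _ ih c => List.rec (motive := fun _ => Bool) false
      (fun b c' _ => and (Bool.rec (Nat.beq (Nat.land p m) 0) (Nat.beq (Nat.land p m) m) b) (ih c')) c) P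

/-- A code as a vector. -/
def vecB (c : List Bool) : List (ZMod 2) := c.map fun b => if b then 1 else 0

theorem vecB_bitsB (x n j : ℕ) : vecB (bitsB x n j) = bitsN x n j := by
  induction n generalizing j with
  | zero => rfl
  | succ n ih =>
    show (if tb x j = true then (1 : ZMod 2) else 0) :: vecB (bitsB x n (j + 1)) = bit x j :: bitsN x n (j + 1)
    rw [ih, tb_eq]
    rfl

theorem isC_sound {m : ℕ} {P : List ℕ} {c : List Bool} (h : isC m P c = true) {i : ℕ}
    (hi : m.testBit i = true) : lane P i = vecB c := by
  induction P generalizing c with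
  | nil =>
    cases c with
    | nil => rfl
    | cons b c => exact absurd (show false = true from h) (by simp)
  | cons p P ih =>
    cases c with
    | nil => exact absurd (show false = true from h) (by simp)
    | cons b c =>
      have h' : and (Bool.rec (Nat.beq (Nat.land p m) 0) (Nat.beq (Nat.land p m) m) b) (isC m P c) = true := h
      rw [Bool.and_eq_true] at h'
      show bit p i :: lane P i = (if b = true then (1 : ZMod 2) else 0) :: vecB c
      rw [ih h'.2]
      congr 1
      cases b with
      | false =>
        have h1 : p &&& m = 0 := Nat.eq_of_beq_eq_true h'.1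
        have h2 := congrArg (fun x => x.testBit i) h1
        simp only [Nat.testBit_and, Nat.zero_testBit, hi, Bool.and_true] at h2
        simp [bit, h2]
      | true =>
        have h1 : p &&& m = m := Nat.eq_of_beq_eq_true h'.1
        have h2 := congrArg (fun x => x.testBit i) h1
        simp only [Nat.testBit_and, hi, Bool.and_true] at h2
        simp [bit, h2]

/-- A list of representatives `(code, mask)`. -/
inductive Reps : Type
  | nil : Reps
  | cons (r : ℕ) (m : ℕ) (s : Reps) : Reps

/-- Codes of the representatives. -/
def Reps.codes : Reps → List ℕ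
  | .nil => []
  | .cons r _ s => r :: s.codes

/-- Every lane of `U` is in one of the masks and holds the corresponding code. -/
noncomputable def fin (r : Reps) : ℕ → List ℕ → Bool :=
  Reps.rec (motive := fun _ => ℕ → List ℕ → Bool) (fun U _ => Nat.beq U 0)
    (fun c m _ ih U P => and (isC m P (bitsB c 24 0)) (ih (Nat.xor U (Nat.land U m)) P)) r

theorem fin_sound {r : Reps} {U : ℕ} {P : List ℕ} (h : fin r U P = true) {i : ℕ} (hi : U.testBit i = true) :
    ∃ c ∈ r.codes, lane P i = bits c := by
  induction r generalizing U with
  | nil =>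
    have h' : U = 0 := Nat.eq_of_beq_eq_true h
    rw [h', Nat.zero_testBit] at hi
    exact absurd hi (by simp)
  | cons c m r ih =>
    have h' : and (isC m P (bitsB c 24 0)) (fin r (Nat.xor U (Nat.land U m)) P) = true := h
    rw [Bool.and_eq_true] at h'
    by_cases hm : m.testBit i = true
    · exact ⟨c, by simp [Reps.codes], by rw [isC_sound h'.1 hm, vecB_bitsB]; rfl⟩
    · have h2 : (Nat.xor U (Nat.land U m)).testBit i = true := by
        show (U ^^^ (U &&& m)).testBit i = true
        rw [Nat.testBit_xor, Nat.testBit_and, hi]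
        have : m.testBit i = false := by simpa using hm
        simp [this]
      obtain ⟨c', hc', h3⟩ := ih h'.2 h2
      exact ⟨c', by simp [Reps.codes, hc'], h3⟩

/-- The complete check. -/
noncomputable def check (s : Steps) (r : Reps) (U : ℕ) (P : List ℕ) : Bool := go P fun Q => run s Q fun R => fin r U R

theorem check_sound {good : ℕ → Prop} {s : Steps} (hs : s.All good) {r : Reps}
    (hr : ∀ c ∈ r.codes, c < 2 ^ 24) {U : ℕ} {P : List ℕ} (hP : P.length = 24) (h : check s r U P = true) {i : ℕ}
    (hi : U.testBit i = true) : ∃ c ∈ r.codes, Reach good (num P i) c := by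
  have h' : go P (fun Q => run s Q fun R => fin r U R) = true := h
  rw [go_eq] at h'
  obtain ⟨Q, hQ, hk, hrc⟩ := run_sound s hs P hP _ h'
  obtain ⟨c, hc, h1⟩ := fin_sound hk hi
  refine ⟨c, hc, ?_⟩
  have h2 := hrc i
  have h3 : num Q i < 2 ^ 24 := by
    have := num_lt Q i
    rwa [hQ] at this
  rw [← bits_num Q hQ] at h1
  rwa [bits_inj h3 (hr c hc) h1] at h2

/-! ### Group elements -/

section Group

variable {K Y : Type*} [Group K] [MulAction K Y] {S : Coded K Y} {L : Subgroup K}

theorem Reach.toL {x y : ℕ} (h : Reach (InL S L) x y) :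
    ∃ l ∈ L, ∀ p : Y, S.code p = x → S.code (l • p) = y := by
  induction h with
  | refl => exact ⟨1, L.one_mem, fun p hp => by rw [one_smul, hp]⟩
  | step c hc _ ih =>
    obtain ⟨l, hl, h1⟩ := ih
    obtain ⟨l', hl', h2⟩ := hc
    exact ⟨l' * l, L.mul_mem hl' hl, fun p hp => by rw [mul_smul, h2, h1 p hp]⟩

/-- **Routing**: every point whose code is the number in a lane of `U` is moved by an element of `L` to a point with
the code of a representative. -/
theorem route {s : Steps} (hs : s.All (InL S L)) {r : Reps} (hr : ∀ c ∈ r.codes, c < 2 ^ 24) {U : ℕ}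
    {P : List ℕ} (hP : P.length = 24) (h : check s r U P = true) {i : ℕ} (hi : U.testBit i = true) {p : Y}
    (hp : S.code p = num P i) : ∃ c ∈ r.codes, ∃ l ∈ L, S.code (l • p) = c := by
  obtain ⟨c, hc, h1⟩ := check_sound hs hr hP h hi
  obtain ⟨l, hl, h2⟩ := h1.toL
  exact ⟨c, hc, l, hl, h2 p hp⟩

end Group

end Cfsg.Agent.MonsterX.CertLin
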