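import Cfsg.Agent.MonsterX.CertOrb
import Cfsg.Agent.MonsterX.Model

/-!
# The fields `closed`, `disjoint`, `card_X`, `card_pairs` of `MOrbit` from an orbit table

`OrbTable M D D₀ e v jof tp tm` = representatives `v r` of the `D`-orbits of axes, with the `τ`-targets.
-/

set_option autoImplicit false

namespace Cfsg.Agent.MonsterX.CertOrbModel

open Cfsg.Agent.MonsterX.CertOrb Cfsg.Agent.MonsterX.Model

variable {W : Type} [AddCommGroup W] [Module ℚ W]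

/-- `D`-orbit table of the axes. -/
structure OrbTable (M : MData W) {ρ : Type*} (D D₀ : Subgroup (W ≃ₗ[ℚ] W)) (e : W ≃ₗ[ℚ] W) (v : ρ → W)
    (jof : ρ → M.J) (tp tm : ρ → ρ) : Prop where
  tau : TauData D D₀ M.τ e
  ref : Refines M.C D M.d v jof
  ne : ∀ j, ∃ r, jof r = j
  disj : ∀ r s, v r ∈ MulAction.orbit D (v s) → r = s
  htp : ∀ r, M.τ • v r ∈ MulAction.orbit D (v (tp r))
  htm : ∀ r, M.τ⁻¹ • v r ∈ MulAction.orbit D (v (tm r))

variable {M : MData W} {ρ : Type*} {D D₀ : Subgroup (W ≃ₗ[ℚ] W)} {e : W ≃ₗ[ℚ] W} {v : ρ → W}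
  {jof : ρ → M.J} {tp tm : ρ → ρ}

theorem mem_X_iff (x : W) : x ∈ M.X ↔ ∃ j, x ∈ MulAction.orbit M.C (M.d j) := by
  constructor
  · rintro ⟨j, g, hg, rfl⟩
    exact ⟨j, ⟨g, hg⟩, rfl⟩
  · rintro ⟨j, ⟨g, hg⟩, rfl⟩
    exact ⟨j, g, hg, rfl⟩

/-- Field `closed`. -/
theorem OrbTable.closed (h : OrbTable M D D₀ e v jof tp tm) :
    ∀ j, ∀ g ∈ M.C, ∃ k, ∃ g' ∈ M.C, M.τ (g (M.d j)) = g' (M.d k) := by
  intro j g hg
  obtain ⟨r, _, hr⟩ := h.ref.cov j (g (M.d j)) ⟨⟨g, hg⟩, rfl⟩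
  rcases h.tau.closed v tp tm h.htp h.htm r hr with h1 | h1
  · obtain ⟨⟨g', hg'⟩, h2⟩ := h.ref.mem_K h1
    exact ⟨_, g', hg', h2.symm⟩
  · obtain ⟨⟨g', hg'⟩, h2⟩ := h.ref.mem_K h1
    exact ⟨_, g', hg', h2.symm⟩

/-- Field `disjoint`. -/
theorem OrbTable.disjoint (h : OrbTable M D D₀ e v jof tp tm) :
    ∀ j k, ∀ g ∈ M.C, g (M.d j) = M.d k → j = k := by
  intro j k g hg hgk
  refine (h.ref.K_disj h.disj h.ne k j ⟨⟨g, hg⟩, hgk⟩).symm

theorem OrbTable.disj_orbit (h : OrbTable M D D₀ e v jof tp tm) (j k : M.J)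
    (hjk : M.d j ∈ MulAction.orbit M.C (M.d k)) : j = k := h.ref.K_disj h.disj h.ne j k hjk

theorem finite_orbit (H : Subgroup (W ≃ₗ[ℚ] W)) [Finite H] (x : W) : Finite (MulAction.orbit H x) :=
  Finite.of_surjective (fun d : H => (⟨d • x, MulAction.mem_orbit _ _⟩ : MulAction.orbit H x))
    (by rintro ⟨_, d, rfl⟩; exact ⟨d, rfl⟩)

/-- `X` as a sigma type. -/
theorem OrbTable.card_X (h : OrbTable M D D₀ e v jof tp tm) [Fintype ρ] [Finite M.C] (N : ρ → ℕ)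
    (hN : ∀ r, Nat.card (MulAction.orbit D (v r)) = N r) : M.X.ncard = ∑ r, N r := by
  classical
  have hfinD : ∀ r, Finite (MulAction.orbit D (v r)) := fun r => by
    have := finite_orbit M.C (M.d (jof r))
    exact Finite.of_injective (fun x : MulAction.orbit D (v r) => (⟨x, h.ref.mem_K x.2⟩ :
      MulAction.orbit M.C (M.d (jof r)))) (fun x y e => Subtype.ext (congrArg
        (fun z : MulAction.orbit M.C (M.d (jof r)) => (z : W)) e))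
  have hx : ∀ x : M.X, ∃ r, (x : W) ∈ MulAction.orbit D (v r) := by
    intro x
    obtain ⟨j, hj⟩ := (mem_X_iff _).1 x.2
    obtain ⟨r, _, hr⟩ := h.ref.cov j x hj
    exact ⟨r, hr⟩
  choose idx hidx using hx
  have e1 : Nat.card M.X = Nat.card (Σ r : ρ, MulAction.orbit D (v r)) := by
    refine Nat.card_congr ⟨fun x => ⟨idx x, ⟨x, hidx x⟩⟩,
      fun y => ⟨(y.2 : W), (mem_X_iff _).2 ⟨_, h.ref.mem_K y.2.2⟩⟩, ?_, ?_⟩
    · intro x
      rfl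
    · rintro ⟨r, ⟨x, hx⟩⟩
      have hi : idx ⟨x, (mem_X_iff _).2 ⟨_, h.ref.mem_K hx⟩⟩ = r :=
        h.disj _ _ (mem_orbit_self_of (hidx _) hx)
      have aux : ∀ s (h1 : x ∈ MulAction.orbit D (v s)), s = r →
          (⟨s, ⟨x, h1⟩⟩ : Σ r : ρ, MulAction.orbit D (v r)) = ⟨r, ⟨x, hx⟩⟩ := by
        rintro s h1 rfl
        rfl
      exact aux _ _ hi
  rw [← Nat.card_coe_set_eq, e1, Nat.card_sigma]
  exact Finset.sum_congr rfl fun r _ => hN r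

/-- Field `card_pairs`, from the numbers of zeros in the base orbit. -/
theorem OrbTable.card_pairs (h : OrbTable M D D₀ e v jof tp tm) [Fintype M.J] [Finite M.C]
    (hF : ∀ g ∈ M.C, ∀ x y, M.F (g x) (g y) = M.F x y)
    (A B : M.J → ℕ) (hA : ∀ j, Nat.card (MulAction.orbit M.C (M.d j)) = A j)
    (hB : ∀ j, {s | s ∈ M.S ∧ M.F s (M.d j) = 0}.ncard = B j) :
    {p : W × W | p.1 ∈ M.S ∧ p.2 ∈ M.X ∧ M.F p.1 p.2 = 0}.ncard = ∑ j, A j * B j := by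
  classical
  have hfin : ∀ j, Finite (MulAction.orbit M.C (M.d j)) := fun j => finite_orbit M.C _
  have hSfin : Finite M.S := by
    have := finite_orbit M.C M.a₀
    refine Finite.of_injective (fun x : M.S => (⟨x, ?_⟩ : MulAction.orbit M.C M.a₀)) ?_
    · obtain ⟨g, hg, hx⟩ := x.2
      exact ⟨⟨g, hg⟩, hx.symm⟩
    · intro x y e
      exact Subtype.ext (congrArg (fun z : MulAction.orbit M.C M.a₀ => (z : W)) e)
  have hSC : ∀ g ∈ M.C, ∀ s ∈ M.S, g s ∈ M.S := by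
    rintro g hg _ ⟨k, hk, rfl⟩
    exact ⟨g * k, M.C.mul_mem hg hk, rfl⟩
  have hidx : ∀ x : M.X, ∃ j, (x : W) ∈ MulAction.orbit M.C (M.d j) := fun x => (mem_X_iff _).1 x.2
  choose idx hidx using hidx
  have hidx' : ∀ (x : M.X) j, (x : W) ∈ MulAction.orbit M.C (M.d j) → idx x = j := by
    intro x j hj
    exact h.disj_orbit _ _ (mem_orbit_self_of (hidx x) hj)
  have hc : ∀ x : M.X, ∃ g : M.C, g • M.d (idx x) = (x : W) := fun x => hidx x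
  choose g hg using hc
  have hmem : ∀ j (x : MulAction.orbit M.C (M.d j)), (x : W) ∈ M.X :=
    fun j x => (mem_X_iff _).2 ⟨j, x.2⟩
  have hinv : ∀ (x : M.X) (w : W), M.F (((g x)⁻¹ : M.C) • w) (M.d (idx x)) = M.F w x := by
    intro x w
    have h2 := hF (g x : W ≃ₗ[ℚ] W) (g x).2 (((g x)⁻¹ : M.C) • w) (M.d (idx x))
    rw [← h2]
    change M.F ((g x : M.C) • ((g x)⁻¹ : M.C) • w) ((g x : M.C) • M.d (idx x)) = _
    rw [smul_inv_smul, hg x]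
  have e2 : Nat.card {p : W × W | p.1 ∈ M.S ∧ p.2 ∈ M.X ∧ M.F p.1 p.2 = 0} =
      Nat.card (Σ j, MulAction.orbit M.C (M.d j) × {s // s ∈ M.S ∧ M.F s (M.d j) = 0}) := by
    refine Nat.card_congr ((Equiv.trans (β := Σ x : M.X, {s // s ∈ M.S ∧ M.F s x = 0}) ?_
      (Equiv.trans (β := Σ x : M.X, {s // s ∈ M.S ∧ M.F s (M.d (idx x)) = 0}) ?_ ?_)))
    · exact ⟨fun p => ⟨⟨p.1.2, p.2.2.1⟩, ⟨p.1.1, p.2.1, p.2.2.2⟩⟩,
        fun q => ⟨(q.2.1, q.1.1), q.2.2.1, q.1.2, q.2.2.2⟩, fun p => rfl, fun q => rfl⟩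
    · refine Equiv.sigmaCongrRight fun x => ?_
      refine ⟨fun s => ⟨((g x)⁻¹ : M.C) • s.1, hSC _ ((g x)⁻¹ : M.C).2 _ s.2.1, ?_⟩,
        fun s => ⟨(g x : M.C) • s.1, hSC _ (g x).2 _ s.2.1, ?_⟩, ?_, ?_⟩
      · rw [hinv x]
        exact s.2.2
      · rw [← hinv x, inv_smul_smul]
        exact s.2.2
      · intro s
        simp
      · intro s
        simp
    · refine ⟨fun p => ⟨idx p.1, ⟨(p.1 : W), hidx p.1⟩, p.2⟩,
        fun q => ⟨⟨q.2.1, hmem _ _⟩, ⟨q.2.2.1, q.2.2.2.1, ?_⟩⟩, ?_, ?_⟩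
      · have := hidx' ⟨q.2.1, hmem _ _⟩ q.1 q.2.1.2
        rw [this]
        exact q.2.2.2.2
      · rintro ⟨x, s⟩
        rfl
      · rintro ⟨i, ⟨x, hx⟩, ⟨s, hs⟩⟩
        have hi := hidx' ⟨x, (mem_X_iff _).2 ⟨i, hx⟩⟩ i hx
        have aux : ∀ j (h1 : x ∈ MulAction.orbit M.C (M.d j)) (h2 : s ∈ M.S ∧ M.F s (M.d j) = 0), j = i →
            (⟨j, (⟨x, h1⟩, ⟨s, h2⟩)⟩ :
              Σ i, MulAction.orbit M.C (M.d i) × {s // s ∈ M.S ∧ M.F s (M.d i) = 0}) =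
              ⟨i, (⟨x, hx⟩, ⟨s, hs⟩)⟩ := by
          rintro j h1 h2 rfl
          rfl
        exact aux _ _ _ hi
  have : ∀ i, Finite {s // s ∈ M.S ∧ M.F s (M.d i) = 0} := fun i =>
    Finite.of_injective (fun x : {s // s ∈ M.S ∧ M.F s (M.d i) = 0} => (⟨x, x.2.1⟩ : M.S))
      (fun x y e => Subtype.ext (congrArg (fun z : M.S => (z : W)) e))
  rw [← Nat.card_coe_set_eq, e2, Nat.card_sigma]
  refine Finset.sum_congr rfl fun i _ => ?_
  rw [Nat.card_prod, hA, ← hB, ← Nat.card_coe_set_eq]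
  rfl

end Cfsg.Agent.MonsterX.CertOrbModel
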