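import Cfsg.Agent.MonsterX.CertTab

/-!
The `τ`-identities of the rows `0`-`9` (kernel computation).
-/

set_option autoImplicit false
set_option Elab.async false
set_option maxRecDepth 100000

namespace Cfsg.Agent.MonsterX.CertTauI0

open Cfsg.Agent.MonsterX.CertVec Cfsg.Agent.MonsterX.CertTab

theorem tau_0 : tauOK 0 = true := by decide +kernel

theorem tau_1 : tauOK 1 = true := by decide +kernel

theorem tau_2 : tauOK 2 = true := by decide +kernel

theorem tau_3 : tauOK 3 = true := by decide +kernel

theorem tau_4 : tauOK 4 = true := by decide +kernel

theorem tau_5 : tauOK 5 = true := by decide +kernel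

theorem tau_6 : tauOK 6 = true := by decide +kernel

theorem tau_7 : tauOK 7 = true := by decide +kernel

theorem tau_8 : tauOK 8 = true := by decide +kernel

theorem tau_9 : tauOK 9 = true := by decide +kernel

end Cfsg.Agent.MonsterX.CertTauI0
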