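import Cfsg.Agent.MonsterX.FrameStab
import Cfsg.Agent.MonsterX.CoThreeDPerm
import Cfsg.Agent.Leech.ModTwoLeech
import Cfsg.Agent.Leech.Basic

/-!
# The centraliser in `Co0` of an element of class `3D`

An element `r` of `Co0` acting on the 24 coordinates as the permutation `pi3` of cycle type `3^8`
has a centraliser of order at most `135 * 16 * 504 = 1088640`.
-/

set_option autoImplicit false
open scoped Pointwise

namespace Cfsg.Agent.MonsterX.CoThreeD

open Cfsg Cfsg.Agent.SporadicA.GolayBase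
open Cfsg.Agent.SporadicStructure.StdCross Cfsg.Agent.SporadicStructure.Co0Base
open Cfsg.Agent.SporadicA.Co0Card
open Cfsg.Agent.MonsterX.FrameStab Cfsg.Agent.MonsterX.CoThreeDPerm
open Cfsg.Agent.Leech.ModTwoLeech

/-! ### The monomial part -/

theorem e8_apply (i j : GolayPt) : ((e8 i : leechLattice) : GolayPt → ℤ) j = if j = i then 8 else 0 := by
  rw [e8_coe, Pi.single_apply]

/-- A signed permutation commuting with `r` is given by a commuting permutation and an invariant
word. -/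
theorem comm_data {r A : Co0} (hr : IsPerm r pi3) (hc : A * r = r * A) {σ : Equiv.Perm GolayPt}
    {c : Finset GolayPt}
    (hA : ∀ v : leechLattice, ((A • v : leechLattice) : GolayPt → ℤ) = signedPerm σ c v) :
    σ * pi3 = pi3 * σ ∧ ∀ p, pi3 p ∈ c ↔ p ∈ c := by
  have key : ∀ p, pi3.symm (σ.symm p) = σ.symm (pi3.symm p) ∧ (p ∈ c ↔ pi3.symm p ∈ c) := by
    intro p
    have h1 : ((A • r • e8 (pi3.symm (σ.symm p)) : leechLattice) : GolayPt → ℤ) p =
        ((r • A • e8 (pi3.symm (σ.symm p)) : leechLattice) : GolayPt → ℤ) p := by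
      rw [← mul_smul, ← mul_smul, hc]
    rw [hA, hr _ p, hA, signedPerm_apply, signedPerm_apply, hr _ (σ.symm p), e8_apply, e8_apply,
      if_pos rfl] at h1
    by_cases h2 : p ∈ c <;> by_cases h3 : pi3.symm p ∈ c <;>
      by_cases h4 : σ.symm (pi3.symm p) = pi3.symm (σ.symm p) <;>
      simp only [h2, h3, h4, if_true, if_false] at h1 <;>
      first | (exfalso; omega) | exact ⟨h4.symm, by simp only [h2, h3]⟩
  constructor
  · have h1 : σ⁻¹ * pi3⁻¹ = pi3⁻¹ * σ⁻¹ := by
      ext1 p
      exact (key p).1.symm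
    have h2 := congrArg (fun g => g⁻¹) h1
    simp only [mul_inv_rev, inv_inv] at h2
    exact h2.symm
  · intro p
    have h1 := (key (pi3 p)).2
    rw [Equiv.symm_apply_apply] at h1
    exact h1

/-- Elements of the centraliser fixing the frame. -/
theorem card_stab_le {r : Co0} (hr : IsPerm r pi3) :
    Nat.card {A : Co0 // A * r = r * A ∧ FixesFrame A} ≤ 16 * 504 := by
  classical
  have h1 : ∀ A : {A : Co0 // A * r = r * A ∧ FixesFrame A}, ∃ σ ∈ M24,
      ∃ c ∈ supports (golayCode : Set (GolayPt → ZMod 2)),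
      ∀ v : leechLattice, ((A.1 • v : leechLattice) : GolayPt → ℤ) = signedPerm σ c v := fun A =>
    exists_signedPerm A.1 ((preserves_iff _).2 A.2.2)
  choose σ hσ c hc hA using h1
  let f : {A : Co0 // A * r = r * A ∧ FixesFrame A} →
      {c : Finset GolayPt // c ∈ supports (golayCode : Set (GolayPt → ZMod 2)) ∧
        ∀ p, pi3 p ∈ c ↔ p ∈ c} ×
      {σ : Equiv.Perm GolayPt // σ ∈ M24 ∧ σ * pi3 = pi3 * σ} := fun A =>
    (⟨c A, hc A, (comm_data hr A.2.1 (hA A)).2⟩, ⟨σ A, hσ A, (comm_data hr A.2.1 (hA A)).1⟩)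
  have hf : Function.Injective f := by
    intro A B h
    have e1 : c A = c B := congrArg (fun x => x.1.1) h
    have e2 : σ A = σ B := congrArg (fun x => x.2.1) h
    apply Subtype.ext
    apply co0_ext
    intro v
    apply Subtype.ext
    rw [hA, hA, e1, e2]
  have h2 := Nat.card_le_card_of_injective f hf
  rw [Nat.card_prod] at h2
  exact h2.trans (Nat.mul_le_mul card_words_le card_perm_le)

/-! ### The fixed lattice -/

/-- The lattice of the vectors fixed by `pi3`. -/
def LF : Submodule ℤ (GolayPt → ℤ) where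
  carrier := {x | x ∈ leechLattice ∧ ∀ p, x (pi3 p) = x p}
  add_mem' := by
    rintro _ _ ⟨hx, hx'⟩ ⟨hy, hy'⟩
    exact ⟨add_mem hx hy, fun p => by rw [Pi.add_apply, Pi.add_apply, hx', hy']⟩
  zero_mem' := ⟨zero_mem _, fun p => rfl⟩
  smul_mem' := by
    rintro n _ ⟨hx, hx'⟩
    exact ⟨zsmul_mem hx n, fun p => by rw [Pi.smul_apply, Pi.smul_apply, hx']⟩

theorem mem_LF {x : GolayPt → ℤ} : x ∈ LF ↔ x ∈ leechLattice ∧ ∀ p, x (pi3 p) = x p := Iff.rfl

/-- A representative of each cycle. -/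
def REP : List ℕ := [0, 1, 4, 5, 7, 8, 11, 19]

/-- Values on the cycles. -/
def vals : LF →ₗ[ℤ] (Fin 8 → ℤ) where
  toFun x := fun k => (x : GolayPt → ℤ) (pt (REP.getD k 0))
  map_add' x y := rfl
  map_smul' n x := rfl

theorem vals_injective : Function.Injective vals := by
  rw [injective_iff_map_eq_zero]
  intro x hx
  apply Subtype.ext
  funext p
  have h : ∀ i < 24, ∃ k < 8, CY.getD (REP.getD k 0) 0 = CY.getD i 0 ∧ REP.getD k 0 < 24 := by
    decide +kernel
  obtain ⟨k, hk, h1, h2⟩ := h (idx p) (idx_lt p)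
  have h3 : cyc (pt (REP.getD k 0)) = cyc p := by
    unfold cyc; rw [idx_pt h2, h1]
  have h4 : (x : GolayPt → ℤ) (pt (REP.getD k 0)) = 0 := congrFun hx ⟨k, hk⟩
  have h5 := (mem_LF.1 x.2).2
  show (x : GolayPt → ℤ) p = 0
  rcases (cyc_eq_iff _ _).1 h3 with h6 | h6 | h6
  · rw [h6, h4]
  · rw [h6, h5, h4]
  · rw [h6, h5, h5, h4]

/-- Classes of the fixed lattice modulo twice itself. -/
abbrev QF : Type := LF ⧸ (nsmulAddMonoidHom (α := LF) 2).range

theorem card_QF_le : Nat.card QF ≤ 256 ∧ Nat.card QF ≠ 0 := by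
  have h1 : Nat.card QF = 2 ^ Module.finrank ℤ LF := Cfsg.Agent.Leech.ModTwo.card_quot
  have h2 : Module.finrank ℤ LF ≤ 8 := by
    have := LinearMap.finrank_le_finrank_of_injective vals_injective
    rwa [Module.finrank_fin_fun] at this
  rw [h1]
  constructor
  · calc 2 ^ Module.finrank ℤ LF ≤ 2 ^ 8 := Nat.pow_le_pow_right (by norm_num) h2
      _ = 256 := by norm_num
  · positivity

instance : Finite QF := Nat.finite_of_card_ne_zero card_QF_le.2

theorem sqNorm_par (x y z : GolayPt → ℤ) (h : x - y = 2 • z) :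
    sqNorm x + sqNorm y = 2 * (sqNorm z + sqNorm (z + y)) := by
  have hx : x = y + 2 • z := by rw [← h]; abel
  rw [hx]
  simp only [sqNorm, Pi.add_apply, Pi.smul_apply, ← Finset.sum_add_distrib, Finset.mul_sum]
  apply Finset.sum_congr rfl
  intro i _
  rw [nsmul_eq_mul]
  push_cast
  ring

theorem sqNorm_congr {x y z : GolayPt → ℤ} (hy : y ∈ leechLattice) (hz : z ∈ leechLattice)
    (h : x - y = 2 • z) (hn : sqNorm x + sqNorm y < 128) : x = y ∨ x = -y := by
  have h1 := sqNorm_par x y z h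
  by_cases h2 : z = 0
  · left
    rw [h2, smul_zero] at h
    exact sub_eq_zero.1 h
  by_cases h3 : z + y = 0
  · right
    have h4 : x + y = 2 • (z + y) := by
      rw [smul_add, ← h, two_smul]; abel
    rw [h3, smul_zero] at h4
    exact eq_neg_of_add_eq_zero_left h4
  have e1 := Cfsg.Agent.Leech.Basic.le_sqNorm hz h2
  have e2 := Cfsg.Agent.Leech.Basic.le_sqNorm (add_mem hz hy) h3
  omega

theorem sqNorm_neg' (x : GolayPt → ℤ) : sqNorm (-x) = sqNorm x := by
  simp only [sqNorm, Pi.neg_apply, neg_sq]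

/-! ### The fixed vectors of norm 48 -/

/-- The `k`-th digit in base 8, shifted by 3. -/
def dg (a k : ℕ) : ℤ := ((a / 8 ^ k % 8 : ℕ) : ℤ) - 3

/-- The vector with the value `dg a k` on the `k`-th cycle. -/
def x3 (a : ℕ) : GolayPt → ℤ := fun p => dg a (cyc p)

/-- The fixed vectors of norm 48, up to sign. -/
def A3 : List ℕ :=
  [10802907, 3462875, 2545371, 11982555, 7705435, 11318107, 3060571, 6673243, 6658907, 2931547, 11451227, 7723867, 7247467, 10860139, 3520107, 7132779, 11375339, 7647979, 6730475, 3003115, 2988779, 6601451, 7781099, 11393771, 7116651, 2471787, 11908971, 7264107, 9053316, 5325956, 4794628, 9586948, 5383188, 8995860, 9511060, 4866196, 4851860, 8464532, 1124500, 9644180, 4737172, 13256852, 5916820, 9529492, 8979732, 5252372, 4334868, 13772052, 607508, 10044692, 9127188, 5399828, 5385492, 8998164, 9513364, 4868500, 4794404, 9586724, 5309604, 8922276, 664740, 10101924, 4277412, 13714596, 5457060, 9069732, 9055396, 5328036, 4792612, 9584932, 9570596,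 13183268, 5843236, 4925732, 9455908, 8538404, 1198372, 4811044, 9053604, 5326244, 9513140, 4868276, 5383476, 8996148, 7191117, 7706317, 11318989, 3061453, 6674125, 7189325, 11376221, 7648861, 6731357, 3003997, 7246557, 10859229, 3519197, 7131869, 7117533, 2472669, 11909853, 7264989, 2987869, 6600541, 7780189, 11392861, 7189101, 6657773, 2930413, 11450093, 7722733, 7191405, 4793494, 9585814, 9054486, 5327126, 5384358, 8997030, 9512230, 4867366]

theorem A3_length : A3.length = 120 := rfl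

theorem W16_code : ∀ w ∈ W16, isCode w = true := by decide +kernel

/-- The conditions of membership. -/
def chk (a : ℕ) (m : ℤ) (w : ℕ) : Bool :=
  ((List.range 24).all fun i => dg a (CY.getD i 0) % 2 == m) &&
  (∑ i ∈ Finset.range 24, dg a (CY.getD i 0)) % 8 == (4 * m) % 8 &&
  ((List.range 24).all fun i => w.testBit i == (dg a (CY.getD i 0) % 4 == m)) &&
  (∑ i ∈ Finset.range 24, dg a (CY.getD i 0) ^ 2) == 48

theorem A3_check : A3.all (fun a => W16.any fun w => chk a 0 w || chk a 1 w) = true := by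
  decide +kernel

theorem sum_x3 (a : ℕ) : ∑ p, x3 a p = ∑ i ∈ Finset.range 24, dg a (CY.getD i 0) := by
  rw [sum_pt]
  apply Finset.sum_congr rfl
  intro i hi
  unfold x3 cyc
  rw [idx_pt (Finset.mem_range.1 hi)]

theorem sqNorm_x3 (a : ℕ) :
    sqNorm (x3 a) = ∑ i ∈ Finset.range 24, dg a (CY.getD i 0) ^ 2 := by
  rw [sqNorm, sum_pt]
  apply Finset.sum_congr rfl
  intro i hi
  unfold x3 cyc
  rw [idx_pt (Finset.mem_range.1 hi)]

theorem chk_spec {a : ℕ} {m : ℤ} {w : ℕ} (hm : m = 0 ∨ m = 1) (hw : isCode w = true)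
    (h : chk a m w = true) : x3 a ∈ leechLattice ∧ sqNorm (x3 a) = 48 := by
  unfold chk at h
  rw [Bool.and_eq_true, Bool.and_eq_true, Bool.and_eq_true, List.all_eq_true, List.all_eq_true,
    beq_iff_eq, beq_iff_eq] at h
  obtain ⟨⟨⟨h1, h2⟩, h3⟩, h4⟩ := h
  have g1 : ∀ p : GolayPt, x3 a p % 2 = m := fun p => by
    have := h1 (idx p) (List.mem_range.2 (idx_lt p))
    exact beq_iff_eq.1 this
  have g3 : ∀ p : GolayPt, w.testBit (idx p) = true ↔ x3 a p % 4 = m := fun p => by
    have := h3 (idx p) (List.mem_range.2 (idx_lt p))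
    rw [beq_iff_eq] at this
    rw [this, beq_iff_eq]
    rfl
  refine ⟨?_, by rw [sqNorm_x3, h4]⟩
  have hL : Cfsg.Agent.Leech.Basic.IsLeech m (x3 a) := by
    apply Cfsg.Agent.Leech.Basic.isLeech_of_cls
    · intro p
      have := g1 p
      unfold Int.ModEq
      rcases hm with rfl | rfl <;> omega
    · rw [sum_x3]
      exact h2
    · have : Cfsg.Agent.Leech.Basic.cls (x3 a) m = fin w := by
        ext p
        rw [Cfsg.Agent.Leech.Basic.mem_cls, mem_fin, g3]
        unfold Int.ModEq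
        rcases hm with rfl | rfl <;> omega
      rw [this]
      exact (fin_mem_supports_iff (isCode_lt hw)).2 hw
  exact hL.mem

theorem A3_spec {a : ℕ} (ha : a ∈ A3) : x3 a ∈ LF ∧ sqNorm (x3 a) = 48 := by
  have h1 := A3_check
  rw [List.all_eq_true] at h1
  have h2 := h1 a ha
  rw [List.any_eq_true] at h2
  obtain ⟨w, hw, h3⟩ := h2
  have h4 : x3 a ∈ leechLattice ∧ sqNorm (x3 a) = 48 := by
    rw [Bool.or_eq_true] at h3
    rcases h3 with h3 | h3
    · exact chk_spec (Or.inl rfl) (W16_code w hw) h3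
    · exact chk_spec (Or.inr rfl) (W16_code w hw) h3
  refine ⟨⟨h4.1, fun p => ?_⟩, h4.2⟩
  unfold x3
  rw [cyc_pi3]

theorem A3_pair : A3.Pairwise fun a b =>
    (∃ k < 8, dg a k ≠ dg b k) ∧ (∃ k < 8, dg a k ≠ -dg b k) := by
  decide +kernel

theorem x3_rep (a : ℕ) (k : ℕ) (hk : k < 8) : x3 a (pt (REP.getD k 0)) = dg a k := by
  have h : ∀ k < 8, REP.getD k 0 < 24 ∧ CY.getD (REP.getD k 0) 0 = k := by decide +kernel
  unfold x3 cyc
  rw [idx_pt (h k hk).1, (h k hk).2]

theorem x3_ne {a b : ℕ} (h : (∃ k < 8, dg a k ≠ dg b k) ∧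
    (∃ k < 8, dg a k ≠ -dg b k)) : x3 a ≠ x3 b ∧ x3 a ≠ -x3 b := by
  constructor
  · intro h1
    obtain ⟨k, hk, h2⟩ := h.1
    apply h2
    rw [← x3_rep a k hk, ← x3_rep b k hk, h1]
  · intro h1
    obtain ⟨k, hk, h2⟩ := h.2
    apply h2
    rw [← x3_rep a k hk, ← x3_rep b k hk, h1]
    rfl

/-- The fixed vectors of norm 48. -/
def v3 (i : Fin 120) : LF := ⟨x3 (A3.get (i.cast A3_length.symm)), (A3_spec (List.get_mem _ _)).1⟩

theorem sqNorm_v3 (i : Fin 120) : sqNorm ((v3 i : LF) : GolayPt → ℤ) = 48 :=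
  (A3_spec (List.get_mem _ _)).2

theorem v3_ne {i j : Fin 120} (h : i ≠ j) : ((v3 i : LF) : GolayPt → ℤ) ≠ v3 j ∧
    ((v3 i : LF) : GolayPt → ℤ) ≠ -(v3 j : GolayPt → ℤ) := by
  have key : ∀ i j : Fin 120, i < j → ((v3 i : LF) : GolayPt → ℤ) ≠ v3 j ∧
      ((v3 i : LF) : GolayPt → ℤ) ≠ -(v3 j : GolayPt → ℤ) := fun i j hij =>
    x3_ne ((List.pairwise_iff_get.1 A3_pair) _ _ hij)
  rcases lt_or_gt_of_ne h with h1 | h1
  · exact key i j h1
  · have h2 := key j i h1
    refine ⟨fun h3 => h2.1 h3.symm, fun h3 => h2.2 ?_⟩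
    rw [h3, neg_neg]

/-- Classes of short vectors. -/
noncomputable def cl (o : Option (Fin 120)) : QF :=
  match o with
  | none => 0
  | some i => QuotientAddGroup.mk (v3 i)

/-- The vector of a class. -/
def rp (o : Option (Fin 120)) : LF :=
  match o with
  | none => 0
  | some i => v3 i

theorem cl_eq (o : Option (Fin 120)) : cl o = QuotientAddGroup.mk (rp o) := by
  cases o <;> rfl

theorem sqNorm_zero' : sqNorm (0 : GolayPt → ℤ) = 0 := by
  simp [sqNorm]

theorem sqNorm_rp (o : Option (Fin 120)) : sqNorm ((rp o : LF) : GolayPt → ℤ) ≤ 48 := by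
  cases o with
  | none =>
    show sqNorm (0 : GolayPt → ℤ) ≤ 48
    rw [sqNorm_zero']; norm_num
  | some i => exact (sqNorm_v3 i).le

theorem rp_inj {o o' : Option (Fin 120)} (h : ((rp o : LF) : GolayPt → ℤ) = rp o' ∨
    ((rp o : LF) : GolayPt → ℤ) = -(rp o' : GolayPt → ℤ)) : o = o' := by
  have h0 : ∀ i : Fin 120, ¬ (0 : GolayPt → ℤ) = ((v3 i : LF) : GolayPt → ℤ) ∧
      ¬ (0 : GolayPt → ℤ) = -((v3 i : LF) : GolayPt → ℤ) := by
    intro i
    constructor
    · intro h1
      have h2 := sqNorm_v3 i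
      rw [← h1, sqNorm_zero'] at h2
      norm_num at h2
    · intro h1
      have h2 := sqNorm_v3 i
      rw [← sqNorm_neg', ← h1, sqNorm_zero'] at h2
      norm_num at h2
  cases o with
  | none =>
    cases o' with
    | none => rfl
    | some j =>
      exfalso
      rcases h with h | h
      · exact (h0 j).1 h
      · exact (h0 j).2 h
  | some i =>
    cases o' with
    | none =>
      exfalso
      rcases h with h | h
      · exact (h0 i).1 h.symm
      · apply (h0 i).1
        have h1 : ((v3 i : LF) : GolayPt → ℤ) = -(0 : GolayPt → ℤ) := h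
        rw [h1, neg_zero]
    | some j =>
      by_contra hne
      have h1 : i ≠ j := fun h' => hne (congrArg some h')
      rcases h with h | h
      · exact (v3_ne h1).1 h
      · exact (v3_ne h1).2 h

theorem mk_eq {x y : LF} (h : (QuotientAddGroup.mk x : QF) = QuotientAddGroup.mk y) :
    ∃ z : GolayPt → ℤ, z ∈ leechLattice ∧ (x : GolayPt → ℤ) - y = 2 • z := by
  obtain ⟨z, hz⟩ := Cfsg.Agent.Leech.ModTwo.mk_eq_iff.1 h
  exact ⟨z, z.2.1, congrArg Subtype.val hz⟩

theorem cl_injective : Function.Injective cl := by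
  intro o o' h
  rw [cl_eq, cl_eq] at h
  obtain ⟨z, hz, h1⟩ := mk_eq h
  have e1 := sqNorm_rp o
  have e2 := sqNorm_rp o'
  exact rp_inj (sqNorm_congr (rp o').2.1 hz h1 (by linarith))

/-! ### The fixed vectors of the frames -/

/-- The sum over the orbit of a vector. -/
def tr (r : Co0) (hr : IsPerm r pi3) (v : leechLattice) : LF :=
  ⟨((v + r • v + r • r • v : leechLattice) : GolayPt → ℤ), (v + r • v + r • r • v : leechLattice).2, by
    intro p
    have h : ∀ q, ((v + r • v + r • r • v : leechLattice) : GolayPt → ℤ) q =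
        (v : GolayPt → ℤ) q + (v : GolayPt → ℤ) (pi3.symm q) +
          (v : GolayPt → ℤ) (pi3.symm (pi3.symm q)) := by
      intro q
      rw [AddSubgroup.coe_add, AddSubgroup.coe_add, Pi.add_apply, Pi.add_apply, hr v q,
        hr (r • v) q, hr v]
    have h3 : pi3 p = pi3.symm (pi3.symm p) := by
      rw [Equiv.eq_symm_apply, Equiv.eq_symm_apply]
      exact pi3_cube p
    rw [h, h, Equiv.symm_apply_apply]
    rw [← h3]
    ring⟩

theorem tr_congr {r : Co0} (hr : IsPerm r pi3) {v : leechLattice}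
    (hv : ∃ w : leechLattice, v - r • v = 2 • w) :
    ∃ w : leechLattice, ((tr r hr v : LF) : GolayPt → ℤ) - (v : GolayPt → ℤ) =
      2 • (w : GolayPt → ℤ) := by
  obtain ⟨w, hw⟩ := hv
  have h1 : r • v = v - 2 • w := by rw [← hw]; abel
  have h2 : r • r • v = v - 2 • w - 2 • (r • w) := by
    have h3 : r • (v - 2 • w) = r • v - 2 • (r • w) := by
      rw [co0_smul_sub]
      congr 1
      exact map_nsmul (co0AddHom r) 2 w
    rw [h1, h3, h1]
  refine ⟨v - 2 • w - r • w, ?_⟩
  have h4 : v + r • v + r • r • v - v = 2 • (v - 2 • w - r • w) := by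
    rw [h2, h1]
    simp only [two_smul]
    abel
  have h5 := congrArg (fun u : leechLattice => (u : GolayPt → ℤ)) h4
  exact h5

theorem v0_congr {r : Co0} (hr : IsPerm r pi3) {A : Co0} (hA : A * r = r * A) :
    ∃ w : leechLattice, A • v0 - r • A • v0 = 2 • w := by
  obtain ⟨w, hw⟩ := fixesFrame_of_preserves (preserves_of_perm hr)
  refine ⟨A • w, ?_⟩
  rw [← mul_smul, ← hA, mul_smul, ← co0_smul_sub, hw]
  exact map_nsmul (co0AddHom A) 2 w

/-- The class of the fixed vector attached to the frame of `A • v0`. -/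
noncomputable def F {r : Co0} (hr : IsPerm r pi3) (A : {A : Co0 // A * r = r * A}) : QF :=
  QuotientAddGroup.mk (tr r hr (A.1 • v0))

theorem F_ne_cl {r : Co0} (hr : IsPerm r pi3) (A : {A : Co0 // A * r = r * A})
    (o : Option (Fin 120)) : F hr A ≠ cl o := by
  intro h
  rw [cl_eq] at h
  obtain ⟨z, hz, h1⟩ := mk_eq h
  obtain ⟨w, hw⟩ := tr_congr hr (v0_congr hr A.2)
  have h2 : ((A.1 • v0 : leechLattice) : GolayPt → ℤ) - (rp o : GolayPt → ℤ) =
      2 • (z - (w : GolayPt → ℤ)) := by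
    rw [smul_sub, ← h1, ← hw]; abel
  have h3 : sqNorm ((A.1 • v0 : leechLattice) : GolayPt → ℤ) = 64 := by
    rw [co0_sqNorm]; exact sqNorm_v0
  have h4 := sqNorm_rp o
  rcases sqNorm_congr (rp o).2.1 (sub_mem hz w.2) h2 (by linarith) with h5 | h5
  · rw [h5] at h3; linarith
  · rw [h5, sqNorm_neg'] at h3; linarith

theorem fibre {r : Co0} (hr : IsPerm r pi3) (A B : {A : Co0 // A * r = r * A})
    (h : F hr A = F hr B) : FixesFrame (A.1⁻¹ * B.1) := by
  obtain ⟨z, hz, h1⟩ := mk_eq h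
  obtain ⟨w, hw⟩ := tr_congr hr (v0_congr hr A.2)
  obtain ⟨w', hw'⟩ := tr_congr hr (v0_congr hr B.2)
  have h2 : A.1 • v0 - B.1 • v0 = 2 • (⟨z, hz⟩ - w + w' : leechLattice) := by
    apply Subtype.ext
    show ((A.1 • v0 : leechLattice) : GolayPt → ℤ) - ((B.1 • v0 : leechLattice) : GolayPt → ℤ) =
      2 • (z - (w : GolayPt → ℤ) + (w' : GolayPt → ℤ))
    rw [smul_add, smul_sub, ← h1, ← hw, ← hw']
    abel
  refine ⟨A.1⁻¹ • (⟨z, hz⟩ - w + w' : leechLattice), ?_⟩
  have h3 := congrArg (fun u => A.1⁻¹ • u) h2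
  simp only [co0_smul_sub] at h3
  rw [inv_smul_smul] at h3
  rw [mul_smul, h3]
  exact map_nsmul (co0AddHom A.1⁻¹) 2 _

/-- **The centraliser of an element of class `3D` of `Co0`.** -/
theorem card_le [Finite Co0] {r : Co0} (hr : IsPerm r pi3) :
    Nat.card {A : Co0 // A * r = r * A} ≤ 1088640 := by
  classical
  have := Fintype.ofFinite {A : Co0 // A * r = r * A}
  have := Fintype.ofFinite QF
  have e1 : Fintype.card {A : Co0 // A * r = r * A} ≤
      8064 * (Finset.univ.image (F hr)).card := by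
    rw [← Finset.card_univ]
    apply Finset.card_le_mul_card_image
    intro q hq
    obtain ⟨A, _, rfl⟩ := Finset.mem_image.1 hq
    refine le_trans ?_ (card_stab_le hr)
    have hfin : Finite {A : Co0 // A * r = r * A ∧ FixesFrame A} := inferInstance
    have := Fintype.ofFinite {A : Co0 // A * r = r * A ∧ FixesFrame A}
    rw [Nat.card_eq_fintype_card, ← Finset.card_univ]
    refine Finset.card_le_card_of_injOn
      (fun B => if h : (A.1⁻¹ * B.1) * r = r * (A.1⁻¹ * B.1) ∧ FixesFrame (A.1⁻¹ * B.1) then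
        ⟨A.1⁻¹ * B.1, h⟩ else ⟨1, by rw [one_mul, mul_one], fixesFrame_one⟩)
      (fun _ _ => Finset.mem_coe.2 (Finset.mem_univ _)) ?_
    have key : ∀ B ∈ (Finset.univ.filter fun B => F hr B = F hr A),
        (A.1⁻¹ * B.1) * r = r * (A.1⁻¹ * B.1) ∧ FixesFrame (A.1⁻¹ * B.1) := by
      intro B hB
      refine ⟨?_, fibre hr A B (Finset.mem_filter.1 hB).2.symm⟩
      have hA : A.1⁻¹ * r = r * A.1⁻¹ := by
        rw [inv_mul_eq_iff_eq_mul, ← mul_assoc, A.2, mul_assoc, mul_inv_cancel, mul_one]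
      rw [mul_assoc, B.2, ← mul_assoc, hA, mul_assoc]
    intro B hB B' hB' h
    have k1 := key B hB
    have k2 := key B' hB'
    simp only [dif_pos k1, dif_pos k2] at h
    exact Subtype.ext (mul_left_cancel (congrArg Subtype.val h))
  have e2 : (Finset.univ.image (F hr)).card + 121 ≤ 256 := by
    have h1 : Disjoint (Finset.univ.image (F hr)) (Finset.univ.image cl) := by
      rw [Finset.disjoint_left]
      intro q h1 h2
      obtain ⟨A, _, rfl⟩ := Finset.mem_image.1 h1
      obtain ⟨o, _, ho⟩ := Finset.mem_image.1 h2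
      exact F_ne_cl hr A o ho.symm
    have h2 : (Finset.univ.image cl).card = 121 := by
      rw [Finset.card_image_of_injective _ cl_injective, Finset.card_univ, Fintype.card_option,
        Fintype.card_fin]
    rw [← h2, ← Finset.card_union_of_disjoint h1]
    refine (Finset.card_le_univ _).trans ?_
    rw [← Nat.card_eq_fintype_card]
    exact card_QF_le.1
  rw [Nat.card_eq_fintype_card]
  refine e1.trans ?_
  omega

end Cfsg.Agent.MonsterX.CoThreeD
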