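import Cfsg.Agent.MonsterX.TraceHi

/-!
# The field `not_conj` of `MTrans` for the concrete model
-/

set_option autoImplicit false

namespace Cfsg.Agent.MonsterX.FieldsT3

open Cfsg.Agent.Monster.VecEngine Cfsg.Agent.Monster.VecSpace Cfsg.Agent.MonsterX.Space
open Cfsg.Agent.MonsterX.ProgTable Cfsg.Agent.MonsterX.ProgBase
open Cfsg.Agent.MonsterX.Conc Cfsg.Agent.MonsterX.Model Cfsg.Agent.MonsterX.InstData Cfsg.Agent.MonsterX.InstEval
open Cfsg.Agent.MonsterX.TraceHi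

/-- The word of the involution of `d j₁`. -/
def wt : List ℕ := [24, 25, 26, 27, 28, 31, 34, 13, 14, 17, 18, 19, 22]

theorem chi_wt : chi (W wt) = 4096 := by
  rw [chi_W (w := wt) (a := 25600) (b := 23552) (by norm_num) (by norm_num) (by decide +kernel) (by decide +kernel)]
  norm_num

theorem wt_mem : W wt ∈ C := W_mem fun n hn => E_mem_C (by
  have : ∀ n ∈ wt, n < 40 := by decide
  exact this n hn)

/-- field `not_conj` of `MTrans` -/
theorem not_conj (hz : ∀ g ∈ C, g * z = z * g) (hz2 : z * z = 1) (hg : W (bj 1) ∈ M.G)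
    (hrel : W (bj 1) * t₀ * (W (bj 1))⁻¹ = W wt) : ∃ g ∈ M.G, g M.a₀ = M.d M.j₁ ∧
    ∀ h ∈ M.C, h * (g * M.t₀ * g⁻¹) * h⁻¹ ≠ M.z * (g * M.t₀ * g⁻¹) := by
  refine ⟨W (bj 1), hg, (M_d' (1 : Fin 12)).symm, fun h hh e => ?_⟩
  change h * (W (bj 1) * t₀ * (W (bj 1))⁻¹) * h⁻¹ = z * (W (bj 1) * t₀ * (W (bj 1))⁻¹) at e
  rw [hrel] at e
  have h1 := congrArg chi e
  rw [chi_conj (hz h hh), chi_z (hz _ wt_mem) hz2, chi_wt] at h1
  norm_num at h1

end Cfsg.Agent.MonsterX.FieldsT3
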