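import Cfsg.Agent.MonsterX.InstEval
import Cfsg.Agent.MonsterX.ConcGrp

/-!
# Fields `τ_cube`, `τ_z`, `τ_z_ne`, `τ_q`, `τ_inv` of `MOrbit` and `fixed` of `MExtra` for the concrete model

All unconditional.
-/

set_option autoImplicit false
set_option maxRecDepth 100000

namespace Cfsg.Agent.MonsterX.FieldsTau

open Cfsg.Agent.Monster.VecEngine Cfsg.Agent.Monster.VecSpace Cfsg.Agent.MonsterX.Space
open Cfsg.Agent.MonsterX.ProgTable Cfsg.Agent.MonsterX.GensT Cfsg.Agent.MonsterX.ProgBase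
open Cfsg.Agent.MonsterX.Conc Cfsg.Agent.MonsterX.Model Cfsg.Agent.MonsterX.InstData
open Cfsg.Agent.MonsterX.InstEval

/-- field `τ_cube` of `MOrbit` -/
theorem τ_cube : M.τ * M.τ * M.τ = 1 := ConcGrp.τ_cube

theorem w_z : W [0, 24] = W [45] := ConcMono.W_eq_of_same (by decide +kernel)

theorem z_eq : z = E 24 * E 0 := by
  have h := w_z
  rw [W_cons, W_single, W_single] at h
  exact h.symm

theorem conj_z : τ * z * τ⁻¹ = E 0 := by
  have h : τ * z * τ⁻¹ = (τ * E 24 * τ⁻¹) * (τ * E 0 * τ⁻¹) := by rw [z_eq]; group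
  rw [h, ConcGrp.tau_y0, ConcGrp.tau_x0, mul_assoc, ConcMono.sq_letter (by norm_num), mul_one]

/-- field `τ_z` of `MOrbit` -/
theorem τ_z : M.τ * M.z * M.τ⁻¹ ∈ M.Q := by
  rw [M_τ, M_z, M_Q, conj_z]
  exact E_mem_Q (by norm_num)

theorem E0_ne_z : E 0 ≠ z := by
  intro h
  have h1 : W [0, 12] = W [12, 0, 45] := ConcMono.omega12
  have h2 : W [45, 12] = W [12, 45] := ConcMono.z_comm (by norm_num)
  simp only [W_cons, W_nil, one_mul] at h1 h2
  have h3 : E 45 = z := rfl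
  rw [h3, ← h] at h1 h2
  rw [h2] at h1
  have h4 : E 12 = E 0 * E 12 := mul_left_cancel h1
  apply ConcGrp.z_ne_one
  rw [← h]
  exact mul_right_cancel (b := E 12) (by rw [one_mul]; exact h4.symm)

/-- field `τ_z_ne` of `MOrbit` -/
theorem τ_z_ne : M.τ * M.z * M.τ⁻¹ ≠ M.z := by
  rw [M_τ, M_z, conj_z]
  exact E0_ne_z

theorem fix_letter {n : ℕ} (h : n < 24) : E n u₀ = u₀ := by
  have : W [n] (vecV u0B) = vecV u0B := by
    interval_cases n <;> exact W_fix_of_check (by decide +kernel)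
  rwa [W_single] at this

/-- `Q` fixes `u₀` -/
theorem Q_u₀ {q : V ≃ₗ[ℚ] V} (h : q ∈ Conc.Q) : q u₀ = u₀ := by
  refine Subgroup.closure_induction (p := fun g _ => g u₀ = u₀) ?_ rfl ?_ ?_ h
  · rintro g ⟨n, hn, rfl⟩
    exact fix_letter hn
  · intro a b _ _ ha hb
    show a (b u₀) = u₀
    rw [hb, ha]
  · intro a _ ha
    show a.symm u₀ = u₀
    rw [LinearEquiv.symm_apply_eq, ha]

theorem E25_u₀ : E 25 u₀ ≠ u₀ := by
  intro h
  have h1 : (W [25] (vecV u0B) : Lane U → ℚ) l01 = ((1 : ℤ) : ℚ) / 2 ^ 0 :=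
    lanes_sound (n := 0) (l := [(61441, 1)]) sym_u0B (by decide +kernel) l01 (by
      show (61441, (1 : ℤ)) ∈ [(61441, (1 : ℤ))]
      exact List.mem_singleton.2 rfl)
  rw [W_single] at h1
  have h2 : (u₀ : Lane U → ℚ) l01 = -1 := by
    rw [u₀_apply]
    show (if (61441 : ℕ) = 61440 then (1 : ℚ) else 0) + (if (61441 : ℕ) = 61473 then (1 : ℚ) else 0) -
      (if (61441 : ℕ) = 61441 then (1 : ℚ) else 0) - (if (61441 : ℕ) = 61472 then (1 : ℚ) else 0) = -1
    norm_num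
  have h3 : (E 25 u₀ : Lane U → ℚ) l01 = 1 := by
    have h4 : (E 25 u₀ : Lane U → ℚ) l01 = ((1 : ℤ) : ℚ) / 2 ^ 0 := h1
    rw [h4]; norm_num
  rw [h, h2] at h3
  norm_num at h3

/-- field `τ_q` of `MOrbit` -/
theorem τ_q : ∃ q ∈ M.Q, M.τ * q * M.τ⁻¹ ∈ M.C ∧ M.τ * q * M.τ⁻¹ ∉ M.Q := by
  refine ⟨E 1, E_mem_Q (by norm_num), ?_, ?_⟩
  · rw [M_τ, ConcGrp.tau_x1]
    exact E_mem_C (by norm_num)
  · rw [M_τ, ConcGrp.tau_x1]
    exact fun h => E25_u₀ (Q_u₀ h)

/-- field `τ_inv` of `MOrbit` -/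
theorem τ_inv : ∃ s ∈ M.C, s * M.τ * s⁻¹ * M.τ ∈ M.C := by
  refine ⟨E 12, E_mem_C (by norm_num), ?_⟩
  rw [M_τ, ConcGrp.tau_d0, inv_mul_cancel]
  exact M.C.one_mem

/-! ### The identity matrix -/

/-- The planes of the identity matrix. -/
noncomputable def idB : Pl := .cons (Nat.shiftLeft 0x8000000040000000200000001000000008000000040000000200000001000000008000000040000000200000001000000008000000040000000200000001000000008000000040000000200000001000000008000000040000000200000001 61440) (.sgn 0)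

theorem sym_idB : sym idB = true := by decide +kernel

/-- The identity matrix as a vector. -/
noncomputable def idV : V := vecV idB

theorem fix_idV {n : ℕ} (h : n < 41) : E n idV = idV := by
  have : W [n] (vecV idB) = vecV idB := by
    interval_cases n <;> exact W_fix_of_check (by decide +kernel)
  rwa [W_single] at this

theorem idV_ne : idV ≠ 0 := by
  intro h
  have h1 : (W [] (vecV idB) : Lane U → ℚ) l00 = ((1 : ℤ) : ℚ) / 2 ^ 0 :=
    lanes_sound (n := 0) (l := [(61440, 1)]) sym_idB (by decide +kernel) l00 (by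
      show (61440, (1 : ℤ)) ∈ [(61440, (1 : ℤ))]
      exact List.mem_singleton.2 rfl)
  rw [W_nil] at h1
  have h2 : (idV : Lane U → ℚ) l00 = ((1 : ℤ) : ℚ) / 2 ^ 0 := h1
  rw [h] at h2
  have h3 : (0 : ℚ) = ((1 : ℤ) : ℚ) / 2 ^ 0 := h2
  norm_num at h3

/-- the group `C` fixes the identity matrix -/
theorem C_idV {g : V ≃ₗ[ℚ] V} (h : g ∈ Conc.C) : g idV = idV := by
  refine Subgroup.closure_induction (p := fun g _ => g idV = idV) ?_ rfl ?_ ?_ h
  · rintro g ⟨n, hn, rfl⟩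
    exact fix_idV (by omega)
  · intro a b _ _ ha hb
    show a (b idV) = idV
    rw [hb, ha]
  · intro a _ ha
    show a.symm idV = idV
    rw [LinearEquiv.symm_apply_eq, ha]

/-- field `fixed` of `MExtra` -/
theorem fixed : ∃ v : V, v ≠ 0 ∧ (∀ g ∈ M.C, g v = v) ∧ M.τ v = v :=
  ⟨idV, idV_ne, fun _ hg => C_idV hg, fix_idV (by norm_num)⟩

end Cfsg.Agent.MonsterX.FieldsTau
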