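import Cfsg.Agent.MonsterX.FrameLet
import Cfsg.Agent.MonsterX.FrameGam
import Cfsg.Agent.MonsterX.CertFrame

/-!
# The frames: letters, stabiliser of the standard frame, neighbours

`I : Ind H R`: the group `H` (`= 2^{1+24}.Co1`) induces elements of `Co0` on the lattice, unique up to sign.
`E : ℕ → H` are the letters (codes as in `FrameGam`), `Letters I E` collects what they induce.

* `Letters.rep` : `Rep (coded I) (E a) (ltc a)` for all letters;
* `Letters.stab` : the stabiliser of the standard frame is the subgroup `D` generated by the letters other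
  than `ξ`, provided that `D` contains the elements inducing `1`;
* `Letters.hst`, `Letters.xi_mem`, `Letters.xi_inv_mem`, `Letters.hgen` : the inputs of `FrameCover.cover`;
* `frames` : the structure `CertFrame.Frames`.
-/

set_option autoImplicit false
set_option maxRecDepth 100000

namespace Cfsg.Agent.MonsterX.FrameInst

open Cfsg Cfsg.Agent.LeechMat.Core Cfsg.Agent.LeechMat.Code
open Cfsg.Agent.MonsterX.Lin24 Cfsg.Agent.MonsterX.Swar Cfsg.Agent.MonsterX.FrameCover
open Cfsg.Agent.MonsterX.FrameStab Cfsg.Agent.MonsterX.FrameAct Cfsg.Agent.MonsterX.FrameLet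
open Cfsg.Agent.MonsterX.FrameGam
open Cfsg.Agent.SporadicA.Co0Card

variable {H : Type*} [Group H] {R : H → Co0 → Prop} (I : Ind H R) (E : ℕ → H)

/-- What the letters induce on the lattice. -/
structure Letters (_ : Ind H R) (E : ℕ → H) : Prop where
  q : ∀ a < 24, R (E a) 1
  sign : ∀ i < 12, ∃ A, R (E (24 + i)) A ∧ IsSign A (cb.getD i 0)
  shift : ∃ A, R (E 36) A ∧ IsPerm A (Equiv.optionCongr (Equiv.addRight (1 : ZMod 23)))
  cube : ∃ A, R (E 37) A ∧ IsPerm A cubeTwist
  inv : ∃ A, R (E 38) A ∧ IsPerm A projInv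
  xi : ∃ A, R (E 39) A ∧ IsXi A
  shift_inv : E 42 = (E 36)⁻¹
  cube_inv : E 43 = (E 37)⁻¹

theorem ltc_q : ∀ a, a < 24 → ltc a = idc := by
  intro a ha
  have h : allB 24 (fun a => Nat.beq (ltc a) idc) = true := by decide +kernel
  exact Nat.eq_of_beq_eq_true (allB_sound h a ha)

theorem ltc_y : ∀ i, i < 12 → ltc (24 + i) = yC.getD i 0 := by
  intro a ha
  have h : allB 12 (fun i => Nat.beq (ltc (24 + i)) (yC.getD i 0)) = true := by decide +kernel
  exact Nat.eq_of_beq_eq_true (allB_sound h a ha)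

theorem ltc_36 : ltc 36 = paC := by
  have h : Nat.beq (ltc 36) paC = true := by decide +kernel
  exact Nat.eq_of_beq_eq_true h

theorem ltc_37 : ltc 37 = pdC := by
  have h : Nat.beq (ltc 37) pdC = true := by decide +kernel
  exact Nat.eq_of_beq_eq_true h

theorem ltc_38 : ltc 38 = pgC := by
  have h : Nat.beq (ltc 38) pgC = true := by decide +kernel
  exact Nat.eq_of_beq_eq_true h

theorem ltc_39 : ltc 39 = xiC := by
  have h : Nat.beq (ltc 39) xiC = true := by decide +kernel
  exact Nat.eq_of_beq_eq_true h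

theorem ltc_42 : ltc 42 = paIC := by
  have h : Nat.beq (ltc 42) paIC = true := by decide +kernel
  exact Nat.eq_of_beq_eq_true h

theorem ltc_43 : ltc 43 = pdIC := by
  have h : Nat.beq (ltc 43) pdIC = true := by decide +kernel
  exact Nat.eq_of_beq_eq_true h

/-- The code of the class of `8 e_∞`. -/
theorem codeL_v0 : codeL v0 = 4096 := by
  have h1 : Cg (v0 : leechLattice) (fun i => cond (Nat.beq i 23) 8 0) := by
    intro p
    show (16 : ℤ) ∣ (Pi.single none 8 : GolayPt → ℤ) p - ((cond (Nat.beq (pos p) 23) 8 0 : ℕ) : ℤ)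
    cases p with
    | none =>
      have : Nat.beq (pos none) 23 = true := rfl
      rw [this]
      simp
    | some x =>
      have : Nat.beq (pos (some x)) 23 = false := by
        rw [Bool.eq_false_iff]
        intro h
        have h2 := Nat.eq_of_beq_eq_true h
        have h3 : x.val = 23 := h2
        have h4 := ZMod.val_lt x
        omega
      rw [this]
      simp
  rw [codeL_cg h1]
  have h2 : Nat.beq (lin Mc (cdn fun i => cond (Nat.beq i 23) 8 0)) 4096 = true := by decide +kernel
  exact Nat.eq_of_beq_eq_true h2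

theorem code_y0 : (coded I).code (coded I).y0 = 4096 := rfl

theorem code_cl (v : leechLattice) : (coded I).code (cl I v) = codeL v := rfl

theorem y0_eq : (coded I).y0 = cl I v0 :=
  (coded I).inj _ _ ((code_y0 I).trans (codeL_v0.symm.trans (code_cl I v0).symm))

/-- An element fixes the standard frame if and only if the induced elements of `Co0` do. -/
theorem fix_iff {h : H} {A : Co0} (hA : R h A) : h • (coded I).y0 = (coded I).y0 ↔ FixesFrame A := by
  rw [y0_eq, smul_cl I hA, cl_eq_iff, eq_comm, codeL_eq_iff]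
  rfl

variable {I E}

/-- The code matrices of the letters. -/
theorem Letters.rep (L : Letters I E) : ∀ a, a < 44 → (isD a = true ∨ a = 39) →
    Rep (coded I) (E a) (ltc a) := by
  intro a ha hd
  by_cases h1 : a < 24
  · rw [ltc_q a h1]
    exact rep_trivial I (L.q a h1)
  by_cases h2 : a < 36
  · obtain ⟨i, rfl⟩ : ∃ i, a = 24 + i := ⟨a - 24, by omega⟩
    have hi : i < 12 := by omega
    obtain ⟨A, hA, hA'⟩ := L.sign i hi
    rw [ltc_y i hi]
    exact FrameAct.rep I hA (code_sign hi hA')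
  have h36 : Rep (coded I) (E 36) (ltc 36) := by
    obtain ⟨A, hA, hA'⟩ := L.shift
    rw [ltc_36]
    exact FrameAct.rep I hA (code_shift hA')
  have h37 : Rep (coded I) (E 37) (ltc 37) := by
    obtain ⟨A, hA, hA'⟩ := L.cube
    rw [ltc_37]
    exact FrameAct.rep I hA (code_cube hA')
  have h38 : Rep (coded I) (E 38) (ltc 38) := by
    obtain ⟨A, hA, hA'⟩ := L.inv
    rw [ltc_38]
    exact FrameAct.rep I hA (code_projInv hA')
  have h39 : Rep (coded I) (E 39) (ltc 39) := by
    obtain ⟨A, hA, hA'⟩ := L.xi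
    rw [ltc_39]
    exact FrameAct.rep I hA (code_xi hA')
  have h42 : Rep (coded I) (E 42) (ltc 42) := by
    rw [L.shift_inv, ltc_42]
    rw [ltc_36] at h36
    exact h36.inv pa_inv
  have h43 : Rep (coded I) (E 43) (ltc 43) := by
    rw [L.cube_inv, ltc_43]
    rw [ltc_37] at h37
    exact h37.inv pd_inv
  have h3 : a = 36 ∨ a = 37 ∨ a = 38 ∨ a = 39 ∨ a = 40 ∨ a = 41 ∨ a = 42 ∨ a = 43 := by omega
  rcases h3 with rfl | rfl | rfl | rfl | rfl | rfl | rfl | rfl
  · exact h36
  · exact h37
  · exact h38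
  · exact h39
  · exfalso
    rcases hd with hd | hd
    · exact absurd hd (by decide)
    · omega
  · exfalso
    rcases hd with hd | hd
    · exact absurd hd (by decide)
    · omega
  · exact h42
  · exact h43

/-- The inverses of the letters. -/
theorem Letters.rep_inv (L : Letters I E) : ∀ a, a < 44 → (isD a = true ∨ a = 39) →
    Rep (coded I) (E a)⁻¹ (ltci a) := fun a ha hd =>
  (L.rep a ha hd).inv (inv_ok a ha)

/-! ### The stabiliser of the standard frame -/

/-- The letters different from `ξ`. -/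
def letD (E : ℕ → H) : Set H := {g | ∃ a, a < 39 ∧ g = E a}

theorem isD_lt {a : ℕ} (h : isD a = true) : a < 39 ∨ a = 42 ∨ a = 43 := by
  unfold isD at h
  rw [Bool.or_eq_true, Bool.or_eq_true] at h
  rcases h with (h | h) | h
  · left
    have := Nat.le_of_ble_eq_true h
    omega
  · exact Or.inr (Or.inl (Nat.eq_of_beq_eq_true h))
  · exact Or.inr (Or.inr (Nat.eq_of_beq_eq_true h))

theorem isD_of_lt {a : ℕ} (h : a < 39) : isD a = true := by
  unfold isD
  have : Nat.ble a 38 = true := Nat.ble_eq_true_of_le (by omega)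
  rw [this]
  rfl

theorem Letters.mem_D (L : Letters I E) {D : Subgroup H} (hD : ∀ a, a < 39 → E a ∈ D) :
    ∀ a, a < 44 → isD a = true → E a ∈ D := by
  intro a _ hd
  rcases isD_lt hd with h | rfl | rfl
  · exact hD a h
  · rw [L.shift_inv]
    exact D.inv_mem (hD 36 (by norm_num))
  · rw [L.cube_inv]
    exact D.inv_mem (hD 37 (by norm_num))

/-- The subgroup of the elements of `Co0` induced by elements of `D`. -/
def indSub (I : Ind H R) (D : Subgroup H) : Subgroup Co0 where
  carrier := {A | ∃ d ∈ D, R d A}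
  one_mem' := ⟨1, D.one_mem, I.one⟩
  mul_mem' := by
    rintro A B ⟨d, hd, hA⟩ ⟨e, he, hB⟩
    exact ⟨d * e, D.mul_mem hd he, I.mul hA hB⟩
  inv_mem' := by
    rintro A ⟨d, hd, hA⟩
    exact ⟨d⁻¹, D.inv_mem hd, I.inv hA⟩

theorem Letters.exists_of_fixes (L : Letters I E) {D : Subgroup H} (hD : ∀ a, a < 39 → E a ∈ D)
    (A : Co0) (hA : FixesFrame A) : ∃ d ∈ D, R d A := by
  have key : A ∈ indSub I D := by
    refine mem_of_congr _ ?_ ?_ ?_ ?_ A hA
    · intro i hi
      obtain ⟨B, hB, hB'⟩ := L.sign i hi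
      exact ⟨B, ⟨_, hD _ (by omega), hB⟩, hB'⟩
    · obtain ⟨B, hB, hB'⟩ := L.shift
      exact ⟨B, ⟨_, hD _ (by norm_num), hB⟩, hB'⟩
    · obtain ⟨B, hB, hB'⟩ := L.inv
      exact ⟨B, ⟨_, hD _ (by norm_num), hB⟩, hB'⟩
    · obtain ⟨B, hB, hB'⟩ := L.cube
      exact ⟨B, ⟨_, hD _ (by norm_num), hB⟩, hB'⟩
  exact key

/-- Letters different from `ξ` fix the standard frame. -/
theorem Letters.fix_letter (L : Letters I E) {a : ℕ} (ha : a < 39) :
    E a • (coded I).y0 = (coded I).y0 := by
  by_cases h1 : a < 24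
  · exact (fix_iff I (L.q a h1)).2 fixesFrame_one
  by_cases h2 : a < 36
  · obtain ⟨i, rfl⟩ : ∃ i, a = 24 + i := ⟨a - 24, by omega⟩
    obtain ⟨A, hA, hA'⟩ := L.sign i (by omega)
    exact (fix_iff I hA).2 (fixesFrame_of_preserves (preserves_of_sign hA'))
  have h3 : a = 36 ∨ a = 37 ∨ a = 38 := by omega
  rcases h3 with rfl | rfl | rfl
  · obtain ⟨A, hA, hA'⟩ := L.shift
    exact (fix_iff I hA).2 (fixesFrame_of_preserves (preserves_of_perm hA'))
  · obtain ⟨A, hA, hA'⟩ := L.cube
    exact (fix_iff I hA).2 (fixesFrame_of_preserves (preserves_of_perm hA'))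
  · obtain ⟨A, hA, hA'⟩ := L.inv
    exact (fix_iff I hA).2 (fixesFrame_of_preserves (preserves_of_perm hA'))

/-- **The stabiliser of the standard frame.** -/
theorem Letters.stab (L : Letters I E) {D : Subgroup H} (hD : D = Subgroup.closure (letD E))
    (hker : ∀ h : H, R h 1 → h ∈ D) (h : H) : h • (coded I).y0 = (coded I).y0 ↔ h ∈ D := by
  have hDm : ∀ a, a < 39 → E a ∈ D := fun a ha => by
    rw [hD]
    exact Subgroup.subset_closure ⟨a, ha, rfl⟩
  constructor
  · intro hfix
    obtain ⟨A, hA⟩ := I.ex h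
    obtain ⟨d, hd, hdA⟩ := L.exists_of_fixes hDm A ((fix_iff I hA).1 hfix)
    have h1 : R (d⁻¹ * h) 1 := by
      have := I.mul (I.inv hdA) hA
      rwa [inv_mul_cancel] at this
    have h2 := D.mul_mem hd (hker _ h1)
    rwa [mul_inv_cancel_left] at h2
  · intro hh
    have h1 : D ≤ MulAction.stabilizer H (coded I).y0 := by
      rw [hD, Subgroup.closure_le]
      rintro _ ⟨a, ha, rfl⟩
      exact L.fix_letter ha
    exact h1 hh

/-! ### The neighbours -/

/-- Elements of `D` preserve the set of neighbours. -/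
theorem Letters.nb_D (L : Letters I E) {D : Subgroup H} (hD : D = Subgroup.closure (letD E)) (k : H)
    (hk : k ∈ D) : ∀ y ∈ Nb (coded I) (46 * 77) gam, k • y ∈ Nb (coded I) (46 * 77) gam := by
  rw [hD] at hk
  refine nb_of_gens (letD E) ?_ k hk
  rintro _ ⟨a, ha, rfl⟩
  exact nb_of_mask (m := 46) (k := 77) gam_lt (mask_ok a (by omega) (isD_of_lt ha))
    (L.rep a (by omega) (Or.inl (isD_of_lt ha)))

/-- Input `hst` of `FrameCover.cover`. -/
theorem Letters.hst (L : Letters I E) {D : Subgroup H} (hD : D = Subgroup.closure (letD E))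
    (hker : ∀ h : H, R h 1 → h ∈ D) : ∀ k : H, k • (coded I).y0 = (coded I).y0 →
    ∀ y ∈ Nb (coded I) (46 * 77) gam, k • y ∈ Nb (coded I) (46 * 77) gam :=
  fun k hk => L.nb_D hD k ((L.stab hD hker k).1 hk)

/-- Every number in the mask is a field of `gam`. -/
theorem fld_of_mask {v : ℕ} (h : (mask2 gam 46 77).testBit v = true) : ∃ e, e < 46 * 77 ∧ fld gam e = v :=
  (testBit_mask2 gam 46 77 v).1 h

/-- Input `h1` of `FrameCover.cover`. -/
theorem Letters.xi_mem (L : Letters I E) : E 39 • (coded I).y0 ∈ Nb (coded I) (46 * 77) gam := by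
  have h1 : (coded I).code (E 39 • (coded I).y0) = 4126 := by
    rw [L.rep 39 (by norm_num) (Or.inr rfl), code_y0, xi_y0]
  have h2 : (mask2 gam 46 77).testBit 4126 = true := by decide +kernel
  obtain ⟨e, he, h3⟩ := fld_of_mask h2
  exact ⟨e, he, by rw [h1, h3]⟩

/-- Input `h2` of `FrameCover.cover`. -/
theorem Letters.xi_inv_mem (L : Letters I E) :
    (E 39)⁻¹ • (coded I).y0 ∈ Nb (coded I) (46 * 77) gam := by
  have h1 : (coded I).code ((E 39)⁻¹ • (coded I).y0) = 4126 := by
    rw [L.rep_inv 39 (by norm_num) (Or.inr rfl), code_y0]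
    exact xi_y0
  have h2 : (mask2 gam 46 77).testBit 4126 = true := by decide +kernel
  obtain ⟨e, he, h3⟩ := fld_of_mask h2
  exact ⟨e, he, by rw [h1, h3]⟩

/-- Input `hgen` of `FrameCover.cover`. -/
theorem Letters.hgen (L : Letters I E) (hH : Subgroup.closure (letD E ∪ {E 39}) = ⊤) :
    ∀ S : Subgroup H, (∀ k : H, k • (coded I).y0 = (coded I).y0 → k ∈ S) → E 39 ∈ S → S = ⊤ := by
  intro S h1 h2
  rw [eq_top_iff, ← hH, Subgroup.closure_le]
  rintro x (⟨a, ha, rfl⟩ | hx)
  · exact h1 _ (L.fix_letter ha)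
  · rw [Set.mem_singleton_iff.1 hx]
    exact h2

/-- The neighbour number `i` of the standard frame. -/
noncomputable def nb (I : Ind H R) (i : Fin 3542) : Fr I :=
  ⟨fld gam i, by
    have h : allB 46 (fun a => allB 77 fun b => Nat.ble (fld gam (77 * a + b) + 1) 16777216) = true := by
      decide +kernel
    have h1 := allB_sound (allB_sound h (i.val / 77) (by omega)) (i.val % 77) (Nat.mod_lt _ (by norm_num))
    have h2 : 77 * (i.val / 77) + i.val % 77 = i.val := Nat.div_add_mod _ 77
    rw [h2] at h1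
    exact Nat.le_of_ble_eq_true h1⟩

theorem code_nb (i : Fin 3542) : (coded I).code (nb I i) = fld gam i := rfl

end Cfsg.Agent.MonsterX.FrameInst

namespace Cfsg.Agent.MonsterX.FrameInst

open Cfsg Cfsg.Agent.MonsterX.FrameCover Cfsg.Agent.MonsterX.FrameAct Cfsg.Agent.MonsterX.FrameGam
open Cfsg.Agent.MonsterX.CertFrame

/-- **The frames.** -/
theorem frames {G : Type*} [Group G] (K D : Subgroup G) {R : K → Co0 → Prop} (I : Ind K R)
    (E : ℕ → K) (L : Letters I E)
    (hD : D = Subgroup.closure {g | ∃ a, a < 39 ∧ g = (E a : G)})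
    (hK : K = Subgroup.closure ((D : Set G) ∪ {(E 39 : G)}))
    (hker : ∀ h : K, R h 1 → (h : G) ∈ D) (hξ : (E 39 : G) * E 39 = 1) :
    Frames K D (E 39 : G) (coded I).y0 (nb I) := by
  have hDm : ∀ a, a < 39 → (E a : G) ∈ D := fun a ha => by
    rw [hD]
    exact Subgroup.subset_closure ⟨a, ha, rfl⟩
  have hle : D ≤ K := by
    rw [hD, Subgroup.closure_le]
    rintro _ ⟨a, -, rfl⟩
    exact (E a).2
  have hD' : D.subgroupOf K = Subgroup.closure (letD E) := by
    apply Subgroup.map_injective K.subtype_injective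
    rw [Subgroup.map_subgroupOf_eq_of_le hle, MonoidHom.map_closure, hD]
    congr 1
    ext g
    constructor
    · rintro ⟨a, ha, rfl⟩
      exact ⟨E a, ⟨a, ha, rfl⟩, rfl⟩
    · rintro ⟨_, ⟨a, ha, rfl⟩, rfl⟩
      exact ⟨a, ha, rfl⟩
  have hker' : ∀ h : K, R h 1 → h ∈ D.subgroupOf K := fun h hh =>
    Subgroup.mem_subgroupOf.2 (hker h hh)
  have hstab : ∀ k : K, k • (coded I).y0 = (coded I).y0 ↔ (k : G) ∈ D := fun k => by
    rw [L.stab hD' hker', Subgroup.mem_subgroupOf]
  exact
  { le := hle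
    ξ_mem := (E 39).2
    ξ_sq := hξ
    gen := hK
    stab := hstab
    nb_inj := by
      intro i j hij
      exact Fin.ext (gam_inj i.2 j.2 (congrArg (fun y => (coded I).code y) hij))
    nb_orb := by
      intro i
      obtain ⟨d, hd, h1⟩ := trans_sound (S := coded I) (E := E) (code_y0 I)
        (fun a ha h => L.rep a ha (Or.inl h)) (L.rep 39 (by norm_num) (Or.inr rfl)) (D.subgroupOf K)
        (L.mem_D fun a ha => Subgroup.mem_subgroupOf.2 (hDm a ha)) i.2 (code_nb (I := I) i)
      refine ⟨d⁻¹, D.inv_mem (Subgroup.mem_subgroupOf.1 hd), ?_⟩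
      rw [eq_inv_smul_iff]
      exact h1
    nb_all := by
      intro d hd
      obtain ⟨e, he, h1⟩ := L.nb_D hD' d (Subgroup.mem_subgroupOf.2 hd) _ L.xi_mem
      exact ⟨⟨e, he⟩, (coded I).inj _ _ h1.symm⟩ }

end Cfsg.Agent.MonsterX.FrameInst
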