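import Cfsg.Agent.MonsterX.FrameAct

/-!
# The code matrices of the letters

The matrices of the sign changes at the basis of the code, of the three standard permutations and of the
sextet element `ξ` on the codes of the classes of the lattice modulo twice the lattice.
-/

set_option autoImplicit false

namespace Cfsg.Agent.MonsterX.FrameLet

open Cfsg Cfsg.Agent.LeechMat.Core Cfsg.Agent.LeechMat.Code Cfsg.Agent.LeechMat.Elements
open Cfsg.Agent.Monster.PauliBasic
open Cfsg.Agent.MonsterX.Psi Cfsg.Agent.MonsterX.Lin24 Cfsg.Agent.MonsterX.FrameCover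
open Cfsg.Agent.MonsterX.FrameStab Cfsg.Agent.MonsterX.FrameAct
open Cfsg.Agent.SporadicA.M24Gens (pidx)

/-! ### Codes from coordinates modulo 16 -/

/-- `f` gives the coordinates of `v` modulo 16. -/
def Cg (v : GolayPt → ℤ) (f : ℕ → ℕ) : Prop := ∀ p, (16 : ℤ) ∣ v p - (f (pos p) : ℤ)

theorem cg_vec (n : ℕ) : Cg (vec n) (dig n) := by
  intro p
  rw [vec_apply]
  unfold sdig
  exact ⟨-1, by ring⟩

/-- The sum of the products with the digits of `b`. -/
noncomputable def dotN (f : ℕ → ℕ) (b : ℕ) : ℕ :=
  Nat.rec (motive := fun _ => ℕ) 0 (fun i r => r + f i * ((b >>> (5 * i)) % 32)) 24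

theorem dotN_eq (f : ℕ → ℕ) (b : ℕ) : dotN f b = ∑ i ∈ Finset.range 24, f i * dig b i := by
  have h : ∀ n, (Nat.rec (motive := fun _ => ℕ) 0 (fun i r => r + f i * ((b >>> (5 * i)) % 32)) n : ℕ)
      = ∑ i ∈ Finset.range n, f i * dig b i := by
    intro n
    induction n with
    | zero => rfl
    | succ n ih =>
      rw [Finset.sum_range_succ, ← ih]
      rfl
  exact h 24

theorem dotInt_cg {v w : GolayPt → ℤ} {f : ℕ → ℕ} {b : ℕ} (hv : Cg v f) (hw : w = vec b) :
    (16 : ℤ) ∣ dotInt v w - (dotN f b : ℤ) := by
  have h1 : ((dotN f b : ℕ) : ℤ) = ∑ p : GolayPt, (f (pos p) : ℤ) * (dig b (pos p) : ℤ) := by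
    rw [dotN_eq, sum_points (fun k => (f k : ℤ) * (dig b k : ℤ))]
    push_cast
    rfl
  rw [h1]
  unfold dotInt
  rw [← Finset.sum_sub_distrib]
  refine Finset.dvd_sum fun p _ => ?_
  subst hw
  obtain ⟨s, hs⟩ := hv p
  obtain ⟨t, ht⟩ := cg_vec b p
  have e1 : v p = f (pos p) + 16 * s := by linarith
  have e2 : vec b p = dig b (pos p) + 16 * t := by linarith
  rw [e1, e2]
  exact ⟨(f (pos p) : ℤ) * t + s * (dig b (pos p) : ℤ) + 16 * s * t, by ring⟩

theorem bl_cg {v w : leechLattice} {f : ℕ → ℕ} {b : ℕ} (hv : Cg v f)
    (hw : (w : GolayPt → ℤ) = vec b) : bl v w = ((dotN f b / 8 : ℕ) : ZMod 2) := by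
  obtain ⟨t, ht⟩ := eight_dvd v w
  obtain ⟨s, hs⟩ := dotInt_cg hv hw
  unfold bl
  have e2 : ((dotN f b / 8 : ℕ) : ℤ) = t - 2 * s := by
    push_cast
    omega
  have e1 : dotInt (v : GolayPt → ℤ) (w : GolayPt → ℤ) / 8 = t := by omega
  have e3 : ((dotN f b / 8 : ℕ) : ZMod 2) = (((dotN f b / 8 : ℕ) : ℤ) : ZMod 2) := by
    push_cast
    rfl
  rw [e1, e3, e2]
  push_cast
  have h2 : (2 : ZMod 2) = 0 := by decide
  rw [h2, zero_mul, sub_zero]

/-- The packed vectors giving the bits of the number of a class. -/
noncomputable def bs : List ℕ := xs ++ zs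

/-- The number (in the coordinates of `psi`) of a class given by coordinates modulo 16. -/
noncomputable def cdn (f : ℕ → ℕ) : ℕ :=
  Nat.rec (motive := fun _ => ℕ) 0
    (fun k r => r ||| ((dotN f (bs.getD k 0) / 8 % 2) <<< k)) 24

theorem testBit_cdn (f : ℕ → ℕ) (j : ℕ) : (cdn f).testBit j =
    (decide (j < 24) && decide (dotN f (bs.getD j 0) / 8 % 2 = 1)) := by
  have h : ∀ n, (Nat.rec (motive := fun _ => ℕ) 0
      (fun k r => r ||| ((dotN f (bs.getD k 0) / 8 % 2) <<< k)) n : ℕ).testBit j =
      (decide (j < n) && decide (dotN f (bs.getD j 0) / 8 % 2 = 1)) := by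
    intro n
    induction n with
    | zero => simp
    | succ n ih =>
      show (_ ||| ((dotN f (bs.getD n 0) / 8 % 2) <<< n)).testBit j = _
      rw [Nat.testBit_or, ih, Nat.testBit_shiftLeft]
      by_cases h1 : j < n
      · have h2 : j < n + 1 := by omega
        have h3 : ¬ n ≤ j := by omega
        simp [h1, h2]
      · by_cases h2 : j = n
        · subst h2
          rcases Nat.mod_two_eq_zero_or_one (dotN f (bs.getD j 0) / 8) with h3 | h3 <;> simp [h3]
        · have h3 : ¬ j < n + 1 := by omega
          have h4 : (dotN f (bs.getD n 0) / 8 % 2).testBit (j - n) = false := by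
            apply Nat.testBit_lt_two_pow
            have : 2 ≤ 2 ^ (j - n) := by
              calc 2 = 2 ^ 1 := rfl
                _ ≤ 2 ^ (j - n) := Nat.pow_le_pow_right (by norm_num) (by omega)
            have h5 := Nat.mod_lt (dotN f (bs.getD n 0) / 8) (show 0 < 2 by norm_num)
            omega
          rw [h4]
          simp [h1, h3]
  exact h 24

theorem natCast_eq_one (n : ℕ) : decide (((n : ℕ) : ZMod 2) = 1) = decide (n % 2 = 1) := by
  congr 1
  rw [← ZMod.natCast_mod n 2]
  rcases Nat.mod_two_eq_zero_or_one n with h | h <;> rw [h] <;> simp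

theorem bs_lo (k : Fin 12) : bs.getD k 0 = xs.getD k 0 := by
  revert k; decide +kernel

theorem bs_hi (k : Fin 12) : bs.getD (k.val + 12) 0 = zs.getD k 0 := by
  revert k; decide +kernel

theorem pn_psi {v : leechLattice} {f : ℕ → ℕ} (hv : Cg v f) : pn (psi v) = cdn f := by
  apply Nat.eq_of_testBit_eq
  intro j
  rw [pn_testBit, testBit_cdn]
  by_cases h1 : j < 12
  · rw [dif_pos h1, psi_snd, bl_cg hv (w := vX ⟨j, h1⟩) rfl, natCast_eq_one]
    have h2 : j < 24 := by omega
    have h3 := bs_lo ⟨j, h1⟩
    simp only [h2, decide_true, Bool.true_and]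
    rw [← h3]
  · rw [dif_neg h1]
    by_cases h2 : j - 12 < 12
    · rw [dif_pos h2, psi_fst, bl_cg hv (w := vZ ⟨j - 12, h2⟩) rfl, natCast_eq_one]
      have h3 : j < 24 := by omega
      have h4 := bs_hi ⟨j - 12, h2⟩
      have h5 : j - 12 + 12 = j := by omega
      simp only [h5] at h4
      simp only [h3, decide_true, Bool.true_and]
      rw [← h4]
    · rw [dif_neg h2]
      have h3 : ¬ j < 24 := by omega
      simp [h3]

theorem codeL_cg {v : leechLattice} {f : ℕ → ℕ} (hv : Cg v f) : codeL v = lin Mc (cdn f) := by
  unfold codeL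
  rw [pn_psi hv]

/-! ### The base vectors -/

/-- Packed base vectors. -/
noncomputable def ws : List ℕ := zs ++ xs

theorem ws_lo (k : Fin 12) : ws.getD k 0 = zs.getD k 0 := by
  revert k; decide +kernel

theorem ws_hi (k : Fin 12) : ws.getD (k.val + 12) 0 = xs.getD k 0 := by
  revert k; decide +kernel

theorem bv_coe (j : Fin 24) : ((bv j : leechLattice) : GolayPt → ℤ) = vec (ws.getD j 0) := by
  unfold bv
  by_cases h : j.val < 12
  · rw [dif_pos h]
    have := ws_lo ⟨j, h⟩
    show vec (zs.getD j 0) = _
    rw [← this]
  · rw [dif_neg h]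
    have := ws_hi ⟨j.val - 12, by omega⟩
    have h5 : j.val - 12 + 12 = j.val := by omega
    simp only [h5] at this
    show vec (xs.getD (j.val - 12) 0) = _
    rw [← this]

/-- The transformation `F` of coordinates modulo 16 has the code matrix `c`. -/
noncomputable def chk (F : (ℕ → ℕ) → ℕ → ℕ) (c : ℕ) : Bool :=
  allB 24 fun j => Nat.beq (lin Mc (cdn (F (dig (ws.getD j 0))))) (lin c (lin Mc (cdn (dig (ws.getD j 0)))))

theorem chk_sound {A : Co0} {F : (ℕ → ℕ) → ℕ → ℕ} {c : ℕ} (h : chk F c = true)
    (hF : ∀ j : Fin 24, Cg (A • bv j : leechLattice) (F (dig (ws.getD j 0)))) (v : leechLattice) :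
    codeL (A • v) = lin c (codeL v) := by
  refine codeL_smul_of_base (fun j => ?_) v
  have h1 := Nat.eq_of_beq_eq_true (allB_sound h j j.2)
  have h2 : Cg (bv j : leechLattice) (dig (ws.getD j 0)) := by
    rw [bv_coe]
    exact cg_vec _
  rw [codeL_cg (hF j), codeL_cg h2, h1]

theorem pidx_eq (p : GolayPt) : pidx p = pos p := by cases p <;> rfl

/-! ### Sign changes -/

/-- Sign change at the points of the mask `m`, coordinates modulo 16. -/
noncomputable def signF (m : ℕ) (f : ℕ → ℕ) (i : ℕ) : ℕ := cond (m.testBit i) (15 * f i) (f i)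

/-- The code matrices of the sign changes at the basis of the code. -/
def yC : List ℕ :=
  [0x800000400000200000100000080000040000020000010000008000004000002000001000000800000400000200000100000080000040000020000010000008000004000002000001,
   0x800684400bfc200c10100444080c60040590020488010648008434004d08002000001000000800000400000200000100000080000040000020000010000008000004001002002001,
   0x80021a4000ca20088810002a080628040418020198010868008ff2004000002d08001000000800000400000200000100000080000040000020000010000008001004000002004001,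
   0x800324400206200c44100814080064040294020886010146008000005ff2002434001000000800000400000200000100000080000040000020000010001008000004000002008005,
   0x8002444000622008c21000c8080360040fae0204c4010000008146004868002648001000000800000400000200000100000080000040000020001010000008000004000002010001,
   0x8002c8400292200d80100284080f5e0408900200000104c4008886004198002488001000000800000400000200000100000080000040001020000010000008000004000002020001,
   0x80063040081620091810021208003a040000020890011fae008294004418002590001000000800000400000200000100000080001040000020000010000008000004000002040011,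
   0x80022240012620083410043008000004003a021f5e010360008064004628002c60001000000800000400000200000100001080000040000020000010000008000004000002080021,
   0x8006084008822008601000000804300402120202840100c800881400402a002444001000000800000400000200001100000080000040000020000010000008000004000002100001,
   0x8005fe40082a200000100860080834040918020d800108c2008c44004888002c10001000000800000400001200000100000080000040000020000010000008000004000002200001,
   0x80034240000020082a1008820801260408160202920100620082060040ca003bfc001000000800001400000200000100000080000040000020000010000008000004000002400003,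
   0x8000004003422015fe1006080802220406300202c801024400832400421a002684001000001800000400000200000100000080000040000020000010000008000004000002800201]

theorem chk_sign : allB 12 (fun i => chk (signF (cb.getD i 0)) (yC.getD i 0)) = true := by
  decide +kernel

theorem cg_sign {A : Co0} {m : ℕ} (hA : IsSign A m) {v : leechLattice} {f : ℕ → ℕ} (hv : Cg v f) :
    Cg (A • v : leechLattice) (signF m f) := by
  intro p
  rw [hA, pidx_eq]
  obtain ⟨s, hs⟩ := hv p
  unfold signF
  cases m.testBit (pos p)
  · exact ⟨s, hs⟩
  · refine ⟨-s - f (pos p), ?_⟩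
    simp only [cond_true, if_true]
    push_cast
    linarith

/-- The code matrix of the sign change at the basis word `i`. -/
theorem code_sign {A : Co0} {i : ℕ} (hi : i < 12) (hA : IsSign A (cb.getD i 0)) (v : leechLattice) :
    codeL (A • v) = lin (yC.getD i 0) (codeL v) := by
  refine chk_sound (allB_sound chk_sign i hi) (fun j => ?_) v
  apply cg_sign hA
  rw [bv_coe]
  exact cg_vec _

/-! ### Permutations -/

/-- Permutation of the coordinates. -/
noncomputable def permF (t : List ℕ) (f : ℕ → ℕ) (i : ℕ) : ℕ := f (t.getD i 0)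

theorem cg_perm {A : Co0} {σ : Equiv.Perm GolayPt} (hA : IsPerm A σ) {t : List ℕ}
    (ht : ∀ p, pidx (σ.symm p) = t.getD (pidx p) 0) {v : leechLattice} {f : ℕ → ℕ} (hv : Cg v f) :
    Cg (A • v : leechLattice) (permF t f) := by
  intro p
  have h1 := ht p
  rw [pidx_eq, pidx_eq] at h1
  unfold permF
  rw [hA, ← h1]
  exact hv _

/-- The code matrix of a permutation. -/
theorem code_perm {A : Co0} {σ : Equiv.Perm GolayPt} (hA : IsPerm A σ) {t : List ℕ} {c : ℕ}
    (ht : ∀ p, pidx (σ.symm p) = t.getD (pidx p) 0) (h : chk (permF t) c = true) (v : leechLattice) :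
    codeL (A • v) = lin c (codeL v) := by
  refine chk_sound h (fun j => ?_) v
  apply cg_perm hA ht
  rw [bv_coe]
  exact cg_vec _

open Cfsg.Agent.SporadicA.M24Gens (tabS tabI tabC itabS itabI itabC shift_table projInv_table
  cubeTwist_table symm_table)

/-- Code matrix of the shift. -/
def paC : ℕ := 0x2400802480400002200000100040082c6004258002248801000800a4300040000010000008ea000800000400000200000100000080000040000020000010000008000004000001
/-- Code matrix of the inverse shift. -/
def paIC : ℕ := 0xc00040200c741000000800208404308200c0810044008004804018002000800200001000000400000200000100000080000040000020000010000008000004000002000c74000001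
/-- Code matrix of `cubeTwist`. -/
def pdC : ℕ := 0xf00cb2800202c2011aa60f1e4243ca8200d8a0889a630b5eaa0e0460082862245e00100000010000093e0006cc00004000000400063a0000080000100000800003da000002000001
/-- Code matrix of the inverse of `cubeTwist`. -/
def pdIC : ℕ := 0x40093c24090a244598c0439020c8e03040d2440804454b726643f668011a446fb2001000000f68000a9600093e0008000000080001000003da000010000020000080000002000001
/-- Code matrix of `projInv`. -/
def pgC : ℕ := 0x32c214ae4374b90ebe2b05ac9a8364e1c4f229c7ee1a4e50a28322994fa6ee726c0010000006ce000042000f6a000a940007b6000402000d9a0003640008e8000c76000002000003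

theorem chk_pa : chk (permF itabS) paC = true := by decide +kernel
theorem chk_pd : chk (permF itabC) pdC = true := by decide +kernel
theorem chk_pg : chk (permF itabI) pgC = true := by decide +kernel

theorem pa_inv : cmpOK paC paIC idc = true := by decide +kernel
theorem pd_inv : cmpOK pdC pdIC idc = true := by decide +kernel
theorem pg_inv : cmpOK pgC pgC idc = true := by decide +kernel

theorem code_shift {A : Co0} (hA : IsPerm A (Equiv.optionCongr (Equiv.addRight (1 : ZMod 23))))
    (v : leechLattice) : codeL (A • v) = lin paC (codeL v) :=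
  code_perm hA (symm_table _ tabS itabS shift_table (by decide +kernel)) chk_pa v

theorem code_cube {A : Co0} (hA : IsPerm A cubeTwist)
    (v : leechLattice) : codeL (A • v) = lin pdC (codeL v) :=
  code_perm hA (symm_table _ tabC itabC cubeTwist_table (by decide +kernel)) chk_pd v

theorem code_projInv {A : Co0} (hA : IsPerm A projInv)
    (v : leechLattice) : codeL (A • v) = lin pgC (codeL v) :=
  code_perm hA (symm_table _ tabI itabI projInv_table (by decide +kernel)) chk_pg v

/-! ### The sextet element -/

/-- The tetrads (labels of the positions). -/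
def tetL : List ℕ := [0, 0, 0, 0, 1, 2, 3, 1, 4, 3, 1, 3, 1, 5, 2, 4, 4, 2, 5, 4, 5, 5, 3, 2]

/-- `A` is the sextet element of the model: `1 - J/2` on each tetrad, followed by the sign change at the
first tetrad. -/
def IsXi (A : Co0) : Prop :=
  ∀ (v : leechLattice) (p : GolayPt), 2 * ((A • v : leechLattice) : GolayPt → ℤ) p =
    (if tetL.getD (pos p) 0 = 0 then -1 else 1) * (2 * (v : GolayPt → ℤ) p -
      ∑ q : GolayPt, if tetL.getD (pos q) 0 = tetL.getD (pos p) 0 then (v : GolayPt → ℤ) q else 0)

/-- Sum of the coordinates in the tetrad `t`. -/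
noncomputable def tsum (f : ℕ → ℕ) (t : ℕ) : ℕ :=
  Nat.rec (motive := fun _ => ℕ) 0
    (fun i r => r + cond (Nat.beq (tetL.getD i 0) t) (f i) 0) 24

/-- The sextet element on exact coordinates with offset 16, results modulo 16. -/
noncomputable def xiF (f : ℕ → ℕ) (i : ℕ) : ℕ :=
  cond (Nat.beq (tetL.getD i 0) 0) (tsum f (tetL.getD i 0) / 2 + 15 * f i)
    (f i + 15 * (tsum f (tetL.getD i 0) / 2))

/-- Code matrix of the sextet element. -/
def xiC : ℕ := 0x7a055e29f8a820000059f8b6f2055e6df8a8f8055e00f9a3fb7ce521b9a901d9b100101e69f0a8b3f9e8dbfeec69f9a8b3fd6800004069f888fa054efa0556fa055afa055cfa055f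

theorem chk_xi : chk xiF xiC = true := by decide +kernel

theorem xi_inv : cmpOK xiC xiC idc = true := by decide +kernel

theorem tet_card : ∀ t < 6, (∑ i ∈ Finset.range 24, if tetL.getD i 0 = t then (1 : ℤ) else 0) = 4 := by
  decide +kernel

theorem tet_lt : ∀ i < 24, tetL.getD i 0 < 6 := by decide +kernel

theorem tsum_eq (f : ℕ → ℕ) (t : ℕ) :
    tsum f t = ∑ i ∈ Finset.range 24, if tetL.getD i 0 = t then f i else 0 := by
  have h : ∀ n, (Nat.rec (motive := fun _ => ℕ) 0
      (fun i r => r + cond (Nat.beq (tetL.getD i 0) t) (f i) 0) n : ℕ)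
      = ∑ i ∈ Finset.range n, if tetL.getD i 0 = t then f i else 0 := by
    intro n
    induction n with
    | zero => rfl
    | succ n ih =>
      rw [Finset.sum_range_succ, ← ih]
      show _ + cond (Nat.beq (tetL.getD n 0) t) (f n) 0 = _
      congr 1
      by_cases h : tetL.getD n 0 = t
      · rw [if_pos h, h]
        rw [Nat.beq_refl]
        rfl
      · have : Nat.beq (tetL.getD n 0) t = false := by
          rw [Bool.eq_false_iff]
          intro h'
          exact h (Nat.eq_of_beq_eq_true h')
        rw [if_neg h, this]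
        rfl
  exact h 24

theorem cg_xi {A : Co0} (hA : IsXi A) {v : leechLattice} {n : ℕ} (hv : (v : GolayPt → ℤ) = vec n) :
    Cg (A • v : leechLattice) (xiF (dig n)) := by
  intro p
  have h1 := hA v p
  have h2 : (∑ q : GolayPt, if tetL.getD (pos q) 0 = tetL.getD (pos p) 0 then (v : GolayPt → ℤ) q else 0)
      = (tsum (dig n) (tetL.getD (pos p) 0) : ℤ) - 64 := by
    rw [tsum_eq, hv]
    have h3 : ∀ q : GolayPt, (if tetL.getD (pos q) 0 = tetL.getD (pos p) 0 then vec n q else 0) =
        (fun k => (if tetL.getD k 0 = tetL.getD (pos p) 0 then (dig n k : ℤ) else 0) -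
          16 * (if tetL.getD k 0 = tetL.getD (pos p) 0 then (1 : ℤ) else 0)) (pos q) := by
      intro q
      rw [vec_apply]
      unfold sdig
      dsimp only
      split_ifs <;> ring
    rw [Finset.sum_congr rfl fun q _ => h3 q]
    refine (sum_points (fun k => (if tetL.getD k 0 = tetL.getD (pos p) 0 then (dig n k : ℤ) else 0) -
          16 * (if tetL.getD k 0 = tetL.getD (pos p) 0 then (1 : ℤ) else 0))).trans ?_
    rw [Finset.sum_sub_distrib, ← Finset.mul_sum, tet_card _ (tet_lt _ (pos_lt p))]
    push_cast
    norm_num
  rw [h2, hv, vec_apply] at h1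
  unfold sdig at h1
  unfold xiF
  by_cases ht : tetL.getD (pos p) 0 = 0
  · rw [if_pos ht] at h1
    have : Nat.beq (tetL.getD (pos p) 0) 0 = true := by rw [ht]; rfl
    rw [this, cond_true]
    push_cast
    omega
  · rw [if_neg ht] at h1
    have : Nat.beq (tetL.getD (pos p) 0) 0 = false := by
      rw [Bool.eq_false_iff]
      intro h'
      exact ht (Nat.eq_of_beq_eq_true h')
    rw [this, cond_false]
    push_cast
    omega

/-- The code matrix of the sextet element. -/
theorem code_xi {A : Co0} (hA : IsXi A) (v : leechLattice) : codeL (A • v) = lin xiC (codeL v) :=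
  chk_sound chk_xi (fun j => cg_xi hA (bv_coe j)) v

end Cfsg.Agent.MonsterX.FrameLet
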