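import Cfsg.Agent.MonsterX.FrameTree
import Cfsg.Agent.MonsterX.Frames.J0D
import Cfsg.Agent.MonsterX.Frames.J1D
import Cfsg.Agent.MonsterX.Frames.J2D
import Cfsg.Agent.MonsterX.Frames.J3D
import Cfsg.Agent.MonsterX.Frames.J4D
import Cfsg.Agent.MonsterX.Frames.J5D
import Cfsg.Agent.MonsterX.Frames.J6D
import Cfsg.Agent.MonsterX.Frames.J7D
import Cfsg.Agent.MonsterX.Frames.J8D
import Cfsg.Agent.MonsterX.Frames.J9D
import Cfsg.Agent.MonsterX.Frames.J10D
import Cfsg.Agent.MonsterX.Frames.J11D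

/-!
# The rows of `FrameTree` are the rows of the classes
-/

set_option autoImplicit false
set_option maxRecDepth 100000

namespace Cfsg.Agent.MonsterX.FrameTreeP

open Cfsg.Agent.MonsterX.Lin24 Cfsg.Agent.MonsterX.FrameGam Cfsg.Agent.MonsterX.FrameTree

theorem row0 : ∀ m, m < 3 → cl (0 + m) = 0 ∧ nthL PL (0 + m) = Frames.J0.p m := by
  have h : ∀ m, m < 3 → cond (Nat.beq (cl (0 + m)) 0)
      (Nat.beq (nthL PL (0 + m)) (Frames.J0.p m)) false = true :=
    allB_sound (p := fun m => cond (Nat.beq (cl (0 + m)) 0)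
      (Nat.beq (nthL PL (0 + m)) (Frames.J0.p m)) false) (by decide +kernel)
  intro m hm
  have h1 := h m hm
  cases h2 : Nat.beq (cl (0 + m)) 0 with
  | false => rw [h2] at h1; exact absurd h1 (by simp)
  | true =>
    rw [h2, cond_true] at h1
    exact ⟨Nat.eq_of_beq_eq_true h2, Nat.eq_of_beq_eq_true h1⟩

/-- The neighbour numbers of class `0` in the global numbering. -/
theorem pxi0 (m n : ℕ) (hm : m < 3) :
    pxi (0 + m) (0 + n) = (Frames.J0.p m >>> (12 * n)) % 4096 := by
  obtain ⟨h1, h2⟩ := row0 m hm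
  have h3 : off 0 = 0 := by decide +kernel
  unfold pxi
  rw [h1, h2, h3, Nat.add_sub_cancel_left]

theorem row1 : ∀ m, m < 5 → cl (3 + m) = 1 ∧ nthL PL (3 + m) = Frames.J1.p m := by
  have h : ∀ m, m < 5 → cond (Nat.beq (cl (3 + m)) 1)
      (Nat.beq (nthL PL (3 + m)) (Frames.J1.p m)) false = true :=
    allB_sound (p := fun m => cond (Nat.beq (cl (3 + m)) 1)
      (Nat.beq (nthL PL (3 + m)) (Frames.J1.p m)) false) (by decide +kernel)
  intro m hm
  have h1 := h m hm
  cases h2 : Nat.beq (cl (3 + m)) 1 with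
  | false => rw [h2] at h1; exact absurd h1 (by simp)
  | true =>
    rw [h2, cond_true] at h1
    exact ⟨Nat.eq_of_beq_eq_true h2, Nat.eq_of_beq_eq_true h1⟩

/-- The neighbour numbers of class `1` in the global numbering. -/
theorem pxi1 (m n : ℕ) (hm : m < 5) :
    pxi (3 + m) (3 + n) = (Frames.J1.p m >>> (12 * n)) % 4096 := by
  obtain ⟨h1, h2⟩ := row1 m hm
  have h3 : off 1 = 3 := by decide +kernel
  unfold pxi
  rw [h1, h2, h3, Nat.add_sub_cancel_left]

theorem row2 : ∀ m, m < 9 → cl (8 + m) = 2 ∧ nthL PL (8 + m) = Frames.J2.p m := by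
  have h : ∀ m, m < 9 → cond (Nat.beq (cl (8 + m)) 2)
      (Nat.beq (nthL PL (8 + m)) (Frames.J2.p m)) false = true :=
    allB_sound (p := fun m => cond (Nat.beq (cl (8 + m)) 2)
      (Nat.beq (nthL PL (8 + m)) (Frames.J2.p m)) false) (by decide +kernel)
  intro m hm
  have h1 := h m hm
  cases h2 : Nat.beq (cl (8 + m)) 2 with
  | false => rw [h2] at h1; exact absurd h1 (by simp)
  | true =>
    rw [h2, cond_true] at h1
    exact ⟨Nat.eq_of_beq_eq_true h2, Nat.eq_of_beq_eq_true h1⟩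

/-- The neighbour numbers of class `2` in the global numbering. -/
theorem pxi2 (m n : ℕ) (hm : m < 9) :
    pxi (8 + m) (8 + n) = (Frames.J2.p m >>> (12 * n)) % 4096 := by
  obtain ⟨h1, h2⟩ := row2 m hm
  have h3 : off 2 = 8 := by decide +kernel
  unfold pxi
  rw [h1, h2, h3, Nat.add_sub_cancel_left]

theorem row3 : ∀ m, m < 16 → cl (17 + m) = 3 ∧ nthL PL (17 + m) = Frames.J3.p m := by
  have h : ∀ m, m < 16 → cond (Nat.beq (cl (17 + m)) 3)
      (Nat.beq (nthL PL (17 + m)) (Frames.J3.p m)) false = true :=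
    allB_sound (p := fun m => cond (Nat.beq (cl (17 + m)) 3)
      (Nat.beq (nthL PL (17 + m)) (Frames.J3.p m)) false) (by decide +kernel)
  intro m hm
  have h1 := h m hm
  cases h2 : Nat.beq (cl (17 + m)) 3 with
  | false => rw [h2] at h1; exact absurd h1 (by simp)
  | true =>
    rw [h2, cond_true] at h1
    exact ⟨Nat.eq_of_beq_eq_true h2, Nat.eq_of_beq_eq_true h1⟩

/-- The neighbour numbers of class `3` in the global numbering. -/
theorem pxi3 (m n : ℕ) (hm : m < 16) :
    pxi (17 + m) (17 + n) = (Frames.J3.p m >>> (12 * n)) % 4096 := by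
  obtain ⟨h1, h2⟩ := row3 m hm
  have h3 : off 3 = 17 := by decide +kernel
  unfold pxi
  rw [h1, h2, h3, Nat.add_sub_cancel_left]

theorem row4 : ∀ m, m < 14 → cl (33 + m) = 4 ∧ nthL PL (33 + m) = Frames.J4.p m := by
  have h : ∀ m, m < 14 → cond (Nat.beq (cl (33 + m)) 4)
      (Nat.beq (nthL PL (33 + m)) (Frames.J4.p m)) false = true :=
    allB_sound (p := fun m => cond (Nat.beq (cl (33 + m)) 4)
      (Nat.beq (nthL PL (33 + m)) (Frames.J4.p m)) false) (by decide +kernel)
  intro m hm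
  have h1 := h m hm
  cases h2 : Nat.beq (cl (33 + m)) 4 with
  | false => rw [h2] at h1; exact absurd h1 (by simp)
  | true =>
    rw [h2, cond_true] at h1
    exact ⟨Nat.eq_of_beq_eq_true h2, Nat.eq_of_beq_eq_true h1⟩

/-- The neighbour numbers of class `4` in the global numbering. -/
theorem pxi4 (m n : ℕ) (hm : m < 14) :
    pxi (33 + m) (33 + n) = (Frames.J4.p m >>> (12 * n)) % 4096 := by
  obtain ⟨h1, h2⟩ := row4 m hm
  have h3 : off 4 = 33 := by decide +kernel
  unfold pxi
  rw [h1, h2, h3, Nat.add_sub_cancel_left]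

theorem row5 : ∀ m, m < 10 → cl (47 + m) = 5 ∧ nthL PL (47 + m) = Frames.J5.p m := by
  have h : ∀ m, m < 10 → cond (Nat.beq (cl (47 + m)) 5)
      (Nat.beq (nthL PL (47 + m)) (Frames.J5.p m)) false = true :=
    allB_sound (p := fun m => cond (Nat.beq (cl (47 + m)) 5)
      (Nat.beq (nthL PL (47 + m)) (Frames.J5.p m)) false) (by decide +kernel)
  intro m hm
  have h1 := h m hm
  cases h2 : Nat.beq (cl (47 + m)) 5 with
  | false => rw [h2] at h1; exact absurd h1 (by simp)
  | true =>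
    rw [h2, cond_true] at h1
    exact ⟨Nat.eq_of_beq_eq_true h2, Nat.eq_of_beq_eq_true h1⟩

/-- The neighbour numbers of class `5` in the global numbering. -/
theorem pxi5 (m n : ℕ) (hm : m < 10) :
    pxi (47 + m) (47 + n) = (Frames.J5.p m >>> (12 * n)) % 4096 := by
  obtain ⟨h1, h2⟩ := row5 m hm
  have h3 : off 5 = 47 := by decide +kernel
  unfold pxi
  rw [h1, h2, h3, Nat.add_sub_cancel_left]

theorem row6 : ∀ m, m < 23 → cl (57 + m) = 6 ∧ nthL PL (57 + m) = Frames.J6.p m := by
  have h : ∀ m, m < 23 → cond (Nat.beq (cl (57 + m)) 6)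
      (Nat.beq (nthL PL (57 + m)) (Frames.J6.p m)) false = true :=
    allB_sound (p := fun m => cond (Nat.beq (cl (57 + m)) 6)
      (Nat.beq (nthL PL (57 + m)) (Frames.J6.p m)) false) (by decide +kernel)
  intro m hm
  have h1 := h m hm
  cases h2 : Nat.beq (cl (57 + m)) 6 with
  | false => rw [h2] at h1; exact absurd h1 (by simp)
  | true =>
    rw [h2, cond_true] at h1
    exact ⟨Nat.eq_of_beq_eq_true h2, Nat.eq_of_beq_eq_true h1⟩

/-- The neighbour numbers of class `6` in the global numbering. -/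
theorem pxi6 (m n : ℕ) (hm : m < 23) :
    pxi (57 + m) (57 + n) = (Frames.J6.p m >>> (12 * n)) % 4096 := by
  obtain ⟨h1, h2⟩ := row6 m hm
  have h3 : off 6 = 57 := by decide +kernel
  unfold pxi
  rw [h1, h2, h3, Nat.add_sub_cancel_left]

theorem row7 : ∀ m, m < 8 → cl (80 + m) = 7 ∧ nthL PL (80 + m) = Frames.J7.p m := by
  have h : ∀ m, m < 8 → cond (Nat.beq (cl (80 + m)) 7)
      (Nat.beq (nthL PL (80 + m)) (Frames.J7.p m)) false = true :=
    allB_sound (p := fun m => cond (Nat.beq (cl (80 + m)) 7)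
      (Nat.beq (nthL PL (80 + m)) (Frames.J7.p m)) false) (by decide +kernel)
  intro m hm
  have h1 := h m hm
  cases h2 : Nat.beq (cl (80 + m)) 7 with
  | false => rw [h2] at h1; exact absurd h1 (by simp)
  | true =>
    rw [h2, cond_true] at h1
    exact ⟨Nat.eq_of_beq_eq_true h2, Nat.eq_of_beq_eq_true h1⟩

/-- The neighbour numbers of class `7` in the global numbering. -/
theorem pxi7 (m n : ℕ) (hm : m < 8) :
    pxi (80 + m) (80 + n) = (Frames.J7.p m >>> (12 * n)) % 4096 := by
  obtain ⟨h1, h2⟩ := row7 m hm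
  have h3 : off 7 = 80 := by decide +kernel
  unfold pxi
  rw [h1, h2, h3, Nat.add_sub_cancel_left]

theorem row8 : ∀ m, m < 37 → cl (88 + m) = 8 ∧ nthL PL (88 + m) = Frames.J8.p m := by
  have h : ∀ m, m < 37 → cond (Nat.beq (cl (88 + m)) 8)
      (Nat.beq (nthL PL (88 + m)) (Frames.J8.p m)) false = true :=
    allB_sound (p := fun m => cond (Nat.beq (cl (88 + m)) 8)
      (Nat.beq (nthL PL (88 + m)) (Frames.J8.p m)) false) (by decide +kernel)
  intro m hm
  have h1 := h m hm
  cases h2 : Nat.beq (cl (88 + m)) 8 with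
  | false => rw [h2] at h1; exact absurd h1 (by simp)
  | true =>
    rw [h2, cond_true] at h1
    exact ⟨Nat.eq_of_beq_eq_true h2, Nat.eq_of_beq_eq_true h1⟩

/-- The neighbour numbers of class `8` in the global numbering. -/
theorem pxi8 (m n : ℕ) (hm : m < 37) :
    pxi (88 + m) (88 + n) = (Frames.J8.p m >>> (12 * n)) % 4096 := by
  obtain ⟨h1, h2⟩ := row8 m hm
  have h3 : off 8 = 88 := by decide +kernel
  unfold pxi
  rw [h1, h2, h3, Nat.add_sub_cancel_left]

theorem row9 : ∀ m, m < 23 → cl (125 + m) = 9 ∧ nthL PL (125 + m) = Frames.J9.p m := by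
  have h : ∀ m, m < 23 → cond (Nat.beq (cl (125 + m)) 9)
      (Nat.beq (nthL PL (125 + m)) (Frames.J9.p m)) false = true :=
    allB_sound (p := fun m => cond (Nat.beq (cl (125 + m)) 9)
      (Nat.beq (nthL PL (125 + m)) (Frames.J9.p m)) false) (by decide +kernel)
  intro m hm
  have h1 := h m hm
  cases h2 : Nat.beq (cl (125 + m)) 9 with
  | false => rw [h2] at h1; exact absurd h1 (by simp)
  | true =>
    rw [h2, cond_true] at h1
    exact ⟨Nat.eq_of_beq_eq_true h2, Nat.eq_of_beq_eq_true h1⟩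

/-- The neighbour numbers of class `9` in the global numbering. -/
theorem pxi9 (m n : ℕ) (hm : m < 23) :
    pxi (125 + m) (125 + n) = (Frames.J9.p m >>> (12 * n)) % 4096 := by
  obtain ⟨h1, h2⟩ := row9 m hm
  have h3 : off 9 = 125 := by decide +kernel
  unfold pxi
  rw [h1, h2, h3, Nat.add_sub_cancel_left]

theorem row10 : ∀ m, m < 38 → cl (148 + m) = 10 ∧ nthL PL (148 + m) = Frames.J10.p m := by
  have h : ∀ m, m < 38 → cond (Nat.beq (cl (148 + m)) 10)
      (Nat.beq (nthL PL (148 + m)) (Frames.J10.p m)) false = true :=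
    allB_sound (p := fun m => cond (Nat.beq (cl (148 + m)) 10)
      (Nat.beq (nthL PL (148 + m)) (Frames.J10.p m)) false) (by decide +kernel)
  intro m hm
  have h1 := h m hm
  cases h2 : Nat.beq (cl (148 + m)) 10 with
  | false => rw [h2] at h1; exact absurd h1 (by simp)
  | true =>
    rw [h2, cond_true] at h1
    exact ⟨Nat.eq_of_beq_eq_true h2, Nat.eq_of_beq_eq_true h1⟩

/-- The neighbour numbers of class `10` in the global numbering. -/
theorem pxi10 (m n : ℕ) (hm : m < 38) :
    pxi (148 + m) (148 + n) = (Frames.J10.p m >>> (12 * n)) % 4096 := by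
  obtain ⟨h1, h2⟩ := row10 m hm
  have h3 : off 10 = 148 := by decide +kernel
  unfold pxi
  rw [h1, h2, h3, Nat.add_sub_cancel_left]

theorem row11 : ∀ m, m < 65 → cl (186 + m) = 11 ∧ nthL PL (186 + m) = Frames.J11.p m := by
  have h : ∀ m, m < 65 → cond (Nat.beq (cl (186 + m)) 11)
      (Nat.beq (nthL PL (186 + m)) (Frames.J11.p m)) false = true :=
    allB_sound (p := fun m => cond (Nat.beq (cl (186 + m)) 11)
      (Nat.beq (nthL PL (186 + m)) (Frames.J11.p m)) false) (by decide +kernel)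
  intro m hm
  have h1 := h m hm
  cases h2 : Nat.beq (cl (186 + m)) 11 with
  | false => rw [h2] at h1; exact absurd h1 (by simp)
  | true =>
    rw [h2, cond_true] at h1
    exact ⟨Nat.eq_of_beq_eq_true h2, Nat.eq_of_beq_eq_true h1⟩

/-- The neighbour numbers of class `11` in the global numbering. -/
theorem pxi11 (m n : ℕ) (hm : m < 65) :
    pxi (186 + m) (186 + n) = (Frames.J11.p m >>> (12 * n)) % 4096 := by
  obtain ⟨h1, h2⟩ := row11 m hm
  have h3 : off 11 = 186 := by decide +kernel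
  unfold pxi
  rw [h1, h2, h3, Nat.add_sub_cancel_left]

end Cfsg.Agent.MonsterX.FrameTreeP
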