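/-
The Harada-Norton group in the centraliser of an element of order `5`, the abstract part for the generator `t`:
`j = z t₀` (the involution of `a₁`), `j₁ = v t₀ v⁻¹` (the involution of the axis `v a₀`), `t = j j₁`, and
`s = p t p⁻¹` with `p j p⁻¹ = t₀`.  The relators with `t` and the commutation of `s` with `x, y, z, t` follow from
identities between axes.
-/
import Cfsg.Agent.MonsterX.MainTrans

set_option autoImplicit false

namespace Cfsg.Agent.MonsterX.HNAbs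

open Cfsg.Agent.MonsterX.Model Cfsg.Agent.MonsterX.MainBasic Cfsg.Agent.MonsterX.MainTrans

section group

variable {Γ : Type} [Group Γ]

/-- two involutions `a`, `b` with `a b a = b a b` -/
theorem cube {a b : Γ} (ha : a * a = 1) (hb : b * b = 1) (h : a * b * a = b * a * b) : (a * b) ^ 3 = 1 := by
  have h1 : (a * b) ^ 3 = (a * b * a) * (b * a * b) := by
    rw [pow_succ, pow_two]; group
  rw [h1, h]
  calc b * a * b * (b * a * b) = b * a * (b * b) * a * b := by group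
    _ = 1 := by rw [hb, mul_one, mul_assoc b a a, ha, mul_one, hb]

variable {x j j₁ : Γ}

theorem comm_sq (hx : x * x = j) : x * j = j * x := by rw [← hx, mul_assoc]

/-- `t ^ x = t⁻²` -/
theorem rel_x (hj : j * j = 1) (hj₁ : j₁ * j₁ = 1) (hx : x * x = j)
    (h : j₁ = (x * j * j₁) * j * (x * j * j₁)⁻¹) : x⁻¹ * (j * j₁) * x * (j * j₁) ^ 2 = 1 := by
  have hi : j⁻¹ = j := inv_eq_of_mul_eq_one_left hj
  have hi₁ : j₁⁻¹ = j₁ := inv_eq_of_mul_eq_one_left hj₁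
  have h1 : x⁻¹ * j₁ * x = j * j₁ * j * j₁ * j := by
    conv_lhs => rw [h]
    calc x⁻¹ * (x * j * j₁ * j * (x * j * j₁)⁻¹) * x = j * j₁ * j * j₁⁻¹ * j⁻¹ := by group
      _ = _ := by rw [hi, hi₁]
  have h2 : x⁻¹ * j * x = j := by
    rw [mul_assoc, ← comm_sq hx, inv_mul_cancel_left]
  calc x⁻¹ * (j * j₁) * x * (j * j₁) ^ 2 = (x⁻¹ * j * x) * (x⁻¹ * j₁ * x) * (j * j₁ * (j * j₁)) := by
        rw [pow_two]; group
    _ = (j * j) * (j₁ * (j * (j₁ * (j * j) * j₁) * j) * j₁) := by rw [h1, h2]; group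
    _ = 1 := by rw [hj, mul_one, hj₁, mul_one, hj, mul_one, hj₁, mul_one]

/-- `t ^ 5 = 1` -/
theorem rel_five (hj : j * j = 1) (hj₁ : j₁ * j₁ = 1) (hx : x * x = j)
    (h : x⁻¹ * (j * j₁) * x * (j * j₁) ^ 2 = 1) : (j * j₁) ^ 5 = 1 := by
  have hi : j⁻¹ = j := inv_eq_of_mul_eq_one_left hj
  generalize ht : j * j₁ = t at h
  have h1 : x⁻¹ * t * x = t⁻¹ * t⁻¹ := by
    rw [eq_inv_of_mul_eq_one_left h, pow_two, mul_inv_rev]
  have h2 : x⁻¹ * (x⁻¹ * t * x) * x = t ^ 4 := by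
    rw [h1]
    calc x⁻¹ * (t⁻¹ * t⁻¹) * x = (x⁻¹ * t * x)⁻¹ * (x⁻¹ * t * x)⁻¹ := by group
      _ = t ^ 4 := by rw [h1]; group
  have h3 : x⁻¹ * (x⁻¹ * t * x) * x = t⁻¹ := by
    calc x⁻¹ * (x⁻¹ * t * x) * x = (x * x)⁻¹ * t * (x * x) := by group
      _ = j * t * j := by rw [hx, hi]
      _ = t⁻¹ := by
        apply eq_inv_of_mul_eq_one_left
        rw [← ht]
        calc j * (j * j₁) * j * (j * j₁) = (j * j) * (j₁ * (j * j) * j₁) := by group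
          _ = 1 := by rw [hj, mul_one, hj₁, mul_one]
  rw [pow_succ, ← h2, h3, inv_mul_cancel]

/-- `[t, y] = 1` -/
theorem rel_y {y : Γ} (h : y * j = j * y) (h₁ : y * j₁ = j₁ * y) :
    (j * j₁)⁻¹ * y⁻¹ * (j * j₁) * y = 1 := by
  have h2 : j * j₁ * y = y * (j * j₁) := by
    rw [mul_assoc, ← h₁, ← mul_assoc, ← h, mul_assoc]
  rw [mul_assoc, h2]
  group

/-- commutation with `s = t₀ j₂` -/
theorem comm_t {t₀ j₂ : Γ} (hj : j * j = 1) (hj₁ : j₁ * j₁ = 1) (h0 : t₀ * j = j * t₀) (h1 : t₀ * j₁ = j₁ * t₀)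
    (h : j₁ * j₂ * j₁⁻¹ = j * j₂ * j⁻¹) : t₀ * j₂ * (j * j₁) = j * j₁ * (t₀ * j₂) := by
  have hi : j⁻¹ = j := inv_eq_of_mul_eq_one_left hj
  have hi₁ : j₁⁻¹ = j₁ := inv_eq_of_mul_eq_one_left hj₁
  have h2 : j * j₁ * j₂ = j₂ * (j * j₁) := by
    calc j * j₁ * j₂ = j * (j₁ * j₂ * j₁⁻¹) * j₁ := by group
      _ = (j * j) * j₂ * j * j₁ := by rw [h, hi]; group
      _ = j₂ * (j * j₁) := by rw [hj, one_mul, mul_assoc]
  calc t₀ * j₂ * (j * j₁) = t₀ * (j * j₁ * j₂) := by rw [mul_assoc, h2]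
    _ = (t₀ * j) * j₁ * j₂ := by group
    _ = j * (t₀ * j₁) * j₂ := by rw [h0]; group
    _ = j * j₁ * (t₀ * j₂) := by rw [h1]; group

end group

variable {W : Type} [AddCommGroup W] [Module ℚ W] {M : MData W} {K₀ : Type} [Group K₀]

/-- The involution `j`. -/
def jj (M : MData W) : W ≃ₗ[ℚ] W := M.z * M.t₀

/-- The involution of the axis `v a₀`. -/
def jv (M : MData W) (v : W ≃ₗ[ℚ] W) : W ≃ₗ[ℚ] W := v * M.t₀ * v⁻¹

/-- The generator `t`. -/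
def tt (M : MData W) (v : W ≃ₗ[ℚ] W) : W ≃ₗ[ℚ] W := jj M * jv M v

/-- The hypotheses. -/
structure Config (M : MData W) (x y z v v₂ p : W ≃ₗ[ℚ] W) : Prop where
  x_mem : x ∈ M.G
  y_mem : y ∈ M.C
  z_mem : z ∈ M.G
  v_mem : v ∈ M.G
  v₂_mem : v₂ ∈ M.G
  p_mem : p ∈ M.G
  x_a₀ : x M.a₀ = M.a₀
  y_a₀ : y M.a₀ = M.a₀
  z_a₀ : z M.a₀ = M.a₀
  x_sq : x * x = jj M
  t₀_v : M.t₀ (v M.a₀) = v M.a₀
  y_v : y (v M.a₀) = v M.a₀
  /-- axis identity for `t ^ x = t⁻²` -/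
  x_v : v M.a₀ = (x * jj M * jv M v) M.a₁
  /-- axis identities for `(z t) ^ 3 = 1` -/
  z_v : (z * jj M) (v M.a₀) = jv M v (v₂ M.a₀)
  z_v₂ : z * jj M = jv M v₂
  p_j : p * jj M * p⁻¹ = M.t₀
  x_p : x (p (v M.a₀)) = p (v M.a₀)
  y_p : y (p (v M.a₀)) = p (v M.a₀)
  z_p : z (p (v M.a₀)) = p (v M.a₀)
  v_p : jv M v (p (v M.a₀)) = jj M (p (v M.a₀))
  ne : v M.a₀ ≠ M.a₁

theorem z_t₀ (hG : MGroup M K₀) (hR : MRep M) : M.z * M.t₀ = M.t₀ * M.z := (hG.z_comm _ (hG.Q_le hR.t₀_mem)).symm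

theorem t₀_mem (hG : MGroup M K₀) (hR : MRep M) : M.t₀ ∈ M.G := C_le (hG.Q_le hR.t₀_mem)

theorem jj_sq (hG : MGroup M K₀) (hR : MRep M) : jj M * jj M = 1 := by
  unfold jj
  calc M.z * M.t₀ * (M.z * M.t₀) = M.z * (M.t₀ * M.z) * M.t₀ := by group
    _ = M.z * M.z * (M.t₀ * M.t₀) := by rw [← z_t₀ hG hR]; group
    _ = 1 := by rw [hG.z_sq, hR.t₀_sq, one_mul]

theorem jv_sq (hR : MRep M) (v : W ≃ₗ[ℚ] W) : jv M v * jv M v = 1 := by
  unfold jv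
  calc v * M.t₀ * v⁻¹ * (v * M.t₀ * v⁻¹) = v * (M.t₀ * M.t₀) * v⁻¹ := by group
    _ = 1 := by rw [hR.t₀_sq, mul_one, mul_inv_cancel]

theorem jj_mem (hG : MGroup M K₀) (hR : MRep M) : jj M ∈ M.G := M.G.mul_mem (C_le (z_mem_C hG)) (t₀_mem hG hR)

theorem jv_mem (hG : MGroup M K₀) (hR : MRep M) {v : W ≃ₗ[ℚ] W} (hv : v ∈ M.G) : jv M v ∈ M.G :=
  M.G.mul_mem (M.G.mul_mem hv (t₀_mem hG hR)) (M.G.inv_mem hv)

theorem tt_mem (hG : MGroup M K₀) (hR : MRep M) {v : W ≃ₗ[ℚ] W} (hv : v ∈ M.G) : tt M v ∈ M.G :=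
  M.G.mul_mem (jj_mem hG hR) (jv_mem hG hR hv)

theorem jv_mul (g v : W ≃ₗ[ℚ] W) : jv M (g * v) = g * jv M v * g⁻¹ := by
  unfold jv; group

/-- The involutions of two equal axes. -/
theorem jv_eq (hG : MGroup M K₀) (hR : MRep M) (hL : MLat M) (hO : MOrbit M) (hT : MTrans M)
    {g h : W ≃ₗ[ℚ] W} (hg : g ∈ M.G) (hh : h ∈ M.G) (e : g M.a₀ = h M.a₀) : jv M g = jv M h :=
  conj_eq hG hR hL hO hT hg hh e

/-- An element of `G` fixing the axis commutes with its involution. -/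
theorem comm_jv (hG : MGroup M K₀) (hR : MRep M) (hL : MLat M) (hO : MOrbit M) (hT : MTrans M)
    {g v : W ≃ₗ[ℚ] W} (hg : g ∈ M.G) (hv : v ∈ M.G) (e : g (v M.a₀) = v M.a₀) : g * jv M v = jv M v * g := by
  have h := jv_eq hG hR hL hO hT (M.G.mul_mem hg hv) hv e
  rw [jv_mul] at h
  rw [← h]
  conv_rhs => rw [inv_mul_cancel_right]
  rw [h]

/-- `jj` is the involution of `a₁`. -/
theorem exists_jj (hG : MGroup M K₀) (hR : MRep M) : ∃ y₁ ∈ M.G, y₁ M.a₀ = M.a₁ ∧ jv M y₁ = jj M := by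
  obtain ⟨y₁, h, h1, h2⟩ := exists_y hG hR
  exact ⟨y₁, C_le (hG.Q_le h), h1, h2⟩

namespace Config

variable {x y z v v₂ p : W ≃ₗ[ℚ] W} (c : Config M x y z v v₂ p)
variable (hG : MGroup M K₀) (hR : MRep M) (hL : MLat M) (hO : MOrbit M) (hT : MTrans M)

include c hG hR hL hO hT

theorem rel_tx : x⁻¹ * tt M v * x * tt M v ^ 2 = 1 := by
  refine rel_x (jj_sq hG hR) (jv_sq hR v) c.x_sq ?_
  obtain ⟨y₁, hy, h1, h2⟩ := exists_jj hG hR
  have h3 := jv_eq hG hR hL hO hT (g := v) (h := (x * jj M * jv M v) * y₁) c.v_mem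
    (M.G.mul_mem (M.G.mul_mem (M.G.mul_mem c.x_mem (jj_mem hG hR)) (jv_mem hG hR c.v_mem)) hy) (by
      rw [LinearEquiv.mul_apply, h1]; exact c.x_v)
  rwa [jv_mul, h2] at h3

theorem rel_t5 : tt M v ^ 5 = 1 :=
  rel_five (jj_sq hG hR) (jv_sq hR v) c.x_sq (c.rel_tx hG hR hL hO hT)

omit c hL hO hT in
theorem comm_jj {g : W ≃ₗ[ℚ] W} (hg : g ∈ M.C) (e : g M.a₀ = M.a₀) : g * jj M = jj M * g := by
  have h1 := hG.z_comm g hg
  have h2 := hR.t₀_comm g hg e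
  show g * (M.z * M.t₀) = M.z * M.t₀ * g
  rw [mul_assoc M.z, ← h2, ← mul_assoc, h1, mul_assoc]

theorem rel_ty : (tt M v)⁻¹ * y⁻¹ * tt M v * y = 1 :=
  rel_y (comm_jj hG hR c.y_mem c.y_a₀) (comm_jv hG hR hL hO hT (C_le c.y_mem) c.v_mem c.y_v)

theorem rel_zt : (z * tt M v) ^ 3 = 1 := by
  have h : z * tt M v = (z * jj M) * jv M v := by unfold tt; rw [mul_assoc]
  have h1 : z * jj M * (z * jj M) = 1 := by rw [c.z_v₂]; exact jv_sq hR v₂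
  rw [h]
  refine cube h1 (jv_sq hR v) ?_
  have h3 := jv_eq hG hR hL hO hT (g := (z * jj M) * v) (h := jv M v * v₂)
    (M.G.mul_mem (M.G.mul_mem c.z_mem (jj_mem hG hR)) c.v_mem) (M.G.mul_mem (jv_mem hG hR c.v_mem) c.v₂_mem) c.z_v
  rw [jv_mul, jv_mul, ← c.z_v₂, inv_eq_of_mul_eq_one_left h1, inv_eq_of_mul_eq_one_left (jv_sq hR v)] at h3
  exact h3

omit hG hR hL hO hT [Group K₀] in
/-- The element of order `5`. -/
theorem s_eq : p * tt M v * p⁻¹ = M.t₀ * jv M (p * v) := by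
  rw [jv_mul, ← c.p_j]
  unfold tt
  group

omit c in
theorem comm_t₀' {g : W ≃ₗ[ℚ] W} (hg : g ∈ M.G) (e : g M.a₀ = M.a₀) : g * M.t₀ = M.t₀ * g :=
  comm_t₀ hG hR hL hO hT hg e

theorem comm_s {g : W ≃ₗ[ℚ] W} (hg : g ∈ M.G) (e : g M.a₀ = M.a₀) (e' : g (p (v M.a₀)) = p (v M.a₀)) :
    (p * tt M v * p⁻¹) * g = g * (p * tt M v * p⁻¹) := by
  have h1 := comm_t₀' hG hR hL hO hT hg e
  have h2 := comm_jv hG hR hL hO hT (v := p * v) hg (M.G.mul_mem c.p_mem c.v_mem) e'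
  rw [c.s_eq, mul_assoc, ← h2, ← mul_assoc, ← h1, mul_assoc]

theorem comm_s_x : (p * tt M v * p⁻¹) * x = x * (p * tt M v * p⁻¹) :=
  c.comm_s hG hR hL hO hT c.x_mem c.x_a₀ c.x_p

theorem comm_s_y : (p * tt M v * p⁻¹) * y = y * (p * tt M v * p⁻¹) :=
  c.comm_s hG hR hL hO hT (C_le c.y_mem) c.y_a₀ c.y_p

theorem comm_s_z : (p * tt M v * p⁻¹) * z = z * (p * tt M v * p⁻¹) :=
  c.comm_s hG hR hL hO hT c.z_mem c.z_a₀ c.z_p

theorem comm_s_t : (p * tt M v * p⁻¹) * tt M v = tt M v * (p * tt M v * p⁻¹) := by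
  rw [c.s_eq]
  refine comm_t (jj_sq hG hR) (jv_sq hR v) ?_ ?_ ?_
  · unfold jj
    rw [← mul_assoc, ← z_t₀ hG hR, mul_assoc]
  · exact comm_jv hG hR hL hO hT (t₀_mem hG hR) c.v_mem c.t₀_v
  · have hpv := M.G.mul_mem c.p_mem c.v_mem
    have h := jv_eq hG hR hL hO hT (g := jv M v * (p * v)) (h := jj M * (p * v))
      (M.G.mul_mem (jv_mem hG hR c.v_mem) hpv) (M.G.mul_mem (jj_mem hG hR) hpv) c.v_p
    rwa [jv_mul, jv_mul] at h

theorem t_ne : tt M v ≠ 1 := by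
  intro h
  obtain ⟨y₁, hy, h1, h2⟩ := exists_jj hG hR
  apply c.ne
  rw [← h1]
  refine conj_inj hG hR hL hO hT c.v_mem hy ?_
  change jv M v = jv M y₁
  rw [h2]
  have h3 : jj M * jv M v = jj M * jj M := by rw [jj_sq hG hR]; exact h
  exact mul_left_cancel h3

theorem s_five : (p * tt M v * p⁻¹) ^ 5 = 1 := by
  rw [conj_pow, c.rel_t5 hG hR hL hO hT, mul_one, mul_inv_cancel]

theorem s_ne : p * tt M v * p⁻¹ ≠ 1 := by
  intro h
  apply c.t_ne hG hR hL hO hT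
  rw [mul_inv_eq_one] at h
  exact mul_left_cancel (h.trans (mul_one p).symm)

omit hL hO hT in
theorem s_mem : p * tt M v * p⁻¹ ∈ M.G :=
  M.G.mul_mem (M.G.mul_mem c.p_mem (tt_mem hG hR c.v_mem)) (M.G.inv_mem c.p_mem)

end Config

end Cfsg.Agent.MonsterX.HNAbs
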