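/-
Words of programs for the Harada-Norton part: lists of programs with their proofs of goodness, kernel checks.
-/
import Cfsg.Agent.MonsterX.InstData
import Cfsg.Agent.MonsterX.ProgM.HNn
import Cfsg.Agent.MonsterX.ProgM.HNni
import Cfsg.Agent.MonsterX.ProgM.HNx
import Cfsg.Agent.MonsterX.ProgM.HNy
import Cfsg.Agent.MonsterX.ProgM.HNz
import Cfsg.Agent.MonsterX.ProgM.HNQ

set_option autoImplicit false

namespace Cfsg.Agent.MonsterX.HNWord

open Cfsg.Agent.Monster.VecEngine Cfsg.Agent.Monster.VecSpace Cfsg.Agent.MonsterX.Space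
open Cfsg.Agent.MonsterX.ProgTable Cfsg.Agent.MonsterX.GensT Cfsg.Agent.MonsterX.ProgBase
open Cfsg.Agent.MonsterX.Conc Cfsg.Agent.MonsterX.InstData Cfsg.Agent.MonsterX.ProgM

/-- A word of good programs. -/
structure GW where
  l : List Prog
  good : ∀ P ∈ l, GoodT P

/-- Concatenation (the left word acts first). -/
def GW.app (a b : GW) : GW := ⟨a.l ++ b.l, fun P h => (List.mem_append.1 h).elim (a.good P) (b.good P)⟩

/-- The word of a list of letters. -/
noncomputable def lw (w : List ℕ) : GW := ⟨w.map prog, progs_goodT w⟩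

/-- The word of one program. -/
def ow (P : Prog) (h : GoodT P) : GW := ⟨[P], fun _ hQ => (List.mem_singleton.1 hQ) ▸ h⟩

/-- The operator of a word. -/
noncomputable def op (a : GW) : V ≃ₗ[ℚ] V := WP a.l

theorem op_app (a b : GW) : op (a.app b) = op b * op a := WP_append a.good b.good

theorem op_app_apply (a b : GW) (v : V) : op (a.app b) v = op b (op a v) := by
  rw [op_app]; rfl

theorem op_lw (w : List ℕ) : op (lw w) = W w := rfl

theorem op_ow (P : Prog) (h : GoodT P) : op (ow P h) = EP P := WP_single P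

/-! ### Kernel checks -/

theorem eq_of_up {n : ℕ} {a b : GW} {x y : Pl} (h : check a.l (up n x) b.l (up n y) = true) :
    op a (vecV x) = op b (vecV y) := by
  have h1 := WP_eq_of_check a.good b.good h
  rw [vecV_up, vecV_up, map_smul, map_smul] at h1
  exact smul_right_injective V (pow_ne_zero n (two_ne_zero : (2 : ℚ) ≠ 0)) h1

theorem fix_of_up {n : ℕ} {a : GW} {x : Pl} (h : checkFix a.l (up n x) = true) : op a (vecV x) = vecV x := by
  have h1 := WP_fix_of_check a.good h
  rw [vecV_up, map_smul] at h1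
  exact smul_right_injective V (pow_ne_zero n (two_ne_zero : (2 : ℚ) ≠ 0)) h1

theorem run_vec {a : GW} {x : Pl} {k : Pl → Bool} (h : runL a.l x k = true) :
    ∃ y, vecV y = op a (vecV x) ∧ k y = true := by
  obtain ⟨y, hy, hk⟩ := runL_sound ℚ (m := 262144) two_ne_zero _ (fun P hP => (a.good P hP).good.ok) _ k h
  refine ⟨y, ?_, hk⟩
  unfold vecV op
  rw [WP_pr a.good, vecU_eq, vecU_eq, hy, res_semL ℚ fun P hP => (a.good P hP).good.pres]

/-- `b` fixes the vector `a x`; the word `a` is run once. -/
theorem fix_of_run {n : ℕ} {a b : GW} {x : Pl} (h : runL a.l (up n x) (fun y => checkFix b.l y) = true) :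
    op b (op a (vecV x)) = op a (vecV x) := by
  obtain ⟨y, hy, hk⟩ := run_vec h
  have h1 := WP_fix_of_check b.good hk
  rw [hy, vecV_up, map_smul] at h1
  have h2 : (2 : ℚ) ^ n • op b (op a (vecV x)) = (2 : ℚ) ^ n • op a (vecV x) := by
    rw [← map_smul (op b)]; exact h1
  exact smul_right_injective V (pow_ne_zero n (two_ne_zero : (2 : ℚ) ≠ 0)) h2

/-! ### The words -/

/-- `bj 9` -/
def b9 : List ℕ := [42, 39, 40, 38, 39, 42, 39, 40, 42, 39, 37, 39, 40]

/-- the inverse of `bj 9` -/
def b9i : List ℕ := [41, 39, 43, 39, 36, 41, 39, 36, 39, 44, 41, 39, 36]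

/-- The generator `x`. -/
noncomputable def gX : GW := (ow HNx.prog HNx.goodT).app (lw [39])

/-- The generator `y`. -/
noncomputable def gY : GW := ow HNy.prog HNy.goodT

/-- The generator `z`. -/
noncomputable def gZ : GW := (ow HNz.prog HNz.goodT).app (lw [39])

/-- The word `t₀`. -/
noncomputable def gT : GW := lw [13, 14]

/-- The word `j`. -/
noncomputable def gJ : GW := lw [13, 14, 45]

/-- The element `v`. -/
noncomputable def gV : GW := (lw b9).app (ow HNn.prog HNn.goodT)

/-- The inverse of `v`. -/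
noncomputable def gVi : GW := (ow HNni.prog HNni.goodT).app (lw b9i)

/-- The element `v₂`. -/
noncomputable def gV2 : GW := lw [42, 39, 40, 4, 2, 36, 36, 39, 25]

/-- The element `p`. -/
noncomputable def gP : GW := ow HNQ.prog HNQ.goodT

end Cfsg.Agent.MonsterX.HNWord
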