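/-
Axis identities for the Harada-Norton part, the light ones (kernel computations).
-/
import Cfsg.Agent.MonsterX.HNWord

set_option autoImplicit false
set_option maxRecDepth 100000

namespace Cfsg.Agent.MonsterX.HNAx0

open Cfsg.Agent.Monster.VecEngine Cfsg.Agent.MonsterX.Space
open Cfsg.Agent.MonsterX.InstData Cfsg.Agent.MonsterX.HNWord

theorem x_a₀ : op gX (vecV a0B) = vecV a0B := fix_of_up (n := 8) (by decide +kernel)

theorem y_a₀ : op gY (vecV a0B) = vecV a0B := fix_of_up (n := 8) (by decide +kernel)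

theorem z_a₀ : op gZ (vecV a0B) = vecV a0B := fix_of_up (n := 8) (by decide +kernel)

theorem t₀_v : op gT (op gV (vecV a0B)) = op gV (vecV a0B) := fix_of_run (n := 8) (by decide +kernel)

theorem y_v : op gY (op gV (vecV a0B)) = op gV (vecV a0B) := fix_of_run (n := 8) (by decide +kernel)

theorem x_p : op gX (op (gV.app gP) (vecV a0B)) = op (gV.app gP) (vecV a0B) :=
  fix_of_run (n := 8) (by decide +kernel)

theorem y_p : op gY (op (gV.app gP) (vecV a0B)) = op (gV.app gP) (vecV a0B) :=
  fix_of_run (n := 8) (by decide +kernel)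

theorem z_p : op gZ (op (gV.app gP) (vecV a0B)) = op (gV.app gP) (vecV a0B) :=
  fix_of_run (n := 8) (by decide +kernel)

theorem j_p : op gJ (op (gV.app gP) (vecV a0B)) = op (gV.app gP) (vecV a0B) :=
  fix_of_run (n := 8) (by decide +kernel)

end Cfsg.Agent.MonsterX.HNAx0
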