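/-
Axis identities for the Harada-Norton part (kernel computation).
-/
import Cfsg.Agent.MonsterX.HNWord

set_option autoImplicit false
set_option maxRecDepth 100000

namespace Cfsg.Agent.MonsterX.HNAx2

open Cfsg.Agent.Monster.VecEngine Cfsg.Agent.MonsterX.Space
open Cfsg.Agent.MonsterX.InstData Cfsg.Agent.MonsterX.HNWord

theorem z_v : op (gV.app (gJ.app gZ)) (vecV a0B) = op (gV2.app (gVi.app (gT.app gV))) (vecV a0B) :=
  eq_of_up (n := 8) (by decide +kernel)

end Cfsg.Agent.MonsterX.HNAx2
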