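/-
Axis identities for the Harada-Norton part (kernel computation).
-/
import Cfsg.Agent.MonsterX.HNWord

set_option autoImplicit false
set_option maxRecDepth 100000

namespace Cfsg.Agent.MonsterX.HNAx3

open Cfsg.Agent.Monster.VecEngine Cfsg.Agent.MonsterX.Space
open Cfsg.Agent.MonsterX.InstData Cfsg.Agent.MonsterX.HNWord

theorem v_p : op gT (op (gV.app (gP.app gVi)) (vecV a0B)) = op (gV.app (gP.app gVi)) (vecV a0B) :=
  fix_of_run (n := 8) (by decide +kernel)

end Cfsg.Agent.MonsterX.HNAx3
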