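/-
Identities on the base vector for the Harada-Norton part (kernel computations).
-/
import Cfsg.Agent.MonsterX.HNWord
import Cfsg.Agent.MonsterX.BaseVec

set_option autoImplicit false
set_option maxRecDepth 100000

namespace Cfsg.Agent.MonsterX.HNAx4

open Cfsg.Agent.Monster.VecEngine Cfsg.Agent.MonsterX.Space
open Cfsg.Agent.MonsterX.InstData Cfsg.Agent.MonsterX.HNWord Cfsg.Agent.MonsterX.BaseVec

theorem x_sq : op (gX.app gX) (vecV vB) = op gJ (vecV vB) := eq_of_up (n := 8) (by decide +kernel)

theorem z_v₂ : op (gV2.app (gJ.app gZ)) (vecV vB) = op (gT.app gV2) (vecV vB) :=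
  eq_of_up (n := 9) (by decide +kernel)

end Cfsg.Agent.MonsterX.HNAx4
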