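/-
The configuration `HNAbs.Config` in the concrete model: the relators with `t` of `Cfsg.Spor.HN`, and the element `s` of
order `5` commuting with `x, y, z, t`.
-/
import Cfsg.Agent.MonsterX.HNAbs
import Cfsg.Agent.MonsterX.HNAx0
import Cfsg.Agent.MonsterX.HNAx1
import Cfsg.Agent.MonsterX.HNAx2
import Cfsg.Agent.MonsterX.HNAx3
import Cfsg.Agent.MonsterX.HNAx4
import Cfsg.Agent.MonsterX.ConcGrp
import Cfsg.Agent.MonsterX.ConcMono

set_option autoImplicit false

namespace Cfsg.Agent.MonsterX.HNAxes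

open Cfsg.Agent.Monster.VecEngine Cfsg.Agent.MonsterX.Space Cfsg.Agent.MonsterX.ProgM
open Cfsg.Agent.MonsterX.Conc Cfsg.Agent.MonsterX.ConcMono Cfsg.Agent.MonsterX.ConcGrp Cfsg.Agent.MonsterX.InstData Cfsg.Agent.MonsterX.Model
open Cfsg.Agent.MonsterX.MainBasic Cfsg.Agent.MonsterX.HNWord Cfsg.Agent.MonsterX.HNAbs Cfsg.Agent.MonsterX.BaseVec

/-! ### Operators -/

theorem op_gT : op gT = t₀ := rfl

theorem op_gJ : op gJ = jj M := by
  show W ([13, 14] ++ [45]) = M.z * M.t₀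
  rw [W_append, W_single]
  rfl

theorem op_gV : op gV = W HNn.word * W b9 := by
  unfold gV
  rw [op_app, op_ow, HNn.eq_word]
  rfl

theorem lt_all {w : List ℕ} (h : w.all inG = true) : ∀ n ∈ w, n < 46 := by
  intro n hn
  have h1 := List.all_eq_true.1 h n hn
  exact Nat.lt_succ_of_le (Nat.le_of_ble_eq_true h1)

theorem op_gVi : op gVi = (op gV)⁻¹ := by
  rw [op_gV, mul_inv_rev, ← W_wiv (lt_all (w := b9) rfl), ← W_wiv (lt_all (w := HNn.word) rfl)]
  unfold gVi
  rw [op_app, op_ow, HNni.eq_word]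
  rfl

/-! ### Membership -/

theorem x_mem : op gX ∈ M.C := by
  unfold gX
  rw [op_app, op_ow]
  exact C.mul_mem (W_mem_C (w := [39]) rfl) (N_le_C HNx.mem_N)

theorem y_mem : op gY ∈ M.C := by
  unfold gY
  rw [op_ow]
  exact N_le_C HNy.mem_N

theorem z_mem : op gZ ∈ M.C := by
  unfold gZ
  rw [op_app, op_ow]
  exact C.mul_mem (W_mem_C (w := [39]) rfl) (N_le_C HNz.mem_N)

theorem v_mem : op gV ∈ M.G := by
  rw [op_gV]
  exact G.mul_mem (W_mem_G (w := HNn.word) rfl) (W_mem_G (w := b9) rfl)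

theorem v₂_mem : op gV2 ∈ M.G := W_mem_G (w := [42, 39, 40, 4, 2, 36, 36, 39, 25]) rfl

theorem op_gP : op gP = W HNQ.word := by
  unfold gP
  rw [op_ow, HNQ.eq_word]

theorem p_mem : op gP ∈ M.G := by
  rw [op_gP]
  exact W_mem_G (w := HNQ.word) rfl

/-! ### Identities -/

theorem p_j : op gP * jj M * (op gP)⁻¹ = M.t₀ := by
  rw [mul_inv_eq_iff_eq_mul, ← op_gJ, op_gP]
  have h : W ([13, 14, 45] ++ HNQ.word) = W (HNQ.word ++ [13, 14]) := W_eq_of_same (by decide +kernel)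
  rw [W_append, W_append] at h
  exact h

variable {K₀ : Type} [Group K₀]

/-- `v a₀ ≠ a₁`, since the axis `v a₀` is in the orbit `9`. -/
theorem ne (hG : MGroup M K₀) (hR : MRep M) (hO : MOrbit M) : op gV M.a₀ ≠ M.a₁ := by
  intro h
  obtain ⟨y₁, hy, h1, -⟩ := exists_y hG hR
  have hd : M.d (9 : Fin 12) = W b9 M.a₀ := by
    rw [M_a₀]; rfl
  rw [op_gV, LinearEquiv.mul_apply, ← hd, ← h1] at h
  have h0 : M.d M.j₀ = M.a₀ := hO.d_j₀
  rw [← h0] at h
  have hn : W HNn.word ∈ M.C := W_mem_C rfl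
  have h2 : (y₁⁻¹ * W HNn.word) (M.d (9 : Fin 12)) = M.d M.j₀ := by
    rw [LinearEquiv.mul_apply, h, inv_apply']
  have h3 := hO.disjoint (9 : Fin 12) M.j₀ _ (M.C.mul_mem (M.C.inv_mem (hG.Q_le hy)) hn) h2
  exact absurd (congrArg Fin.val h3) (by decide)

/-- The configuration. -/
theorem config (P : Pack K₀) : Config M (op gX) (op gY) (op gZ) (op gV) (op gV2) (op gP) where
  x_mem := C_le x_mem
  y_mem := y_mem
  z_mem := C_le z_mem
  v_mem := v_mem
  v₂_mem := v₂_mem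
  p_mem := p_mem
  x_a₀ := by rw [M_a₀]; exact HNAx0.x_a₀
  y_a₀ := by rw [M_a₀]; exact HNAx0.y_a₀
  z_a₀ := by rw [M_a₀]; exact HNAx0.z_a₀
  x_sq := by
    rw [← op_gJ, ← op_app]
    refine P.eq_of_eq ?_ ?_ HNAx4.x_sq
    · rw [op_app]
      exact M.G.mul_mem (C_le x_mem) (C_le x_mem)
    · exact W_mem_G (w := [13, 14, 45]) rfl
  t₀_v := by rw [M_a₀]; exact HNAx0.t₀_v
  y_v := by rw [M_a₀]; exact HNAx0.y_v
  x_v := by
    rw [M_a₀, M_a₁, ← HNAx1.x_v]
    simp only [op_app, op_gVi, op_gJ, op_gT]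
    unfold jv
    simp only [mul_assoc]
    rfl
  z_v := by
    have h := HNAx2.z_v
    simp only [op_app, op_gVi, op_gJ, op_gT] at h
    rw [M_a₀]
    exact h
  z_v₂ := by
    have h : op (gV2.app (gJ.app gZ)) = op (gT.app gV2) := by
      refine P.eq_of_eq ?_ ?_ HNAx4.z_v₂
      · rw [op_app, op_app]
        exact M.G.mul_mem (M.G.mul_mem (C_le z_mem) (W_mem_G (w := [13, 14, 45]) rfl)) v₂_mem
      · rw [op_app]
        exact M.G.mul_mem v₂_mem (W_mem_G (w := [13, 14]) rfl)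
    simp only [op_app, op_gJ, op_gT] at h
    unfold jv
    rw [eq_mul_inv_iff_mul_eq]
    exact h
  p_j := p_j
  x_p := by
    have h := HNAx0.x_p
    rw [op_app_apply] at h
    rw [M_a₀]; exact h
  y_p := by
    have h := HNAx0.y_p
    rw [op_app_apply] at h
    rw [M_a₀]; exact h
  z_p := by
    have h := HNAx0.z_p
    rw [op_app_apply] at h
    rw [M_a₀]; exact h
  v_p := by
    have h := HNAx0.j_p
    rw [op_app_apply, op_gJ] at h
    rw [M_a₀, h]
    have h1 := HNAx3.v_p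
    simp only [op_app, op_gVi, op_gT, LinearEquiv.mul_apply] at h1
    have h2 := congrArg (fun u => op gV u) h1
    simp only [apply_inv'] at h2
    unfold jv
    rw [LinearEquiv.mul_apply, LinearEquiv.mul_apply]
    exact h2
  ne := ne P.hG P.hR P.hO

end Cfsg.Agent.MonsterX.HNAxes
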