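/-
HN in the Monster model (helper537; words of helper33): the letters of the words for `x, y, z` and the words in them.
All letters are in `C`; an element of `C` is trivial when it fixes `uX` and `sP`, `uB = uX + sP`.
-/
import Cfsg.Agent.MonsterX.BaseVec
import Cfsg.Agent.MonsterX.WordsCodeM
import Cfsg.Agent.MonsterX.ProgM.HNx
import Cfsg.Agent.MonsterX.ProgM.HNy
import Cfsg.Agent.MonsterX.ProgM.HNyi
import Cfsg.Agent.MonsterX.ProgM.HNy3
import Cfsg.Agent.MonsterX.ProgM.HNyx
import Cfsg.Agent.MonsterX.ProgM.HNz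

set_option autoImplicit false
set_option Elab.async false

namespace Cfsg.Agent.MonsterX.HNRelBase

open Cfsg.Agent.Monster.VecEngine Cfsg.Agent.Monster.VecSpace Cfsg.Agent.MonsterX.Space
open Cfsg.Agent.MonsterX.ProgTable Cfsg.Agent.MonsterX.GensT Cfsg.Agent.MonsterX.ProgBase
open Cfsg.Agent.MonsterX.Conc Cfsg.Agent.MonsterX.Model Cfsg.Agent.MonsterX.InstData
open Cfsg.Agent.MonsterX.BaseVec Cfsg.Agent.MonsterX.ProgM

/-- The letters: `o = ξ`, `a = HNx`, `b = HNy`, `q = HNy⁻¹`, `d = HNy³`, `m = HNy then HNx`, `c = HNz`, and the letters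
`45, 13, 14` of `j`. -/
inductive L : Type
  | o | a | b | q | d | m | c | j0 | j1 | j2

/-- The programs of the letters. -/
noncomputable def pr (l : L) : Prog :=
  L.rec (motive := fun _ => Prog) ProgXi.xi HNx.prog HNy.prog HNyi.prog HNy3.prog HNyx.prog HNz.prog ProgZ.z ProgD.xd1
    ProgD.xd2 l

theorem pr_goodT (l : L) : GoodT (pr l) := by
  cases l with
  | o => exact prog_goodT 39
  | a => exact HNx.goodT
  | b => exact HNy.goodT
  | q => exact HNyi.goodT
  | d => exact HNy3.goodT
  | m => exact HNyx.goodT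
  | c => exact HNz.goodT
  | j0 => exact prog_goodT 45
  | j1 => exact prog_goodT 13
  | j2 => exact prog_goodT 14

theorem prs_goodT (w : List L) : ∀ P ∈ w.map pr, GoodT P := by
  intro P hP
  obtain ⟨l, -, rfl⟩ := List.mem_map.1 hP
  exact pr_goodT l

/-- The element of a letter. -/
noncomputable def e (l : L) : V ≃ₗ[ℚ] V := EP (pr l)

/-- The element of a word, the first letter acts first. -/
noncomputable def w (v : List L) : V ≃ₗ[ℚ] V := WP (v.map pr)

theorem w_nil : w [] = 1 := WP_nil

theorem w_cons (l : L) (v : List L) : w (l :: v) = w v * e l := WP_cons (pr_goodT l) (prs_goodT v)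

theorem w_append (v v' : List L) : w (v ++ v') = w v' * w v := by
  show WP ((v ++ v').map pr) = _
  rw [List.map_append]
  exact WP_append (prs_goodT v) (prs_goodT v')

theorem e_mem_C (l : L) : e l ∈ C := by
  cases l with
  | o => exact E_mem_C (n := 39) (by norm_num)
  | a => exact N_le_C HNx.mem_N
  | b => exact N_le_C HNy.mem_N
  | q => exact N_le_C HNyi.mem_N
  | d => exact N_le_C HNy3.mem_N
  | m => exact N_le_C HNyx.mem_N
  | c => exact N_le_C HNz.mem_N
  | j0 => exact N_le_C ProgM.Inv.z_mem_N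
  | j1 => exact E_mem_C (n := 13) (by norm_num)
  | j2 => exact E_mem_C (n := 14) (by norm_num)

theorem w_mem_C (v : List L) : w v ∈ C := by
  induction v with
  | nil => rw [w_nil]; exact C.one_mem
  | cons l v ih => rw [w_cons]; exact C.mul_mem ih (e_mem_C l)

/-- The part of `uB` on the lanes of the Leech vectors. -/
noncomputable def uX : Pl :=
  .cons (bits [0, 192, 832, 2880, 8640, 26048, 62466, 62468, 62470, 62471, 62476, 62480])
    (.cons (bits [64, 192, 1600, 2880, 14784, 26048, 62467, 62468, 62469, 62471, 62478, 62480])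
    (.cons (bits [0, 64, 192, 5056, 8640, 14784, 26048, 62469, 62472, 62476, 62480, 62528])
    (.cons (bits [0, 64, 192, 62470, 62471, 62477, 62478, 62528, 65536])
    (.cons (bits [384, 832, 1600, 2880, 5056, 8640, 14784, 26048, 65536])
    (.sgn (bits []))))))

/-- The lane `196608`. -/
noncomputable def sP : Pl := oneP 196608

theorem split : vecV uB = vecV uX + vecV sP := by
  rw [← vecV_add]
  exact vecV_congr (by decide +kernel)

variable {K₀ : Type} [Group K₀]

theorem fix_of {v : List L} {n : ℕ} {x : Pl} (h : checkFix (v.map pr) (up n x) = true) : w v (vecV x) = vecV x := by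
  have h1 := WP_fix_of_check (prs_goodT v) h
  rw [vecV_up, map_smul] at h1
  exact smul_right_injective V (pow_ne_zero n (two_ne_zero : (2 : ℚ) ≠ 0)) h1

theorem eq_of {v v' : List L} {n : ℕ} {x : Pl} (h : check (v.map pr) (up n x) (v'.map pr) (up n x) = true) :
    w v (vecV x) = w v' (vecV x) := by
  have h1 := WP_eq_of_check (prs_goodT v) (prs_goodT v') h
  rw [vecV_up, map_smul, map_smul] at h1
  exact smul_right_injective V (pow_ne_zero n (two_ne_zero : (2 : ℚ) ≠ 0)) h1

/-- The statement that two words agree on the base. -/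
def Agree (v v' : List L) : Prop := w v (vecV uX) = w v' (vecV uX) ∧ w v (vecV sP) = w v' (vecV sP)

theorem agree_of {v v' : List L} {n : ℕ} (h : check (v.map pr) uX (v'.map pr) uX = true)
    (h' : check (v.map pr) (up n sP) (v'.map pr) (up n sP) = true) : Agree v v' :=
  ⟨eq_of (n := 0) h, eq_of h'⟩

theorem agree_one_of {v : List L} {n : ℕ} (h : checkFix (v.map pr) uX = true)
    (h' : checkFix (v.map pr) (up n sP) = true) : Agree v [] := by
  constructor
  · rw [w_nil]; exact fix_of (n := 0) h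
  · rw [w_nil]; exact fix_of h'

/-- Words which agree on the base are equal. -/
theorem eq_of_agree (hG : MGroup M K₀) (hR : MRep M) (hL : MLat M) (hl : Lines) {v v' : List L} (h : Agree v v') :
    w v = w v' := by
  have h1 : (w v')⁻¹ * w v = 1 := eq_one_C hG hR hL hl (C.mul_mem (C.inv_mem (w_mem_C v')) (w_mem_C v)) (by
    rw [LinearEquiv.mul_apply, split, map_add, h.1, h.2, ← map_add]
    exact (w v').symm_apply_apply _)
  exact (inv_mul_eq_one.1 h1).symm

/-- Monomial identities. -/
theorem mono_of {v v' : List L} (h : ProgM.Base.same (v.map pr) (v'.map pr) = true) : w v = w v' :=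
  ProgM.Base.same_sound (prs_goodT v) (prs_goodT v') h

/-! ### The words -/

/-- `x` -/
def xw : List L := [.a, .o]
/-- `j = x ^ 2` -/
def jw : List L := [.j0, .j1, .j2]
/-- `x⁻¹ = j x` -/
def xi : List L := [.a, .o, .j0, .j1, .j2]
/-- `z` -/
def zw : List L := [.c, .o]
/-- `x y` -/
def mo : List L := [.m, .o]
/-- `x⁻¹ y⁻¹ x y` -/
def c3 : List L := [.b] ++ xw ++ [.q] ++ xi
/-- `x⁻¹ y ^ 2 x y ^ 3` -/
def c4 : List L := [.d] ++ xw ++ [.b, .b] ++ xi
/-- `x y x y ^ 3` -/
def c6 : List L := [.d] ++ xw ++ mo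
/-- `y x y x y ^ 2 x y⁻¹` -/
def c9 : List L := [.q] ++ xw ++ [.b] ++ mo ++ mo ++ [.b]
/-- `u⁻¹ z u`, `u = y ^ 3 x y x y` -/
def c10 : List L := mo ++ mo ++ [.d] ++ zw ++ [.d] ++ xi ++ [.q] ++ xi ++ [.q]

end Cfsg.Agent.MonsterX.HNRelBase
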