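/-
HN in the Monster model: relators, checked on `uX` and `sP` (helper537).
-/
import Cfsg.Agent.MonsterX.HNRelBase

set_option autoImplicit false
set_option Elab.async false

namespace Cfsg.Agent.MonsterX.HNRel

open Cfsg.Agent.MonsterX.HNRelBase

theorem jj : w (jw ++ jw) = w ([]) := mono_of (by decide +kernel)

theorem by_q : w ([.b, .q]) = w ([]) := mono_of (by decide +kernel)

theorem d_eq : w ([.d]) = w ([.b, .b, .b]) := mono_of (by decide +kernel)

theorem m_eq : w ([.m]) = w ([.b, .a]) := mono_of (by decide +kernel)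

theorem dd : w ([.d, .d]) = w ([]) := mono_of (by decide +kernel)

theorem yj : w ([.b] ++ jw) = w (jw ++ [.b]) := mono_of (by decide +kernel)

theorem x2_X : Cfsg.Agent.Monster.VecEngine.check ((xw ++ xw).map pr) uX ((jw).map pr) uX = true := by decide +kernel

theorem x2_s : Cfsg.Agent.Monster.VecEngine.check ((xw ++ xw).map pr) (InstData.up 3 sP) ((jw).map pr) (InstData.up 3 sP) = true := by decide +kernel

theorem x2 : Agree (xw ++ xw) (jw) := agree_of x2_X x2_s

theorem z2_X : Cfsg.Agent.Monster.VecEngine.checkFix ((zw ++ zw).map pr) uX = true := by decide +kernel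

theorem z2_s : Cfsg.Agent.Monster.VecEngine.checkFix ((zw ++ zw).map pr) (InstData.up 3 sP) = true := by decide +kernel

theorem z2 : Agree (zw ++ zw) [] := agree_one_of z2_X z2_s

theorem zx2_X : Cfsg.Agent.Monster.VecEngine.checkFix ((xw ++ zw ++ xw ++ zw).map pr) uX = true := by decide +kernel

theorem zx2_s : Cfsg.Agent.Monster.VecEngine.checkFix ((xw ++ zw ++ xw ++ zw).map pr) (InstData.up 3 sP) = true := by decide +kernel

theorem zx2 : Agree (xw ++ zw ++ xw ++ zw) [] := agree_one_of zx2_X zx2_s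


theorem r3_X : Cfsg.Agent.Monster.VecEngine.checkFix ((c3 ++ c3 ++ c3).map pr) uX = true := by decide +kernel

theorem r3_s : Cfsg.Agent.Monster.VecEngine.checkFix ((c3 ++ c3 ++ c3).map pr) (InstData.up 5 sP) = true := by decide +kernel

theorem r3 : Agree (c3 ++ c3 ++ c3) [] := agree_one_of r3_X r3_s

theorem r4_X : Cfsg.Agent.Monster.VecEngine.checkFix ((c4 ++ c4 ++ c4).map pr) uX = true := by decide +kernel

theorem r4_s : Cfsg.Agent.Monster.VecEngine.checkFix ((c4 ++ c4 ++ c4).map pr) (InstData.up 6 sP) = true := by decide +kernel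

theorem r4 : Agree (c4 ++ c4 ++ c4) [] := agree_one_of r4_X r4_s


theorem r5_X : Cfsg.Agent.Monster.VecEngine.checkFix ((mo ++ mo ++ mo ++ mo ++ mo ++ mo ++ mo ++ mo).map pr) uX = true := by decide +kernel

theorem r5_s : Cfsg.Agent.Monster.VecEngine.checkFix ((mo ++ mo ++ mo ++ mo ++ mo ++ mo ++ mo ++ mo).map pr) (InstData.up 3 sP) = true := by decide +kernel

theorem r5 : Agree (mo ++ mo ++ mo ++ mo ++ mo ++ mo ++ mo ++ mo) [] := agree_one_of r5_X r5_s

theorem r6_X : Cfsg.Agent.Monster.VecEngine.checkFix ((c6 ++ c6 ++ c6 ++ c6).map pr) uX = true := by decide +kernel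

theorem r6_s : Cfsg.Agent.Monster.VecEngine.checkFix ((c6 ++ c6 ++ c6 ++ c6).map pr) (InstData.up 6 sP) = true := by decide +kernel

theorem r6 : Agree (c6 ++ c6 ++ c6 ++ c6) [] := agree_one_of r6_X r6_s


theorem r9_X : Cfsg.Agent.Monster.VecEngine.check ((c9 ++ zw).map pr) uX ((jw ++ zw ++ c9).map pr) uX = true := by decide +kernel

theorem r9_s : Cfsg.Agent.Monster.VecEngine.check ((c9 ++ zw).map pr) (InstData.up 6 sP) ((jw ++ zw ++ c9).map pr) (InstData.up 6 sP) = true := by decide +kernel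

theorem r9 : Agree (c9 ++ zw) (jw ++ zw ++ c9) := agree_of r9_X r9_s


theorem r10_X : Cfsg.Agent.Monster.VecEngine.check ((c10 ++ xw ++ c10).map pr) uX ((xi ++ c10 ++ xi ++ zw).map pr) uX = true := by decide +kernel

theorem r10_s : Cfsg.Agent.Monster.VecEngine.check ((c10 ++ xw ++ c10).map pr) (InstData.up 8 sP) ((xi ++ c10 ++ xi ++ zw).map pr) (InstData.up 8 sP) = true := by decide +kernel

theorem r10 : Agree (c10 ++ xw ++ c10) (xi ++ c10 ++ xi ++ zw) := agree_of r10_X r10_s

end Cfsg.Agent.MonsterX.HNRel
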