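/-
HN in the Monster model: the relators of `Cfsg.Spor.HN` in the generators `X, Y, Z` (helper537).
-/
import Cfsg.Agent.MonsterX.HNRel
import Cfsg.Agent.MonsterX.HNTen
import Cfsg.Agent.MonsterX.HNAbs
import Cfsg.Agent.MonsterX.ConcMono

set_option autoImplicit false

namespace Cfsg.Agent.MonsterX.HNRelEq

open Cfsg.Agent.Monster.VecEngine Cfsg.Agent.Monster.VecSpace Cfsg.Agent.MonsterX.Space
open Cfsg.Agent.MonsterX.ProgTable Cfsg.Agent.MonsterX.GensT Cfsg.Agent.MonsterX.ProgBase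
open Cfsg.Agent.MonsterX.Conc Cfsg.Agent.MonsterX.Model Cfsg.Agent.MonsterX.InstData
open Cfsg.Agent.MonsterX.BaseVec Cfsg.Agent.MonsterX.ProgM Cfsg.Agent.MonsterX.HNRelBase
open Cfsg.Agent.MonsterX.WordSub Cfsg.Agent.MonsterX.WordRels Cfsg.Agent.MonsterX.HNTen

/-- The generator `x`. -/
noncomputable def X : V ≃ₗ[ℚ] V := Conc.E 39 * EP HNx.prog

/-- The generator `y`. -/
noncomputable def Y : V ≃ₗ[ℚ] V := EP HNy.prog

/-- The generator `z`. -/
noncomputable def Z : V ≃ₗ[ℚ] V := Conc.E 39 * EP HNz.prog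

theorem X_mem_C : X ∈ C := C.mul_mem (e_mem_C .o) (e_mem_C .a)

theorem Y_mem_C : Y ∈ C := e_mem_C .b

theorem Z_mem_C : Z ∈ C := C.mul_mem (e_mem_C .o) (e_mem_C .c)

/-- The element `j = x ^ 2`. -/
noncomputable def J : V ≃ₗ[ℚ] V := e .j2 * e .j1 * e .j0

theorem w_jw : w jw = J := by
  rw [jw, w_cons, w_cons, w_cons, w_nil, one_mul]; rfl

theorem w_xw : w xw = X := by
  rw [xw, w_cons, w_cons, w_nil, one_mul]; rfl

theorem w_zw : w zw = Z := by
  rw [zw, w_cons, w_cons, w_nil, one_mul]; rfl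

theorem w_b : w [.b] = Y := by
  rw [w_cons, w_nil, one_mul]; rfl

theorem w_q : w [.q] = Y⁻¹ := by
  have h := HNRel.by_q
  rw [w_nil, show ([.b, .q] : List L) = [.b] ++ [.q] from rfl, w_append, w_b] at h
  exact eq_inv_of_mul_eq_one_left h

theorem w_bb : w [.b, .b] = Y ^ 2 := by
  rw [show ([.b, .b] : List L) = [.b] ++ [.b] from rfl, w_append, w_b, pow_two]

theorem w_d : w [.d] = Y ^ 3 := by
  rw [HNRel.d_eq, show ([.b, .b, .b] : List L) = [.b, .b] ++ [.b] from rfl, w_append, w_b, w_bb]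
  exact (pow_succ' Y 2).symm

theorem w_m : e .m = e .a * e .b := by
  have h := HNRel.m_eq
  rw [w_cons, w_cons, w_cons, w_nil, one_mul, one_mul] at h
  exact h

theorem w_mo : w mo = X * Y := by
  rw [mo, w_cons, w_cons, w_nil, one_mul, w_m, ← mul_assoc]; rfl

theorem J_sq : J * J = 1 := by
  have h := HNRel.jj
  rw [w_append, w_nil, w_jw] at h
  exact h

theorem J_Y : J * Y = Y * J := by
  have h := HNRel.yj
  rw [w_append, w_append, w_jw, w_b] at h
  exact h

theorem Y_six : Y ^ 6 = 1 := by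
  have h := HNRel.dd
  rw [show ([.d, .d] : List L) = [.d] ++ [.d] from rfl, w_append, w_d, w_nil, ← pow_add] at h
  exact h

theorem J_eq : J = HNAbs.jj M := by
  have h1 : W [45, 13, 14] = W [13, 14, 45] := ConcMono.W_eq_of_same (by decide +kernel)
  have h2 : W [13, 14, 45] = E 45 * W [13, 14] := by
    rw [show ([13, 14, 45] : List ℕ) = [13, 14] ++ [45] from rfl, W_append, W_single]
  have h3 : W [45, 13, 14] = J := by
    rw [W_cons, W_cons, W_cons, W_nil, one_mul]; rfl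
  rw [← h3, h1, h2]
  rfl

section

variable {K₀ : Type} [Group K₀] (hG : MGroup M K₀) (hR : MRep M) (hL : MLat M) (hl : Lines)
include hG hR hL hl

theorem X_sq : X * X = J := by
  have h := eq_of_agree hG hR hL hl HNRel.x2
  rwa [w_append, w_jw, w_xw] at h

theorem X_sq' : X * X = HNAbs.jj M := by
  rw [X_sq hG hR hL hl, J_eq]

theorem w_xi : w xi = X⁻¹ := by
  rw [show xi = xw ++ jw from rfl, w_append, w_xw, w_jw]
  apply eq_inv_of_mul_eq_one_left
  rw [mul_assoc, X_sq hG hR hL hl, J_sq]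

theorem Z_sq : Z * Z = 1 := by
  have h := eq_of_agree hG hR hL hl HNRel.z2
  rwa [w_append, w_nil, w_zw] at h

theorem ZX : Z * X * (Z * X) = 1 := by
  have h := eq_of_agree hG hR hL hl HNRel.zx2
  rw [w_append, w_append, w_append, w_nil, w_zw, w_xw] at h
  rw [mul_assoc]
  exact h

theorem w_c3 : w HNRelBase.c3 = X⁻¹ * Y⁻¹ * X * Y := by
  rw [HNRelBase.c3, w_append, w_append, w_append, w_b, w_xw, w_q, w_xi hG hR hL hl]
  simp only [mul_assoc]

theorem w_c4 : w c4 = X⁻¹ * Y ^ 2 * X * Y ^ 3 := by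
  rw [c4, w_append, w_append, w_append, w_d, w_xw, w_bb, w_xi hG hR hL hl]
  simp only [mul_assoc]

omit hG hR hL hl in
theorem w_c6 : w c6 = X * Y * X * Y ^ 3 := by
  rw [c6, w_append, w_append, w_d, w_xw, w_mo]
  simp only [mul_assoc]

omit hG hR hL hl in
theorem w_c9 : w c9 = w9 X Y := by
  rw [c9, w_append, w_append, w_append, w_append, w_append, w_q, w_xw, w_mo, w_b]
  unfold w9
  simp only [mul_assoc]

theorem w_c10 : w c10 = e10 X Y Z := by
  rw [c10, w_append, w_append, w_append, w_append, w_append, w_append, w_append, w_append, w_mo, w_d, w_zw,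
    w_q, w_xi hG hR hL hl]
  unfold e10
  simp only [mul_assoc]

theorem r3 : (X⁻¹ * Y⁻¹ * X * Y) ^ 3 = 1 := by
  have h := eq_of_agree hG hR hL hl HNRel.r3
  rw [w_append, w_append, w_nil, w_c3 hG hR hL hl] at h
  rw [pow_succ, pow_succ, pow_one, mul_assoc]
  exact h

theorem r4 : (X⁻¹ * Y ^ 2 * X * Y ^ 3) ^ 3 = 1 := by
  have h := eq_of_agree hG hR hL hl HNRel.r4
  rw [w_append, w_append, w_nil, w_c4 hG hR hL hl] at h
  rw [pow_succ, pow_succ, pow_one, mul_assoc]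
  exact h

theorem r5 : (X * Y) ^ 8 = 1 := by
  have h := eq_of_agree hG hR hL hl HNRel.r5
  simp only [w_append, w_nil, w_mo] at h
  rw [← h]
  simp only [pow_succ, pow_zero, one_mul, mul_assoc]

theorem r6 : (X * Y * X * Y ^ 3) ^ 4 = 1 := by
  have h := eq_of_agree hG hR hL hl HNRel.r6
  simp only [w_append, w_nil, w_c6] at h
  rw [← h]
  generalize X * Y * X * Y ^ 3 = g
  simp only [pow_succ, pow_zero, one_mul, mul_assoc]

theorem r9 : Z * w9 X Y = w9 X Y * Z * J := by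
  have h := eq_of_agree hG hR hL hl HNRel.r9
  rw [w_append, w_append, w_append, w_c9, w_zw, w_jw, ← mul_assoc] at h
  exact h

theorem r10 : e10 X Y Z * X * e10 X Y Z = Z * X⁻¹ * e10 X Y Z * X⁻¹ := by
  have h := eq_of_agree hG hR hL hl HNRel.r10
  rw [w_append, w_append, w_append, w_append, w_append, w_c10 hG hR hL hl, w_zw, w_xw, w_xi hG hR hL hl] at h
  simp only [← mul_assoc] at h
  exact h

/-- **The relators of `HN`.** -/
theorem rels (f : Cfsg.Spor.HN.Gen → V ≃ₗ[ℚ] V) (hx : f .x = X) (hy : f .y = Y) (hz : f .z = Z)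
    (t1 : f .t ^ 5 = 1) (t2 : X⁻¹ * f .t * X * f .t ^ 2 = 1) (t3 : (f .t)⁻¹ * Y⁻¹ * f .t * Y = 1)
    (t4 : (Z * f .t) ^ 3 = 1) : ∀ r ∈ hnWs, ev f r = 1 := by
  have h := ten f J
  rw [hx, hy, hz] at h
  exact h (X_sq hG hR hL hl) J_sq J_Y Y_six (r3 hG hR hL hl) (r4 hG hR hL hl) (r5 hG hR hL hl) (r6 hG hR hL hl)
    (Z_sq hG hR hL hl) (ZX hG hR hL hl) (r9 hG hR hL hl) (r10 hG hR hL hl) t1 t2 t3 t4

end

end Cfsg.Agent.MonsterX.HNRelEq
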