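/-
HN in the Monster model: part 5A of S0470 from the axis identities (helper537).
-/
import Cfsg.Agent.MonsterX.HNRelEq

set_option autoImplicit false

namespace Cfsg.Agent.MonsterX.HNPart

open Cfsg.Agent.MonsterX.Space Cfsg.Agent.MonsterX.Conc Cfsg.Agent.MonsterX.Model Cfsg.Agent.MonsterX.InstData
open Cfsg.Agent.MonsterX.BaseVec Cfsg.Agent.MonsterX.HNRelEq Cfsg.Agent.MonsterX.HNAbs

/-- The generators. -/
noncomputable def gen (v : V ≃ₗ[ℚ] V) : Cfsg.Spor.HN.Gen → V ≃ₗ[ℚ] V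
  | .x => X
  | .y => Y
  | .z => Z
  | .t => tt M v

variable {K₀ : Type} [Group K₀]

/-- **Harada-Norton in the centraliser of an element of order `5`.** -/
theorem part (hs : Cfsg.IsHN Cfsg.Spor.HN) (hG : MGroup M K₀) (hR : MRep M) (hL : MLat M) (hO : MOrbit M)
    (hT : MTrans M) (hl : Lines) {v v₂ p : V ≃ₗ[ℚ] V} (c : Config M X Y Z v v₂ p) :
    ∃ x : Conc.G, orderOf x = 5 ∧ ∃ K : Subgroup Conc.G,
      K ≤ Subgroup.centralizer ({x} : Set Conc.G) ∧ Cfsg.IsHN K := by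
  refine WordsCodeM.hn_part hs (gen v) ?_ (HNRelEq.rels hG hR hL hl (gen v) rfl rfl rfl
    (c.rel_t5 hG hR hL hO hT) (c.rel_tx hG hR hL hO hT) (c.rel_ty hG hR hL hO hT) (c.rel_zt hG hR hL hO hT))
    ⟨.t, c.t_ne hG hR hL hO hT⟩ (p * tt M v * p⁻¹) (c.s_mem hG hR) (c.s_five hG hR hL hO hT)
    (c.s_ne hG hR hL hO hT) ?_
  · intro a
    cases a with
    | x => exact c.x_mem
    | y => exact C_le_G Y_mem_C
    | z => exact c.z_mem
    | t => exact tt_mem hG hR c.v_mem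
  · intro a
    cases a with
    | x => exact c.comm_s_x hG hR hL hO hT
    | y => exact c.comm_s_y hG hR hL hO hT
    | z => exact c.comm_s_z hG hR hL hO hT
    | t => exact c.comm_s_t hG hR hL hO hT

end Cfsg.Agent.MonsterX.HNPart
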