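/-
The Harada-Norton group in the centraliser of an element of order `5` of the concrete group `G`.
-/
import Cfsg.Agent.MonsterX.HNAxes
import Cfsg.Agent.MonsterX.HNPart

set_option autoImplicit false

namespace Cfsg.Agent.MonsterX.HNFive

open Cfsg.Agent.MonsterX.Space Cfsg.Agent.MonsterX.Conc Cfsg.Agent.MonsterX.Model Cfsg.Agent.MonsterX.InstData
open Cfsg.Agent.MonsterX.BaseVec Cfsg.Agent.MonsterX.HNWord Cfsg.Agent.MonsterX.HNAbs

theorem op_gX : op gX = HNRelEq.X := by
  unfold gX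
  rw [op_app, op_ow, op_lw, W_single]
  rfl

theorem op_gY : op gY = HNRelEq.Y := op_ow _ _

theorem op_gZ : op gZ = HNRelEq.Z := by
  unfold gZ
  rw [op_app, op_ow, op_lw, W_single]
  rfl

variable {K₀ : Type} [Group K₀]

/-- **Harada-Norton in the centraliser of an element of order `5`.** -/
theorem five (P : Pack K₀) (hT : MTrans M) (hs : Cfsg.IsHN Cfsg.Spor.HN) :
    ∃ x : Conc.G, orderOf x = 5 ∧ ∃ K : Subgroup Conc.G,
      K ≤ Subgroup.centralizer ({x} : Set Conc.G) ∧ Cfsg.IsHN K := by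
  have c := HNAxes.config P
  rw [op_gX, op_gY, op_gZ] at c
  exact HNPart.part hs P.hG P.hR P.hL P.hO hT P.lines c

end Cfsg.Agent.MonsterX.HNFive
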