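import Cfsg.Agent.MonsterX.KRows

/-!
# Assembly of the concrete `K`-side of the Monster model: `KS`, `Lift`, `Link` from `LabFacts` and `Rows`
-/

set_option autoImplicit false

namespace Cfsg.Agent.MonsterX.KAsm

open Cfsg Cfsg.Agent.Monster.VecEngine Cfsg.Agent.Monster Cfsg.Agent.Monster.VecSpace
open Cfsg.Agent.MonsterX.ProgBase Cfsg.Agent.MonsterX.Space Cfsg.Agent.MonsterX.MatAct
open Cfsg.Agent.MonsterX.CoGens Cfsg.Agent.MonsterX.USide Cfsg.Agent.MonsterX.UOnto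
open Cfsg.Agent.MonsterX.Short Cfsg.Agent.MonsterX.KX Cfsg.Agent.MonsterX.LabPl
open Cfsg.Agent.Monster.PauliBasic Cfsg.Agent.Monster.PauliClif Cfsg.Agent.Monster.PauliRep
open Cfsg.Agent.Monster.PauliPlanes Cfsg.Agent.Monster.TensorProg
open Cfsg.Agent.MonsterX.KRows Cfsg.Agent.SporadicStructure.Co0Base
open Cfsg.Agent.SporadicA.M24Gens (pidx pidx_injective)

/-! ### The span -/

/-- The spanning set. -/
def spS : Set V := Set.range u ∪ Xv '' Sh ∪ {w | ∃ f v, w = Θ f (rt v)}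

open Classical in
/-- The unit vectors off the matrix. -/
noncomputable def ev (i : Lane U) : V :=
  if SL.testBit i.1 = true then Xv (labP 12 lab i.1)
  else if UW.testBit i.1 = true then Θ (Pi.single (PauliBits.vec 12 (i.1 / 32)) 1) (Pi.single (ptS (i.1 % 32)) 1)
  else 0

theorem ev_coe (L : LabFacts) (i : Lane U) (hi : ¬ matM.testBit i.1 = true) : (ev i).1 = e1 i := by
  unfold ev
  rcases cases_U i with h | h | h
  · exact absurd h hi
  · rw [if_pos h]; exact Xv_lab L i h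
  · rw [if_neg (fun h' => disj SL_UW h' h), if_pos h]; exact Θ_single i h

theorem single_eq (p : GolayPt) : (Pi.single p (1 : ℚ) : GolayPt → ℚ) = (8 : ℚ)⁻¹ • rt (e8 p) := by
  rw [rt_e8]
  funext q
  rw [Pi.smul_apply, Pi.single_apply, Pi.single_apply]
  split_ifs <;> norm_num

theorem ev_mem (L : LabFacts) (i : Lane U) (hi : ¬ matM.testBit i.1 = true) : ev i ∈ Submodule.span ℚ spS := by
  unfold ev
  rcases cases_U i with h | h | h
  · exact absurd h hi
  · rw [if_pos h]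
    exact Submodule.subset_span (Or.inl (Or.inr ⟨_, L.sh _ h, rfl⟩))
  · rw [if_neg (fun h' => disj SL_UW h' h), if_pos h, single_eq, map_smul]
    exact Submodule.smul_mem _ _ (Submodule.subset_span (Or.inr ⟨_, _, rfl⟩))

theorem span_eq (L : LabFacts) : Submodule.span ℚ spS = ⊤ := by
  classical
  rw [eq_top_iff]
  intro f _
  let s : V := ∑ i ∈ Finset.univ.filter (fun i : Lane U => ¬ matM.testBit i.1 = true), f.1 i • ev i
  have hs : s ∈ Submodule.span ℚ spS :=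
    Submodule.sum_mem _ fun i hi => Submodule.smul_mem _ _ (ev_mem L i (Finset.mem_filter.1 hi).2)
  have hc : s.1 = ∑ i ∈ Finset.univ.filter (fun i : Lane U => ¬ matM.testBit i.1 = true), f.1 i • e1 i := by
    have h1 : s.1 = ∑ i ∈ Finset.univ.filter (fun i : Lane U => ¬ matM.testBit i.1 = true), (f.1 i • ev i : V).1 :=
      AddSubmonoidClass.coe_finsetSum _ _
    rw [h1]
    refine Finset.sum_congr rfl fun i hi => ?_
    show f.1 i • (ev i).1 = _
    rw [ev_coe L i (Finset.mem_filter.1 hi).2]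
  have hg : f - s ∈ Submodule.span ℚ (Set.range u) := by
    apply mem_span_u
    intro j hj
    show f.1 j - s.1 j = 0
    rw [hc, Finset.sum_apply, Finset.sum_eq_single j]
    · rw [Pi.smul_apply]
      unfold e1
      rw [if_pos rfl, smul_eq_mul, mul_one, sub_self]
    · intro i _ hi
      rw [Pi.smul_apply]
      unfold e1
      rw [if_neg (Ne.symm hi), smul_zero]
    · intro h; exfalso; apply h; rw [Finset.mem_filter]; exact ⟨Finset.mem_univ _, hj⟩
  have hg' : f - s ∈ Submodule.span ℚ spS :=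
    Submodule.span_mono (fun x hx => Or.inl (Or.inl hx)) hg
  have := Submodule.add_mem _ hg' hs
  rwa [sub_add_cancel] at this

/-- Two maps agreeing on the spanning set are equal. -/
theorem ext_of (L : LabFacts) {k l : V ≃ₗ[ℚ] V} (hu : ∀ v, k (u v) = l (u v)) (hX : ∀ x ∈ Sh, k (Xv x) = l (Xv x))
    (hΘ : ∀ f v, k (Θ f (rt v)) = l (Θ f (rt v))) : k = l := by
  apply LinearEquiv.ext
  intro w
  have hw : w ∈ Submodule.span ℚ spS := by rw [span_eq L]; trivial
  induction hw using Submodule.span_induction with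
  | mem x hx =>
    rcases hx with (⟨v, rfl⟩ | ⟨y, hy, rfl⟩) | ⟨f, v, rfl⟩
    · exact hu v
    · exact hX y hy
    · exact hΘ f v
  | zero => rw [map_zero, map_zero]
  | add x y _ _ hx hy => rw [map_add, map_add, hx, hy]
  | smul c x _ hx => rw [map_smul, map_smul, hx]

theorem Θ_ext {k : V ≃ₗ[ℚ] V} {f f' : B 12 → ℚ} (h : ∀ v : leechLattice, k (Θ f (rt v)) = Θ f' (rt v))
    (v : GolayPt → ℚ) : k (Θ f v) = Θ f' v := by
  have hv : v = ∑ p, (v p / 8) • rt (e8 p) := by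
    funext q
    rw [Finset.sum_apply, Finset.sum_eq_single q]
    · rw [Pi.smul_apply, rt_e8, Pi.single_eq_same, smul_eq_mul]; ring
    · intro p _ hp
      rw [Pi.smul_apply, rt_e8, Pi.single_eq_of_ne hp.symm, smul_zero]
    · intro h; exact absurd (Finset.mem_univ _) h
  rw [hv]
  simp only [map_sum, map_smul, h]

/-! ### The rows -/

/-- The action of the letters on the vectors `X x` and `Θ f v`. -/
structure Rows where
  α : ℕ → (Pauli 12 ≃* Pauli 12)
  T : ℕ → ((B 12 → ℚ) ≃ₗ[ℚ] (B 12 → ℚ))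
  g : ℕ → Pauli 12
  X_row : ∀ n < 40, ∀ x, Conc.E n (Xv x) = Xv (α n x)
  Θ_row : ∀ n < 40, ∀ f v, Conc.E n (Θ f (rt v)) = Θ (T n f) (rt (CoGens.A n • v))
  T_ρ : ∀ n < 40, ∀ p f, T n (rho ℚ p f) = rho ℚ (α n p) (T n f)
  compat : ∀ n < 40, Compat (CoGens.A n) (α n)
  T_g : ∀ n < 24, ∀ f, T n f = rho ℚ (g n) f
  α_g : ∀ n < 24, ∀ x, α n x = g n * x * (g n)⁻¹
  gen_g : Subgroup.closure {p | ∃ n < 24, p = g n} = ⊤

section rows

variable (R : Rows)

include R

/-! ### The extraspecial group -/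

/-- Pairs of an element of `Q` and an element of the Pauli group acting in the same way. -/
structure Pair (k : V ≃ₗ[ℚ] V) (p : Pauli 12) : Prop where
  mem : k ∈ Conc.Q
  act_u : ∀ v, k (u v) = u v
  act_X : ∀ x, k (Xv x) = Xv (p * x * p⁻¹)
  act_Θ : ∀ f v, k (Θ f v) = Θ (rho ℚ p f) v

omit R in
theorem Pair.one : Pair 1 1 where
  mem := Conc.Q.one_mem
  act_u _ := rfl
  act_X x := by rw [one_mul, inv_one, mul_one]; rfl
  act_Θ f v := by rw [map_one]; rfl

omit R in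
theorem Pair.mul {k l : V ≃ₗ[ℚ] V} {p q : Pauli 12} (h : Pair k p) (h' : Pair l q) : Pair (k * l) (p * q) where
  mem := Conc.Q.mul_mem h.mem h'.mem
  act_u v := by rw [LinearEquiv.mul_apply, h'.act_u, h.act_u]
  act_X x := by
    rw [LinearEquiv.mul_apply, h'.act_X, h.act_X]
    congr 1; group
  act_Θ f v := by rw [LinearEquiv.mul_apply, h'.act_Θ, h.act_Θ, map_mul]; rfl

omit R in
theorem Pair.inv {k : V ≃ₗ[ℚ] V} {p : Pauli 12} (h : Pair k p) : Pair k⁻¹ p⁻¹ where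
  mem := Conc.Q.inv_mem h.mem
  act_u v := by
    rw [← h.act_u v, ← LinearEquiv.mul_apply, inv_mul_cancel, h.act_u]; rfl
  act_X x := by
    have h1 := h.act_X (p⁻¹ * x * p⁻¹⁻¹)
    have h2 : p * (p⁻¹ * x * p⁻¹⁻¹) * p⁻¹ = x := by group
    rw [h2] at h1
    rw [← h1, ← LinearEquiv.mul_apply, inv_mul_cancel]; rfl
  act_Θ f v := by
    have h1 := h.act_Θ (rho ℚ p⁻¹ f) v
    have h2 : rho ℚ p (rho ℚ p⁻¹ f) = f := by
      rw [← LinearEquiv.mul_apply, ← map_mul, mul_inv_cancel, map_one]; rfl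
    rw [h2] at h1
    rw [← h1, ← LinearEquiv.mul_apply, inv_mul_cancel]; rfl

theorem pair_g {n : ℕ} (hn : n < 24) : Pair (Conc.E n) (R.g n) where
  mem := Conc.E_mem_Q hn
  act_u v := by rw [act_u (show n < 40 by omega), A_lt hn, one_smul]
  act_X x := by rw [R.X_row n (by omega), R.α_g n hn]
  act_Θ f v := by
    apply Θ_ext
    intro w
    rw [R.Θ_row n (by omega), A_lt hn, one_smul, R.T_g n hn]

theorem exists_pair (p : Pauli 12) : ∃ k, Pair k p := by
  have hp : p ∈ Subgroup.closure {p | ∃ n < 24, p = R.g n} := by rw [R.gen_g]; trivial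
  induction hp using Subgroup.closure_induction with
  | mem x hx => obtain ⟨n, hn, rfl⟩ := hx; exact ⟨_, pair_g R hn⟩
  | one => exact ⟨1, Pair.one⟩
  | mul x y _ _ hx hy =>
    obtain ⟨k, hk⟩ := hx
    obtain ⟨l, hl⟩ := hy
    exact ⟨k * l, hk.mul hl⟩
  | inv x _ hx => obtain ⟨k, hk⟩ := hx; exact ⟨k⁻¹, hk.inv⟩

theorem exists_pair' (k : V ≃ₗ[ℚ] V) (hk : k ∈ Conc.Q) : ∃ p, Pair k p := by
  unfold Conc.Q at hk
  induction hk using Subgroup.closure_induction with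
  | mem x hx => obtain ⟨n, hn, rfl⟩ := hx; exact ⟨_, pair_g R hn⟩
  | one => exact ⟨1, Pair.one⟩
  | mul x y _ _ hx hy =>
    obtain ⟨k, hk⟩ := hx
    obtain ⟨l, hl⟩ := hy
    exact ⟨k * l, hk.mul hl⟩
  | inv x _ hx => obtain ⟨k, hk⟩ := hx; exact ⟨k⁻¹, hk.inv⟩

omit R in
theorem Pair.unique (L : LabFacts) {k l : V ≃ₗ[ℚ] V} {p : Pauli 12} (h : Pair k p) (h' : Pair l p) : k = l :=
  ext_of L (fun v => by rw [h.act_u, h'.act_u]) (fun x _ => by rw [h.act_X, h'.act_X])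
    fun f v => by rw [h.act_Θ, h'.act_Θ]

/-- The Pauli group in `Q`. -/
noncomputable def iotaE (L : LabFacts) : Pauli 12 →* (V ≃ₗ[ℚ] V) :=
  MonoidHom.mk' (fun p => (exists_pair R p).choose) fun p q =>
    (exists_pair R (p * q)).choose_spec.unique L ((exists_pair R p).choose_spec.mul (exists_pair R q).choose_spec)

theorem iotaE_pair (L : LabFacts) (p : Pauli 12) : Pair (iotaE R L p) p := (exists_pair R p).choose_spec

theorem iotaE_eq (L : LabFacts) {k : V ≃ₗ[ℚ] V} {p : Pauli 12} (h : Pair k p) : iotaE R L p = k :=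
  (iotaE_pair R L p).unique L h

theorem mem_Q_iff (L : LabFacts) (e : V ≃ₗ[ℚ] V) : e ∈ Conc.Q ↔ ∃ p, e = iotaE R L p := by
  constructor
  · intro he
    obtain ⟨p, hp⟩ := exists_pair' R e he
    exact ⟨p, (iotaE_eq R L hp).symm⟩
  · rintro ⟨p, rfl⟩
    exact (iotaE_pair R L p).mem

/-! ### The action of `C` -/

omit R in
/-- `k` acts through `A`, `α`, `T`. -/
structure Act (k : V ≃ₗ[ℚ] V) (A : Co0) (α : Pauli 12 ≃* Pauli 12) (T : (B 12 → ℚ) ≃ₗ[ℚ] (B 12 → ℚ)) : Prop where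
  act_u : ∀ v, k (u v) = u (A • v)
  compat : Compat A α
  act_X : ∀ x, k (Xv x) = Xv (α x)
  act_Θ : ∀ f v, k (Θ f (rt v)) = Θ (T f) (rt (A • v))
  act_ρ : ∀ p f, T (rho ℚ p f) = rho ℚ (α p) (T f)

omit R in
theorem Act.one : Act 1 1 1 1 where
  act_u v := by rw [one_smul]; rfl
  compat := Compat.one
  act_X x := rfl
  act_Θ f v := by rw [one_smul]; rfl
  act_ρ p f := rfl

omit R in
theorem Act.mul {k l : V ≃ₗ[ℚ] V} {A A' : Co0} {α α' : Pauli 12 ≃* Pauli 12}
    {T T' : (B 12 → ℚ) ≃ₗ[ℚ] (B 12 → ℚ)} (h : Act k A α T) (h' : Act l A' α' T') :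
    Act (k * l) (A * A') (α * α') (T * T') where
  act_u v := by rw [LinearEquiv.mul_apply, h'.act_u, h.act_u, mul_smul]
  compat := h.compat.mul h'.compat
  act_X x := by rw [LinearEquiv.mul_apply, h'.act_X, h.act_X]; rfl
  act_Θ f v := by rw [LinearEquiv.mul_apply, h'.act_Θ, h.act_Θ, mul_smul]; rfl
  act_ρ p f := by rw [LinearEquiv.mul_apply, h'.act_ρ, h.act_ρ]; rfl

omit R in
theorem Act.inv {k : V ≃ₗ[ℚ] V} {A : Co0} {α : Pauli 12 ≃* Pauli 12}
    {T : (B 12 → ℚ) ≃ₗ[ℚ] (B 12 → ℚ)} (h : Act k A α T) : Act k⁻¹ A⁻¹ α⁻¹ T⁻¹ where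
  act_u v := by
    have h1 := h.act_u (A⁻¹ • v)
    rw [smul_inv_smul] at h1
    rw [← h1, ← LinearEquiv.mul_apply, inv_mul_cancel]; rfl
  compat := h.compat.inv
  act_X x := by
    have h1 := h.act_X (α⁻¹ x)
    have h2 : α (α⁻¹ x) = x := α.apply_symm_apply x
    rw [h2] at h1
    rw [← h1, ← LinearEquiv.mul_apply, inv_mul_cancel]; rfl
  act_Θ f v := by
    have h1 := h.act_Θ (T⁻¹ f) (A⁻¹ • v)
    have h2 : T (T⁻¹ f) = f := T.apply_symm_apply f
    rw [smul_inv_smul, h2] at h1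
    rw [← h1, ← LinearEquiv.mul_apply, inv_mul_cancel]; rfl
  act_ρ p f := by
    have h1 := h.act_ρ (α⁻¹ p) (T⁻¹ f)
    have h2 : T (T⁻¹ f) = f := T.apply_symm_apply f
    have h3 : α (α⁻¹ p) = p := α.apply_symm_apply p
    rw [h2, h3] at h1
    rw [← h1, ← LinearEquiv.mul_apply, inv_mul_cancel]; rfl

theorem act_E {n : ℕ} (hn : n < 40) : Act (Conc.E n) (CoGens.A n) (R.α n) (R.T n) where
  act_u := act_u hn
  compat := R.compat n hn
  act_X := R.X_row n hn
  act_Θ := R.Θ_row n hn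
  act_ρ := R.T_ρ n hn

theorem exists_act (k : V ≃ₗ[ℚ] V) (hk : k ∈ Conc.C) : ∃ A α T, Act k A α T := by
  unfold Conc.C at hk
  induction hk using Subgroup.closure_induction with
  | mem x hx => obtain ⟨n, hn, rfl⟩ := hx; exact ⟨_, _, _, act_E R hn⟩
  | one => exact ⟨1, 1, 1, Act.one⟩
  | mul x y _ _ hx hy =>
    obtain ⟨A, α, T, h⟩ := hx
    obtain ⟨A', α', T', h'⟩ := hy
    exact ⟨_, _, _, h.mul h'⟩
  | inv x _ hx =>
    obtain ⟨A, α, T, h⟩ := hx
    exact ⟨_, _, _, h.inv⟩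

end rows

end Cfsg.Agent.MonsterX.KAsm
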