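import Mathlib
import Cfsg.Agent.Monster.PauliGates
import Cfsg.Agent.Monster.VecEngine

/-!
The circuits (action on the 4096-dimensional spin space) and the slot programs (action on the 24
coordinates, in slots of 32 lanes) of the generators of the `2^(1+24).Co1` of the Monster model.
-/

set_option autoImplicit false
set_option maxRecDepth 100000

namespace Cfsg.Agent.MonsterX.KCirc

open Cfsg.Agent.Lib.PermNet Cfsg.Agent.Monster.VecEngine
open Cfsg.Agent.Monster.PauliGates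

/-- circuit of `xc0` -/
def xc0 : List (Gate 12) :=
  [.Z 11]

/-- circuit of `xc1` -/
def xc1 : List (Gate 12) :=
  [.X 4]

/-- circuit of `xc2` -/
def xc2 : List (Gate 12) :=
  [.X 5, .X 4]

/-- circuit of `xc3` -/
def xc3 : List (Gate 12) :=
  [.X 6, .Z 5, .X 4, .Z 3, .Z 2, .Z 0]

/-- circuit of `xc4` -/
def xc4 : List (Gate 12) :=
  [.X 6, .X 5, .X 4, .X 0]

/-- circuit of `xc5` -/
def xc5 : List (Gate 12) :=
  [.X 7]

/-- circuit of `xc6` -/
def xc6 : List (Gate 12) :=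
  [.X 8, .Z 3, .Z 2, .Z 0]

/-- circuit of `xc7` -/
def xc7 : List (Gate 12) :=
  [.X 9, .Z 7, .Z 3]

/-- circuit of `xc8` -/
def xc8 : List (Gate 12) :=
  [.X 10]

/-- circuit of `xc9` -/
def xc9 : List (Gate 12) :=
  [.X 1]

/-- circuit of `xc10` -/
def xc10 : List (Gate 12) :=
  [.X 9, .Z 6, .Z 5, .Z 4, .Z 3, .X 2, .Z 2, .X 1, .X 0, .Z 0]

/-- circuit of `xc11` -/
def xc11 : List (Gate 12) :=
  [.X 10, .X 7, .X 3, .Z 3, .Z 2, .X 1, .Z 1, .X 0]

/-- circuit of `xd0` -/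
def xd0 : List (Gate 12) :=
  [.X 11]

/-- circuit of `xd1` -/
def xd1 : List (Gate 12) :=
  [.Z 6, .Z 5, .Z 4, .Z 3, .Z 2, .Z 0]

/-- circuit of `xd2` -/
def xd2 : List (Gate 12) :=
  [.Z 5, .Z 3, .Z 2, .Z 0]

/-- circuit of `xd3` -/
def xd3 : List (Gate 12) :=
  [.Z 6, .Z 3, .Z 2, .Z 0]

/-- circuit of `xd4` -/
def xd4 : List (Gate 12) :=
  [.Z 3, .Z 2, .Z 0]

/-- circuit of `xd5` -/
def xd5 : List (Gate 12) :=
  [.Z 7, .Z 3]

/-- circuit of `xd6` -/
def xd6 : List (Gate 12) :=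
  [.Z 8]

/-- circuit of `xd7` -/
def xd7 : List (Gate 12) :=
  [.Z 9, .Z 2]

/-- circuit of `xd8` -/
def xd8 : List (Gate 12) :=
  [.Z 10, .Z 3]

/-- circuit of `xd9` -/
def xd9 : List (Gate 12) :=
  [.Z 3, .Z 2, .Z 1]

/-- circuit of `xd10` -/
def xd10 : List (Gate 12) :=
  [.Z 2]

/-- circuit of `xd11` -/
def xd11 : List (Gate 12) :=
  [.Z 3]

/-- circuit of `yc0` -/
def yc0 : List (Gate 12) :=
  [.Z 11]

/-- circuit of `yc1` -/
def yc1 : List (Gate 12) :=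
  [.Z 3, .Z 2, .CZ 8 10 (by decide), .CZ 8 9 (by decide), .CZ 7 9 (by decide),
   .CZ 6 7 (by decide), .CZ 5 10 (by decide), .CZ 5 6 (by decide), .CZ 3 10 (by decide),
   .CZ 3 7 (by decide), .CZ 3 6 (by decide), .CZ 3 5 (by decide), .CZ 2 9 (by decide),
   .CZ 2 8 (by decide), .CZ 2 7 (by decide), .CZ 2 6 (by decide), .CZ 2 3 (by decide),
   .CZ 0 10 (by decide), .CZ 0 8 (by decide), .CZ 0 7 (by decide), .CZ 0 5 (by decide),
   .CZ 0 1 (by decide), .CNOT 11 4 (by decide)]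

/-- circuit of `yc2` -/
def yc2 : List (Gate 12) :=
  [.Z 3, .Z 2, .Z 0, .CZ 7 10 (by decide), .CZ 7 9 (by decide), .CZ 6 9 (by decide),
   .CZ 6 8 (by decide), .CZ 6 7 (by decide), .CZ 5 10 (by decide), .CZ 5 6 (by decide),
   .CZ 4 10 (by decide), .CZ 4 6 (by decide), .CZ 3 10 (by decide), .CZ 3 9 (by decide),
   .CZ 3 7 (by decide), .CZ 3 6 (by decide), .CZ 3 5 (by decide), .CZ 3 4 (by decide),
   .CZ 2 9 (by decide), .CZ 2 8 (by decide), .CZ 2 7 (by decide), .CZ 2 6 (by decide),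
   .CZ 2 3 (by decide), .CZ 1 9 (by decide), .CZ 1 6 (by decide), .CZ 0 9 (by decide),
   .CZ 0 6 (by decide), .CZ 0 5 (by decide), .CZ 0 4 (by decide), .CZ 0 1 (by decide),
   .CNOT 11 5 (by decide), .CNOT 11 4 (by decide)]

/-- circuit of `yc3` -/
def yc3 : List (Gate 12) :=
  [.Z 3, .Z 2, .CZ 8 9 (by decide), .CZ 7 9 (by decide), .CZ 6 7 (by decide),
   .CZ 5 11 (by decide), .CZ 5 10 (by decide), .CZ 5 9 (by decide), .CZ 5 8 (by decide),
   .CZ 5 6 (by decide), .CZ 4 7 (by decide), .CZ 4 5 (by decide), .CZ 3 11 (by decide),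
   .CZ 3 10 (by decide), .CZ 3 8 (by decide), .CZ 3 7 (by decide), .CZ 3 6 (by decide),
   .CZ 3 5 (by decide), .CZ 3 4 (by decide), .CZ 2 11 (by decide), .CZ 2 9 (by decide),
   .CZ 2 7 (by decide), .CZ 2 6 (by decide), .CZ 2 4 (by decide), .CZ 2 3 (by decide),
   .CZ 1 8 (by decide), .CZ 1 5 (by decide), .CZ 0 11 (by decide), .CZ 0 9 (by decide),
   .CZ 0 1 (by decide), .CNOT 11 6 (by decide), .CNOT 11 4 (by decide)]

/-- circuit of `yc4` -/
def yc4 : List (Gate 12) :=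
  [.Z 8, .Z 6, .Z 3, .Z 2, .CZ 9 10 (by decide), .CZ 8 10 (by decide), .CZ 8 9 (by decide),
   .CZ 7 9 (by decide), .CZ 7 8 (by decide), .CZ 6 10 (by decide), .CZ 5 7 (by decide),
   .CZ 4 8 (by decide), .CZ 4 6 (by decide), .CZ 3 10 (by decide), .CZ 3 9 (by decide),
   .CZ 3 8 (by decide), .CZ 3 7 (by decide), .CZ 3 6 (by decide), .CZ 3 5 (by decide),
   .CZ 2 9 (by decide), .CZ 2 7 (by decide), .CZ 2 6 (by decide), .CZ 2 4 (by decide),
   .CZ 2 3 (by decide), .CZ 1 9 (by decide), .CZ 1 8 (by decide), .CZ 1 6 (by decide),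
   .CZ 1 5 (by decide), .CZ 1 4 (by decide), .CZ 0 10 (by decide), .CZ 0 8 (by decide),
   .CZ 0 7 (by decide), .CZ 0 6 (by decide), .CZ 0 4 (by decide), .CZ 0 1 (by decide),
   .CNOT 11 6 (by decide), .CNOT 11 5 (by decide), .CNOT 11 4 (by decide), .CNOT 11 0 (by decide)]

/-- circuit of `yc5` -/
def yc5 : List (Gate 12) :=
  [.Z 9, .Z 6, .Z 3, .Z 2, .Z 0, .CZ 9 10 (by decide), .CZ 8 9 (by decide), .CZ 5 10 (by decide),
   .CZ 4 9 (by decide), .CZ 4 6 (by decide), .CZ 3 9 (by decide), .CZ 3 4 (by decide),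
   .CZ 2 10 (by decide), .CZ 2 4 (by decide), .CZ 1 10 (by decide), .CZ 1 9 (by decide),
   .CZ 0 10 (by decide), .CZ 0 8 (by decide), .CZ 0 6 (by decide), .CZ 0 5 (by decide),
   .CZ 0 4 (by decide), .CNOT 11 7 (by decide)]

/-- circuit of `yc6` -/
def yc6 : List (Gate 12) :=
  [.Z 2, .Z 0, .CZ 7 9 (by decide), .CZ 6 10 (by decide), .CZ 5 10 (by decide),
   .CZ 5 9 (by decide), .CZ 5 6 (by decide), .CZ 4 10 (by decide), .CZ 4 9 (by decide),
   .CZ 3 11 (by decide), .CZ 3 10 (by decide), .CZ 3 6 (by decide), .CZ 2 11 (by decide),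
   .CZ 2 10 (by decide), .CZ 2 9 (by decide), .CZ 2 6 (by decide), .CZ 2 4 (by decide),
   .CZ 1 10 (by decide), .CZ 1 6 (by decide), .CZ 0 11 (by decide), .CZ 0 9 (by decide),
   .CZ 0 7 (by decide), .CZ 0 6 (by decide), .CZ 0 5 (by decide), .CZ 0 4 (by decide),
   .CNOT 11 8 (by decide)]

/-- circuit of `yc7` -/
def yc7 : List (Gate 12) :=
  [.Z 7, .Z 2, .Z 0, .CZ 7 11 (by decide), .CZ 7 10 (by decide), .CZ 7 8 (by decide),
   .CZ 5 8 (by decide), .CZ 5 6 (by decide), .CZ 4 8 (by decide), .CZ 4 7 (by decide),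
   .CZ 3 11 (by decide), .CZ 3 7 (by decide), .CZ 3 5 (by decide), .CZ 2 8 (by decide),
   .CZ 2 4 (by decide), .CZ 1 7 (by decide), .CZ 1 5 (by decide), .CZ 0 10 (by decide),
   .CZ 0 8 (by decide), .CZ 0 6 (by decide), .CZ 0 5 (by decide), .CNOT 11 9 (by decide)]

/-- circuit of `yc8` -/
def yc8 : List (Gate 12) :=
  [.Z 5, .Z 3, .Z 0, .CZ 7 9 (by decide), .CZ 6 8 (by decide), .CZ 5 8 (by decide),
   .CZ 5 7 (by decide), .CZ 4 8 (by decide), .CZ 4 5 (by decide), .CZ 3 8 (by decide),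
   .CZ 3 4 (by decide), .CZ 2 8 (by decide), .CZ 2 7 (by decide), .CZ 1 8 (by decide),
   .CZ 1 7 (by decide), .CZ 0 9 (by decide), .CZ 0 7 (by decide), .CZ 0 6 (by decide),
   .CZ 0 5 (by decide), .CZ 0 4 (by decide), .CNOT 11 10 (by decide)]

/-- circuit of `yc9` -/
def yc9 : List (Gate 12) :=
  [.CZ 8 10 (by decide), .CZ 7 10 (by decide), .CZ 7 9 (by decide), .CZ 6 8 (by decide),
   .CZ 5 9 (by decide), .CZ 5 6 (by decide), .CZ 0 4 (by decide), .CNOT 11 1 (by decide)]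

/-- circuit of `yc10` -/
def yc10 : List (Gate 12) :=
  [.Z 4, .Z 2, .Z 0, .CZ 9 10 (by decide), .CZ 7 9 (by decide), .CZ 6 11 (by decide),
   .CZ 6 10 (by decide), .CZ 6 9 (by decide), .CZ 6 8 (by decide), .CZ 6 7 (by decide),
   .CZ 5 11 (by decide), .CZ 5 10 (by decide), .CZ 5 7 (by decide), .CZ 5 6 (by decide),
   .CZ 4 11 (by decide), .CZ 4 10 (by decide), .CZ 4 9 (by decide), .CZ 4 8 (by decide),
   .CZ 4 7 (by decide), .CZ 4 6 (by decide), .CZ 4 5 (by decide), .CZ 3 11 (by decide),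
   .CZ 3 7 (by decide), .CZ 3 5 (by decide), .CZ 3 4 (by decide), .CZ 2 11 (by decide),
   .CZ 2 8 (by decide), .CZ 2 4 (by decide), .CZ 1 7 (by decide), .CZ 1 5 (by decide),
   .CZ 1 4 (by decide), .CZ 0 11 (by decide), .CZ 0 10 (by decide), .CZ 0 8 (by decide),
   .CZ 0 6 (by decide), .CZ 0 5 (by decide), .CZ 0 4 (by decide), .CNOT 11 9 (by decide),
   .CNOT 11 2 (by decide), .CNOT 11 1 (by decide), .CNOT 11 0 (by decide)]

/-- circuit of `yc11` -/
def yc11 : List (Gate 12) :=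
  [.Z 5, .Z 1, .Z 0, .CZ 7 9 (by decide), .CZ 7 8 (by decide), .CZ 6 10 (by decide),
   .CZ 6 9 (by decide), .CZ 6 7 (by decide), .CZ 5 9 (by decide), .CZ 4 9 (by decide),
   .CZ 4 5 (by decide), .CZ 3 11 (by decide), .CZ 3 9 (by decide), .CZ 3 8 (by decide),
   .CZ 2 11 (by decide), .CZ 2 10 (by decide), .CZ 2 8 (by decide), .CZ 2 7 (by decide),
   .CZ 1 11 (by decide), .CZ 1 10 (by decide), .CZ 1 9 (by decide), .CZ 1 8 (by decide),
   .CZ 1 7 (by decide), .CZ 1 4 (by decide), .CZ 0 10 (by decide), .CZ 0 9 (by decide),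
   .CZ 0 8 (by decide), .CZ 0 7 (by decide), .CZ 0 4 (by decide), .CNOT 11 10 (by decide),
   .CNOT 11 7 (by decide), .CNOT 11 3 (by decide), .CNOT 11 1 (by decide), .CNOT 11 0 (by decide)]

/-- circuit of `pa` -/
def pa : List (Gate 12) :=
  [.Z 2, .CZ 7 9 (by decide), .CZ 7 8 (by decide), .CZ 5 6 (by decide), .CZ 3 9 (by decide),
   .CZ 3 8 (by decide), .CZ 3 7 (by decide), .CZ 3 6 (by decide), .CZ 3 5 (by decide),
   .CZ 2 8 (by decide), .CZ 2 6 (by decide), .CZ 2 5 (by decide), .CZ 1 8 (by decide),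
   .CZ 1 7 (by decide), .CZ 1 5 (by decide), .CZ 1 2 (by decide), .CZ 0 8 (by decide),
   .CZ 0 6 (by decide), .CNOT 10 9 (by decide), .CNOT 10 8 (by decide), .CNOT 10 7 (by decide),
   .CNOT 10 3 (by decide), .CNOT 10 1 (by decide), .CNOT 10 0 (by decide),
   .CNOT 9 10 (by decide), .CNOT 10 9 (by decide), .CNOT 8 9 (by decide), .CNOT 8 7 (by decide),
   .CNOT 7 8 (by decide), .CNOT 7 6 (by decide), .CNOT 7 5 (by decide), .CNOT 7 4 (by decide),
   .CNOT 7 0 (by decide), .CNOT 6 7 (by decide), .CNOT 6 4 (by decide), .CNOT 6 0 (by decide),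
   .CNOT 5 6 (by decide), .CNOT 5 4 (by decide), .CNOT 6 5 (by decide), .CNOT 4 5 (by decide),
   .CNOT 3 8 (by decide), .CNOT 3 2 (by decide), .CNOT 3 0 (by decide), .CNOT 2 9 (by decide),
   .CNOT 2 7 (by decide), .CNOT 2 4 (by decide), .CNOT 2 3 (by decide), .CNOT 2 0 (by decide),
   .CNOT 1 9 (by decide), .CNOT 1 7 (by decide), .CNOT 1 4 (by decide), .CNOT 1 2 (by decide),
   .CNOT 1 0 (by decide), .CNOT 0 7 (by decide), .CNOT 0 4 (by decide)]

/-- circuit of `pd` -/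
def pd : List (Gate 12) :=
  [.Z 5, .Z 2, .CZ 8 10 (by decide), .CZ 7 10 (by decide), .CZ 7 8 (by decide),
   .CZ 6 10 (by decide), .CZ 6 8 (by decide), .CZ 6 7 (by decide), .CZ 5 10 (by decide),
   .CZ 5 9 (by decide), .CZ 5 7 (by decide), .CZ 5 6 (by decide), .CZ 4 10 (by decide),
   .CZ 4 7 (by decide), .CZ 4 5 (by decide), .CZ 3 10 (by decide), .CZ 3 7 (by decide),
   .CZ 3 4 (by decide), .CZ 2 10 (by decide), .CZ 2 6 (by decide), .CZ 1 7 (by decide),
   .CZ 1 6 (by decide), .CZ 1 5 (by decide), .CZ 1 4 (by decide), .CZ 0 6 (by decide),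
   .CZ 0 5 (by decide), .CZ 0 4 (by decide), .CZ 0 2 (by decide), .CNOT 10 9 (by decide),
   .CNOT 10 7 (by decide), .CNOT 10 5 (by decide), .CNOT 10 4 (by decide),
   .CNOT 10 3 (by decide), .CNOT 10 2 (by decide), .CNOT 9 8 (by decide), .CNOT 9 7 (by decide),
   .CNOT 9 6 (by decide), .CNOT 9 5 (by decide), .CNOT 9 4 (by decide), .CNOT 9 2 (by decide),
   .CNOT 9 1 (by decide), .CNOT 9 0 (by decide), .CNOT 8 10 (by decide), .CNOT 8 9 (by decide),
   .CNOT 8 6 (by decide), .CNOT 8 5 (by decide), .CNOT 8 4 (by decide), .CNOT 8 3 (by decide),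
   .CNOT 8 0 (by decide), .CNOT 7 9 (by decide), .CNOT 7 6 (by decide), .CNOT 7 5 (by decide),
   .CNOT 7 4 (by decide), .CNOT 9 7 (by decide), .CNOT 6 9 (by decide), .CNOT 6 5 (by decide),
   .CNOT 6 1 (by decide), .CNOT 9 6 (by decide), .CNOT 5 7 (by decide), .CNOT 5 2 (by decide),
   .CNOT 5 0 (by decide), .CNOT 4 10 (by decide), .CNOT 4 8 (by decide), .CNOT 4 7 (by decide),
   .CNOT 4 3 (by decide), .CNOT 4 2 (by decide), .CNOT 4 1 (by decide), .CNOT 4 0 (by decide),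
   .CNOT 3 9 (by decide), .CNOT 3 8 (by decide), .CNOT 3 6 (by decide), .CNOT 3 4 (by decide),
   .CNOT 3 1 (by decide), .CNOT 3 0 (by decide), .CNOT 2 5 (by decide), .CNOT 2 4 (by decide),
   .CNOT 2 0 (by decide), .CNOT 4 2 (by decide), .CNOT 1 10 (by decide), .CNOT 1 9 (by decide),
   .CNOT 1 3 (by decide), .CNOT 1 2 (by decide), .CNOT 2 1 (by decide), .CNOT 0 10 (by decide),
   .CNOT 0 6 (by decide), .CNOT 0 5 (by decide), .CNOT 0 3 (by decide), .CNOT 0 2 (by decide)]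

/-- circuit of `pg` -/
def pg : List (Gate 12) :=
  [.Z 6, .Z 5, .Z 2, .Z 0, .CZ 8 10 (by decide), .CZ 7 10 (by decide), .CZ 6 11 (by decide),
   .CZ 5 11 (by decide), .CZ 5 10 (by decide), .CZ 5 8 (by decide), .CZ 5 6 (by decide),
   .CZ 4 11 (by decide), .CZ 4 8 (by decide), .CZ 4 7 (by decide), .CZ 4 6 (by decide),
   .CZ 4 5 (by decide), .CZ 3 11 (by decide), .CZ 3 9 (by decide), .CZ 2 11 (by decide),
   .CZ 2 9 (by decide), .CZ 2 8 (by decide), .CZ 2 7 (by decide), .CZ 2 6 (by decide),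
   .CZ 2 4 (by decide), .CZ 2 3 (by decide), .CZ 1 7 (by decide), .CZ 1 6 (by decide),
   .CZ 1 5 (by decide), .CZ 1 4 (by decide), .CZ 1 3 (by decide), .CZ 1 2 (by decide),
   .CZ 0 11 (by decide), .CZ 0 10 (by decide), .CZ 0 9 (by decide), .CZ 0 7 (by decide),
   .CZ 0 2 (by decide), .CNOT 10 8 (by decide), .CNOT 10 6 (by decide), .CNOT 10 4 (by decide),
   .CNOT 10 1 (by decide), .CNOT 10 0 (by decide), .CNOT 9 10 (by decide), .CNOT 9 7 (by decide),
   .CNOT 9 6 (by decide), .CNOT 9 5 (by decide), .CNOT 9 4 (by decide), .CNOT 9 1 (by decide),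
   .CNOT 9 0 (by decide), .CNOT 10 9 (by decide), .CNOT 8 9 (by decide), .CNOT 8 5 (by decide),
   .CNOT 8 4 (by decide), .CNOT 8 3 (by decide), .CNOT 8 2 (by decide), .CNOT 8 1 (by decide),
   .CNOT 8 0 (by decide), .CNOT 9 8 (by decide), .CNOT 7 10 (by decide), .CNOT 7 9 (by decide),
   .CNOT 7 5 (by decide), .CNOT 7 3 (by decide), .CNOT 9 7 (by decide), .CNOT 6 9 (by decide),
   .CNOT 6 7 (by decide), .CNOT 6 3 (by decide), .CNOT 7 6 (by decide), .CNOT 5 6 (by decide),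
   .CNOT 5 2 (by decide), .CNOT 5 0 (by decide), .CNOT 4 10 (by decide), .CNOT 4 8 (by decide),
   .CNOT 4 5 (by decide), .CNOT 5 4 (by decide), .CNOT 3 8 (by decide), .CNOT 3 6 (by decide),
   .CNOT 3 5 (by decide), .CNOT 3 2 (by decide), .CNOT 5 3 (by decide), .CNOT 2 10 (by decide),
   .CNOT 2 9 (by decide), .CNOT 2 8 (by decide), .CNOT 2 7 (by decide), .CNOT 2 4 (by decide),
   .CNOT 2 3 (by decide), .CNOT 2 0 (by decide), .CNOT 3 2 (by decide), .CNOT 1 9 (by decide),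
   .CNOT 1 7 (by decide), .CNOT 1 6 (by decide), .CNOT 1 5 (by decide), .CNOT 1 4 (by decide),
   .CNOT 1 3 (by decide), .CNOT 3 1 (by decide), .CNOT 0 10 (by decide), .CNOT 0 8 (by decide),
   .CNOT 0 3 (by decide), .CNOT 0 2 (by decide)]

/-- circuit of `xi`, first part -/
def xi1 : List (Gate 12) :=
  [.CNOT 4 11 (by decide), .CZ 0 1 (by decide), .CZ 0 2 (by decide), .CZ 0 3 (by decide),
   .CZ 0 4 (by decide), .CZ 1 4 (by decide), .CZ 2 4 (by decide), .CZ 3 4 (by decide),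
   .CZ 0 5 (by decide), .CZ 0 6 (by decide), .CZ 2 6 (by decide), .CZ 3 6 (by decide),
   .CZ 0 7 (by decide), .CZ 2 7 (by decide), .CZ 3 7 (by decide), .CZ 3 8 (by decide),
   .CZ 0 9 (by decide), .CZ 2 9 (by decide), .CZ 3 9 (by decide), .CZ 0 10 (by decide),
   .CZ 3 10 (by decide), .CZ 0 11 (by decide), .CZ 2 11 (by decide), .CZ 3 11 (by decide),
   .CNOT 0 1 (by decide), .CNOT 1 0 (by decide), .CNOT 0 1 (by decide), .CNOT 2 3 (by decide),
   .CNOT 3 2 (by decide), .CNOT 2 3 (by decide)]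

/-- circuit of `xi`, third part -/
def xi3 : List (Gate 12) :=
  [.CZ 0 1 (by decide), .CZ 0 2 (by decide), .CZ 0 3 (by decide), .CZ 1 4 (by decide),
   .CZ 0 5 (by decide), .CZ 4 5 (by decide), .CZ 0 6 (by decide), .CZ 2 6 (by decide),
   .CZ 3 6 (by decide), .CZ 4 6 (by decide), .CZ 5 6 (by decide), .CZ 0 7 (by decide),
   .CZ 2 7 (by decide), .CZ 3 7 (by decide), .Z 8, .CZ 3 8 (by decide), .Z 9,
   .CZ 0 9 (by decide), .CZ 2 9 (by decide), .CZ 3 9 (by decide), .CZ 0 10 (by decide),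
   .CZ 3 10 (by decide), .CZ 0 11 (by decide), .CZ 2 11 (by decide), .CZ 3 11 (by decide)]

/-- circuit of `xi` -/
def xi : List (Gate 12) :=
  xi1 ++ ([.H 0, .H 1, .H 2, .H 3] ++ xi3)

/-- slot program of `yc0` -/
noncomputable def qy0 : Prog := .neg 0xffffff .nil

/-- slot program of `yc1` -/
noncomputable def qy1 : Prog := .neg 0xb24281 .nil

/-- slot program of `yc2` -/
noncomputable def qy2 : Prog := .neg 0x1e8282 .nil

/-- slot program of `yc3` -/
noncomputable def qy3 : Prog := .neg 0xe44484 .nil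

/-- slot program of `yc4` -/
noncomputable def qy4 : Prog := .neg 0xb88488 .nil

/-- slot program of `yc5` -/
noncomputable def qy5 : Prog := .neg 0xcac090 .nil

/-- slot program of `yc6` -/
noncomputable def qy6 : Prog := .neg 0x66c300 .nil

/-- slot program of `yc7` -/
noncomputable def qy7 : Prog := .neg 0x3c5600 .nil

/-- slot program of `yc8` -/
noncomputable def qy8 : Prog := .neg 0x6a06a0 .nil

/-- slot program of `yc9` -/
noncomputable def qy9 : Prog := .neg 0xff0000 .nil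

/-- slot program of `yc10` -/
noncomputable def qy10 : Prog := .neg 0xcca600 .nil

/-- slot program of `yc11` -/
noncomputable def qy11 : Prog := .neg 0x50c6c0 .nil

/-- slot program of `pa` -/
noncomputable def qpa : Prog :=
  .perm (.cons 0x11b5 16 (.cons 0x1000fa 8 (.cons 0x102080e 4 (.cons 0x202202 2 (.cons 0x551405 1 (.cons 0x200 2 (.cons 0x40a0e 4 (.cons 0x3c 8 (.cons 0x112a 16 .nil))))))))) .nil

/-- slot program of `pd` -/
noncomputable def qpd : Prog :=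
  .perm (.cons 0xf686 16 (.cons 0x5400e0 8 (.cons 0xe0c0e04 4 (.cons 0x32030110 2 (.cons 0x40110500 1 (.cons 0x20020000 2 (.cons 0xc020e04 4 (.cons 0xc000e0 8 (.cons 0xf6d2 16 .nil))))))))) .nil

/-- slot program of `pg` -/
noncomputable def qpg : Prog :=
  .perm (.cons 0x40ac 16 (.cons 0x4004e 8 (.cons 0x4040f06 4 (.cons 0x32012 2 (.cons 0x101101 1 (.cons 0x202 2 (.cons 0x40004 4 (.cons 0x4004e 8 (.cons 0x402c 16 .nil))))))))) .nil

/-- slot programs of `xi` -/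
noncomputable def qxi1 : Prog := .neg 0xeeeee1 .nil

noncomputable def qxi2 : Prog := .perm (.cons 0x222222 1 .nil) .nil

noncomputable def qxi3 : Prog := .neg 0xeeeeee .nil

/-- slot program of `xi` -/
noncomputable def qxi : Prog := .neg 0xeeeee1 (.bfly 0x555555 1 (.bfly 0x333333 2 (.perm (.cons 0x222222 1 .nil) (.half (.neg 0xeeeeee .nil)))))

/-- circuits of the letters `0..38` (monomial) -/
def mono : List (List (Gate 12)) :=
  [xc0, xc1, xc2, xc3, xc4, xc5, xc6, xc7, xc8, xc9, xc10, xc11, xd0, xd1, xd2, xd3, xd4, xd5, xd6, xd7, xd8, xd9, xd10, xd11, yc0, yc1, yc2, yc3, yc4, yc5, yc6, yc7, yc8, yc9, yc10, yc11, pa, pd, pg]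

end Cfsg.Agent.MonsterX.KCirc
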