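import Mathlib
import Cfsg.Agent.MonsterX.Psi
import Cfsg.Agent.S1567

/-!
Short elements of the Pauli group on 12 qubits and the corresponding minimal vectors.
-/

set_option autoImplicit false

namespace Cfsg.Agent.MonsterX.Short

open Cfsg Cfsg.Agent.LeechMat.Core Cfsg.Agent.LeechMat.Code Cfsg.Agent.LeechMat.Elements
open Cfsg.Agent.Monster.PauliBasic Cfsg.Agent.Monster.PauliClif Cfsg.Agent.Monster.PauliGates
open Cfsg.Agent.MonsterX.Psi

/-- The short elements. -/
def Sh : Set (Pauli 12) :=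
  {x | ∃ v : leechLattice, sqNorm (v : GolayPt → ℤ) = 32 ∧ psi v = ab x}

open Classical in
/-- A minimal vector with given image (up to sign). -/
noncomputable def lamq (p : B 12 × B 12) : leechLattice :=
  if h : ∃ v : leechLattice, sqNorm (v : GolayPt → ℤ) = 32 ∧ psi v = p then h.choose else 0

/-- The minimal vector of a short element (up to sign). -/
noncomputable def lam (x : Pauli 12) : leechLattice := lamq (ab x)

theorem lam_spec {x : Pauli 12} (hx : x ∈ Sh) :
    sqNorm (lam x : GolayPt → ℤ) = 32 ∧ psi (lam x) = ab x := by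
  unfold lam lamq
  have h : ∃ v : leechLattice, sqNorm (v : GolayPt → ℤ) = 32 ∧ psi v = ab x := hx
  rw [dif_pos h]
  exact h.choose_spec

theorem ab_z_mul (x : Pauli 12) : ab (Pauli.z 12 * x) = ab x := by
  rw [ab_mul]
  have : ab (Pauli.z 12) = 0 := rfl
  rw [this, zero_add]

theorem Sh_z (x : Pauli 12) (hx : x ∈ Sh) : Pauli.z 12 * x ∈ Sh := by
  obtain ⟨v, h1, h2⟩ := hx
  exact ⟨v, h1, by rw [ab_z_mul, h2]⟩

theorem lam_z (x : Pauli 12) : lam (Pauli.z 12 * x) = lam x := by
  unfold lam; rw [ab_z_mul]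

theorem lam_norm (x : Pauli 12) (hx : x ∈ Sh) : sqNorm (lam x : GolayPt → ℤ) = 32 :=
  (lam_spec hx).1

theorem psi_lam (x : Pauli 12) (hx : x ∈ Sh) : psi (lam x) = ab x := (lam_spec hx).2

theorem psi_neg (v : leechLattice) : psi (-v) = psi v := by
  rw [map_neg]
  exact Prod.ext (neg_eq _) (neg_eq _)

theorem lam_inj (x : Pauli 12) (hx : x ∈ Sh) (y : Pauli 12) (hy : y ∈ Sh)
    (h : lam y = lam x ∨ lam y = -lam x) : y = x ∨ y = Pauli.z 12 * x := by
  rw [← ab_eq_iff, ← psi_lam x hx, ← psi_lam y hy]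
  rcases h with h | h
  · rw [h]
  · rw [h, psi_neg]

/-- An element with given image. -/
def mk (p : B 12 × B 12) : Pauli 12 := ⟨0, p.1, p.2⟩

theorem ab_mk (p : B 12 × B 12) : ab (mk p) = p := rfl

theorem mk_mem (v : leechLattice) (hv : sqNorm (v : GolayPt → ℤ) = 32) : mk (psi v) ∈ Sh :=
  ⟨v, hv, rfl⟩

/-- The minimal vector of a short element is determined up to sign by its image. -/
theorem lam_eq_of_psi {x : Pauli 12} {v : leechLattice} (hv : sqNorm (v : GolayPt → ℤ) = 32)
    (h : psi v = ab x) : v = lam x ∨ v = -lam x := by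
  have hx : x ∈ Sh := ⟨v, hv, h⟩
  exact eq_or_neg hv (lam_norm x hx) (h.trans (psi_lam x hx).symm)

theorem lam_surj (v : leechLattice) (hv : sqNorm (v : GolayPt → ℤ) = 32) :
    ∃ x ∈ Sh, v = lam x ∨ v = -lam x :=
  ⟨mk (psi v), mk_mem v hv, lam_eq_of_psi hv rfl⟩

theorem exists_short : ∃ v : leechLattice, sqNorm (v : GolayPt → ℤ) = 32 := by
  by_contra h
  push Not at h
  have h1 : {x : GolayPt → ℤ | x ∈ leechLattice ∧ sqNorm x = 32} = ∅ := by
    ext x
    simp only [Set.mem_ofPred_eq, Set.mem_empty_iff_false, iff_false]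
    rintro ⟨hx, hn⟩
    exact h ⟨x, hx⟩ hn
  have h2 := Cfsg.Agent.S1567.result
  rw [h1, AddSubgroup.closure_empty] at h2
  have h3 : psi (vX 0) = 0 := by
    have h4 : (vX 0 : GolayPt → ℤ) ∈ (⊥ : AddSubgroup (GolayPt → ℤ)) := by
      rw [h2]; exact (vX 0).2
    have h5 : vX 0 = 0 := Subtype.ext (AddSubgroup.mem_bot.1 h4)
    rw [h5, map_zero]
  rw [psi_vX] at h3
  have h4 := congrFun (congrArg Prod.fst h3) 0
  simp at h4

/-- The short elements generate. -/
theorem gen : Subgroup.closure Sh = ⊤ := by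
  obtain ⟨v₀, hv₀⟩ := exists_short
  have hz : Pauli.z 12 ∈ Subgroup.closure Sh := by
    have h1 : mk (psi v₀) ∈ Subgroup.closure Sh := Subgroup.subset_closure (mk_mem v₀ hv₀)
    have h2 : Pauli.z 12 * mk (psi v₀) ∈ Subgroup.closure Sh :=
      Subgroup.subset_closure (Sh_z _ (mk_mem v₀ hv₀))
    have h3 := (Subgroup.closure Sh).mul_mem h2 ((Subgroup.closure Sh).inv_mem h1)
    rwa [mul_inv_cancel_right] at h3
  have hab : ∀ x y : Pauli 12, ab x = ab y → y ∈ Subgroup.closure Sh →
      x ∈ Subgroup.closure Sh := by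
    intro x y h hy
    rcases (ab_eq_iff x y).1 h with h | h
    · rw [h]; exact hy
    · rw [h]; exact (Subgroup.closure Sh).mul_mem hz hy
  have key : ∀ v ∈ AddSubgroup.closure {x : GolayPt → ℤ | x ∈ leechLattice ∧ sqNorm x = 32},
      ∀ hv : v ∈ leechLattice, mk (psi ⟨v, hv⟩) ∈ Subgroup.closure Sh := by
    intro v hv
    induction hv using AddSubgroup.closure_induction with
    | mem x hx =>
      intro hx'
      exact Subgroup.subset_closure (mk_mem _ hx.2)
    | zero =>
      intro h0
      have : (⟨0, h0⟩ : leechLattice) = 0 := rfl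
      rw [this, map_zero]
      exact (Subgroup.closure Sh).one_mem
    | add x y hx hy ihx ihy =>
      intro hxy
      have hx' : x ∈ leechLattice := by rw [← Cfsg.Agent.S1567.result]; exact hx
      have hy' : y ∈ leechLattice := by rw [← Cfsg.Agent.S1567.result]; exact hy
      have : (⟨x + y, hxy⟩ : leechLattice) = ⟨x, hx'⟩ + ⟨y, hy'⟩ := rfl
      rw [this]
      refine hab _ (mk (psi ⟨x, hx'⟩) * mk (psi ⟨y, hy'⟩)) ?_
        ((Subgroup.closure Sh).mul_mem (ihx hx') (ihy hy'))
      rw [ab_mk, ab_mul, ab_mk, ab_mk, map_add]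
    | neg x hx ihx =>
      intro hnx
      have hx' : x ∈ leechLattice := by rw [← Cfsg.Agent.S1567.result]; exact hx
      have : (⟨-x, hnx⟩ : leechLattice) = -⟨x, hx'⟩ := rfl
      rw [this, psi_neg]
      exact ihx hx'
  rw [eq_top_iff]
  intro x _
  obtain ⟨v, hv⟩ := psi_surjective (ab x)
  refine hab x (mk (psi v)) (by rw [ab_mk, hv]) ?_
  refine key v ?_ v.2
  rw [Cfsg.Agent.S1567.result]; exact v.2

/-- The compatibility of a lattice automorphism with an automorphism of the Pauli group. -/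
def Compat (A : Co0) (α : Pauli 12 ≃* Pauli 12) : Prop := ∀ v, psi (A • v) = quo α (psi v)

theorem Compat.act_sh {A : Co0} {α : Pauli 12 ≃* Pauli 12} (h : Compat A α) (x : Pauli 12)
    (hx : x ∈ Sh) : α x ∈ Sh := by
  obtain ⟨v, h1, h2⟩ := hx
  exact ⟨A • v, by rw [co0_sqNorm, h1], by rw [h, h2, quo_ab]⟩

theorem Compat.act_lam {A : Co0} {α : Pauli 12 ≃* Pauli 12} (h : Compat A α) (x : Pauli 12)
    (hx : x ∈ Sh) : lam (α x) = A • lam x ∨ lam (α x) = -(A • lam x) := by
  have h1 : A • lam x = lam (α x) ∨ A • lam x = -lam (α x) := by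
    apply lam_eq_of_psi
    · rw [co0_sqNorm, lam_norm x hx]
    · rw [h, psi_lam x hx, quo_ab]
  rcases h1 with h1 | h1
  · left; rw [h1]
  · right; rw [h1, neg_neg]

theorem Compat.one : Compat 1 1 := by
  intro v
  rw [one_smul, map_one]; rfl

theorem Compat.mul {A A' : Co0} {α α' : Pauli 12 ≃* Pauli 12} (h : Compat A α)
    (h' : Compat A' α') : Compat (A * A') (α * α') := by
  intro v
  rw [mul_smul, h, h', map_mul]; rfl

theorem Compat.inv {A : Co0} {α : Pauli 12 ≃* Pauli 12} (h : Compat A α) :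
    Compat A⁻¹ α⁻¹ := by
  intro v
  have h1 := h (A⁻¹ • v)
  rw [smul_inv_smul] at h1
  rw [h1, map_inv]
  exact (Equiv.symm_apply_apply _ _).symm

theorem quo_sum (α : Pauli 12 ≃* Pauli 12) {ι : Type*} (s : Finset ι) (f : ι → B 12 × B 12) :
    quo α (∑ i ∈ s, f i) = ∑ i ∈ s, quo α (f i) := by
  have h0 : quo α 0 = 0 := by
    have := quo_add α 0 0
    rw [add_zero] at this
    simpa using this
  exact map_sum ({ toFun := quo α, map_zero' := h0, map_add' := quo_add α } :
    B 12 × B 12 →+ B 12 × B 12) f s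

/-- It is enough to check the 24 basic vectors. -/
theorem compat_of_basis {A : Co0} {α : Pauli 12 ≃* Pauli 12}
    (hX : ∀ k, psi (A • vX k) = ab (α ⟨0, dl k, 0⟩))
    (hZ : ∀ k, psi (A • vZ k) = ab (α ⟨0, 0, dl k⟩)) : Compat A α := by
  have h0 : quo α 0 = 0 := by
    have := quo_add α 0 0
    rw [add_zero] at this
    simpa using this
  have hneg : ∀ w : leechLattice, A • (-w) = -(A • w) := by
    intro w
    have h1 := co0_smul_add A w (-w)
    rw [add_neg_cancel] at h1
    have h2 : A • (0 : leechLattice) = 0 := by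
      have := co0_smul_add A 0 0
      rw [add_zero] at this
      simpa using this
    rw [h2] at h1
    exact (neg_eq_of_add_eq_zero_right h1.symm).symm
  -- both sides are additive
  let f : leechLattice →+ B 12 × B 12 :=
    { toFun := fun v => psi (A • v)
      map_zero' := by
        have h2 : A • (0 : leechLattice) = 0 := by
          have := co0_smul_add A 0 0
          rw [add_zero] at this
          simpa using this
        rw [h2, map_zero]
      map_add' := fun v w => by rw [co0_smul_add, map_add] }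
  let g : B 12 × B 12 →+ B 12 × B 12 :=
    { toFun := quo α, map_zero' := h0, map_add' := quo_add α }
  intro v
  show f v = g (psi v)
  -- `v` is congruent to the lift of its image
  obtain ⟨u, hu⟩ := psi_eq_iff.1 (psi_lift (psi v)).symm
  have h1 : v = lift (psi v) + 2 • u := by rw [← hu]; abel
  have h2 : f (2 • u) = 0 := by
    rw [map_nsmul, two_smul]
    exact Prod.ext (add_self _) (add_self _)
  have h3 : f v = f (lift (psi v)) := by
    nth_rewrite 1 [h1]
    rw [map_add, h2, add_zero]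
  have h4 : ∀ k, f (vX k) = g (psi (vX k)) := by
    intro k
    show psi (A • vX k) = quo α (psi (vX k))
    rw [hX, psi_vX]
    exact (quo_ab α ⟨0, dl k, 0⟩).symm
  have h5 : ∀ k, f (vZ k) = g (psi (vZ k)) := by
    intro k
    show psi (A • vZ k) = quo α (psi (vZ k))
    rw [hZ, psi_vZ]
    exact (quo_ab α ⟨0, 0, dl k⟩).symm
  rw [h3]
  nth_rewrite 2 [← psi_lift (psi v)]
  unfold lift
  simp only [map_add, map_sum, map_nsmul, h4, h5]

end Cfsg.Agent.MonsterX.Short
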