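import Mathlib
import Cfsg.Agent.Monster.TensorProg
import Cfsg.Agent.MonsterX.LabPl
import Cfsg.Agent.MonsterX.Short

/-!
The vectors `X x` on the short lanes, and the action of monomial programs on them.
-/

set_option autoImplicit false
set_option maxRecDepth 100000

namespace Cfsg.Agent.MonsterX.KX

open Cfsg.Agent.Lib.PermNet Cfsg.Agent.Monster.VecEngine
open Cfsg.Agent.Monster.PauliBasic Cfsg.Agent.Monster.PauliClif Cfsg.Agent.Monster.PauliGates
open Cfsg.Agent.Monster.PauliBits Cfsg.Agent.Monster.PauliPlanes Cfsg.Agent.Monster.RegMono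
open Cfsg.Agent.Monster.TensorProg Cfsg.Agent.MonsterX.LabPl

open Classical in
/-- `1` if `p = x`, `-1` if `p = z x`, `0` otherwise. -/
noncomputable def chi (p x : Pauli 12) : ℚ := if p = x then 1 else if p = Pauli.z 12 * x then -1 else 0

/-- The vector of a short element. -/
noncomputable def Xf (x : Pauli 12) : ℕ → ℚ :=
  fun i => if SL.testBit i = true then chi (labP 12 lab i) x else 0

theorem z_mul_ne (x : Pauli 12) : Pauli.z 12 * x ≠ x := by
  intro h
  exact Pauli.z_ne_one (mul_eq_right.1 h)

theorem z_z_mul (x : Pauli 12) : Pauli.z 12 * (Pauli.z 12 * x) = x := by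
  rw [← mul_assoc, Pauli.z_sq, one_mul]

theorem chi_map (α : Pauli 12 ≃* Pauli 12) (p x : Pauli 12) : chi (α p) (α x) = chi p x := by
  unfold chi
  have h1 : α p = α x ↔ p = x := α.injective.eq_iff
  have h2 : α p = Pauli.z 12 * α x ↔ p = Pauli.z 12 * x := by
    have h3 : Pauli.z 12 * α x = α (Pauli.z 12 * x) := by rw [map_mul, aut_z]
    rw [h3]
    exact α.injective.eq_iff
  simp only [h1, h2]

theorem chi_z (p x : Pauli 12) : chi p (Pauli.z 12 * x) = -chi p x := by
  unfold chi
  rw [z_z_mul]
  by_cases h1 : p = x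
  · subst h1
    rw [if_neg (z_mul_ne p).symm, if_pos rfl, if_pos rfl]
  · by_cases h2 : p = Pauli.z 12 * x
    · rw [if_pos h2, if_neg h1, if_pos h2]; norm_num
    · rw [if_neg h2, if_neg h1, if_neg h1, if_neg h2]; norm_num

theorem chi_z_left (p x : Pauli 12) : chi (Pauli.z 12 * p) x = -chi p x := by
  unfold chi
  have h1 : Pauli.z 12 * p = x ↔ p = Pauli.z 12 * x := by
    constructor
    · rintro rfl; rw [z_z_mul]
    · rintro rfl; rw [z_z_mul]
  have h2 : Pauli.z 12 * p = Pauli.z 12 * x ↔ p = x := mul_right_inj _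
  simp only [h1, h2]
  by_cases h3 : p = x
  · subst h3
    rw [if_neg (z_mul_ne p).symm, if_pos rfl, if_pos rfl]
  · by_cases h4 : p = Pauli.z 12 * x
    · rw [if_pos h4, if_neg h3, if_pos h4]; norm_num
    · rw [if_neg h4, if_neg h3, if_neg h3, if_neg h4]; norm_num

theorem Xf_z (x : Pauli 12) : Xf (Pauli.z 12 * x) = -Xf x := by
  funext i
  show (if SL.testBit i = true then chi (labP 12 lab i) (Pauli.z 12 * x) else 0) =
    -(if SL.testBit i = true then chi (labP 12 lab i) x else 0)
  rw [chi_z]
  split_ifs <;> simp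

/-- The check. -/
noncomputable def chkX (P : Prog) (C : List (Gate 12)) : Bool :=
  and (regOK P SL 0 0 SL)
    ((fun L => allB (fun k => eqU SL (get L k) (get lab k)) 25) (conjPlL C (push 24 P lab)))

theorem length_lab : lab.length = 25 := rfl

/-- The sign on labels. -/
theorem labP_push {P : Prog} {σ : ℕ → ℕ} {ε : ℕ → ZMod 2} {U V : ℕ}
    (hP : Mono ℚ P U V σ ε) (i : ℕ) :
    labP 12 (push 24 P lab) i = ⟨ε i, 0, 0⟩ * labP 12 lab (σ i) := by
  have h : ∀ k < 25, bit (get (push 24 P lab) k) i = bit (get lab k) (σ i) + if k = 24 then ε i else 0 :=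
    fun k hk => hP.push_eq 24 lab (by rw [length_lab]; norm_num) k (by rw [length_lab]; exact hk) i
  apply Pauli.ext
  · show bit (get (push 24 P lab) 24) i = ε i + bit (get lab 24) (σ i) + (0 : B 12) ⬝ᵥ _
    rw [h 24 (by norm_num), if_pos rfl, zero_dotProduct, add_zero, add_comm]
  · funext k
    show bit (get (push 24 P lab) (12 + k)) i = 0 + bit (get lab (12 + k)) (σ i)
    rw [h _ (by have := k.2; omega), if_neg (by have := k.2; omega), add_zero, zero_add]
  · funext k
    show bit (get (push 24 P lab) k) i = 0 + bit (get lab k) (σ i)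
    rw [h _ (by have := k.2; omega), if_neg (by have := k.2; omega), add_zero, zero_add]

theorem chi_sign (s : ZMod 2) (p x : Pauli 12) : chi (⟨s, 0, 0⟩ * p) x = sg ℚ s * chi p x := by
  rcases zmod2_cases s with rfl | rfl
  · have : (⟨0, 0, 0⟩ : Pauli 12) = 1 := rfl
    rw [this, one_mul, sg_zero, one_mul]
  · have : (⟨1, 0, 0⟩ : Pauli 12) = Pauli.z 12 := rfl
    rw [this, chi_z_left, sg_one]; ring

/-- Monomial programs permute the vectors `X x`. -/
theorem semX {P : Prog} {C : List (Gate 12)} {m : ℕ} (hPo : P.ok m = true)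
    (h : chkX P C = true) (x : Pauli 12) : sem ℚ P (Xf x) = Xf (conjL C x) := by
  have h' : and (regOK P SL 0 0 SL)
    (allB (fun k => eqU SL (get (conjPlL C (push 24 P lab)) k) (get lab k)) 25) = true := h
  rw [Bool.and_eq_true] at h'
  obtain ⟨σ, ε, hP⟩ := exists_mono ℚ two_ne_zero hPo h'.1
  funext i
  rw [hP.sem_eq _ (fun j hj => by show (if _ then _ else _) = _; rw [if_neg (by rw [hj]; simp)])]
  by_cases hi : SL.testBit i = true
  · have hσ : SL.testBit (σ i) = true := by rw [← hP.mask]; exact hi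
    show sg ℚ (ε i) * (if SL.testBit (σ i) = true then chi (labP 12 lab (σ i)) x else 0) =
      if SL.testBit i = true then chi (labP 12 lab i) (conjL C x) else 0
    rw [if_pos hσ, if_pos hi, ← chi_sign, ← labP_push hP]
    have h1 : labP 12 lab i = conjL C (labP 12 (push 24 P lab) i) := by
      rw [← labP_conjPlL C (by rw [length_push, length_lab])]
      have h2 : ∀ k < 25, bit (get lab k) i = bit (get (conjPlL C (push 24 P lab)) k) i :=
        fun k hk => (bit_of_eqU (allB_spec h'.2 hk) hi).symm
      apply Pauli.ext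
      · exact h2 24 (by norm_num)
      · funext k; exact h2 (12 + k) (by have := k.2; omega)
      · funext k; exact h2 k (by have := k.2; omega)
    rw [h1, chi_map]
  · have hσ : ¬ SL.testBit (σ i) = true := by rw [← hP.mask]; exact hi
    show sg ℚ (ε i) * (if SL.testBit (σ i) = true then chi (labP 12 lab (σ i)) x else 0) =
      if SL.testBit i = true then chi (labP 12 lab i) (conjL C x) else 0
    rw [if_neg hσ, if_neg hi, mul_zero]

end Cfsg.Agent.MonsterX.KX
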