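import Cfsg.Agent.MonsterX.LaneInj
import Cfsg.Agent.MonsterX.KX

/-!
# The label planes of `LabPl` and of `LaneLab` are equal

Hence the results of `LaneVec` and `LaneInj` hold for `LabPl.SL`, `LabPl.lab`.
-/

set_option autoImplicit false

namespace Cfsg.Agent.MonsterX.LaneEq

open Cfsg Cfsg.Agent.Monster Cfsg.Agent.Monster.PauliBasic Cfsg.Agent.Monster.PauliClif Cfsg.Agent.Monster.PauliPlanes
open Cfsg.Agent.MonsterX.Psi

theorem SL_eq : LabPl.SL = LaneLab.XL :=
  Nat.eq_of_beq_eq_true (show Nat.beq LabPl.SL LaneLab.XL = true by decide +kernel)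

theorem e0 : LabPl.p0 = LaneLab.P0 :=
  Nat.eq_of_beq_eq_true (show Nat.beq LabPl.p0 LaneLab.P0 = true by decide +kernel)

theorem e1 : LabPl.p1 = LaneLab.P1 :=
  Nat.eq_of_beq_eq_true (show Nat.beq LabPl.p1 LaneLab.P1 = true by decide +kernel)

theorem e2 : LabPl.p2 = LaneLab.P2 :=
  Nat.eq_of_beq_eq_true (show Nat.beq LabPl.p2 LaneLab.P2 = true by decide +kernel)

theorem e3 : LabPl.p3 = LaneLab.P3 :=
  Nat.eq_of_beq_eq_true (show Nat.beq LabPl.p3 LaneLab.P3 = true by decide +kernel)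

theorem e4 : LabPl.p4 = LaneLab.P4 :=
  Nat.eq_of_beq_eq_true (show Nat.beq LabPl.p4 LaneLab.P4 = true by decide +kernel)

theorem e5 : LabPl.p5 = LaneLab.P5 :=
  Nat.eq_of_beq_eq_true (show Nat.beq LabPl.p5 LaneLab.P5 = true by decide +kernel)

theorem e6 : LabPl.p6 = LaneLab.P6 :=
  Nat.eq_of_beq_eq_true (show Nat.beq LabPl.p6 LaneLab.P6 = true by decide +kernel)

theorem e7 : LabPl.p7 = LaneLab.P7 :=
  Nat.eq_of_beq_eq_true (show Nat.beq LabPl.p7 LaneLab.P7 = true by decide +kernel)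

theorem e8 : LabPl.p8 = LaneLab.P8 :=
  Nat.eq_of_beq_eq_true (show Nat.beq LabPl.p8 LaneLab.P8 = true by decide +kernel)

theorem e9 : LabPl.p9 = LaneLab.P9 :=
  Nat.eq_of_beq_eq_true (show Nat.beq LabPl.p9 LaneLab.P9 = true by decide +kernel)

theorem e10 : LabPl.p10 = LaneLab.P10 :=
  Nat.eq_of_beq_eq_true (show Nat.beq LabPl.p10 LaneLab.P10 = true by decide +kernel)

theorem e11 : LabPl.p11 = LaneLab.P11 :=
  Nat.eq_of_beq_eq_true (show Nat.beq LabPl.p11 LaneLab.P11 = true by decide +kernel)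

theorem e12 : LabPl.p12 = LaneLab.P12 :=
  Nat.eq_of_beq_eq_true (show Nat.beq LabPl.p12 LaneLab.P12 = true by decide +kernel)

theorem e13 : LabPl.p13 = LaneLab.P13 :=
  Nat.eq_of_beq_eq_true (show Nat.beq LabPl.p13 LaneLab.P13 = true by decide +kernel)

theorem e14 : LabPl.p14 = LaneLab.P14 :=
  Nat.eq_of_beq_eq_true (show Nat.beq LabPl.p14 LaneLab.P14 = true by decide +kernel)

theorem e15 : LabPl.p15 = LaneLab.P15 :=
  Nat.eq_of_beq_eq_true (show Nat.beq LabPl.p15 LaneLab.P15 = true by decide +kernel)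

theorem e16 : LabPl.p16 = LaneLab.P16 :=
  Nat.eq_of_beq_eq_true (show Nat.beq LabPl.p16 LaneLab.P16 = true by decide +kernel)

theorem e17 : LabPl.p17 = LaneLab.P17 :=
  Nat.eq_of_beq_eq_true (show Nat.beq LabPl.p17 LaneLab.P17 = true by decide +kernel)

theorem e18 : LabPl.p18 = LaneLab.P18 :=
  Nat.eq_of_beq_eq_true (show Nat.beq LabPl.p18 LaneLab.P18 = true by decide +kernel)

theorem e19 : LabPl.p19 = LaneLab.P19 :=
  Nat.eq_of_beq_eq_true (show Nat.beq LabPl.p19 LaneLab.P19 = true by decide +kernel)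

theorem e20 : LabPl.p20 = LaneLab.P20 :=
  Nat.eq_of_beq_eq_true (show Nat.beq LabPl.p20 LaneLab.P20 = true by decide +kernel)

theorem e21 : LabPl.p21 = LaneLab.P21 :=
  Nat.eq_of_beq_eq_true (show Nat.beq LabPl.p21 LaneLab.P21 = true by decide +kernel)

theorem e22 : LabPl.p22 = LaneLab.P22 :=
  Nat.eq_of_beq_eq_true (show Nat.beq LabPl.p22 LaneLab.P22 = true by decide +kernel)

theorem e23 : LabPl.p23 = LaneLab.P23 :=
  Nat.eq_of_beq_eq_true (show Nat.beq LabPl.p23 LaneLab.P23 = true by decide +kernel)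

theorem e24 : LabPl.p24 = LaneLab.P24 :=
  Nat.eq_of_beq_eq_true (show Nat.beq LabPl.p24 LaneLab.P24 = true by decide +kernel)

/-- The lists of label planes are equal. -/
theorem lab_eq : LabPl.lab = LaneLab.P := by
  unfold LabPl.lab LaneLab.P
  rw [e0, e1, e2, e3, e4, e5, e6, e7, e8, e9, e10, e11, e12, e13, e14, e15, e16, e17, e18, e19, e20, e21, e22, e23, e24]

/-- The label of a lane. -/
theorem labP_eq (l : ℕ) : labP 12 LabPl.lab l = LaneVec.lab l := by rw [lab_eq]; rfl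

/-- The lattice vector of a lane. -/
theorem psi_lv {l : ℕ} (hl : LabPl.SL.testBit l = true) : psi (LaneVec.lv l) = ab (labP 12 LabPl.lab l) := by
  rw [labP_eq]
  exact LaneVec.psi_lv (by rw [← SL_eq]; exact hl)

theorem lab_mem {l : ℕ} (hl : LabPl.SL.testBit l = true) : labP 12 LabPl.lab l ∈ Short.Sh := by
  rw [labP_eq]
  exact LaneInj.lab_mem (by rw [← SL_eq]; exact hl)

/-- Lanes with equal classes are equal. -/
theorem lab_inj {l l' : ℕ} (hl : LabPl.SL.testBit l = true) (hl' : LabPl.SL.testBit l' = true)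
    (h : ab (labP 12 LabPl.lab l) = ab (labP 12 LabPl.lab l')) : l = l' := by
  rw [SL_eq] at hl hl'
  rw [labP_eq, labP_eq] at h
  exact LaneInj.lab_inj hl hl' h

/-- Every short element has the class of a lane. -/
theorem exists_lab {x : Pauli 12} (hx : x ∈ Short.Sh) :
    ∃ l, LabPl.SL.testBit l = true ∧ ab x = ab (labP 12 LabPl.lab l) := by
  obtain ⟨l, hl, h⟩ := LaneInj.exists_lab hx
  exact ⟨l, by rw [SL_eq]; exact hl, by rw [labP_eq]; exact h⟩

/-- The minimal vector of the label of a lane. -/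
theorem lam_lab {l : ℕ} (hl : LabPl.SL.testBit l = true) :
    Short.lam (labP 12 LabPl.lab l) = LaneVec.lv l ∨ Short.lam (labP 12 LabPl.lab l) = -LaneVec.lv l := by
  rw [labP_eq]
  exact LaneInj.lam_lab (by rw [← SL_eq]; exact hl)

end Cfsg.Agent.MonsterX.LaneEq
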