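import Cfsg.Agent.MonsterX.KAsm
import Cfsg.Agent.MonsterX.LaneEq

/-!
# The structures `KS` and `Lift` of the concrete model, from the rows
-/

set_option autoImplicit false

namespace Cfsg.Agent.MonsterX.KInst

open Cfsg Cfsg.Agent.Monster.VecEngine Cfsg.Agent.Monster Cfsg.Agent.Monster.VecSpace
open Cfsg.Agent.MonsterX.ProgBase Cfsg.Agent.MonsterX.Space Cfsg.Agent.MonsterX.MatAct
open Cfsg.Agent.MonsterX.CoGens Cfsg.Agent.MonsterX.USide Cfsg.Agent.MonsterX.UOnto
open Cfsg.Agent.MonsterX.Short Cfsg.Agent.MonsterX.KX Cfsg.Agent.MonsterX.LabPl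
open Cfsg.Agent.Monster.PauliBasic Cfsg.Agent.Monster.PauliClif Cfsg.Agent.Monster.PauliRep
open Cfsg.Agent.Monster.PauliPlanes Cfsg.Agent.Monster.TensorProg
open Cfsg.Agent.MonsterX.KRows Cfsg.Agent.MonsterX.KAsm Cfsg.Agent.SporadicStructure.Co0Base
open Cfsg.Agent.MonsterX.KSide Cfsg.Agent.MonsterX.KLift

/-- The lanes of `SL` correspond to the short elements modulo the centre (helper442). -/
theorem labFacts : LabFacts where
  sh _ hi := LaneEq.lab_mem hi
  inj _ _ hi hj h := LaneEq.lab_inj hi hj h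
  surj x hx := by
    obtain ⟨l, hl, h⟩ := LaneEq.exists_lab hx
    exact ⟨l, hl, h.symm⟩

/-! ### Facts about the Pauli group -/

theorem zc_comm (p : Pauli 12) : Pauli.z 12 * p = p * Pauli.z 12 := by
  rw [Pauli.z_mul, Pauli.mul_z]

theorem comm_or (p q : Pauli 12) : p * q * p⁻¹ = q ∨ p * q * p⁻¹ = Pauli.z 12 * q := by
  rw [← ab_eq_iff, Pauli.conj_eq]
  rfl

theorem inner (α : Pauli 12 ≃* Pauli 12) (h : ∀ p, α p = p ∨ α p = Pauli.z 12 * p) :
    ∃ q, ∀ p, α p = q * p * q⁻¹ := by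
  obtain ⟨q, hq⟩ := exists_conj α (fun p => by
    have h1 := (ab_eq_iff (α p) p).2 (h p)
    exact ⟨congrArg Prod.fst h1, congrArg Prod.snd h1⟩)
  exact ⟨q, fun p => by rw [hq]; rfl⟩

/-- The representation of the Pauli group. -/
noncomputable def ρ : Pauli 12 →* Module.End ℚ (B 12 → ℚ) :=
  LinearEquiv.automorphismGroup.toLinearMapMonoidHom.comp (rho ℚ)

theorem ρ_apply (p : Pauli 12) (f : B 12 → ℚ) : ρ p f = rho ℚ p f := rfl

theorem comm_scalar (T : Module.End ℚ (B 12 → ℚ)) (h : ∀ p f, T (ρ p f) = ρ p (T f)) :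
    ∃ c : ℚ, ∀ f, T f = c • f := by
  obtain ⟨c, hc⟩ := commutant (R := ℚ) (n := 12) two_ne_zero T (fun x => LinearMap.ext fun f => h x f)
  exact ⟨c, fun f => by rw [hc]; rfl⟩

/-! ### The structure -/

/-- The group of the model. -/
noncomputable abbrev G : Subgroup (V ≃ₗ[ℚ] V) := InstData.M.G

theorem Θ_ne : ∃ (f : B 12 → ℚ) (v : leechLattice), Θ f (rt v) ≠ 0 := by
  have hl : UW.testBit 131072 = true := by
    rw [testBit_UW]; decide
  let i : Lane U := ⟨131072, U_of_UW hl⟩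
  refine ⟨Pi.single (PauliBits.vec 12 (131072 / 32)) 1, e8 (ptS (131072 % 32)), ?_⟩
  intro h
  have h1 := congrArg (fun x : V => x.1 i) h
  have h2 : (Θ (Pi.single (PauliBits.vec 12 (131072 / 32)) 1) (rt (e8 (ptS (131072 % 32))))).1 i =
      1 * 8 := by
    rw [Θ_apply, Tf_of _ _ hl]
    rw [rt_e8]
    show (Pi.single (PauliBits.vec 12 (131072 / 32)) (1 : ℚ) : B 12 → ℚ) (PauliBits.vec 12 (131072 / 32)) *
      (Pi.single (ptS (131072 % 32)) (8 : ℚ) : GolayPt → ℚ) (ptS (131072 % 32)) = _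
    rw [Pi.single_eq_same, Pi.single_eq_same]
  have h3 : (0 : V).1 i = 0 := rfl
  have h4 : (1 * 8 : ℚ) = 0 := h2.symm.trans h1
  norm_num at h4

section

variable (R : Rows)

/-- The Pauli group in the group of the model. -/
noncomputable def ι : Pauli 12 →* G :=
  (iotaE R labFacts).codRestrict G fun p => Conc.C_le_G (Conc.Q_le_C (iotaE_pair R labFacts p).mem)

theorem ι_coe (p : Pauli 12) : ((ι R p : G) : V ≃ₗ[ℚ] V) = iotaE R labFacts p := rfl

/-- **The `K`-side of the concrete model.** -/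
noncomputable def ks : KS G V (Pauli 12) (B 12 → ℚ) where
  B := F
  B_comm := F_symm
  B_pos v hv := by
    rcases lt_or_eq_of_le (F_self_nonneg v) with h | h
    · exact h
    · exact absurd (F_self_eq_zero h.symm) hv
  B_inv g v w := Conc.G_isom g.1 g.2 v w
  faithful g h := Subtype.ext (LinearEquiv.ext h)
  zc := Pauli.z 12
  zc_mul := Pauli.z_sq
  zc_ne := Pauli.z_ne_one
  zc_comm := zc_comm
  comm_or := comm_or
  inner := inner
  Sh := Sh
  Sh_z := Sh_z
  gen := gen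
  lam := lam
  lam_norm := lam_norm
  lam_z := lam_z
  lam_inj := lam_inj
  lam_surj := lam_surj
  u := u
  X := Xv
  Θ := Θ
  ρ := ρ
  ρ_z := rho_z ℚ
  comm_scalar := comm_scalar
  X_z x _ := Xv_z x
  B_uu := B_uu
  B_uX v x _ := B_uX v x
  B_XX := B_XX labFacts
  B_XX' := B_XX' labFacts
  B_uΘ := B_uΘ
  B_XΘ x _ := B_XΘ x
  Θ_ne := Θ_ne
  span := span_eq labFacts
  ι := ι R
  ι_u p v := (iotaE_pair R labFacts p).act_u v
  ι_X p x _ := (iotaE_pair R labFacts p).act_X x
  ι_Θ p f v := (iotaE_pair R labFacts p).act_Θ f v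
  K := Conc.C.subgroupOf G
  ι_mem p := Subgroup.mem_subgroupOf.2 (Conc.Q_le_C (iotaE_pair R labFacts p).mem)
  acts k hk := by
    obtain ⟨A, α, T, h⟩ := exists_act R k.1 (Subgroup.mem_subgroupOf.1 hk)
    exact ⟨A, α, T.toLinearMap,
      { act_u := h.act_u
        act_sh := h.compat.act_sh
        act_X := fun x _ => h.act_X x
        act_lam := h.compat.act_lam
        act_Θ := h.act_Θ
        act_ρ := h.act_ρ }⟩
  onto A := by
    obtain ⟨k, hk, h⟩ := onto A
    exact ⟨⟨k, Conc.C_le_G hk⟩, Subgroup.mem_subgroupOf.2 hk, h⟩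

/-- The lift of the lattice to the Pauli group. -/
theorem lift : Lift (ks R) ShortQ.theta where
  card := ShortQ.card_P
  sq := ShortQ.sq_or
  center := ShortQ.center
  sh_sq := ShortQ.sh_sq
  add := ShortQ.theta_add
  ker := ShortQ.theta_ker
  surj := ShortQ.theta_surj
  lam := ShortQ.theta_lam
  comm := ShortQ.theta_comm

end

end Cfsg.Agent.MonsterX.KInst
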