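import Mathlib
import Cfsg.Agent.MonsterX.CoGens
import Cfsg.Agent.MonsterX.KCirc
import Cfsg.Agent.Monster.TensorBfly

/-!
The slot programs of the letters act on the slot vector of a lattice vector by the element
`CoGens.A n` of `Co0`.
-/

set_option autoImplicit false
set_option maxRecDepth 100000

namespace Cfsg.Agent.MonsterX.KSlot

open Cfsg
open Cfsg.Agent.Lib.PermNet Cfsg.Agent.Monster.VecEngine
open Cfsg.Agent.SporadicA.M24Gens Cfsg.Agent.MonsterX.CoGens
open Cfsg.Agent.MonsterX.MatAct (slotT cf nzT ngT foldK foldK_sound bt_zero)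
open Cfsg.Agent.Monster.TensorProg

/-- The unit vector of the slot of the point number `a`. -/
def un1 (a : ℕ) : ℕ → ℚ := fun i => if i = slotT.getD a 0 then 1 else 0

/-- The slot vector of a vector on the 24 points. -/
def sl : (GolayPt → ℚ) →ₗ[ℚ] (ℕ → ℚ) where
  toFun v := ∑ p, v p • un1 (pidx p)
  map_add' v w := by
    rw [← Finset.sum_add_distrib]
    exact Finset.sum_congr rfl fun p _ => by rw [Pi.add_apply, add_smul]
  map_smul' c v := by
    rw [RingHom.id_apply, Finset.smul_sum]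
    exact Finset.sum_congr rfl fun p _ => by rw [Pi.smul_apply, smul_eq_mul, mul_smul]

theorem sl_eq (v : GolayPt → ℚ) : sl v = ∑ p, v p • un1 (pidx p) := rfl

/-- The point of a slot. -/
theorem slot_lt : ∀ p : GolayPt, slotT.getD (pidx p) 0 < 24 := by decide +kernel

theorem slot_inj : ∀ p q : GolayPt, slotT.getD (pidx p) 0 = slotT.getD (pidx q) 0 → p = q := by
  decide +kernel

theorem sl_slot (v : GolayPt → ℚ) (p : GolayPt) : sl v (slotT.getD (pidx p) 0) = v p := by
  rw [sl_eq, Finset.sum_apply, Finset.sum_eq_single p]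
  · show v p * (if _ = _ then 1 else 0) = v p
    rw [if_pos rfl, mul_one]
  · intro q _ hq
    show v q * (if _ = _ then 1 else 0) = 0
    rw [if_neg (fun h => hq (slot_inj _ _ h.symm)), mul_zero]
  · intro h; exact absurd (Finset.mem_univ _) h

theorem sup_sl (v : GolayPt → ℚ) : Sup (sl v) := by
  intro s hs
  rw [sl_eq, Finset.sum_apply]
  apply Finset.sum_eq_zero
  intro p _
  show v p * (if s = _ then 1 else 0) = 0
  rw [if_neg, mul_zero]
  have := slot_lt p
  omega

/-- The unit plane. -/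
noncomputable def bp1 (a : ℕ) : ℕ := Nat.shiftLeft 1 (slotT.getD a 0)

theorem testBit_bp1 (a i : ℕ) : (bp1 a).testBit i = decide (i = slotT.getD a 0) := by
  show (1 <<< slotT.getD a 0).testBit i = _
  rw [Nat.one_shiftLeft, Nat.testBit_two_pow]
  exact decide_eq_decide.2 eq_comm

theorem bt_bp1 (a i : ℕ) : (bt (bp1 a) i : ℚ) = un1 a i := by
  unfold bt un1
  rw [testBit_bp1]
  by_cases h : i = slotT.getD a 0 <;> simp [h]

/-- Plus or minus the unit vector, as planes. -/
noncomputable def sgnP1 (a : ℕ) (s : Bool) : Pl := Bool.rec (.cons (bp1 a) (.sgn 0)) (.sgn (bp1 a)) s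

theorem vec_sgnP1 (a : ℕ) (s : Bool) : vec ℚ (sgnP1 a s) = (if s then (-1 : ℚ) else 1) • un1 a := by
  funext i
  cases s
  · show ((bt (bp1 a) i + 2 * -bt 0 i : ℤ) : ℚ) = _
    rw [bt_zero]
    push_cast
    rw [bt_bp1]
    simp
  · show ((-bt (bp1 a) i : ℤ) : ℚ) = _
    push_cast
    rw [bt_bp1]
    simp

/-- Add `±` a unit vector. -/
noncomputable def stp1 (a : ℕ) (s : Bool) (x : Pl) (k : Pl → Bool) : Bool := go (add (sgnP1 a s) x 0) k

theorem stp1_sound {a : ℕ} {s : Bool} {x : Pl} {k : Pl → Bool} (h : stp1 a s x k = true) :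
    ∃ y, vec ℚ y = vec ℚ x + (if s then (-1 : ℚ) else 1) • un1 a ∧ k y = true := by
  have h' : go (add (sgnP1 a s) x 0) k = true := h
  rw [go_eq] at h'
  refine ⟨_, ?_, h'⟩
  rw [vec_norm, ← vec_sgnP1]
  funext i
  show ((val (add (sgnP1 a s) x 0) i : ℤ) : ℚ) = (val x i : ℚ) + (val (sgnP1 a s) i : ℚ)
  rw [val_add, bt_zero]
  push_cast
  ring

/-- The vector `2 ^ sc` times a unit vector. -/
noncomputable def start1 (a : ℕ) (sc : Bool) : Pl :=
  Bool.rec (.cons (bp1 a) (.sgn 0)) (.cons 0 (.cons (bp1 a) (.sgn 0))) sc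

theorem vec_start1 (a : ℕ) (sc : Bool) :
    vec ℚ (start1 a sc) = (if sc then (2 : ℚ) else 1) • un1 a := by
  funext i
  cases sc
  · show ((bt (bp1 a) i + 2 * -bt 0 i : ℤ) : ℚ) = _
    rw [bt_zero]
    push_cast
    rw [bt_bp1]
    simp
  · show ((bt 0 i + 2 * (bt (bp1 a) i + 2 * -bt 0 i) : ℤ) : ℚ) = _
    rw [bt_zero]
    push_cast
    rw [bt_bp1]
    simp

/-- The check for one unit vector. -/
noncomputable def chk1 (Q : Prog) (sc : Bool) (nz ng : ℕ → ℕ → Bool) (a : ℕ) : Bool :=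
  run Q (start1 a sc) fun y => foldK 24 (nz a) (fun a' => stp1 a' (ng a a'))
    (.sgn 0) fun z => eqP (norm y) (norm z)

theorem chk1_sound {m : ℕ} {Q : Prog} (hQ : Q.ok m = true) {sc : Bool} {nz ng : ℕ → ℕ → Bool} {a : ℕ}
    (h : chk1 Q sc nz ng a = true) :
    sem ℚ Q ((if sc then (2 : ℚ) else 1) • un1 a) =
      ∑ a' ∈ Finset.range 24, cf (nz a a') (ng a a') • un1 a' := by
  obtain ⟨y, hy, hk⟩ := run_sound ℚ two_ne_zero Q hQ _ _ h
  obtain ⟨z, hz, hk'⟩ := foldK_sound (G := fun a' => (if ng a a' then (-1 : ℚ) else 1) • un1 a')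
    (fun a' x k hx => stp1_sound hx) _ _ hk
  rw [vec_start1] at hy
  rw [← hy, ← vec_norm ℚ y, eq_of_eqP hk', vec_norm, hz]
  have h0 : vec ℚ (.sgn 0) = 0 := by
    funext i
    show ((-bt 0 i : ℤ) : ℚ) = 0
    rw [bt_zero]; simp
  rw [h0, zero_add]
  refine Finset.sum_congr rfl fun a' _ => ?_
  unfold cf
  cases nz a a' <;> cases ng a a' <;> simp

/-- The slot program of a letter. -/
noncomputable def qp (n : ℕ) : Prog :=
  if n < 24 then .nil else if n = 24 then KCirc.qy0 else if n = 25 then KCirc.qy1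
  else if n = 26 then KCirc.qy2 else if n = 27 then KCirc.qy3 else if n = 28 then KCirc.qy4
  else if n = 29 then KCirc.qy5 else if n = 30 then KCirc.qy6 else if n = 31 then KCirc.qy7
  else if n = 32 then KCirc.qy8 else if n = 33 then KCirc.qy9 else if n = 34 then KCirc.qy10
  else if n = 35 then KCirc.qy11 else if n = 36 then KCirc.qpa else if n = 37 then KCirc.qpd
  else if n = 38 then KCirc.qpg else KCirc.qxi

/-- The check for a letter. -/
noncomputable def ckQ (n : ℕ) : Bool :=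
  and ((qp n).ok 32) (MatAct.all 24 fun a => chk1 (qp n) (Nat.ble 39 n) (nzT n) (ngT n) a)

theorem ckQ_all : MatAct.all 40 ckQ = true := by decide +kernel

theorem pidx_lt' : ∀ p : GolayPt, pidx p < 24 := by decide +kernel

theorem pidx_inj : ∀ p q : GolayPt, pidx p = pidx q → p = q := by decide +kernel

theorem pidx_surj : ∀ k < 24, ∃ p : GolayPt, pidx p = k := by decide +kernel

theorem sum_pidx {M : Type*} [AddCommMonoid M] (G : ℕ → M) :
    ∑ p : GolayPt, G (pidx p) = ∑ k ∈ Finset.range 24, G k := by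
  refine Finset.sum_bij (fun p _ => pidx p) (fun p _ => Finset.mem_range.2 (pidx_lt' p))
    (fun p _ q _ h => pidx_inj p q h) (fun k hk => ?_) (fun p _ => rfl)
  obtain ⟨p, hp⟩ := pidx_surj k (Finset.mem_range.1 hk)
  exact ⟨p, Finset.mem_univ _, hp⟩

/-- The slot program acts by the element of `Co0`. -/
theorem sl_A {n : ℕ} (hn : n < 40) (v : leechLattice) :
    sem ℚ (qp n) (sl (rt v)) = sl (rt (A n • v)) := by
  have h := MatAct.all_spec ckQ_all hn
  have h' : and ((qp n).ok 32) (MatAct.all 24 fun a => chk1 (qp n) (Nat.ble 39 n) (nzT n) (ngT n) a) =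
    true := h
  rw [Bool.and_eq_true] at h'
  obtain ⟨h1, h2⟩ := h'
  obtain ⟨c, hc⟩ : ∃ c : ℚ, c = if Nat.ble 39 n then (2 : ℚ) else 1 := ⟨_, rfl⟩
  have hc0 : c ≠ 0 := by rw [hc]; split_ifs <;> norm_num
  have h3 : ∀ p : GolayPt, c • sem ℚ (qp n) (un1 (pidx p)) =
      ∑ p' : GolayPt, cf (nzT n (pidx p) (pidx p')) (ngT n (pidx p) (pidx p')) • un1 (pidx p') := by
    intro p
    have := chk1_sound h1 (MatAct.all_spec h2 (pidx_lt' p))
    rw [← map_smul, hc, this, sum_pidx fun a' => cf (nzT n (pidx p) a') (ngT n (pidx p) a') • un1 a']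
  have h4 : c • sem ℚ (qp n) (sl (rt v)) = c • sl (rt (A n • v)) := by
    rw [sl_eq, sl_eq, map_sum, Finset.smul_sum, Finset.smul_sum]
    have e1 : ∀ p : GolayPt, c • sem ℚ (qp n) (rt v p • un1 (pidx p)) =
        ∑ p' : GolayPt, (cf (nzT n (pidx p) (pidx p')) (ngT n (pidx p) (pidx p')) * rt v p) •
          un1 (pidx p') := by
      intro p
      rw [map_smul, smul_comm, h3 p, Finset.smul_sum]
      exact Finset.sum_congr rfl fun p' _ => by rw [smul_smul, mul_comm]
    rw [Finset.sum_congr rfl fun p _ => e1 p, Finset.sum_comm]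
    refine Finset.sum_congr rfl fun p' _ => ?_
    rw [← Finset.sum_smul, smul_smul, hc, ← A_coe hn v p']
  exact smul_right_injective _ hc0 h4

end Cfsg.Agent.MonsterX.KSlot
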