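import Mathlib
import Cfsg.Agent.MonsterX.KSlot
import Cfsg.Agent.MonsterX.ProgTable

/-!
The monomial letters act on the spin lanes by circuits and slot programs: kernel checks.
-/

set_option autoImplicit false
set_option maxRecDepth 100000

namespace Cfsg.Agent.MonsterX.KLetW

open Cfsg.Agent.Lib.PermNet Cfsg.Agent.Monster.VecEngine
open Cfsg.Agent.Monster.PauliBasic Cfsg.Agent.Monster.PauliGates Cfsg.Agent.Monster.TensorProg
open Cfsg.Agent.MonsterX.ProgTable Cfsg.Agent.MonsterX.KSlot

/-- The circuit of a letter. -/
def circ (n : ℕ) : List (Gate 12) := if n < 39 then KCirc.mono.getD n [] else KCirc.xi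

/-- The check for a letter. -/
noncomputable def ckW (n : ℕ) : Bool := chkW (prog n) (KCirc.mono.getD n []) (qp n)

theorem ckW_0 : MatAct.all 24 ckW = true := by decide +kernel
theorem ckW_24 : MatAct.all 4 (fun n => ckW (24 + n)) = true := by decide +kernel
theorem ckW_28 : MatAct.all 4 (fun n => ckW (28 + n)) = true := by decide +kernel
theorem ckW_32 : MatAct.all 4 (fun n => ckW (32 + n)) = true := by decide +kernel
theorem ckW_36 : ckW 36 = true := by decide +kernel
theorem ckW_37 : ckW 37 = true := by decide +kernel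
theorem ckW_38 : ckW 38 = true := by decide +kernel

theorem ckW_all {n : ℕ} (hn : n < 39) : ckW n = true := by
  rcases Nat.lt_or_ge n 24 with h | h
  · exact MatAct.all_spec ckW_0 h
  rcases Nat.lt_or_ge n 28 with h1 | h1
  · have := MatAct.all_spec ckW_24 (show n - 24 < 4 by omega)
    rwa [show 24 + (n - 24) = n by omega] at this
  rcases Nat.lt_or_ge n 32 with h2 | h2
  · have := MatAct.all_spec ckW_28 (show n - 28 < 4 by omega)
    rwa [show 28 + (n - 28) = n by omega] at this
  rcases Nat.lt_or_ge n 36 with h3 | h3
  · have := MatAct.all_spec ckW_32 (show n - 32 < 4 by omega)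
    rwa [show 32 + (n - 32) = n by omega] at this
  obtain rfl | rfl | rfl : n = 36 ∨ n = 37 ∨ n = 38 := by omega
  · exact ckW_36
  · exact ckW_37
  · exact ckW_38

end Cfsg.Agent.MonsterX.KLetW
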