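import Mathlib
import Cfsg.Agent.MonsterX.KX
import Cfsg.Agent.MonsterX.KLetW
import Cfsg.Agent.MonsterX.MatAct

/-!
The letters permute the vectors `X x`: kernel checks.
-/

set_option autoImplicit false
set_option maxRecDepth 100000

namespace Cfsg.Agent.MonsterX.KLetX

open Cfsg.Agent.Lib.PermNet Cfsg.Agent.Monster.VecEngine
open Cfsg.Agent.Monster.PauliBasic Cfsg.Agent.Monster.PauliGates
open Cfsg.Agent.MonsterX.ProgTable Cfsg.Agent.MonsterX.KX Cfsg.Agent.MonsterX.KLetW

/-- The check for a letter. -/
noncomputable def ckX (n : ℕ) : Bool := chkX (prog n) (circ n)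

theorem ckX_0 : MatAct.all 12 ckX = true := by decide +kernel
theorem ckX_12 : MatAct.all 12 (fun n => ckX (12 + n)) = true := by decide +kernel
theorem ckX_24 : MatAct.all 3 (fun n => ckX (24 + n)) = true := by decide +kernel
theorem ckX_27 : MatAct.all 3 (fun n => ckX (27 + n)) = true := by decide +kernel
theorem ckX_30 : MatAct.all 3 (fun n => ckX (30 + n)) = true := by decide +kernel
theorem ckX_33 : MatAct.all 3 (fun n => ckX (33 + n)) = true := by decide +kernel
theorem ckX_36 : ckX 36 = true := by decide +kernel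
theorem ckX_37 : ckX 37 = true := by decide +kernel
theorem ckX_38 : ckX 38 = true := by decide +kernel
theorem ckX_39 : ckX 39 = true := by decide +kernel

theorem ckX_all {n : ℕ} (hn : n < 40) : ckX n = true := by
  rcases Nat.lt_or_ge n 12 with h | h
  · exact MatAct.all_spec ckX_0 h
  rcases Nat.lt_or_ge n 24 with h0 | h0
  · have := MatAct.all_spec ckX_12 (show n - 12 < 12 by omega)
    rwa [show 12 + (n - 12) = n by omega] at this
  rcases Nat.lt_or_ge n 27 with h1 | h1
  · have := MatAct.all_spec ckX_24 (show n - 24 < 3 by omega)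
    rwa [show 24 + (n - 24) = n by omega] at this
  rcases Nat.lt_or_ge n 30 with h2 | h2
  · have := MatAct.all_spec ckX_27 (show n - 27 < 3 by omega)
    rwa [show 27 + (n - 27) = n by omega] at this
  rcases Nat.lt_or_ge n 33 with h3 | h3
  · have := MatAct.all_spec ckX_30 (show n - 30 < 3 by omega)
    rwa [show 30 + (n - 30) = n by omega] at this
  rcases Nat.lt_or_ge n 36 with h4 | h4
  · have := MatAct.all_spec ckX_33 (show n - 33 < 3 by omega)
    rwa [show 33 + (n - 33) = n by omega] at this
  obtain rfl | rfl | rfl | rfl : n = 36 ∨ n = 37 ∨ n = 38 ∨ n = 39 := by omega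
  · exact ckX_36
  · exact ckX_37
  · exact ckX_38
  · exact ckX_39

/-- The automorphism of the Pauli group of a letter. -/
def al (n : ℕ) : Pauli 12 ≃* Pauli 12 := conjL (circ n)

/-- The letters permute the vectors `X x`. -/
theorem sem_X {n : ℕ} (hn : n < 40) (x : Pauli 12) : sem ℚ (prog n) (Xf x) = Xf (al n x) :=
  semX (prog_good n).ok (ckX_all hn) x

end Cfsg.Agent.MonsterX.KLetX
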