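import Mathlib
import Cfsg.Agent.MonsterX.KLetW
import Cfsg.Agent.Monster.TensorBfly

/-!
The letter `xi` on the spin lanes.
-/

set_option autoImplicit false
set_option maxRecDepth 100000

namespace Cfsg.Agent.MonsterX.KLetXi

open Cfsg.Agent.Lib.PermNet Cfsg.Agent.Monster.VecEngine
open Cfsg.Agent.Monster.PauliBasic Cfsg.Agent.Monster.PauliGates Cfsg.Agent.Monster.TensorProg
open Cfsg.Agent.Monster.TensorBfly
open Cfsg.Agent.MonsterX.ProgTable Cfsg.Agent.MonsterX.KSlot Cfsg.Agent.MonsterX.KLetW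
open Cfsg.Agent.MonsterX.ProgXi

/-- The first four instructions. -/
noncomputable def s1 : Prog :=
  .neg m48 (.perm (.cons m47 65536 (.cons m46 32768 (.cons m45 16384 (.cons m44 8192 (.cons m43 4096 (.cons m42 2048 (.cons m41 1024 (.cons m40 512 (.cons m39 256 (.cons m38 128 (.cons m37 64 (.cons m36 32 (.cons m35 16 (.cons m34 8 (.cons m33 4 (.cons m32 2 (.cons m31 1 (.cons m30 2 (.cons m29 4 (.cons m28 8 (.cons m27 16 (.cons m26 32 (.cons m25 64 (.cons m24 128 (.cons m23 256 (.cons m22 512 (.cons m21 1024 (.cons m20 2048 (.cons m19 4096 (.cons m18 8192 (.cons m17 16384 (.cons m16 32768 (.cons m15 65536 (.cons m14 65536 .nil)))))))))))))))))))))))))))))))))) (.neg m13 (.perm (.cons m12 32 (.cons m11 128 .nil)) .nil)))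

/-- The permutation of the slots. -/
noncomputable def s2 : Prog := .perm (.cons m4 1 (.cons m3 32 .nil)) .nil

/-- The last sign change. -/
noncomputable def s3 : Prog := .neg m0 .nil

theorem sem_shape (a0 a1 a2 a3 a4 a5 a6 a7 a8 a9 a10 a11 : ℕ) (N1 N2 N3 : Net) (g : ℕ → ℚ) :
    sem ℚ (.neg a11 (.perm N1 (.neg a10 (.perm N2 (.bfly a9 32 (.bfly a8 64 (.bfly a7 128
      (.bfly a6 256 (.bfly a5 1 (.bfly a4 2 (.perm N3 (.dbl a3 (.half (.dbl a2 (.half (.dbl a1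
      (.half (.neg a0 .nil)))))))))))))))))) g =
    sem ℚ (.neg a0 .nil) ((2 : ℚ)⁻¹ • ldbl ℚ a1 ((2 : ℚ)⁻¹ • ldbl ℚ a2 ((2 : ℚ)⁻¹ • ldbl ℚ a3
      (sem ℚ (.perm N3 .nil) (lbfly ℚ a4 2 (lbfly ℚ a5 1 (lbfly ℚ a6 256 (lbfly ℚ a7 128
        (lbfly ℚ a8 64 (lbfly ℚ a9 32
        (sem ℚ (.neg a11 (.perm N1 (.neg a10 (.perm N2 .nil)))) g))))))))))) := by
  simp only [sem, LinearMap.comp_apply, LinearMap.smul_apply, LinearMap.id_apply]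

theorem opL_shape (A A' : List (Gate 12)) (f : B 12 → ℚ) :
    opL ℚ (A ++ ([.H 0, .H 1, .H 2, .H 3] ++ A')) f = opL ℚ A' (opL ℚ [] ((Gate.H (3 : Fin 12)).op ℚ
      ((Gate.H (2 : Fin 12)).op ℚ ((Gate.H (1 : Fin 12)).op ℚ ((Gate.H (0 : Fin 12)).op ℚ
      (opL ℚ A f)))))) := by
  rw [opL_append, opL_append]
  simp only [opL, LinearMap.comp_apply, LinearMap.id_apply]

theorem scale_shape (L : (ℕ → ℚ) →ₗ[ℚ] (ℕ → ℚ)) (x : ℕ → ℚ) :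
    L ((2 : ℚ)⁻¹ • (2 : ℚ)⁻¹ • (2 : ℚ)⁻¹ • x) = (1 / 4 : ℚ) • L ((2 : ℚ)⁻¹ • x) := by
  simp only [map_smul, smul_smul]
  norm_num

theorem Phi_congr {U : ℕ} {g g' w w' : ℕ → ℚ} (h1 : g = g') (h2 : w = w') :
    Phi U g w = Phi U g' w' := by rw [h1, h2]

theorem sem_xi (g : ℕ → ℚ) : sem ℚ xi g =
    sem ℚ s3 ((2 : ℚ)⁻¹ • ldbl ℚ m1 ((2 : ℚ)⁻¹ • ldbl ℚ m2 ((2 : ℚ)⁻¹ • ldbl ℚ m2
      (sem ℚ s2 (lbfly ℚ m5 2 (lbfly ℚ m6 1 (lbfly ℚ m7 256 (lbfly ℚ m8 128 (lbfly ℚ m9 64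
        (lbfly ℚ m10 32 (sem ℚ s1 g))))))))))) := by
  unfold xi s1 s2 s3
  exact sem_shape _ _ _ _ _ _ _ _ _ _ _ _ _ _ _ g

theorem s1_ok : s1.ok 262144 = true := by decide +kernel
theorem s2_ok : s2.ok 262144 = true := by decide +kernel
theorem s3_ok : s3.ok 262144 = true := by decide +kernel
theorem q1_ok : KCirc.qxi1.ok 32 = true := by decide +kernel
theorem q2_ok : KCirc.qxi2.ok 32 = true := by decide +kernel
theorem q3_ok : KCirc.qxi3.ok 32 = true := by decide +kernel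

theorem c1 : chkW s1 KCirc.xi1 KCirc.qxi1 = true := by decide +kernel
theorem c2 : chkW s2 [] KCirc.qxi2 = true := by decide +kernel
theorem c3 : chkW s3 KCirc.xi3 KCirc.qxi3 = true := by decide +kernel
theorem h0 : chkH m10 (0 : Fin 12) = true := by decide +kernel
theorem h1 : chkH m9 (1 : Fin 12) = true := by decide +kernel
theorem h2 : chkH m8 (2 : Fin 12) = true := by decide +kernel
theorem h3 : chkH m7 (3 : Fin 12) = true := by decide +kernel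
theorem b1 : chkS m6 1 0x555555 UW = true := by decide +kernel
theorem b2 : chkS m5 2 0x333333 UW = true := by decide +kernel
theorem d1 : Nat.beq (Nat.land m1 UW) 0 = true := by decide +kernel
theorem d2 : Nat.beq (Nat.land m2 UW) 0 = true := by decide +kernel

theorem sem_qshape (a b c d : ℕ) (N : Net) (w : ℕ → ℚ) :
    sem ℚ (.neg a (.bfly b 1 (.bfly c 2 (.perm N (.half (.neg d .nil)))))) w =
    sem ℚ (.neg d .nil) ((2 : ℚ)⁻¹ • sem ℚ (.perm N .nil) (lbfly ℚ c 2 (lbfly ℚ b 1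
      (sem ℚ (.neg a .nil) w)))) := by
  simp only [sem, LinearMap.comp_apply, LinearMap.smul_apply, LinearMap.id_apply]

theorem sem_qxi (w : ℕ → ℚ) : sem ℚ KCirc.qxi w =
    sem ℚ KCirc.qxi3 ((2 : ℚ)⁻¹ • sem ℚ KCirc.qxi2 (lbfly ℚ 0x333333 2 (lbfly ℚ 0x555555 1
      (sem ℚ KCirc.qxi1 w)))) := by
  unfold KCirc.qxi KCirc.qxi1 KCirc.qxi2 KCirc.qxi3
  exact sem_qshape _ _ _ _ _ w

/-- The letter `xi` on the spin lanes. -/
theorem semW_xi (f : B 12 → ℚ) (w : ℕ → ℚ) (hw : Sup w) :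
    sem ℚ xi (Phi UW (fun b => f (Cfsg.Agent.Monster.PauliBits.vec 12 b)) w) =
      Phi UW (fun b => ((1 / 4 : ℚ) • opL ℚ KCirc.xi f) (Cfsg.Agent.Monster.PauliBits.vec 12 b)) (sem ℚ KCirc.qxi w) := by
  rw [sem_xi]
  obtain ⟨e1, w1⟩ := semW s1_ok q1_ok c1 f w hw
  rw [e1]
  rw [show (32 : ℕ) = Nat.shiftLeft 32 ((0 : Fin 12) : ℕ) from rfl, bfly_H 0 h0,
    show (64 : ℕ) = Nat.shiftLeft 32 ((1 : Fin 12) : ℕ) from rfl, bfly_H 1 h1,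
    show (128 : ℕ) = Nat.shiftLeft 32 ((2 : Fin 12) : ℕ) from rfl, bfly_H 2 h2,
    show (256 : ℕ) = Nat.shiftLeft 32 ((3 : Fin 12) : ℕ) from rfl, bfly_H 3 h3]
  obtain ⟨e2, w2⟩ := bfly_slot regW b1 (fun b => (Gate.H (3 : Fin 12)).op ℚ ((Gate.H (2 : Fin 12)).op ℚ
    ((Gate.H (1 : Fin 12)).op ℚ ((Gate.H (0 : Fin 12)).op ℚ (opL ℚ KCirc.xi1 f))))
    (Cfsg.Agent.Monster.PauliBits.vec 12 b)) _ w1
  rw [e2]
  obtain ⟨e3, w3⟩ := bfly_slot regW b2 (fun b => (Gate.H (3 : Fin 12)).op ℚ ((Gate.H (2 : Fin 12)).op ℚ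
    ((Gate.H (1 : Fin 12)).op ℚ ((Gate.H (0 : Fin 12)).op ℚ (opL ℚ KCirc.xi1 f))))
    (Cfsg.Agent.Monster.PauliBits.vec 12 b)) _ w2
  rw [e3]
  obtain ⟨e4, w4⟩ := semW s2_ok q2_ok c2 ((Gate.H (3 : Fin 12)).op ℚ ((Gate.H (2 : Fin 12)).op ℚ
    ((Gate.H (1 : Fin 12)).op ℚ ((Gate.H (0 : Fin 12)).op ℚ (opL ℚ KCirc.xi1 f))))) _ w3
  rw [e4, dbl_none d2, ← Phi_smul_right, dbl_none d2, ← Phi_smul_right, dbl_none d1,
    ← Phi_smul_right]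
  have w5 := Sup.smul (2 : ℚ)⁻¹ (Sup.smul (2 : ℚ)⁻¹ (Sup.smul (2 : ℚ)⁻¹ w4))
  obtain ⟨e5, -⟩ := semW s3_ok q3_ok c3 (opL ℚ [] ((Gate.H (3 : Fin 12)).op ℚ ((Gate.H (2 : Fin 12)).op ℚ
    ((Gate.H (1 : Fin 12)).op ℚ ((Gate.H (0 : Fin 12)).op ℚ (opL ℚ KCirc.xi1 f)))))) _ w5
  rw [e5, sem_qxi]
  rw [scale_shape, Phi_smul_right]
  have e6 : (fun b => ((1 / 4 : ℚ) • opL ℚ KCirc.xi f) (Cfsg.Agent.Monster.PauliBits.vec 12 b)) =
      (1 / 4 : ℚ) • (fun b => opL ℚ KCirc.xi f (Cfsg.Agent.Monster.PauliBits.vec 12 b)) := rfl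
  rw [e6, Phi_smul_left]
  refine congrArg (fun t => (1 / 4 : ℚ) • t) (Phi_congr ?_ rfl)
  funext b
  exact (congrFun (opL_shape KCirc.xi1 KCirc.xi3 f) _).symm

end Cfsg.Agent.MonsterX.KLetXi
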