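import Mathlib
import Cfsg.Agent.MonsterX.KLetXi
import Cfsg.Agent.MonsterX.KLetX
import Cfsg.Agent.MonsterX.Conc

/-!
The vectors `X x` and `Θ f v` of the space of dimension 196884 and the action of the letters
`0 … 39` on them.
-/

set_option autoImplicit false
set_option maxRecDepth 100000

namespace Cfsg.Agent.MonsterX.KLet

open Cfsg Cfsg.Agent.Lib.PermNet Cfsg.Agent.Monster.VecEngine Cfsg.Agent.Monster.VecSpace
open Cfsg.Agent.Monster.PauliBasic Cfsg.Agent.Monster.PauliRep Cfsg.Agent.Monster.PauliGates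
open Cfsg.Agent.Monster.TensorProg Cfsg.Agent.Monster.PauliBits
open Cfsg.Agent.MonsterX.ProgTable Cfsg.Agent.MonsterX.KSlot Cfsg.Agent.MonsterX.KLetW
open Cfsg.Agent.MonsterX.KLetX Cfsg.Agent.MonsterX.CoGens Cfsg.Agent.MonsterX.Space
open Cfsg.Agent.MonsterX.Conc Cfsg.Agent.MonsterX.GensT Cfsg.Agent.MonsterX.KX Cfsg.Agent.MonsterX.ProgBase

/-- The scalar of a letter. -/
def sc (n : ℕ) : ℚ := if n < 39 then 1 else 1 / 4

/-- The operator of a letter on the spin space. -/
def T (n : ℕ) : Module.End ℚ (B 12 → ℚ) := sc n • opL ℚ (circ n)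

theorem T_lt {n : ℕ} (hn : n < 39) : T n = opL ℚ (KCirc.mono.getD n []) := by
  unfold T sc circ
  rw [if_pos hn, if_pos hn, one_smul]

/-- The functions on the spin lanes. -/
noncomputable def Wf (f : B 12 → ℚ) (v : GolayPt → ℚ) : ℕ → ℚ := Phi UW (fun b => f (Cfsg.Agent.Monster.PauliBits.vec 12 b)) (sl v)

theorem nth_39 (l : List Prog) (P : Prog) (m : List Prog) (h : l.length = 39) :
    nth (l ++ P :: m) 39 = P := by
  have key : ∀ (l : List Prog) (k : ℕ), l.length = k → nth (l ++ P :: m) k = P := by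
    intro l
    induction l with
    | nil => intro k hk; subst hk; rfl
    | cons a l ih =>
      intro k hk
      cases k with
      | zero => simp at hk
      | succ k => exact ih k (by simpa using hk)
  exact key l 39 h

theorem prog_39 : prog 39 = ProgXi.xi := by
  unfold prog
  exact nth_39 (gens.take 39) ProgXi.xi (gens.drop 40) rfl

/-- The letters on the spin lanes. -/
theorem sem_W {n : ℕ} (hn : n < 40) (f : B 12 → ℚ) (v : leechLattice) :
    sem ℚ (prog n) (Wf f (rt v)) = Wf (T n f) (rt (A n • v)) := by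
  rcases Nat.lt_or_ge n 39 with h | h
  · have h1 := ckW_all h
    have hq : (qp n).ok 32 = true := by
      have h2 := MatAct.all_spec ckQ_all hn
      have h3 : and ((qp n).ok 32) (MatAct.all 24 fun a => chk1 (qp n) (Nat.ble 39 n)
        (MatAct.nzT n) (MatAct.ngT n) a) = true := h2
      rw [Bool.and_eq_true] at h3
      exact h3.1
    have h4 := (semW (prog_good n).ok hq h1 f (sl (rt v)) (sup_sl _)).1
    unfold Wf
    rw [h4, sl_A hn, T_lt h]
  · obtain rfl : n = 39 := by omega
    unfold Wf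
    rw [prog_39, KLetXi.semW_xi f _ (sup_sl _)]
    have h5 : sem ℚ KCirc.qxi (sl (rt v)) = sl (rt (A 39 • v)) := sl_A hn v
    rw [h5]
    rfl

/-! ### Vectors of the space -/

/-- The vector of a function on all lanes. -/
noncomputable def mkV : (ℕ → ℚ) →ₗ[ℚ] V := pr.comp (res ℚ U)

theorem E_mkV (n : ℕ) (f : ℕ → ℚ) : E n (mkV f) = mkV (sem ℚ (prog n) f) := by
  have h : E n (mkV f) = pr (semUL ℚ U [prog n] (res ℚ U f)) := by
    rw [← W_single]
    exact WP_pr (w := [prog n]) (fun P hP => by rw [List.mem_singleton.1 hP]; exact prog_goodT n) _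
  rw [h]
  show pr (semU ℚ U (prog n) (res ℚ U f)) = pr (res ℚ U (sem ℚ (prog n) f))
  rw [res_sem ℚ (prog_good n).pres]

/-- The vectors `X x`. -/
noncomputable def X (x : Pauli 12) : V := mkV (Xf x)

theorem E_X {n : ℕ} (hn : n < 40) (x : Pauli 12) : E n (X x) = X (al n x) := by
  unfold X; rw [E_mkV, sem_X hn]

/-- The functions on the spin lanes, as a bilinear map. -/
noncomputable def Wl : (B 12 → ℚ) →ₗ[ℚ] (GolayPt → ℚ) →ₗ[ℚ] (ℕ → ℚ) :=
  LinearMap.mk₂ ℚ Wf
    (fun f f' v => by
      funext i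
      show Wf (f + f') v i = Wf f v i + Wf f' v i
      unfold Wf Phi
      split_ifs
      · exact add_mul _ _ _
      · rw [add_zero])
    (fun c f v => by
      funext i
      show Wf (c • f) v i = c * Wf f v i
      unfold Wf Phi
      split_ifs
      · exact mul_assoc _ _ _
      · rw [mul_zero])
    (fun f v v' => by
      funext i
      show Wf f (v + v') i = Wf f v i + Wf f v' i
      unfold Wf Phi
      rw [map_add]
      split_ifs
      · exact mul_add _ _ _
      · rw [add_zero])
    (fun c f v => by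
      funext i
      show Wf f (c • v) i = c * Wf f v i
      unfold Wf Phi
      rw [map_smul]
      split_ifs
      · exact mul_left_comm _ _ _
      · rw [mul_zero])

theorem Wl_apply (f : B 12 → ℚ) (v : GolayPt → ℚ) : Wl f v = Wf f v := rfl

/-- The vectors `Θ f v`. -/
noncomputable def Θ : (B 12 → ℚ) →ₗ[ℚ] (GolayPt → ℚ) →ₗ[ℚ] V := Wl.compr₂ mkV

theorem Θ_apply (f : B 12 → ℚ) (v : GolayPt → ℚ) : Θ f v = mkV (Wf f v) := rfl

theorem E_Θ {n : ℕ} (hn : n < 40) (f : B 12 → ℚ) (v : leechLattice) :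
    E n (Θ f (rt v)) = Θ (T n f) (rt (A n • v)) := by
  rw [Θ_apply, E_mkV, sem_W hn, Θ_apply]

/-- The representation of the Pauli group on the spin space. -/
def rho : Pauli 12 →* Module.End ℚ (B 12 → ℚ) where
  toFun x := act ℚ x
  map_one' := act_one ℚ
  map_mul' x y := act_mul ℚ x y

theorem rho_apply (x : Pauli 12) (f : B 12 → ℚ) : rho x f = act ℚ x f := rfl

theorem T_rho (n : ℕ) (x : Pauli 12) (f : B 12 → ℚ) : T n (rho x f) = rho (al n x) (T n f) := by
  show sc n • opL ℚ (circ n) (act ℚ x f) = act ℚ (conjL (circ n) x) (sc n • opL ℚ (circ n) f)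
  rw [map_smul]
  congr 1
  exact LinearMap.congr_fun (opL_act ℚ (circ n) x) f

end Cfsg.Agent.MonsterX.KLet
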