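import Cfsg.Agent.MonsterX.KSide
import Cfsg.Agent.MonsterX.LeechIrr
import Cfsg.Agent.S0394

/-!
The relation between the extraspecial group `P` and the lattice modulo twice the lattice, abstract
form: consequences for the action of `K` on `P`, for the set `Sh` of short elements and for the
subgroups of `P` invariant under `K`.
-/

set_option autoImplicit false

namespace Cfsg.Agent.MonsterX.KLift

open Cfsg Cfsg.Agent.LeechMat.Core Cfsg.Agent.MonsterX.KSide

/-- Induction over the lattice from the minimal vectors. -/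
theorem min_induction {p : leechLattice → Prop} (h0 : p 0) (hadd : ∀ v w, p v → p w → p (v + w))
    (hneg : ∀ v, p v → p (-v)) (hmin : ∀ v, nrm v = 32 → p v) (v : leechLattice) : p v := by
  let U : AddSubgroup leechLattice :=
    { carrier := {v | p v}
      add_mem' := fun {a b} ha hb => hadd a b ha hb
      zero_mem' := h0
      neg_mem' := fun {a} ha => hneg a ha }
  have h1 : (v : GolayPt → ℤ) ∈ AddSubgroup.closure
      {x : GolayPt → ℤ | x ∈ leechLattice ∧ sqNorm x = 32} := by
    rw [Cfsg.Agent.S1567.result]; exact v.2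
  have h2 : AddSubgroup.closure {x : GolayPt → ℤ | x ∈ leechLattice ∧ sqNorm x = 32}
      ≤ U.map leechLattice.subtype := by
    rw [AddSubgroup.closure_le]
    rintro v ⟨hv, hvn⟩
    exact ⟨⟨v, hv⟩, hmin _ hvn, rfl⟩
  obtain ⟨w, hw, he⟩ := h2 h1
  have : w = v := Subtype.ext he
  rw [← this]; exact hw

variable {G V P W : Type*} [Group G] [AddCommGroup V] [Module ℚ V]
  [DistribMulAction G V] [SMulCommClass G ℚ V] [Group P] [AddCommGroup W] [Module ℚ W]

/-- A lift of the map from the lattice to `P` modulo its centre. -/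
structure Lift (M : KS G V P W) (θ : leechLattice → P) : Prop where
  card : Nat.card P = 2 ^ 25
  sq : ∀ x : P, x * x = 1 ∨ x * x = M.zc
  center : ∀ x : P, (∀ y, x * y = y * x) → x = 1 ∨ x = M.zc
  sh_sq : ∀ x ∈ M.Sh, x * x = 1
  add : ∀ v w, θ (v + w) = θ v * θ w ∨ θ (v + w) = M.zc * (θ v * θ w)
  ker : ∀ v, θ v = 1 ∨ θ v = M.zc → ∃ w : leechLattice, v = 2 • w
  surj : ∀ x, ∃ v, x = θ v ∨ x = M.zc * θ v
  lam : ∀ x ∈ M.Sh, θ (M.lam x) = x ∨ θ (M.lam x) = M.zc * x
  comm : ∀ v w, (16 : ℤ) ∣ dot v w ↔ θ v * θ w = θ w * θ v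

variable {M : KS G V P W} {θ : leechLattice → P}

/-- Equality up to the centre. -/
def Eqz (M : KS G V P W) (x y : P) : Prop := x = y ∨ x = M.zc * y

theorem Eqz.refl (x : P) : Eqz M x x := Or.inl rfl

theorem Eqz.symm {x y : P} (h : Eqz M x y) : Eqz M y x := by
  rcases h with rfl | rfl
  · exact Or.inl rfl
  · right; rw [M.zc_zc]

theorem Eqz.trans {x y t : P} (h : Eqz M x y) (h' : Eqz M y t) : Eqz M x t := by
  rcases h with rfl | rfl
  · exact h'
  · rcases h' with rfl | rfl
    · exact Or.inr rfl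
    · left; rw [M.zc_zc]

theorem Eqz.mul {x y x' y' : P} (h : Eqz M x y) (h' : Eqz M x' y') : Eqz M (x * x') (y * y') := by
  rcases h with rfl | rfl <;> rcases h' with rfl | rfl
  · exact Or.inl rfl
  · right; rw [← mul_assoc, ← M.zc_comm, mul_assoc]
  · right; rw [mul_assoc]
  · left
    rw [mul_assoc, ← mul_assoc y, ← M.zc_comm y, mul_assoc, M.zc_zc]

theorem Eqz.map {x y : P} (α : P ≃* P) (hα : α M.zc = M.zc) (h : Eqz M x y) :
    Eqz M (α x) (α y) := by
  rcases h with rfl | rfl
  · exact Or.inl rfl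
  · right; rw [map_mul, hα]

theorem θ_zero (L : Lift M θ) : Eqz M (θ 0) 1 := by
  rcases L.add 0 0 with h | h
  · left
    rw [add_zero] at h
    exact mul_left_cancel (h.symm.trans (mul_one _).symm)
  · right
    rw [add_zero, ← mul_assoc] at h
    have h1 : M.zc * θ 0 = 1 := mul_right_cancel (h.symm.trans (one_mul _).symm)
    rw [mul_one, ← M.zc_zc (θ 0), h1, mul_one]

theorem θ_two (L : Lift M θ) (v : leechLattice) : Eqz M (θ (2 • v)) 1 := by
  rw [two_smul]
  have h1 : Eqz M (θ (v + v)) (θ v * θ v) := L.add v v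
  refine h1.trans ?_
  rcases L.sq (θ v) with h | h
  · exact Or.inl h
  · right; rw [h, mul_one]

theorem θ_neg (L : Lift M θ) (v : leechLattice) : Eqz M (θ (-v)) (θ v) := by
  have h1 : Eqz M (θ (v + -v)) (θ v * θ (-v)) := L.add v (-v)
  rw [add_neg_cancel] at h1
  have h2 := h1.symm.trans (θ_zero L)
  have h3 := (Eqz.refl (M := M) (θ v)⁻¹).mul h2
  rw [inv_mul_cancel_left, mul_one] at h3
  refine h3.trans ?_
  rcases L.sq (θ v) with h | h
  · left; exact inv_eq_of_mul_eq_one_left h
  · right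
    rw [inv_eq_iff_mul_eq_one, ← mul_assoc, ← M.zc_comm, mul_assoc, h, M.zc_mul]

/-- `α` fixes the central involution when `α` comes from an element of `K`. -/
theorem α_zc (L : Lift M θ) (α : P ≃* P) : α M.zc = M.zc := by
  have h1 := L.center (α M.zc) (fun y => by
    rw [← α.apply_symm_apply y, ← map_mul, ← map_mul, M.zc_comm])
  rcases h1 with h1 | h1
  · exact absurd (α.injective (h1.trans (map_one α).symm)) M.zc_ne
  · exact h1

/-- Conjugation of the extraspecial group by elements of `K`. -/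
theorem conj_ι {k : G} {A : Co0} {α : P ≃* P} {T : Module.End ℚ W}
    (hA : Acts M.Sh M.lam M.u M.X M.Θ M.ρ k A α T) (p : P) : k * M.ι p = M.ι (α p) * k := by
  refine M.ext_G _ _ (fun v => ?_) (fun x hx => ?_) fun f v => ?_
  · rw [mul_smul, mul_smul, M.ι_u, hA.act_u, M.ι_u]
  · have h1 : p * x * p⁻¹ ∈ M.Sh := by
      rcases M.comm_or p x with e | e <;> rw [e]
      · exact hx
      · exact M.Sh_z x hx
    rw [mul_smul, mul_smul, M.ι_X p x hx, hA.act_X _ h1, hA.act_X x hx,
      M.ι_X _ _ (hA.act_sh x hx), map_mul, map_mul, map_inv]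
  · rw [mul_smul, mul_smul, M.ι_Θ, hA.act_Θ, hA.act_Θ, M.ι_Θ, hA.act_ρ]

/-- The action on `P` modulo the centre is the action on the lattice modulo twice the lattice. -/
theorem act_θ {k : G} {A : Co0} {α : P ≃* P} {T : Module.End ℚ W} (L : Lift M θ)
    (hA : Acts M.Sh M.lam M.u M.X M.Θ M.ρ k A α T) (v : leechLattice) :
    Eqz M (θ (A • v)) (α (θ v)) := by
  have hz := α_zc L α
  refine min_induction (p := fun v => Eqz M (θ (A • v)) (α (θ v))) ?_ ?_ ?_ ?_ v
  · rw [co0_smul_zero]
    have h1 := (θ_zero L).map α hz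
    rw [map_one] at h1
    exact (θ_zero L).trans h1.symm
  · intro v w hv hw
    rw [co0_smul_add]
    have h1 : Eqz M (θ (A • v + A • w)) (θ (A • v) * θ (A • w)) := L.add _ _
    have h2 : Eqz M (θ (v + w)) (θ v * θ w) := L.add _ _
    have h3 := h2.map α hz
    rw [map_mul] at h3
    exact (h1.trans (hv.mul hw)).trans h3.symm
  · intro v hv
    rw [co0_smul_neg]
    exact ((θ_neg L _).trans hv).trans ((θ_neg L v).map α hz).symm
  · intro v hv
    obtain ⟨x, hx, hxv⟩ := M.lam_surj v hv
    have key : Eqz M (θ (A • M.lam x)) (α (θ (M.lam x))) := by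
      have h1 : Eqz M (θ (M.lam x)) x := L.lam x hx
      have h2 : Eqz M (θ (M.lam (α x))) (α x) := L.lam _ (hA.act_sh x hx)
      have h3 : Eqz M (θ (A • M.lam x)) (θ (M.lam (α x))) := by
        rcases hA.act_lam x hx with e | e
        · rw [e]; exact Eqz.refl _
        · rw [e]; exact (θ_neg L _).symm
      exact (h3.trans h2).trans (h1.map α hz).symm
    rcases hxv with rfl | rfl
    · exact key
    · rw [co0_smul_neg]
      exact ((θ_neg L _).trans key).trans ((θ_neg L _).map α hz).symm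

/-- An element of `K` inducing a given element of `Co0`, with its data. -/
theorem exists_acts (M : KS G V P W) (A : Co0) : ∃ k ∈ M.K, ∃ α T A', Acts M.Sh M.lam M.u M.X M.Θ M.ρ k A' α T ∧
    ∀ v : leechLattice, A' • v = A • v ∨ A' • v = -(A • v) := by
  obtain ⟨k, hk, h⟩ := M.onto A
  obtain ⟨A', α, T, hA⟩ := M.acts k hk
  refine ⟨k, hk, α, T, A', hA, ?_⟩
  have h1 : ∀ v, M.u ((A'⁻¹ * A) • v) = M.u v := by
    intro v
    have h2 := h (A⁻¹ • A' • v)
    have h3 := hA.act_u (A'⁻¹ • A • v)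
    rw [smul_inv_smul] at h3
    have h4 : k • M.u ((A'⁻¹ * A) • v) = k • M.u v := by
      rw [mul_smul, h3, h]
    have h5 := congrArg (k⁻¹ • ·) h4
    simpa using h5
  intro v
  rcases M.pm_of_u _ h1 with h2 | h2
  · left
    have := h2 v
    rw [mul_smul, inv_smul_eq_iff] at this
    exact this.symm
  · right
    have := h2 v
    rw [mul_smul, inv_smul_eq_iff, co0_smul_neg] at this
    rw [this, neg_neg]

theorem θ_pm (L : Lift M θ) {v w : leechLattice} (h : v = w ∨ v = -w) : Eqz M (θ v) (θ w) := by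
  rcases h with rfl | rfl
  · exact Eqz.refl _
  · exact θ_neg L _

/-- Subgroups of `P` containing the centre and invariant under `K`. -/
theorem irreducible (L : Lift M θ) (N : Subgroup P)
    (hN : ∀ k ∈ M.K, ∀ A α T, Acts M.Sh M.lam M.u M.X M.Θ M.ρ k A α T → ∀ n ∈ N, α n ∈ N) :
    (∀ n ∈ N, n = 1 ∨ n = M.zc) ∨ N = ⊤ := by
  by_cases hall : ∀ n ∈ N, n = 1 ∨ n = M.zc
  · exact Or.inl hall
  right
  push Not at hall
  obtain ⟨n, hn, hn1, hnz⟩ := hall
  -- the centre is in `N`
  have hz : M.zc ∈ N := by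
    by_contra hcon
    have h1 : ∀ q, n * q = q * n := by
      intro q
      rcases M.comm_or q n with e | e
      · exact (mul_inv_eq_iff_eq_mul.1 e).symm
      · exfalso
        obtain ⟨A, α, T, hA⟩ := M.acts (M.ι q) (M.ι_mem q)
        have h2 := hN _ (M.ι_mem q) A α T hA n hn
        -- `α n = q n q⁻¹` up to the centre: use `ι`
        have h3 := conj_ι hA n
        rw [← map_mul, ← map_mul] at h3
        have hinj := M.ι_injective (fun p hp => L.center p (fun y => by
          have := hp y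
          exact mul_inv_eq_iff_eq_mul.1 this))
        have h4 := hinj h3
        have h5 : α n = q * n * q⁻¹ := by rw [h4, mul_inv_cancel_right]
        rw [h5, e] at h2
        exact hcon (by simpa using N.mul_mem h2 (N.inv_mem hn))
    rcases L.center n h1 with h | h
    · exact hn1 h
    · exact hnz h
  have hE : ∀ {x y : P}, Eqz M x y → y ∈ N → x ∈ N := by
    intro x y h hy
    rcases h with rfl | rfl
    · exact hy
    · exact N.mul_mem hz hy
  let U : AddSubgroup leechLattice :=
    { carrier := {v | θ v ∈ N}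
      add_mem' := fun {a b} ha hb => hE (L.add a b) (N.mul_mem ha hb)
      zero_mem' := hE (θ_zero L) N.one_mem
      neg_mem' := fun {a} ha => hE (θ_neg L a) ha }
  have hU : ∀ v, v ∈ U ↔ θ v ∈ N := fun v => Iff.rfl
  rcases LeechIrr.irreducible U (fun z => (hU _).2 (hE (θ_two L z) N.one_mem)) (by
    intro g v hv
    rw [hU] at hv ⊢
    obtain ⟨k, hk, α, T, A', hA, hpm⟩ := exists_acts M g
    have h1 : Eqz M (θ (A' • v)) (θ (g • v)) := θ_pm L (hpm v)
    exact hE (h1.symm.trans (act_θ L hA v)) (hN k hk A' α T hA _ hv)) with h | h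
  · exfalso
    obtain ⟨v, hv⟩ := L.surj n
    have hv' : Eqz M n (θ v) := hv
    have h1 : v ∈ U := (hU v).2 (hE hv'.symm hn)
    obtain ⟨w, rfl⟩ := h v h1
    rcases hv'.trans (θ_two L w) with e | e
    · exact hn1 e
    · rw [mul_one] at e; exact hnz e
  · rw [eq_top_iff]
    intro p _
    obtain ⟨v, hv⟩ := L.surj p
    have hv' : Eqz M p (θ v) := hv
    exact hE hv' ((hU v).1 (by rw [h]; trivial))

/-- Conjugating a short element to its product with the centre. -/
theorem exists_flip (L : Lift M θ) (x : P) (hx : x ∈ M.Sh) : ∃ q, q * x * q⁻¹ = M.zc * x := by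
  by_contra hcon
  push Not at hcon
  have h1 : ∀ q, x * q = q * x := by
    intro q
    rcases M.comm_or q x with e | e
    · exact (mul_inv_eq_iff_eq_mul.1 e).symm
    · exact absurd e (hcon q)
  have h2 : Eqz M (θ (M.lam x)) 1 := by
    have h0 : Eqz M (θ (M.lam x)) x := L.lam x hx
    refine h0.trans ?_
    rcases L.center x h1 with h | h
    · exact Or.inl h
    · right; rw [h, mul_one]
  obtain ⟨w, hw⟩ := L.ker (M.lam x) (by rcases h2 with h | h; exacts [Or.inl h, Or.inr (by rwa [mul_one] at h)])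
  have h3 := M.lam_norm x hx
  rw [hw] at h3
  have h4 : sqNorm ((2 • w : leechLattice) : GolayPt → ℤ) = 4 * sqNorm (w : GolayPt → ℤ) := by
    have : ((2 • w : leechLattice) : GolayPt → ℤ) = (2 : ℤ) • (w : GolayPt → ℤ) := by
      rw [two_smul, two_smul]; rfl
    rw [this, sqNorm_smul]; norm_num
  have h5 : (16 : ℤ) ∣ sqNorm (w : GolayPt → ℤ) := Cfsg.Agent.Leech.Basic.sixteen_dvd_sqNorm w.2
  have h6 : 4 * sqNorm (w : GolayPt → ℤ) = 32 := by rw [← h4]; exact h3
  omega

/-- `K` is transitive on the short elements. -/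
theorem trans_Sh (L : Lift M θ) (x y : P) (hx : x ∈ M.Sh) (hy : y ∈ M.Sh) :
    ∃ k ∈ M.K, ∃ A α T, Acts M.Sh M.lam M.u M.X M.Θ M.ρ k A α T ∧ α x = y := by
  obtain ⟨g, hg⟩ := Cfsg.Agent.S0400.result (M.lam x) (M.lam y) (M.lam_norm x hx) (M.lam_norm y hy)
  obtain ⟨k, hk, α, T, A', hA, hpm⟩ := exists_acts M g
  have h1 : M.lam (α x) = M.lam y ∨ M.lam (α x) = -M.lam y := by
    rcases hA.act_lam x hx with e | e <;> rcases hpm (M.lam x) with e' | e' <;> rw [e, e', hg]
    · exact Or.inl rfl
    · exact Or.inr rfl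
    · exact Or.inr rfl
    · left; rw [neg_neg]
  rcases M.lam_inj y hy (α x) (hA.act_sh x hx) h1 with h2 | h2
  · exact ⟨k, hk, A', α, T, hA, h2⟩
  · obtain ⟨q, hq⟩ := exists_flip L (α x) (hA.act_sh x hx)
    obtain ⟨A₂, α₂, T₂, hA₂⟩ := M.acts (M.ι q * k) (M.K.mul_mem (M.ι_mem q) hk)
    refine ⟨_, M.K.mul_mem (M.ι_mem q) hk, A₂, α₂, T₂, hA₂, ?_⟩
    have hinj := M.ι_injective (fun p hp => L.center p (fun y => mul_inv_eq_iff_eq_mul.1 (hp y)))
    have h3 := conj_ι hA₂ x
    rw [mul_assoc, conj_ι hA, ← mul_assoc, ← mul_assoc] at h3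
    have h4 := mul_right_cancel h3
    rw [← map_mul, ← map_mul] at h4
    have h5 := hinj h4
    have h6 : α₂ x = q * α x * q⁻¹ := by rw [h5, mul_inv_cancel_right]
    rw [h6, hq, h2, M.zc_zc]

theorem min_ncard : {v : leechLattice | nrm v = 32}.ncard = 196560 := by
  have h1 := Cfsg.Agent.S0394.result
  have h2 : {x : GolayPt → ℤ | x ∈ leechLattice ∧ sqNorm x = 32} =
      (fun v : leechLattice => (v : GolayPt → ℤ)) '' {v : leechLattice | nrm v = 32} := by
    ext x
    constructor
    · rintro ⟨hx, hn⟩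
      exact ⟨⟨x, hx⟩, hn, rfl⟩
    · rintro ⟨v, hv, rfl⟩
      exact ⟨v.2, hv⟩
  rw [h2, Set.ncard_image_of_injective _ Subtype.val_injective] at h1
  exact h1

theorem Sh_ncard (M : KS G V P W) : M.Sh.ncard = 196560 := by
  classical
  rw [← min_ncard]
  -- a representative of `{x, zx}`
  have hex : ∀ v : leechLattice, ∃ r : P, (∃ x ∈ M.Sh, M.lam x = v) → r ∈ M.Sh ∧ M.lam r = v := by
    intro v
    by_cases h : ∃ x ∈ M.Sh, M.lam x = v
    · obtain ⟨x, hx, e⟩ := h
      exact ⟨x, fun _ => ⟨hx, e⟩⟩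
    · exact ⟨1, fun h' => absurd h' h⟩
  choose R hR using hex
  have hR1 : ∀ x ∈ M.Sh, R (M.lam x) ∈ M.Sh ∧ M.lam (R (M.lam x)) = M.lam x :=
    fun x hx => hR _ ⟨x, hx, rfl⟩
  have hR2 : ∀ x ∈ M.Sh, x = R (M.lam x) ∨ x = M.zc * R (M.lam x) := by
    intro x hx
    obtain ⟨h1, h2⟩ := hR1 x hx
    exact M.lam_inj _ h1 x hx (Or.inl h2.symm)
  have hneg : ∀ v : leechLattice, nrm v = 32 → v ≠ -v := by
    intro v hv h
    have h1 : dot v v = -dot v v := by
      nth_rewrite 1 [h]
      show dotInt ((-v : leechLattice) : GolayPt → ℤ) _ = _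
      rw [AddSubgroup.coe_neg, dotInt_neg_left]
    rw [KS.dot_self, hv] at h1
    norm_num at h1
  refine Set.ncard_congr (fun x _ => if x = R (M.lam x) then M.lam x else -M.lam x) ?_ ?_ ?_
  · intro x hx
    show nrm _ = 32
    split_ifs
    · exact M.lam_norm x hx
    · show sqNorm _ = 32
      rw [AddSubgroup.coe_neg, sqNorm_neg]
      exact M.lam_norm x hx
  · intro x y hx hy h
    have h : (if x = R (M.lam x) then M.lam x else -M.lam x) =
      (if y = R (M.lam y) then M.lam y else -M.lam y) := h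
    have h1 : M.lam y = M.lam x ∨ M.lam y = -M.lam x := by
      split_ifs at h with e1 e2 e2
      · exact Or.inl h.symm
      · right; rw [h, neg_neg]
      · right; exact h.symm
      · left; exact (neg_injective h).symm
    rcases M.lam_inj x hx y hy h1 with e | e
    · exact e.symm
    · exfalso
      have hl : M.lam y = M.lam x := by rw [e, M.lam_z]
      rw [hl] at h
      rcases hR2 x hx with e1 | e1
      · have e2 : y ≠ R (M.lam x) := by
          rw [← e1, e]; exact M.zc_ne' x
        rw [if_pos e1, if_neg e2] at h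
        exact hneg _ (M.lam_norm x hx) h
      · have e2 : y = R (M.lam x) := by
          rw [e]
          nth_rewrite 1 [e1]
          rw [M.zc_zc]
        have e3 : x ≠ R (M.lam x) := by
          intro e4
          apply M.zc_ne' x
          rw [← e, e2]
          exact e4.symm
        rw [if_neg e3, if_pos e2] at h
        exact hneg _ (M.lam_norm x hx) h.symm
  · intro v hv
    obtain ⟨x, hx, hxv⟩ := M.lam_surj v hv
    obtain ⟨h1, h2⟩ := hR1 x hx
    have h3 : M.lam (M.zc * R (M.lam x)) = M.lam x := by rw [M.lam_z, h2]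
    rcases hxv with e | e
    · refine ⟨R (M.lam x), h1, ?_⟩
      show (if R (M.lam x) = R (M.lam (R (M.lam x))) then _ else _) = v
      rw [h2, if_pos rfl, e]
    · refine ⟨M.zc * R (M.lam x), M.Sh_z _ h1, ?_⟩
      show (if M.zc * R (M.lam x) = R (M.lam (M.zc * R (M.lam x))) then _ else _) = v
      rw [h3, if_neg (M.zc_ne' _), e]

/-- `S` has `196560` elements. -/
theorem S_ncard (M : KS G V P W) : M.S.ncard = 196560 := by
  unfold KS.S
  rw [Set.InjOn.ncard_image, Sh_ncard]
  intro x hx y hy h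
  exact M.a_inj x y hx hy h

end Cfsg.Agent.MonsterX.KLift
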