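import Cfsg.Agent.MonsterX.KInst
import Cfsg.Agent.MonsterX.InstEval
import Cfsg.Agent.MonsterX.ProgM.Inv

/-!
# The link between the data `InstData.M` and the structure `KInst.ks`
-/

set_option autoImplicit false
set_option maxRecDepth 100000

namespace Cfsg.Agent.MonsterX.KLinkInst

open Cfsg Cfsg.Agent.Monster.VecEngine Cfsg.Agent.Monster Cfsg.Agent.Monster.VecSpace
open Cfsg.Agent.MonsterX.ProgBase Cfsg.Agent.MonsterX.Space Cfsg.Agent.MonsterX.MatAct
open Cfsg.Agent.MonsterX.CoGens Cfsg.Agent.MonsterX.USide Cfsg.Agent.MonsterX.UOnto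
open Cfsg.Agent.MonsterX.Short Cfsg.Agent.MonsterX.KX Cfsg.Agent.MonsterX.LabPl
open Cfsg.Agent.Monster.PauliBasic Cfsg.Agent.Monster.PauliClif Cfsg.Agent.Monster.PauliRep
open Cfsg.Agent.Monster.PauliPlanes Cfsg.Agent.Monster.TensorProg
open Cfsg.Agent.MonsterX.KRows Cfsg.Agent.MonsterX.KAsm Cfsg.Agent.SporadicStructure.Co0Base
open Cfsg.Agent.MonsterX.KSide Cfsg.Agent.MonsterX.KLift Cfsg.Agent.MonsterX.KModel Cfsg.Agent.MonsterX.KInst
open Cfsg.Agent.MonsterX.InstEval
open Cfsg.Agent.SporadicA.M24Gens (pidx pidx_injective)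

theorem UW_hi : Nat.land UW ProgZ.hiM = UW := KRows.eq_of_beq (by decide +kernel)

theorem mat_hi : Nat.land matM ProgZ.hiM = 0 := KRows.eq_of_beq (by decide +kernel)

theorem SL_hi : Nat.land SL ProgZ.hiM = 0 := KRows.eq_of_beq (by decide +kernel)

theorem hi_of_UW {i : ℕ} (h : UW.testBit i = true) : ProgZ.hiM.testBit i = true := by
  have h1 := congrArg (fun x => Nat.testBit x i) (show UW &&& ProgZ.hiM = UW from UW_hi)
  simp only [Nat.testBit_and, h, Bool.true_and] at h1
  exact h1

/-! ### The central involution -/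

/-- `z` acts as the central involution of the Pauli group. -/
theorem pair_z : Pair Conc.z (Pauli.z 12) where
  mem := ProgM.Inv.z_mem_Q
  act_u v := by
    rw [z_fix_iff]
    intro i hi
    exact u_supp v i fun h => disj mat_hi h hi
  act_X x := by
    have h1 : Pauli.z 12 * x * (Pauli.z 12)⁻¹ = x := by
      rw [KInst.zc_comm, mul_inv_cancel_right]
    rw [h1, z_fix_iff]
    intro i hi
    exact X_supp x i fun h => disj SL_hi h hi
  act_Θ f v := by
    rw [rho_z, map_neg, LinearMap.neg_apply]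
    apply Subtype.ext
    funext i
    rw [z_apply]
    show _ = -(Θ f v).1 i
    by_cases h : UW.testBit i.1 = true
    · rw [if_pos (hi_of_UW h)]
    · rw [Θ_supp f v i h]
      split_ifs <;> simp

/-! ### The isometry `σ` -/

theorem σ_u (v : leechLattice) : InstData.σ (u v) = u v := by
  apply Subtype.ext
  funext i
  rw [σ_apply, ← SL_eq]
  by_cases h : SL.testBit i.1 = true
  · rw [if_pos h, u_supp v i fun h' => disj mat_SL h' h, neg_zero]
  · rw [if_neg h]

theorem σ_X (x : Pauli 12) : InstData.σ (Xv x) = -Xv x := by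
  apply Subtype.ext
  funext i
  rw [σ_apply, ← SL_eq]
  show _ = -(Xv x).1 i
  by_cases h : SL.testBit i.1 = true
  · rw [if_pos h]
  · rw [if_neg h, X_supp x i h, neg_zero]

theorem σ_Θ (f : B 12 → ℚ) (v : GolayPt → ℚ) : InstData.σ (Θ f v) = Θ f v := by
  apply Subtype.ext
  funext i
  rw [σ_apply, ← SL_eq]
  by_cases h : SL.testBit i.1 = true
  · rw [if_pos h, Θ_supp f v i (disj SL_UW h), neg_zero]
  · rw [if_neg h]

/-! ### The base axis -/

theorem SL_base : SL.testBit 62465 = true := by decide +kernel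

/-- The base lane. -/
noncomputable def bl₀ : Lane U := ⟨62465, U_of_SL SL_base⟩

/-- The short element of the base axis. -/
noncomputable def x₀ : Pauli 12 := labP 12 lab 62465

theorem x₀_mem : x₀ ∈ Sh := labFacts.sh _ SL_base

theorem e₀_eq : InstData.e₀ = (2 : ℚ) • Xv x₀ := by
  apply Subtype.ext
  show (vecV InstData.e0B : Lane U → ℚ) = (2 : ℚ) • (Xv x₀).1
  rw [vecV_coe InstData.sym_e0B]
  have h : (Xv x₀).1 = e1 bl₀ := Xv_lab labFacts bl₀ SL_base
  rw [h]
  funext i
  have h2 : val InstData.e0B i.1 = if i.1 = 62465 then 2 else 0 := by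
    show bt 0 i.1 + 2 * (bt (Nat.shiftLeft 1 62465) i.1 + 2 * -bt 0 i.1) = _
    rw [bt_zero]
    unfold bt
    rw [show (Nat.shiftLeft 1 62465) = 1 <<< 62465 from rfl, Nat.one_shiftLeft, Nat.testBit_two_pow]
    by_cases hi : i.1 = 62465
    · simp [hi]
    · have hi' : ¬ 62465 = i.1 := fun h => hi h.symm
      simp [hi, hi']
  have h3 : e1 bl₀ i = if i.1 = 62465 then 1 else 0 := by
    unfold e1
    by_cases hi : i.1 = 62465
    · have hi' : i = bl₀ := Subtype.ext hi
      rw [if_pos hi, if_pos hi']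
    · have hi' : ¬ i = bl₀ := fun h => hi (congrArg Subtype.val h)
      rw [if_neg hi, if_neg hi']
  show ((val InstData.e0B i.1 : ℤ) : ℚ) = (2 : ℚ) * e1 bl₀ i
  rw [h2, h3]
  split_ifs <;> norm_num

/-- The coordinates of the base vector `(4, -4, 0, …)`, by the numbers of the points. -/
def c₀ (a : ℕ) : ℤ := if a = 0 then 4 else if a = 1 then -4 else 0

theorem lv_base : ∀ a < 24, val (LaneVec.L a) 62465 = c₀ a := by decide +kernel

theorem u0_tab : ∀ a < 24, ∀ b < 24, 16 * val InstData.u0B (ln a b) = c₀ a * c₀ b := by decide +kernel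

theorem u0_supp1 : Nat.land (Nat.shiftLeft 0x300000003 61440) matM = Nat.shiftLeft 0x300000003 61440 :=
  KRows.eq_of_beq (by decide +kernel)

theorem u0_supp2 : Nat.land (Nat.shiftLeft 0x100000002 61440) matM = Nat.shiftLeft 0x100000002 61440 :=
  KRows.eq_of_beq (by decide +kernel)

theorem not_of_supp {a i : ℕ} (h : Nat.land a matM = a) (hi : ¬ matM.testBit i = true) : a.testBit i = false := by
  have h1 := congrArg (fun x => Nat.testBit x i) (show a &&& matM = a from h)
  simp only [Nat.testBit_and] at h1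
  rw [← h1]
  have : matM.testBit i = false := by simpa using hi
  rw [this, Bool.and_false]

/-- The vector `(4, -4, 0, …)`. -/
noncomputable def l₀ : leechLattice := LaneVec.lv 62465

theorem l₀_apply (p : GolayPt) : (l₀ : GolayPt → ℤ) p = c₀ (pidx p) := by
  have h : (l₀ : GolayPt → ℤ) = LaneVec.lvec 62465 := LaneVec.lv_coe (by rw [← LaneEq.SL_eq]; exact SL_base)
  rw [h, LaneVec.lvec_apply]
  have h2 : Cfsg.Agent.LeechMat.Code.pos p = pidx p := by cases p <;> rfl
  rw [h2]
  exact lv_base _ (pidx_lt p)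

theorem u_neg (v : leechLattice) : u (-v) = u v := by
  apply Subtype.ext
  show uf (rt (-v)) = uf (rt v)
  unfold uf
  refine Finset.sum_congr rfl fun p _ => Finset.sum_congr rfl fun q _ => ?_
  have h : ∀ p, rt (-v) p = -rt v p := by
    intro p
    show ((((-v : leechLattice) : GolayPt → ℤ) p : ℤ) : ℚ) = _
    rw [AddSubgroup.coe_neg, Pi.neg_apply]
    push_cast
    rfl
  rw [h, h, neg_mul_neg]

theorem u₀_eq : InstData.u₀ = u (lam x₀) := by
  have h1 : u (lam x₀) = u l₀ := by
    rcases LaneEq.lam_lab SL_base with h | h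
    · exact congrArg u h
    · have : lam x₀ = -l₀ := h
      rw [this, u_neg]
  rw [h1]
  apply Subtype.ext
  show (vecV InstData.u0B : Lane U → ℚ) = uf (rt l₀)
  rw [vecV_coe InstData.sym_u0B]
  funext i
  show ((val InstData.u0B i.1 : ℤ) : ℚ) = _
  by_cases h : matM.testBit i.1 = true
  · obtain ⟨p, q, rfl⟩ := exists_lane h
    rw [uf_lane]
    have h2 := u0_tab _ (pidx_lt p) _ (pidx_lt q)
    have h3 : ∀ p, rt l₀ p = ((c₀ (pidx p) : ℤ) : ℚ) := fun p => by
      show (((l₀ : GolayPt → ℤ) p : ℤ) : ℚ) = _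
      rw [l₀_apply]
    rw [h3, h3, eq_div_iff (by norm_num), mul_comm]
    exact_mod_cast h2
  · rw [uf_other _ h]
    have h2 : val InstData.u0B i.1 = 0 := by
      show bt (Nat.shiftLeft 0x300000003 61440) i.1 + 2 * -bt (Nat.shiftLeft 0x100000002 61440) i.1 = 0
      unfold bt
      rw [not_of_supp u0_supp1 h, not_of_supp u0_supp2 h]
      simp
    rw [h2]; rfl

/-! ### The link -/

/-- **The link of the concrete model.** -/
theorem link (R : Rows) (hx : R.g 14 * R.g 13 = x₀) : Link InstData.M (ks R) x₀ where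
  F_eq _ _ := rfl
  C_le := Conc.C_le_G
  C_iff g := Subgroup.mem_subgroupOf
  Q_iff e := mem_Q_iff R labFacts e
  z_eq := (iotaE_eq R labFacts pair_z).symm
  x₀_mem := x₀_mem
  t₀_eq := by
    have h1 : Pair (Conc.E 14 * Conc.E 13) x₀ := by
      rw [← hx]
      exact (pair_g R (by norm_num)).mul (pair_g R (by norm_num))
    have h2 : InstData.t₀ = Conc.E 14 * Conc.E 13 := by
      unfold InstData.t₀
      rw [Conc.W_cons, Conc.W_single]
    show InstData.t₀ = iotaE R labFacts x₀
    rw [iotaE_eq R labFacts h1, h2]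
  u₀_eq := u₀_eq
  e₀_eq := e₀_eq
  σ_u := σ_u
  σ_X x _ := σ_X x
  σ_Θ f v := σ_Θ f _

end Cfsg.Agent.MonsterX.KLinkInst
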