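import Cfsg.Agent.MonsterX.KInst
import Cfsg.Agent.MonsterX.KRigid
import Cfsg.Agent.MonsterX.InstEval

/-!
# The projections of the axes `d j` on the symmetric matrices, and their norms
-/

set_option autoImplicit false
set_option Elab.async false
set_option maxRecDepth 100000

namespace Cfsg.Agent.MonsterX.KRigNorm

open Cfsg Cfsg.Agent.Monster.VecEngine Cfsg.Agent.Monster Cfsg.Agent.Monster.VecSpace
open Cfsg.Agent.MonsterX.ProgBase Cfsg.Agent.MonsterX.ProgTable Cfsg.Agent.MonsterX.Space Cfsg.Agent.MonsterX.Conc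
open Cfsg.Agent.MonsterX.MatAct Cfsg.Agent.MonsterX.USide Cfsg.Agent.MonsterX.LabPl
open Cfsg.Agent.MonsterX.KRows Cfsg.Agent.MonsterX.KAsm Cfsg.Agent.MonsterX.InstData Cfsg.Agent.MonsterX.InstEval
open Cfsg.Agent.MonsterX.KInst Cfsg.Agent.MonsterX.KSide Cfsg.Agent.MonsterX.KRigid
open Cfsg.Agent.SporadicA.M24Gens (pidx pidx_injective)

/-! ### The projection -/

theorem blk_mat : Nat.land (Nat.land U blkM) matM = Nat.land U blkM := KRows.eq_of_beq (by decide +kernel)

theorem mat_of_blk {i : ℕ} (hU : U.testBit i = true) (h : blkM.testBit i = true) : matM.testBit i = true := by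
  have h1 : ((U &&& blkM) &&& matM).testBit i = true := by
    rw [show (U &&& blkM) &&& matM = U &&& blkM from blk_mat, Nat.testBit_and, hU, h]; rfl
  rw [Nat.testBit_and, Bool.and_eq_true] at h1
  exact h1.2

theorem mat_trL (i : Lane U) (h : matM.testBit i.1 = true) : matM.testBit (trL i).1 = true := by
  by_cases hi : blkM.testBit i.1 = true
  · apply mat_of_blk (trL i).2
    by_contra hc
    have h1 : tr (trL i).1 = (trL i).1 := tr_eq_of_blkM (by simpa using hc)
    have h2 : tr (trL i).1 = i.1 := tr_tr i.1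
    rw [h2] at h1
    rw [← h1] at hc
    exact hc hi
  · have h1 : trL i = i := Subtype.ext (tr_eq_of_blkM (by simpa using hi))
    rw [h1]; exact h

theorem mat_trL_iff (i : Lane U) : matM.testBit (trL i).1 = true ↔ matM.testBit i.1 = true := by
  refine ⟨fun h => ?_, mat_trL i⟩
  have h1 := mat_trL (trL i) h
  have h2 : trL (trL i) = i := Subtype.ext (tr_tr i.1)
  rwa [h2] at h1

/-- The restriction of a vector to the lanes of the matrix. -/
noncomputable def prf (f : Lane U → ℚ) : Lane U → ℚ := fun i => if matM.testBit i.1 = true then f i else 0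

theorem prf_mem (v : V) : prf v.1 ∈ Vs := by
  rw [mem_Vs_iff]
  intro i
  unfold prf
  simp only [mat_trL_iff]
  by_cases h : matM.testBit i.1 = true
  · rw [if_pos h, if_pos h, mem_Vs_iff.1 v.2 i]
  · rw [if_neg h, if_neg h]

/-- The projection on the matrices. -/
noncomputable def pr : V →ₗ[ℚ] V where
  toFun v := ⟨prf v.1, prf_mem v⟩
  map_add' v w := by
    apply Subtype.ext
    funext i
    show (if matM.testBit i.1 = true then v.1 i + w.1 i else 0) =
      (if matM.testBit i.1 = true then v.1 i else 0) + (if matM.testBit i.1 = true then w.1 i else 0)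
    split_ifs <;> simp
  map_smul' c v := by
    apply Subtype.ext
    funext i
    show (if matM.testBit i.1 = true then c * v.1 i else 0) = c * (if matM.testBit i.1 = true then v.1 i else 0)
    split_ifs <;> simp

theorem pr_apply (v : V) (i : Lane U) : (pr v).1 i = if matM.testBit i.1 = true then v.1 i else 0 := rfl

theorem pr_u (v : leechLattice) : pr (u v) = u v := by
  apply Subtype.ext
  funext i
  rw [pr_apply]
  by_cases h : matM.testBit i.1 = true
  · rw [if_pos h]
  · rw [if_neg h]; exact (uf_other _ h).symm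

theorem pr_zero_of {v : V} (h : ∀ i : Lane U, matM.testBit i.1 = true → v.1 i = 0) : pr v = 0 := by
  apply Subtype.ext
  funext i
  rw [pr_apply]
  by_cases hi : matM.testBit i.1 = true
  · rw [if_pos hi, h i hi]; rfl
  · rw [if_neg hi]; rfl

theorem pr_X (x : Cfsg.Agent.Monster.PauliBasic.Pauli 12) : pr (Xv x) = 0 :=
  pr_zero_of fun _ hi => Xf_supp x (disj mat_SL hi)

theorem isPr (R : Rows) : Pr (ks R) pr where
  u := pr_u
  X x _ := pr_X x
  Θ f v := pr_zero_of fun i hi => by
    exact Θ_supp _ _ i (disj mat_UW hi)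

/-! ### The norm -/

theorem norm_pr (v : V) : F (pr v) (pr v) = ∑ p, ∑ q, v.1 (lane p q) ^ 2 := by
  rw [F_sum]
  have h : ∀ i : Lane U, (pr v).1 i * (pr v).1 i = if matM.testBit i.1 = true then v.1 i ^ 2 else 0 := by
    intro i
    rw [pr_apply]
    split_ifs <;> ring
  simp only [h]
  rw [← Finset.sum_filter, ← Finset.sum_product']
  symm
  refine Finset.sum_bij (fun pq _ => lane pq.1 pq.2) ?_ ?_ ?_ ?_
  · rintro ⟨p, q⟩ _
    rw [Finset.mem_filter]
    exact ⟨Finset.mem_univ _, (ln_U p q).2⟩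
  · rintro ⟨p, q⟩ _ ⟨p', q'⟩ _ h
    obtain ⟨h1, h2⟩ := lane_inj h
    rw [Prod.mk.injEq]
    exact ⟨h1, h2⟩
  · intro i hi
    rw [Finset.mem_filter] at hi
    obtain ⟨p, q, e⟩ := exists_lane hi.2
    exact ⟨(p, q), Finset.mem_product.2 ⟨Finset.mem_univ _, Finset.mem_univ _⟩, e.symm⟩
  · rintro ⟨p, q⟩ _
    rfl

/-- Kernel sums. -/
noncomputable def sumN (n : ℕ) (f : ℕ → ℕ) : ℕ := Nat.rec (motive := fun _ => ℕ) 0 (fun k ih => Nat.add ih (f k)) n

theorem sumN_eq (n : ℕ) (f : ℕ → ℕ) : sumN n f = ∑ i ∈ Finset.range n, f i := by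
  induction n with
  | zero => rfl
  | succ n ih =>
    rw [Finset.sum_range_succ, ← ih]
    rfl

/-- The length of the block. -/
def kk : ℕ := 1024

/-- The lanes from `61440` on. -/
noncomputable def blk (y : Pl) : Pl :=
  Pl.rec (motive := fun _ => Pl) (fun s => .sgn (Nat.land (Nat.shiftRight s 61440) (Nat.sub (Nat.shiftLeft 1 kk) 1)))
    (fun p _ ih => .cons (Nat.land (Nat.shiftRight p 61440) (Nat.sub (Nat.shiftLeft 1 kk) 1)) ih) y

theorem bt_blk (p i : ℕ) (h : i < 1024) :
    bt (Nat.land (Nat.shiftRight p 61440) (Nat.sub (Nat.shiftLeft 1 kk) 1)) i = bt p (61440 + i) := by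
  have h1 : (Nat.land (Nat.shiftRight p 61440) (Nat.sub (Nat.shiftLeft 1 kk) 1)).testBit i = p.testBit (61440 + i) := by
    show ((p >>> 61440) &&& ((1 <<< kk) - 1)).testBit i = _
    rw [Nat.testBit_and, Nat.testBit_shiftRight, Nat.one_shiftLeft, Nat.testBit_two_pow_sub_one, decide_eq_true (show i < kk from h),
      Bool.and_true]
  unfold bt
  rw [h1]

theorem val_blk (y : Pl) (i : ℕ) (h : i < 1024) : val (blk y) i = val y (61440 + i) := by
  induction y with
  | sgn s =>
    show val (.sgn _) i = _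
    rw [val_sgn, val_sgn, bt_blk s i h]
  | cons p y ih =>
    show val (.cons _ (blk y)) i = _
    rw [val_cons, val_cons, bt_blk p i h, ih]

/-- The kernel check of the norm. -/
noncomputable def normIs (n : ℕ) (w : List ℕ) (x : Pl) (c : ℕ) : Bool :=
  runL (w.map prog) (up n x) fun y =>
    (fun z => Nat.beq (sumN 24 fun a => sumN 24 fun b =>
      Nat.pow (Int.natAbs (val z (Nat.add (Nat.mul 32 (slotT.getD a 0)) (slotT.getD b 0)))) 2) c) (blk y)

theorem slot_lt : ∀ a < 24, slotT.getD a 0 < 24 := by decide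

theorem normIs_sound {n : ℕ} {w : List ℕ} {x : Pl} {c : ℕ} (hx : sym x = true) (h : normIs n w x c = true) :
    F (pr (W w (vecV x))) (pr (W w (vecV x))) = (c : ℚ) / 4 ^ n := by
  obtain ⟨y, hy, hk⟩ := run_coe hx h
  have hk' := Nat.eq_of_beq_eq_true hk
  rw [norm_pr, eq_div_iff (by positivity), ← hk', sumN_eq]
  have h1 : ∀ a b : ℕ, a < 24 → b < 24 → (((Nat.pow (Int.natAbs (val (blk y)
      (Nat.add (Nat.mul 32 (slotT.getD a 0)) (slotT.getD b 0)))) 2 : ℕ)) : ℚ) = ((val y (ln a b) : ℤ) : ℚ) ^ 2 := by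
    intro a b ha hb
    have e1 : val (blk y) (Nat.add (Nat.mul 32 (slotT.getD a 0)) (slotT.getD b 0)) = val y (ln a b) := by
      have := slot_lt a ha
      have := slot_lt b hb
      exact val_blk y _ (by
        show 32 * slotT.getD a 0 + slotT.getD b 0 < 1024
        omega)
    rw [e1]
    show (((Int.natAbs (val y (ln a b))) ^ 2 : ℕ) : ℚ) = _
    have h3 : ((Int.natAbs (val y (ln a b)) ^ 2 : ℕ) : ℤ) = (val y (ln a b)) ^ 2 := by
      rw [Nat.cast_pow]
      exact Int.natAbs_sq _
    have h4 : (((Int.natAbs (val y (ln a b)) ^ 2 : ℕ) : ℤ) : ℚ) = (((val y (ln a b)) ^ 2 : ℤ) : ℚ) := by rw [h3]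
    rw [Int.cast_natCast, Int.cast_pow] at h4
    exact h4
  push_cast
  rw [Finset.sum_mul]
  have h2 : ∀ p : GolayPt, (∑ q, (W w (vecV x) : V).1 (lane p q) ^ 2) * 4 ^ n =
      ∑ b ∈ Finset.range 24, ((val y (ln (pidx p) b) : ℤ) : ℚ) ^ 2 := by
    intro p
    rw [sum_range_pt, Finset.sum_mul]
    refine Finset.sum_congr rfl fun q _ => ?_
    have h3 := hy (lane p q)
    have h4 : (lane p q).1 = ln (pidx p) (pidx q) := rfl
    rw [h4] at h3
    rw [← h3, mul_pow, ← pow_mul, mul_comm n 2, pow_mul]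
    norm_num
    ring
  simp only [h2]
  rw [← sum_range_pt (fun a => ∑ b ∈ Finset.range 24, ((val y (ln a b) : ℤ) : ℚ) ^ 2)]
  refine Finset.sum_congr rfl fun a ha => ?_
  rw [sumN_eq]
  push_cast
  refine Finset.sum_congr rfl fun b hb => ?_
  rw [← h1 a b (Finset.mem_range.1 ha) (Finset.mem_range.1 hb)]

end Cfsg.Agent.MonsterX.KRigNorm
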