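import Cfsg.Agent.MonsterX.KRigNorm

/-!
# The element `τ` and the axes `d 2 = τ a x₁`, `τ⁻¹ a x₁`
-/

set_option autoImplicit false
set_option Elab.async false
set_option maxRecDepth 100000

namespace Cfsg.Agent.MonsterX.KRigTau

open Cfsg Cfsg.Agent.Monster.VecEngine Cfsg.Agent.Monster Cfsg.Agent.Monster.VecSpace
open Cfsg.Agent.MonsterX.ProgBase Cfsg.Agent.MonsterX.ProgTable Cfsg.Agent.MonsterX.Space Cfsg.Agent.MonsterX.Conc
open Cfsg.Agent.MonsterX.MatAct Cfsg.Agent.MonsterX.USide Cfsg.Agent.MonsterX.LabPl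
open Cfsg.Agent.MonsterX.KRows Cfsg.Agent.MonsterX.KAsm Cfsg.Agent.MonsterX.InstData Cfsg.Agent.MonsterX.InstEval
open Cfsg.Agent.MonsterX.KInst Cfsg.Agent.MonsterX.KSide Cfsg.Agent.MonsterX.KRigid Cfsg.Agent.MonsterX.KRigNorm
open Cfsg.Agent.MonsterX.KModel
open Cfsg.Agent.SporadicA.M24Gens (pidx pidx_injective pidx_lt)
open Cfsg.Agent.MonsterX.CoGens (rt)

/-- The point with number `3`. -/
def i₀ : GolayPt := Cfsg.Agent.SporadicA.GolayBase.pt 3

theorem pidx_i₀ : pidx i₀ = 3 := by decide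

/-! ### The matrix part -/

/-- Kernel check that the matrix part is `1/16` on the diagonal except for `9/16` at the point `3`. -/
noncomputable def diagIs (w : List ℕ) (x : Pl) : Bool :=
  runL (w.map prog) (up 7 x) fun y =>
    (fun z => all 24 fun a => all 24 fun b =>
      decide (val z (Nat.add (Nat.mul 32 (slotT.getD a 0)) (slotT.getD b 0)) =
        (Bool.rec (0 : ℤ) (Bool.rec (8 : ℤ) 72 (Nat.beq a 3)) (Nat.beq a b)))) (blk y)

theorem diagIs_sound {w : List ℕ} {x : Pl} (hx : sym x = true) (h : diagIs w x = true) (p q : GolayPt) :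
    (W w (vecV x) : V).1 (lane p q) = if p = q then (if p = i₀ then 9 / 16 else 1 / 16) else 0 := by
  obtain ⟨y, hy, hk⟩ := run_coe hx h
  have h1 := of_decide_eq_true (all_spec (all_spec hk (pidx_lt p)) (pidx_lt q))
  have e1 : val (blk y) (Nat.add (Nat.mul 32 (slotT.getD (pidx p) 0)) (slotT.getD (pidx q) 0)) =
      val y (ln (pidx p) (pidx q)) := by
    have := slot_lt _ (pidx_lt p)
    have := slot_lt _ (pidx_lt q)
    exact val_blk y _ (by
      show 32 * slotT.getD (pidx p) 0 + slotT.getD (pidx q) 0 < 1024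
      omega)
  rw [e1] at h1
  have h3 := hy (lane p q)
  have h4 : (lane p q).1 = ln (pidx p) (pidx q) := rfl
  rw [h4, h1] at h3
  by_cases hpq : p = q
  · rw [if_pos hpq]
    have e2 : Nat.beq (pidx p) (pidx q) = true := by rw [hpq]; exact Nat.beq_refl _
    rw [e2] at h3
    by_cases hp : p = i₀
    · have e3 : Nat.beq (pidx p) 3 = true := by rw [hp, pidx_i₀]; rfl
      rw [e3] at h3
      rw [if_pos hp]
      have h5 : (2 : ℚ) ^ 7 * (W w (vecV x) : V).1 (lane p q) = 72 := by
        rw [h3]; norm_num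
      linarith
    · have e3 : Nat.beq (pidx p) 3 = false := by
        refine Bool.eq_false_of_not_eq_true fun h6 => ?_
        exact hp (pidx_injective ((Nat.eq_of_beq_eq_true h6).trans pidx_i₀.symm))
      rw [e3] at h3
      rw [if_neg hp]
      have h5 : (2 : ℚ) ^ 7 * (W w (vecV x) : V).1 (lane p q) = 8 := by
        rw [h3]; norm_num
      linarith
  · rw [if_neg hpq]
    have e2 : Nat.beq (pidx p) (pidx q) = false := by
      refine Bool.eq_false_of_not_eq_true fun h6 => ?_
      exact hpq (pidx_injective (Nat.eq_of_beq_eq_true h6))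
    rw [e2] at h3
    have h5 : (2 : ℚ) ^ 7 * (W w (vecV x) : V).1 (lane p q) = 0 := by
      rw [h3]; norm_num
    linarith

/-- The form of such a vector with `u w`. -/
theorem F_u_diag {g : V} (h : ∀ p q, g.1 (lane p q) = if p = q then (if p = i₀ then 9 / 16 else 1 / 16) else 0)
    (w : leechLattice) :
    F g (u w) = (nrm w : ℚ) / 256 + (((w : GolayPt → ℤ) i₀ : ℤ) : ℚ) ^ 2 / 32 := by
  rw [F_symm]
  show F (uq (rt w)) g = _
  rw [F_uq]
  simp only [h]
  have e1 : ∀ p, ∑ q, rt w p * rt w q / 16 * (if p = q then (if p = i₀ then (9 : ℚ) / 16 else 1 / 16) else 0) =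
      rt w p ^ 2 / 256 + (if p = i₀ then rt w p ^ 2 / 32 else 0) := by
    intro p
    rw [Finset.sum_eq_single p]
    · rw [if_pos rfl]
      split_ifs <;> ring
    · intro q _ hq
      rw [if_neg hq.symm, mul_zero]
    · intro h; exact absurd (Finset.mem_univ _) h
  simp only [e1, Finset.sum_add_distrib, Finset.sum_ite_eq', Finset.mem_univ, if_true]
  have e2 : ((nrm w : ℤ) : ℚ) = ∑ p, rt w p ^ 2 := by
    rw [← KS.dot_self]
    rw [dot_rt]
    exact Finset.sum_congr rfl fun p _ => (sq _).symm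
  rw [e2, Finset.sum_div]

/-- The word with `a x₁ = W w₁ a₀`. -/
def w₁ : List ℕ := [42, 39, 42, 39]

theorem diag_p : diagIs [42, 39, 42, 39, 40] a0B = true := by decide +kernel

theorem diag_m : diagIs [42, 39, 42, 39, 41] a0B = true := by decide +kernel

/-- The planes of the `98304`-part of `τ a x₁`. -/
noncomputable def eWB : Pl := .cons 0 (.cons (Nat.shiftLeft 1 180163) (.sgn 0))

theorem tau_e0 : check ([42, 39, 42, 39, 40].map prog) (up 7 e0B) [] (up 7 eWB) = true := by decide +kernel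

theorem W_e0 : W [42, 39, 42, 39, 40] (vecV e0B) = vecV eWB :=
  (W_eq_of_up (n := 7) (w₂ := []) tau_e0).trans (by rw [W_nil]; rfl)

end Cfsg.Agent.MonsterX.KRigTau
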