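import Mathlib
import Cfsg.Agent.MonsterX.Short
import Cfsg.Agent.Leech.Basic

/-!
The quadratic form: `norm / 16` modulo 2 is the square map of the Pauli group.
-/

set_option autoImplicit false

namespace Cfsg.Agent.MonsterX.ShortQ

open Cfsg Cfsg.Agent.LeechMat.Core Cfsg.Agent.LeechMat.Code Cfsg.Agent.LeechMat.Elements
open Cfsg.Agent.Monster.PauliBasic Cfsg.Agent.Monster.PauliClif Cfsg.Agent.Monster.PauliGates
open Cfsg.Agent.MonsterX.Psi Cfsg.Agent.MonsterX.Short

/-- `norm / 16` modulo 2. -/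
def qf (v : leechLattice) : ZMod 2 := ((sqNorm (v : GolayPt → ℤ) / 16 : ℤ) : ZMod 2)

theorem qf_add (v w : leechLattice) : qf (v + w) = qf v + qf w + bl v w := by
  unfold qf bl
  obtain ⟨a, ha⟩ := Cfsg.Agent.Leech.Basic.sixteen_dvd_sqNorm v.2
  obtain ⟨b, hb⟩ := Cfsg.Agent.Leech.Basic.sixteen_dvd_sqNorm w.2
  obtain ⟨c, hc⟩ := eight_dvd v w
  have h : sqNorm ((v + w : leechLattice) : GolayPt → ℤ) = 16 * (a + b + c) := by
    rw [sqNorm_eq_dotInt, AddSubgroup.coe_add, dotInt_add_left, dotInt_add_right,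
      dotInt_add_right, ← sqNorm_eq_dotInt, ← sqNorm_eq_dotInt, ha, hb, hc,
      dotInt_comm (w : GolayPt → ℤ), hc]
    ring
  rw [h, ha, hb, hc, Int.mul_ediv_cancel_left _ (by norm_num), Int.mul_ediv_cancel_left _ (by norm_num),
    Int.mul_ediv_cancel_left _ (by norm_num), Int.mul_ediv_cancel_left _ (by norm_num)]
  push_cast; ring

/-- The form on the images. -/
def qp (p : B 12 × B 12) : ZMod 2 := p.2 ⬝ᵥ p.1

theorem qp_add (v w : leechLattice) :
    qp (psi (v + w)) = qp (psi v) + qp (psi w) + bl v w := by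
  rw [bl_eq_form, map_add]
  unfold qp
  simp only [Prod.fst_add, Prod.snd_add, add_dotProduct, dotProduct_add]
  ring

/-- The difference of the two quadratic forms. -/
def dif : leechLattice →+ ZMod 2 where
  toFun v := qf v + qp (psi v)
  map_zero' := by
    have h1 : qf 0 = 0 := by
      unfold qf
      have : sqNorm ((0 : leechLattice) : GolayPt → ℤ) = 0 := by
        show sqNorm (0 : GolayPt → ℤ) = 0
        unfold sqNorm
        exact Finset.sum_eq_zero fun i _ => by simp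
      rw [this]; rfl
    rw [h1, map_zero]
    show (0 : ZMod 2) + (0 : B 12) ⬝ᵥ (0 : B 12) = 0
    rw [dotProduct_zero, add_zero]
  map_add' v w := by
    rw [qf_add, qp_add]
    have := zmod2_add_self (bl v w)
    linear_combination this

theorem norm_xs : ∀ k : Fin 12, dotc (xs.getD k 0) (xs.getD k 0) / 16 % 2 = 0 := by decide +kernel
theorem norm_zs : ∀ k : Fin 12, dotc (zs.getD k 0) (zs.getD k 0) / 16 % 2 = 0 := by decide +kernel

theorem qf_vX (k : Fin 12) : qf (vX k) = 0 := by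
  unfold qf
  have h : sqNorm (vX k : GolayPt → ℤ) = dotc (xs.getD k 0) (xs.getD k 0) := by
    rw [dotc_eq, sqNorm_eq_dotInt]; rfl
  rw [h]
  have h2 : ((dotc (xs.getD k 0) (xs.getD k 0) / 16 : ℤ) : ZMod 2) = ((0 : ℤ) : ZMod 2) := by
    rw [ZMod.intCast_eq_intCast_iff]
    exact norm_xs k
  rw [h2]; rfl

theorem qf_vZ (k : Fin 12) : qf (vZ k) = 0 := by
  unfold qf
  have h : sqNorm (vZ k : GolayPt → ℤ) = dotc (zs.getD k 0) (zs.getD k 0) := by
    rw [dotc_eq, sqNorm_eq_dotInt]; rfl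
  rw [h]
  have h2 : ((dotc (zs.getD k 0) (zs.getD k 0) / 16 : ℤ) : ZMod 2) = ((0 : ℤ) : ZMod 2) := by
    rw [ZMod.intCast_eq_intCast_iff]
    exact norm_zs k
  rw [h2]; rfl

theorem dif_vX (k : Fin 12) : dif (vX k) = 0 := by
  show qf (vX k) + qp (psi (vX k)) = 0
  rw [qf_vX, psi_vX]
  show (0 : ZMod 2) + (0 : B 12) ⬝ᵥ dl k = 0
  rw [zero_dotProduct, add_zero]

theorem dif_vZ (k : Fin 12) : dif (vZ k) = 0 := by
  show qf (vZ k) + qp (psi (vZ k)) = 0
  rw [qf_vZ, psi_vZ]
  show (0 : ZMod 2) + dl k ⬝ᵥ (0 : B 12) = 0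
  rw [dotProduct_zero, add_zero]

theorem dif_eq_zero (v : leechLattice) : dif v = 0 := by
  obtain ⟨u, hu⟩ := psi_eq_iff.1 (psi_lift (psi v)).symm
  have h1 : v = lift (psi v) + 2 • u := by rw [← hu]; abel
  rw [h1, map_add, map_nsmul, two_smul, zmod2_add_self, add_zero]
  unfold lift
  simp only [map_add, map_sum, map_nsmul, dif_vX, dif_vZ, smul_zero, Finset.sum_const_zero, add_zero]

/-- The quadratic form of the lattice is the quadratic form of the Pauli group. -/
theorem qf_eq (v : leechLattice) : qf v = (psi v).2 ⬝ᵥ (psi v).1 := by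
  have h : qf v + qp (psi v) = 0 := dif_eq_zero v
  have h2 := zmod2_add_self (qp (psi v))
  have : qf v = qp (psi v) := by linear_combination h - h2
  exact this

/-- Short elements are involutions. -/
theorem sh_sq (x : Pauli 12) (hx : x ∈ Sh) : x * x = 1 := by
  obtain ⟨v, h1, h2⟩ := hx
  rw [Pauli.sq_eq]
  have h3 := qf_eq v
  rw [h2] at h3
  have h4 : qf v = 0 := by
    unfold qf; rw [h1]; rfl
  have h5 : x.b ⬝ᵥ x.a = 0 := by rw [← h4, h3]; rfl
  rw [h5]; rfl

/-- A lift of `psi`. -/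
def theta (v : leechLattice) : Pauli 12 := mk (psi v)

theorem ab_theta (v : leechLattice) : ab (theta v) = psi v := rfl

theorem sq_or (x : Pauli 12) : x * x = 1 ∨ x * x = Pauli.z 12 := by
  rw [Pauli.sq_eq]
  rcases zmod2_cases (x.b ⬝ᵥ x.a) with h | h <;> rw [h]
  · exact Or.inl rfl
  · exact Or.inr rfl

theorem card_P : Nat.card (Pauli 12) = 2 ^ 25 := Pauli.card 12

theorem center (x : Pauli 12) (h : ∀ y, x * y = y * x) : x = 1 ∨ x = Pauli.z 12 := by
  rw [← Pauli.mem_center_iff', Subgroup.mem_center_iff]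
  exact fun y => (h y).symm

theorem theta_add (v w : leechLattice) :
    theta (v + w) = theta v * theta w ∨ theta (v + w) = Pauli.z 12 * (theta v * theta w) := by
  rw [← ab_eq_iff, ab_mul, ab_theta, ab_theta, ab_theta, map_add]

theorem theta_ker (v : leechLattice) (h : theta v = 1 ∨ theta v = Pauli.z 12) :
    ∃ w : leechLattice, v = 2 • w := by
  apply psi_eq_zero
  rw [← ab_theta]
  rcases h with h | h <;> rw [h] <;> rfl

theorem theta_surj (x : Pauli 12) : ∃ v, x = theta v ∨ x = Pauli.z 12 * theta v := by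
  obtain ⟨v, hv⟩ := psi_surjective (ab x)
  exact ⟨v, (ab_eq_iff _ _).1 (by rw [ab_theta, hv])⟩

theorem theta_lam (x : Pauli 12) (hx : x ∈ Sh) :
    theta (lam x) = x ∨ theta (lam x) = Pauli.z 12 * x :=
  (ab_eq_iff _ _).1 (by rw [ab_theta, psi_lam x hx])

theorem theta_comm (v w : leechLattice) :
    (16 : ℤ) ∣ dotInt (v : GolayPt → ℤ) (w : GolayPt → ℤ) ↔ theta v * theta w = theta w * theta v := by
  rw [Pauli.commute_iff]
  have h1 : Pauli.form (theta v) (theta w) = bl v w := by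
    rw [bl_eq_form]; rfl
  rw [h1]
  unfold bl
  obtain ⟨c, hc⟩ := eight_dvd v w
  rw [hc, Int.mul_ediv_cancel_left _ (by norm_num)]
  have h2 : ((c : ℤ) : ZMod 2) = 0 ↔ (2 : ℤ) ∣ c := ZMod.intCast_zmod_eq_zero_iff_dvd c 2
  rw [h2]
  constructor
  · rintro ⟨m, hm⟩; exact ⟨m, by omega⟩
  · rintro ⟨m, hm⟩; exact ⟨m, by omega⟩

end Cfsg.Agent.MonsterX.ShortQ
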