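import Cfsg.Agent.MonsterX.UOnto
import Cfsg.Agent.MonsterX.KX
import Cfsg.Agent.MonsterX.ShortQ
import Cfsg.Agent.MonsterX.InstData
import Cfsg.Agent.MonsterX.KModel
import Cfsg.Agent.Monster.PauliRep

/-!
# Assembly of the concrete `K`-side of the Monster model

`LabFacts`: the short lanes correspond to the short elements modulo the centre.
`Rows`: the vectors `X x`, `Θ f v` and the action of the letters on them.  From these we get the structures `KS`,
`Lift` and `Link` for the concrete data `InstData.M`.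
-/

set_option autoImplicit false
set_option maxRecDepth 100000

namespace Cfsg.Agent.MonsterX.KRows

open Cfsg Cfsg.Agent.Lib.PermNet Cfsg.Agent.Monster.VecEngine Cfsg.Agent.Monster Cfsg.Agent.Monster.VecSpace
open Cfsg.Agent.MonsterX.ProgBase Cfsg.Agent.MonsterX.Space Cfsg.Agent.MonsterX.MatAct
open Cfsg.Agent.MonsterX.CoGens Cfsg.Agent.MonsterX.USide Cfsg.Agent.MonsterX.UOnto
open Cfsg.Agent.MonsterX.Short Cfsg.Agent.MonsterX.KX Cfsg.Agent.MonsterX.LabPl
open Cfsg.Agent.Monster.PauliBasic Cfsg.Agent.Monster.PauliClif Cfsg.Agent.Monster.PauliRep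
open Cfsg.Agent.Monster.PauliPlanes Cfsg.Agent.Monster.TensorProg
open Cfsg.Agent.SporadicA.M24Gens (pidx pidx_injective)

/-! ### Masks -/

/-- A kernel check that two masks are equal. -/
theorem eq_of_beq {a b : ℕ} (h : Nat.beq a b = true) : a = b := Nat.eq_of_beq_eq_true h

theorem SL_eq : SL = InstData.sigM := eq_of_beq (by decide +kernel)

theorem U_eq : U = Nat.lor (Nat.lor matM SL) UW := eq_of_beq (by decide +kernel)

theorem mat_SL : Nat.land matM SL = 0 := eq_of_beq (by decide +kernel)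

theorem mat_UW : Nat.land matM UW = 0 := eq_of_beq (by decide +kernel)

theorem SL_UW : Nat.land SL UW = 0 := eq_of_beq (by decide +kernel)

theorem SL_blk : Nat.land SL blkM = 0 := eq_of_beq (by decide +kernel)

theorem UW_blk : Nat.land UW blkM = 0 := eq_of_beq (by decide +kernel)

theorem disj {a b i : ℕ} (h : Nat.land a b = 0) (ha : a.testBit i = true) : ¬ b.testBit i = true := by
  intro hb
  have h2 := congrArg (fun x => Nat.testBit x i) (show a &&& b = 0 from h)
  simp only [Nat.testBit_and, ha, hb, Nat.zero_testBit] at h2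
  exact absurd h2 (by simp)

theorem cases_U (i : Lane U) : matM.testBit i.1 = true ∨ SL.testBit i.1 = true ∨ UW.testBit i.1 = true := by
  have h : U.testBit i.1 = true := i.2
  generalize i.1 = k at h ⊢
  rw [U_eq] at h
  have h' : ((matM ||| SL) ||| UW).testBit k = true := h
  rw [Nat.testBit_or, Nat.testBit_or, Bool.or_eq_true, Bool.or_eq_true] at h'
  tauto

theorem U_of_SL {i : ℕ} (h : SL.testBit i = true) : U.testBit i = true := by
  rw [U_eq]
  show ((matM ||| SL) ||| UW).testBit i = true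
  rw [Nat.testBit_or, Nat.testBit_or, h]
  simp

theorem U_of_UW {i : ℕ} (h : UW.testBit i = true) : U.testBit i = true := by
  rw [U_eq]
  show ((matM ||| SL) ||| UW).testBit i = true
  rw [Nat.testBit_or, h]
  simp

/-- A function supported off the block of the matrix is in the space. -/
theorem mem_Vs_of_supp {f : Lane U → ℚ} (h : ∀ i, blkM.testBit i.1 = true → f i = 0) : f ∈ Vs := by
  rw [mem_Vs_iff]
  intro i
  by_cases hi : blkM.testBit i.1 = true
  · have hj : blkM.testBit (trL i).1 = true := by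
      by_contra hc
      have h1 : tr (trL i).1 = (trL i).1 := tr_eq_of_blkM (by simpa using hc)
      have h2 : tr (trL i).1 = i.1 := tr_tr i.1
      rw [h2] at h1
      rw [← h1] at hc
      exact hc hi
    rw [h i hi, h _ hj]
  · have h1 : trL i = i := Subtype.ext (tr_eq_of_blkM (by simpa using hi))
    rw [h1]

/-! ### Facts about the labels -/

/-- The lanes of `SL` correspond to the short elements modulo the centre. -/
structure LabFacts : Prop where
  sh : ∀ i, SL.testBit i = true → labP 12 lab i ∈ Sh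
  inj : ∀ i j, SL.testBit i = true → SL.testBit j = true → ab (labP 12 lab i) = ab (labP 12 lab j) → i = j
  surj : ∀ x ∈ Sh, ∃ i, SL.testBit i = true ∧ ab (labP 12 lab i) = ab x

theorem Xf_supp (x : Pauli 12) {i : ℕ} (h : ¬ SL.testBit i = true) : Xf x i = 0 := if_neg h

theorem Xf_of_SL (x : Pauli 12) {i : ℕ} (h : SL.testBit i = true) : Xf x i = chi (labP 12 lab i) x := if_pos h

theorem Xf_mem (x : Pauli 12) : res ℚ U (Xf x) ∈ Vs :=
  mem_Vs_of_supp fun i hi => Xf_supp x fun h => disj SL_blk h hi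

/-- The vector of a short element. -/
noncomputable def Xv (x : Pauli 12) : V := ⟨res ℚ U (Xf x), Xf_mem x⟩

theorem Xv_apply (x : Pauli 12) (i : Lane U) : (Xv x).1 i = Xf x i.1 := rfl

theorem Xv_z (x : Pauli 12) : Xv (Pauli.z 12 * x) = -Xv x := by
  apply Subtype.ext
  show res ℚ U (Xf (Pauli.z 12 * x)) = -res ℚ U (Xf x)
  rw [Xf_z, map_neg]

theorem chi_self (x : Pauli 12) : chi x x = 1 := if_pos rfl

theorem chi_ne {p x : Pauli 12} (h : ab p ≠ ab x) : chi p x = 0 := by
  unfold chi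
  rw [if_neg, if_neg]
  · intro h'; exact h (by rw [ab_eq_iff]; exact Or.inr h')
  · intro h'; exact h (by rw [h'])

/-- The unit vector of a lane. -/
noncomputable def e1 (i : Lane U) : Lane U → ℚ := fun j => if j = i then 1 else 0

theorem Xv_lab (L : LabFacts) (i : Lane U) (hi : SL.testBit i.1 = true) :
    (Xv (labP 12 lab i.1)).1 = e1 i := by
  funext j
  rw [Xv_apply]
  unfold e1
  by_cases hj : SL.testBit j.1 = true
  · rw [Xf_of_SL _ hj]
    by_cases h : j = i
    · rw [if_pos h, h, chi_self]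
    · rw [if_neg h]
      exact chi_ne fun h' => h (Subtype.ext (L.inj _ _ hj hi h'))
  · rw [Xf_supp _ hj, if_neg]
    intro h; rw [h] at hj; exact hj hi

theorem eq_or (L : LabFacts) (x : Pauli 12) (hx : x ∈ Sh) : ∃ i : Lane U, SL.testBit i.1 = true ∧
    (x = labP 12 lab i.1 ∨ x = Pauli.z 12 * labP 12 lab i.1) := by
  obtain ⟨i, hi, h⟩ := L.surj x hx
  exact ⟨⟨i, U_of_SL hi⟩, hi, (ab_eq_iff _ _).1 h.symm⟩

theorem F_Xlab (L : LabFacts) (i j : Lane U) (hi : SL.testBit i.1 = true) (hj : SL.testBit j.1 = true) :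
    F (Xv (labP 12 lab i.1)) (Xv (labP 12 lab j.1)) = if i = j then 1 else 0 := by
  rw [F_sum, Xv_lab L i hi, Xv_lab L j hj]
  unfold e1
  rw [Finset.sum_eq_single i]
  · by_cases h : i = j
    · subst h; simp
    · simp [h]
  · intro k _ hk
    rw [if_neg hk, zero_mul]
  · intro h; exact absurd (Finset.mem_univ _) h

theorem F_neg_left (a b : V) : F (-a) b = -F a b := by rw [map_neg]; rfl

theorem F_neg_right (a b : V) : F a (-b) = -F a b := by rw [map_neg]

theorem B_XX (L : LabFacts) (x : Pauli 12) (hx : x ∈ Sh) : F (Xv x) (Xv x) = 1 := by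
  obtain ⟨i, hi, rfl | rfl⟩ := eq_or L x hx
  · rw [F_Xlab L i i hi hi, if_pos rfl]
  · rw [Xv_z, F_neg_left, F_neg_right, neg_neg, F_Xlab L i i hi hi, if_pos rfl]

theorem B_XX' (L : LabFacts) (x : Pauli 12) (hx : x ∈ Sh) (y : Pauli 12) (hy : y ∈ Sh) (h1 : y ≠ x)
    (h2 : y ≠ Pauli.z 12 * x) : F (Xv x) (Xv y) = 0 := by
  obtain ⟨i, hi, hx'⟩ := eq_or L x hx
  obtain ⟨j, hj, hy'⟩ := eq_or L y hy
  have hij : i ≠ j := by
    rintro rfl
    have h3 : ab x = ab y := by
      have e1 : ab x = ab (labP 12 lab i.1) := (ab_eq_iff _ _).2 hx'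
      have e2 : ab y = ab (labP 12 lab i.1) := (ab_eq_iff _ _).2 hy'
      rw [e1, e2]
    rcases (ab_eq_iff y x).1 h3.symm with h | h
    · exact h1 h
    · exact h2 h
  have h0 : F (Xv (labP 12 lab i.1)) (Xv (labP 12 lab j.1)) = 0 := by rw [F_Xlab L i j hi hj, if_neg hij]
  rcases hx' with rfl | rfl <;> rcases hy' with rfl | rfl
  · exact h0
  · rw [Xv_z, F_neg_right, h0, neg_zero]
  · rw [Xv_z, F_neg_left, h0, neg_zero]
  · rw [Xv_z, Xv_z, F_neg_left, F_neg_right, h0, neg_zero, neg_zero]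

/-! ### Supports -/

/-- Vectors with disjoint supports are orthogonal. -/
theorem F_disj (f g : V) (h : ∀ i : Lane U, f.1 i = 0 ∨ g.1 i = 0) : F f g = 0 := by
  rw [F_sum]
  refine Finset.sum_eq_zero fun i _ => ?_
  rcases h i with h | h <;> rw [h] <;> simp

theorem u_supp (v : leechLattice) (i : Lane U) (h : ¬ matM.testBit i.1 = true) : (u v).1 i = 0 := uf_other _ h

theorem X_supp (x : Pauli 12) (i : Lane U) (h : ¬ SL.testBit i.1 = true) : (Xv x).1 i = 0 := Xf_supp x h

theorem B_uX (v : leechLattice) (x : Pauli 12) : F (u v) (Xv x) = 0 := by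
  apply F_disj
  intro i
  by_cases h : matM.testBit i.1 = true
  · exact Or.inr (X_supp x i (disj mat_SL h))
  · exact Or.inl (u_supp v i h)

/-! ### The tensor part -/

/-- The points of the slots. -/
def ptT : List ℕ := [0, 1, 2, 3, 4, 7, 10, 12, 5, 14, 17, 23, 6, 9, 11, 22, 8, 15, 16, 19, 13, 18, 20, 21]

/-- The point of a slot. -/
def ptS (s : ℕ) : GolayPt := Cfsg.Agent.SporadicA.GolayBase.pt (ptT.getD s 0)

/-- The slot of a point. -/
def slS (p : GolayPt) : ℕ := slotT.getD (pidx p) 0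

theorem ptS_slS (p : GolayPt) : ptS (slS p) = p := by revert p; decide +kernel

theorem slS_ptS : ∀ s < 24, slS (ptS s) = s := by decide +kernel

theorem slS_lt (p : GolayPt) : slS p < 24 := slotT_lt _ (pidx_lt p)

/-- The function `f ⊗ v` on the lanes. -/
noncomputable def Tf (f : B 12 → ℚ) (v : GolayPt → ℚ) : ℕ → ℚ :=
  Phi UW (fun b => f (PauliBits.vec 12 b)) (fun s => if s < 24 then v (ptS s) else 0)

theorem Tf_supp (f : B 12 → ℚ) (v : GolayPt → ℚ) {i : ℕ} (h : ¬ UW.testBit i = true) : Tf f v i = 0 := Phi_of_not h _ _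

theorem Tf_of (f : B 12 → ℚ) (v : GolayPt → ℚ) {i : ℕ} (h : UW.testBit i = true) :
    Tf f v i = f (PauliBits.vec 12 (i / 32)) * v (ptS (i % 32)) := by
  unfold Tf
  rw [Phi_of_true h, if_pos]
  rw [testBit_UW] at h
  simp at h
  exact h.2.2

theorem Tf_mem (f : B 12 → ℚ) (v : GolayPt → ℚ) : res ℚ U (Tf f v) ∈ Vs :=
  mem_Vs_of_supp fun i hi => Tf_supp f v fun h => disj UW_blk h hi

/-- The vector `f ⊗ v`. -/
noncomputable def Θ : (B 12 → ℚ) →ₗ[ℚ] (GolayPt → ℚ) →ₗ[ℚ] V :=
  LinearMap.mk₂ ℚ (fun f v => ⟨res ℚ U (Tf f v), Tf_mem f v⟩)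
    (fun f f' v => by
      apply Subtype.ext; funext i
      show Tf (f + f') v i.1 = Tf f v i.1 + Tf f' v i.1
      by_cases h : UW.testBit i.1 = true
      · rw [Tf_of _ _ h, Tf_of _ _ h, Tf_of _ _ h, Pi.add_apply]; ring
      · rw [Tf_supp _ _ h, Tf_supp _ _ h, Tf_supp _ _ h, add_zero])
    (fun c f v => by
      apply Subtype.ext; funext i
      show Tf (c • f) v i.1 = c * Tf f v i.1
      by_cases h : UW.testBit i.1 = true
      · rw [Tf_of _ _ h, Tf_of _ _ h, Pi.smul_apply, smul_eq_mul]; ring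
      · rw [Tf_supp _ _ h, Tf_supp _ _ h, mul_zero])
    (fun f v v' => by
      apply Subtype.ext; funext i
      show Tf f (v + v') i.1 = Tf f v i.1 + Tf f v' i.1
      by_cases h : UW.testBit i.1 = true
      · rw [Tf_of _ _ h, Tf_of _ _ h, Tf_of _ _ h, Pi.add_apply]; ring
      · rw [Tf_supp _ _ h, Tf_supp _ _ h, Tf_supp _ _ h, add_zero])
    (fun c f v => by
      apply Subtype.ext; funext i
      show Tf f (c • v) i.1 = c * Tf f v i.1
      by_cases h : UW.testBit i.1 = true
      · rw [Tf_of _ _ h, Tf_of _ _ h, Pi.smul_apply, smul_eq_mul]; ring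
      · rw [Tf_supp _ _ h, Tf_supp _ _ h, mul_zero])

theorem Θ_apply (f : B 12 → ℚ) (v : GolayPt → ℚ) (i : Lane U) : (Θ f v).1 i = Tf f v i.1 := rfl

theorem Θ_supp (f : B 12 → ℚ) (v : GolayPt → ℚ) (i : Lane U) (h : ¬ UW.testBit i.1 = true) : (Θ f v).1 i = 0 :=
  Tf_supp f v h

theorem B_uΘ (v : leechLattice) (f : B 12 → ℚ) (w : GolayPt → ℚ) : F (u v) (Θ f w) = 0 := by
  apply F_disj
  intro i
  by_cases h : matM.testBit i.1 = true
  · exact Or.inr (Θ_supp f w i (disj mat_UW h))
  · exact Or.inl (u_supp v i h)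

theorem B_XΘ (x : Pauli 12) (f : B 12 → ℚ) (w : GolayPt → ℚ) : F (Xv x) (Θ f w) = 0 := by
  apply F_disj
  intro i
  by_cases h : SL.testBit i.1 = true
  · exact Or.inr (Θ_supp f w i (disj SL_UW h))
  · exact Or.inl (X_supp x i h)

/-- The unit vectors of the tensor part. -/
theorem Θ_single (i : Lane U) (hi : UW.testBit i.1 = true) :
    (Θ (Pi.single (PauliBits.vec 12 (i.1 / 32)) 1) (Pi.single (ptS (i.1 % 32)) 1)).1 = e1 i := by
  have hi' := hi
  rw [testBit_UW] at hi'
  simp at hi'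
  funext j
  rw [Θ_apply]
  unfold e1
  by_cases hj : UW.testBit j.1 = true
  · rw [Tf_of _ _ hj]
    have hj' := hj
    rw [testBit_UW] at hj'
    simp at hj'
    by_cases h : j = i
    · rw [if_pos h, h, Pi.single_eq_same, Pi.single_eq_same, one_mul]
    · rw [if_neg h]
      by_cases h2 : PauliBits.vec 12 (j.1 / 32) = PauliBits.vec 12 (i.1 / 32)
      · have h3 : ptS (j.1 % 32) ≠ ptS (i.1 % 32) := by
          intro h3
          apply h
          have h4 : j.1 % 32 = i.1 % 32 := by
            rw [← slS_ptS _ hj'.2.2, ← slS_ptS _ hi'.2.2, h3]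
          have h5 := congrArg PauliBits.idx h2
          rw [PauliBits.idx_vec_mod, PauliBits.idx_vec_mod] at h5
          apply Subtype.ext
          omega
        rw [Pi.single_eq_of_ne h3, mul_zero]
      · rw [Pi.single_eq_of_ne h2, zero_mul]
  · rw [Tf_supp _ _ hj, if_neg]
    intro h; rw [h] at hj; exact hj hi

end Cfsg.Agent.MonsterX.KRows
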