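import Cfsg.Agent.MonsterX.KLinkInst
import Cfsg.Agent.MonsterX.KLet

/-!
# The rows of the letters: from `KLet` to `KAsm.Rows`
-/

set_option autoImplicit false
set_option maxRecDepth 100000

namespace Cfsg.Agent.MonsterX.KRowsInst

open Cfsg Cfsg.Agent.Monster.VecEngine Cfsg.Agent.Monster Cfsg.Agent.Monster.VecSpace
open Cfsg.Agent.MonsterX.ProgBase Cfsg.Agent.MonsterX.Space Cfsg.Agent.MonsterX.MatAct
open Cfsg.Agent.MonsterX.CoGens Cfsg.Agent.MonsterX.USide Cfsg.Agent.MonsterX.UOnto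
open Cfsg.Agent.MonsterX.Short Cfsg.Agent.MonsterX.KX Cfsg.Agent.MonsterX.LabPl
open Cfsg.Agent.Monster.PauliBasic Cfsg.Agent.Monster.PauliClif Cfsg.Agent.Monster.PauliRep
open Cfsg.Agent.Monster.PauliGates
open Cfsg.Agent.Monster.PauliPlanes Cfsg.Agent.Monster.TensorProg
open Cfsg.Agent.MonsterX.KRows Cfsg.Agent.MonsterX.KAsm Cfsg.Agent.MonsterX.KLetX Cfsg.Agent.MonsterX.KLetW

/-! ### The vectors -/

theorem X_eq (x : Pauli 12) : KLet.X x = Xv x := Subtype.ext (pr_of_mem (Xf_mem x))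

theorem sl_eq (v : GolayPt → ℚ) : KSlot.sl v = fun s => if s < 24 then v (ptS s) else 0 := by
  funext s
  by_cases h : s < 24
  · rw [if_pos h]
    have h1 := KSlot.sl_slot v (ptS s)
    have h2 : slotT.getD (Cfsg.Agent.SporadicA.M24Gens.pidx (ptS s)) 0 = s := slS_ptS s h
    rw [h2] at h1
    exact h1
  · rw [if_neg h]
    exact KSlot.sup_sl v s (by omega)

theorem Wf_eq (f : B 12 → ℚ) (v : GolayPt → ℚ) : KLet.Wf f v = Tf f v := by
  unfold KLet.Wf Tf
  rw [sl_eq]

theorem Θ_eq (f : B 12 → ℚ) (v : GolayPt → ℚ) : KLet.Θ f v = Θ f v := by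
  rw [KLet.Θ_apply, Wf_eq]
  exact Subtype.ext (pr_of_mem (Tf_mem f v))

/-! ### The operators on the spin space -/

theorem nrm_circ : ∀ n < 40, nrmL (circ n) = if n < 39 then 1 else 16 := by decide +kernel

theorem sc_sq {n : ℕ} (hn : n < 40) : KLet.sc n * KLet.sc n * (nrmL (circ n) : ℚ) = 1 := by
  rw [nrm_circ n hn]
  unfold KLet.sc
  split_ifs <;> norm_num

/-- The operator of a letter. -/
noncomputable def T (n : ℕ) : (B 12 → ℚ) ≃ₗ[ℚ] (B 12 → ℚ) :=
  if h : n < 40 then (clifOf ℚ (circ n) (KLet.sc n) (sc_sq h)).2 else 1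

theorem T_apply {n : ℕ} (hn : n < 40) (f : B 12 → ℚ) : T n f = KLet.T n f := by
  unfold T
  rw [dif_pos hn]
  rfl

/-! ### The elements of the Pauli group -/

/-- The Pauli element of a gate. -/
def gp : Gate 12 → Pauli 12
  | .X i => ⟨0, dl i, 0⟩
  | .Z i => ⟨0, 0, dl i⟩
  | _ => 1

/-- The gate is a Pauli gate. -/
def isP : Gate 12 → Bool
  | .X _ => true
  | .Z _ => true
  | _ => false

/-- The Pauli element of a circuit. -/
def gL : List (Gate 12) → Pauli 12
  | [] => 1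
  | g :: L => gL L * gp g

theorem op_gp {g : Gate 12} (h : isP g = true) : g.op ℚ = act ℚ (gp g) := by
  apply LinearMap.ext
  intro f
  funext e
  rcases g with i | i | ⟨i, j, h⟩ | ⟨i, j, h⟩ | i
  · rw [Gate.op_apply, act_apply]
    show f (e + dl i) = sg ℚ (0 + (0 : B 12) ⬝ᵥ (e + dl i)) * f (e + dl i)
    rw [zero_dotProduct, add_zero, sg_zero, one_mul]
  · rw [Gate.op_apply, act_apply]
    show sg ℚ (e i) * f e = sg ℚ (0 + dl i ⬝ᵥ (e + 0)) * f (e + 0)
    rw [add_zero, zero_add, dl_dot]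
  · exact absurd h (by simp [isP])
  · exact absurd h (by simp [isP])
  · exact absurd h (by simp [isP])

theorem conj_gp {g : Gate 12} (h : isP g = true) (x : Pauli 12) : g.conj x = gp g * x * (gp g)⁻¹ := by
  rcases g with i | i | ⟨i, j, h⟩ | ⟨i, j, h⟩ | i
  · rw [Pauli.conj_eq]
    show (⟨x.s + x.b i, x.a, x.b⟩ : Pauli 12) = ⟨x.s + Pauli.form ⟨0, dl i, 0⟩ x, x.a, x.b⟩
    unfold Pauli.form
    simp
  · rw [Pauli.conj_eq]
    show (⟨x.s + x.a i, x.a, x.b⟩ : Pauli 12) = ⟨x.s + Pauli.form ⟨0, 0, dl i⟩ x, x.a, x.b⟩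
    unfold Pauli.form
    simp
  · exact absurd h (by simp [isP])
  · exact absurd h (by simp [isP])
  · exact absurd h (by simp [isP])

theorem opL_gL {L : List (Gate 12)} (h : ∀ g ∈ L, isP g = true) : opL ℚ L = act ℚ (gL L) := by
  induction L with
  | nil => exact (act_one ℚ).symm
  | cons g L ih =>
    show opL ℚ L ∘ₗ g.op ℚ = act ℚ (gL L * gp g)
    rw [ih fun g' hg' => h g' (by simp [hg']), op_gp (h g (by simp)), act_mul]

theorem conjL_gL {L : List (Gate 12)} (h : ∀ g ∈ L, isP g = true) (x : Pauli 12) :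
    conjL L x = gL L * x * (gL L)⁻¹ := by
  induction L generalizing x with
  | nil =>
    show x = 1 * x * 1⁻¹
    rw [inv_one, mul_one, one_mul]
  | cons g L ih =>
    show conjL L (g.conj x) = (gL L * gp g) * x * (gL L * gp g)⁻¹
    rw [ih fun g' hg' => h g' (by simp [hg']), conj_gp (h g (by simp))]
    group

theorem isP_circ : ∀ n < 24, ∀ g ∈ circ n, isP g = true := by decide +kernel

/-- The Pauli element of a letter `n < 24`. -/
def g (n : ℕ) : Pauli 12 := gL (circ n)

theorem T_g (n : ℕ) (hn : n < 24) (f : B 12 → ℚ) : T n f = rho ℚ (g n) f := by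
  rw [T_apply (by omega)]
  show KLet.sc n • opL ℚ (circ n) f = act ℚ (g n) f
  rw [opL_gL (isP_circ n hn)]
  unfold KLet.sc
  rw [if_pos (by omega), one_smul]
  rfl

theorem α_g (n : ℕ) (hn : n < 24) (x : Pauli 12) : al n x = g n * x * (g n)⁻¹ :=
  conjL_gL (isP_circ n hn) x

/-! ### Generation -/

/-- Products of the `g n`. -/
def gw (w : List ℕ) : Pauli 12 := (w.map g).prod

/-- words for the `X` elements -/
def wX : List (List ℕ) :=
  [[1, 2, 3, 4, 14], [9], [1, 2, 3, 4, 7, 9, 10, 13, 14, 17], [1, 2, 3, 4, 5, 8, 9, 11, 14, 21], [1], [1, 2], [1, 3, 14], [5], [6, 16], [7, 17], [8], [12]]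

/-- words for the `Z` elements -/
def wZ : List (List ℕ) :=
  [[16, 22, 23], [21, 22, 23], [22], [23], [13, 14, 15, 16], [14, 16], [15, 16], [17, 23], [18], [19, 22], [20, 23], [0]]

theorem w_lt : (∀ k < 12, ∀ n ∈ wX.getD k [], n < 24) ∧ (∀ k < 12, ∀ n ∈ wZ.getD k [], n < 24) := by
  decide +kernel

theorem gw_X (k : Fin 12) : (∀ i, (gw (wX.getD k [])).a i = dl k i) ∧ ∀ i, (gw (wX.getD k [])).b i = 0 := by
  revert k; decide +kernel

theorem gw_Z (k : Fin 12) : (∀ i, (gw (wZ.getD k [])).b i = dl k i) ∧ ∀ i, (gw (wZ.getD k [])).a i = 0 := by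
  revert k; decide +kernel

theorem form_0_12 : Pauli.form (g 0) (g 12) = 1 := by decide +kernel

/-- The group generated by the `g n`. -/
def H : Subgroup (Pauli 12) := Subgroup.closure {p | ∃ n < 24, p = g n}

theorem g_mem {n : ℕ} (hn : n < 24) : g n ∈ H := Subgroup.subset_closure ⟨n, hn, rfl⟩

theorem gw_mem {w : List ℕ} (h : ∀ n ∈ w, n < 24) : gw w ∈ H := by
  unfold gw
  apply Subgroup.list_prod_mem
  intro x hx
  obtain ⟨n, hn, rfl⟩ := List.mem_map.1 hx
  exact g_mem (h n hn)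

theorem z_mem : Pauli.z 12 ∈ H := by
  have h1 : g 0 * g 12 * (g 0)⁻¹ * (g 12)⁻¹ = Pauli.z 12 := by
    rw [Pauli.conj_eq, form_0_12]
    have h2 : (⟨(g 12).s + 1, (g 12).a, (g 12).b⟩ : Pauli 12) = Pauli.z 12 * g 12 := (Pauli.z_mul _).symm
    rw [h2, mul_inv_cancel_right]
  rw [← h1]
  exact H.mul_mem (H.mul_mem (H.mul_mem (g_mem (by norm_num)) (g_mem (by norm_num)))
    (H.inv_mem (g_mem (by norm_num)))) (H.inv_mem (g_mem (by norm_num)))

/-- The images of the elements of `H`. -/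
def im : AddSubgroup (B 12 × B 12) where
  carrier := {v | ∃ h ∈ H, ab h = v}
  zero_mem' := ⟨1, H.one_mem, rfl⟩
  add_mem' := by
    rintro _ _ ⟨h, hh, rfl⟩ ⟨k, hk, rfl⟩
    exact ⟨h * k, H.mul_mem hh hk, ab_mul h k⟩
  neg_mem' := by
    rintro _ ⟨h, hh, rfl⟩
    refine ⟨h, hh, ?_⟩
    exact (Prod.ext (neg_eq _) (neg_eq _)).symm

theorem X_mem (k : Fin 12) : ((dl k, 0) : B 12 × B 12) ∈ im :=
  ⟨gw (wX.getD k []), gw_mem (w_lt.1 k k.2), Prod.ext (funext (gw_X k).1) (funext (gw_X k).2)⟩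

theorem Z_mem (k : Fin 12) : ((0, dl k) : B 12 × B 12) ∈ im :=
  ⟨gw (wZ.getD k []), gw_mem (w_lt.2 k k.2), Prod.ext (funext (gw_Z k).2) (funext (gw_Z k).1)⟩

theorem smul_mem_im (c : ZMod 2) {v : B 12 × B 12} (hv : v ∈ im) : c • v ∈ im := by
  rcases zmod2_cases c with rfl | rfl
  · rw [zero_smul]; exact im.zero_mem
  · rw [one_smul]; exact hv

theorem im_top (v : B 12 × B 12) : v ∈ im := by
  have h : v = ∑ k, v.1 k • ((dl k, 0) : B 12 × B 12) + ∑ k, v.2 k • ((0, dl k) : B 12 × B 12) := by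
    have h1 : ∀ w : B 12, ∑ k, w k • dl k = w := by
      intro w
      funext i
      rw [Finset.sum_apply, Finset.sum_eq_single i]
      · simp
      · intro j _ hj
        rw [Pi.smul_apply, dl_ne hj.symm, smul_zero]
      · intro h; exact absurd (Finset.mem_univ _) h
    apply Prod.ext
    · rw [Prod.fst_add, Prod.fst_sum, Prod.fst_sum]
      simp only [Prod.smul_fst, smul_zero, Finset.sum_const_zero, add_zero]
      exact (h1 v.1).symm
    · rw [Prod.snd_add, Prod.snd_sum, Prod.snd_sum]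
      simp only [Prod.smul_snd, smul_zero, Finset.sum_const_zero, zero_add]
      exact (h1 v.2).symm
  rw [h]
  exact im.add_mem (im.sum_mem fun k _ => smul_mem_im _ (X_mem k)) (im.sum_mem fun k _ => smul_mem_im _ (Z_mem k))

theorem gen_g : Subgroup.closure {p | ∃ n < 24, p = g n} = ⊤ := by
  rw [eq_top_iff]
  intro p _
  show p ∈ H
  obtain ⟨h, hh, e⟩ := im_top (ab p)
  rcases (ab_eq_iff p h).1 e.symm with h1 | h1
  · rw [h1]; exact hh
  · rw [h1]; exact H.mul_mem z_mem hh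

/-! ### The rows -/

/-- The rows, from the compatibility of the automorphisms of the Pauli group with the lattice. -/
noncomputable def rows (hc : ∀ n < 40, Compat (CoGens.A n) (al n)) : Rows where
  α := al
  T := T
  g := g
  X_row n hn x := by rw [← X_eq, KLet.E_X hn, X_eq]
  Θ_row n hn f v := by rw [← Θ_eq, KLet.E_Θ hn, Θ_eq, T_apply hn]
  T_ρ n hn p f := by
    rw [T_apply hn, T_apply hn]
    exact KLet.T_rho n p f
  compat := hc
  T_g := T_g
  α_g := α_g
  gen_g := gen_g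

/-! ### The base element -/

theorem base_bits : ∀ k < 25, Cfsg.Agent.Monster.PauliBits.bit (PauliPlanes.get lab k) 62465 =
    (if k < 12 then (g 14 * g 13).b (Fin.ofNat 12 k) else if k < 24 then (g 14 * g 13).a (Fin.ofNat 12 (k - 12))
      else (g 14 * g 13).s) := by decide +kernel

/-- The base element is `x_{δ₂} x_{δ₁}`. -/
theorem base_eq : g 14 * g 13 = KLinkInst.x₀ := by
  apply Pauli.ext
  · have h := base_bits 24 (by norm_num)
    rw [if_neg (by norm_num), if_neg (by norm_num)] at h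
    exact h.symm
  · funext k
    have h := base_bits (12 + k) (by have := k.2; omega)
    rw [if_neg (by omega), if_pos (by have := k.2; omega)] at h
    have e : Fin.ofNat 12 (12 + (k : ℕ) - 12) = k := by
      apply Fin.ext
      show (12 + (k : ℕ) - 12) % 12 = k
      have := k.2
      omega
    rw [e] at h
    exact h.symm
  · funext k
    have h := base_bits k (by have := k.2; omega)
    rw [if_pos k.2] at h
    have e : Fin.ofNat 12 (k : ℕ) = k := by
      apply Fin.ext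
      show (k : ℕ) % 12 = k
      have := k.2
      omega
    rw [e] at h
    exact h.symm

theorem hx (hc : ∀ n < 40, Compat (CoGens.A n) (al n)) : (rows hc).g 14 * (rows hc).g 13 = KLinkInst.x₀ := base_eq

end Cfsg.Agent.MonsterX.KRowsInst
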