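import Cfsg.Agent.MonsterX.KDone
import Cfsg.Agent.MonsterX.KRigid

/-!
# Field `stab` of the concrete model: the projection on the matrices and the norms of the projections of the `d j`
-/

set_option autoImplicit false
set_option maxRecDepth 100000

namespace Cfsg.Agent.MonsterX.KStabCls

open Cfsg Cfsg.Agent.Lib.PermNet Cfsg.Agent.Monster.VecEngine Cfsg.Agent.Monster Cfsg.Agent.Monster.VecSpace
open Cfsg.Agent.MonsterX.ProgBase Cfsg.Agent.MonsterX.ProgTable
open Cfsg.Agent.MonsterX.Space hiding pr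
open Cfsg.Agent.MonsterX.MatAct Cfsg.Agent.MonsterX.USide Cfsg.Agent.MonsterX.KX
open Cfsg.Agent.MonsterX.InstData Cfsg.Agent.MonsterX.InstEval Cfsg.Agent.MonsterX.Conc
open Cfsg.Agent.MonsterX.KRows Cfsg.Agent.MonsterX.KSide Cfsg.Agent.MonsterX.LabPl
open Cfsg.Agent.Monster.PauliBasic Cfsg.Agent.Monster.TensorProg
open Cfsg.Agent.SporadicA.M24Gens (pidx pidx_injective)

/-! ### The projection -/

theorem testBit_tr_matM (i : ℕ) : matM.testBit (tr i) = matM.testBit i := by
  rw [← testBit_app trN_ok, app_matM]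

/-- The projection on the matrices. -/
noncomputable def pr : V →ₗ[ℚ] V where
  toFun f := ⟨fun i => if matM.testBit i.1 = true then f.1 i else 0, by
    rw [mem_Vs_iff]
    intro i
    have h1 : matM.testBit (trL i).1 = matM.testBit i.1 := testBit_tr_matM i.1
    show (if matM.testBit (trL i).1 = true then f.1 (trL i) else 0) = if matM.testBit i.1 = true then f.1 i else 0
    rw [h1, mem_Vs_iff.1 f.2 i]⟩
  map_add' f g := by
    apply Subtype.ext; funext i
    show (if matM.testBit i.1 = true then f.1 i + g.1 i else 0) =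
      (if matM.testBit i.1 = true then f.1 i else 0) + (if matM.testBit i.1 = true then g.1 i else 0)
    split_ifs
    · rfl
    · rw [add_zero]
  map_smul' c f := by
    apply Subtype.ext; funext i
    show (if matM.testBit i.1 = true then c * f.1 i else 0) = c * (if matM.testBit i.1 = true then f.1 i else 0)
    split_ifs
    · rfl
    · rw [mul_zero]

theorem pr_apply (f : V) (i : Lane U) : (pr f).1 i = if matM.testBit i.1 = true then f.1 i else 0 := rfl

/-- **`pr` is the projection on the span of the `u v`.** -/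
theorem hpr : KRigid.Pr KDone.K pr where
  u v := by
    apply Subtype.ext; funext i
    rw [pr_apply]
    by_cases h : matM.testBit i.1 = true
    · rw [if_pos h]
    · rw [if_neg h]
      exact (u_supp v i h).symm
  X x _ := by
    apply Subtype.ext; funext i
    rw [pr_apply]
    by_cases h : matM.testBit i.1 = true
    · rw [if_pos h]
      exact X_supp x i (disj mat_SL h)
    · rw [if_neg h]; rfl
  Θ f v := by
    apply Subtype.ext; funext i
    rw [pr_apply]
    by_cases h : matM.testBit i.1 = true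
    · rw [if_pos h]
      exact Θ_supp f (rat v) i (disj mat_UW h)
    · rw [if_neg h]; rfl

/-! ### The norm of a projection -/

theorem F_pr (f : V) : F (pr f) (pr f) = ∑ p : GolayPt, ∑ q : GolayPt, f.1 (lane p q) * f.1 (lane p q) := by
  rw [F_sum, ← Finset.sum_product']
  symm
  refine Finset.sum_of_injOn (fun x : GolayPt × GolayPt => lane x.1 x.2) ?_ (fun _ _ => Finset.mem_univ _) ?_ ?_
  · rintro ⟨p, q⟩ _ ⟨p', q'⟩ _ h
    obtain ⟨h1, h2⟩ := lane_inj h
    exact Prod.ext h1 h2
  · intro i _ hi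
    rw [pr_apply, if_neg, mul_zero]
    intro h
    obtain ⟨p, q, rfl⟩ := exists_lane h
    exact hi ⟨(p, q), by simp, rfl⟩
  · rintro ⟨p, q⟩ _
    show _ = (pr f).1 (lane p q) * (pr f).1 (lane p q)
    have h : matM.testBit (lane p q).1 = true := (ln_U p q).2
    rw [pr_apply, if_pos h]

/-- `f 0 + … + f (n - 1)` (kernel-fast). -/
noncomputable def sumZ (f : ℕ → ℤ) (n : ℕ) : ℤ := Nat.rec (motive := fun _ => ℤ) 0 (fun k ih => ih + f k) n

theorem sumZ_eq (f : ℕ → ℤ) (n : ℕ) : sumZ f n = ∑ k ∈ Finset.range n, f k := by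
  induction n with
  | zero => rfl
  | succ n ih =>
    rw [Finset.sum_range_succ, ← ih]
    rfl

/-- The sum of the squares of the entries of the matrix. -/
noncomputable def n2 (y : Pl) : ℤ := sumZ (fun a => sumZ (fun b => val y (ln a b) * val y (ln a b)) 24) 24

theorem n2_eq (y : Pl) : n2 y = ∑ p : GolayPt, ∑ q : GolayPt, val y (lane p q).1 * val y (lane p q).1 := by
  unfold n2
  rw [sumZ_eq, sum_range_pt]
  refine Finset.sum_congr rfl fun p _ => ?_
  rw [sumZ_eq, sum_range_pt]
  rfl

/-- `2 ^ 14` times the norms. -/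
def nT (j : ℕ) : ℤ := [65536, 8192, 6656, 3712, 3072, 3976, 3080, 2816, 3008, 3136, 2912, 2920].getD j 0

theorem runs : ∀ j : Fin 12, runL ((bj j.1).map prog) (up 7 a0B) (fun y => decide (n2 y = nT j.1)) = true := by
  decide +kernel

theorem norm (j : Fin 12) : F (pr (InstData.d j)) (pr (InstData.d j)) = (nT j.1 : ℚ) / 16384 := by
  obtain ⟨y, hy, hk⟩ := run_coe sym_a0B (runs j)
  have h1 : n2 y = nT j.1 := of_decide_eq_true hk
  rw [eq_div_iff (by norm_num), F_pr, ← h1, n2_eq, Finset.sum_mul]
  push_cast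
  refine Finset.sum_congr rfl fun p _ => ?_
  rw [Finset.sum_mul]
  refine Finset.sum_congr rfl fun q _ => ?_
  have h2 : (2 : ℚ) ^ 7 * (InstData.d j).1 (lane p q) = ((val y (lane p q).1 : ℤ) : ℚ) := hy (lane p q)
  rw [← h2]
  ring

/-- The norms of the projections. -/
noncomputable def n (j : Fin 12) : ℚ := (nT j.1 : ℚ) / 16384

theorem nT_inj : ∀ i j : Fin 12, nT i.1 = nT j.1 → i = j := by decide +kernel

theorem n_inj : Function.Injective n := by
  intro i j h
  apply nT_inj
  unfold n at h
  have h1 : (nT i.1 : ℚ) = nT j.1 := by linarith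
  exact_mod_cast h1

/-- **The classes of axes**: closed under the group, and separated by the norms of the projections. -/
theorem cls (hc : ∀ (g : InstData.M.G) (j : Fin 12), ∃ i : Fin 12, ∃ k ∈ KDone.K.K,
    g • InstData.M.d j = k • InstData.M.d i) : KRigid.Cls KDone.K pr (fun j : Fin 12 => InstData.M.d j) n where
  closed := hc
  norm := norm
  inj := n_inj

/-- The set of axes is closed under the group. -/
theorem closed_G (h : ∀ j, ∀ g ∈ InstData.M.C, ∃ k, ∃ h ∈ InstData.M.C, InstData.M.τ (g (InstData.M.d j)) = h (InstData.M.d k))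
    (h3 : InstData.M.τ * InstData.M.τ * InstData.M.τ = 1) (g : InstData.M.G) (j : Fin 12) : ∃ i : Fin 12, ∃ k ∈ KDone.K.K, g • InstData.M.d j = k • InstData.M.d i := by
  have h' : ∀ j, ∀ g ∈ InstData.M.C, ∃ k, ∃ h ∈ InstData.M.C,
      InstData.M.τ⁻¹ (g (InstData.M.d j)) = h (InstData.M.d k) := by
    intro j g hg
    obtain ⟨k, c, hc, e⟩ := h j g hg
    obtain ⟨k', c', hc', e'⟩ := h k c hc
    refine ⟨k', c', hc', ?_⟩
    rw [← e', ← e, inv_eq_of_mul_eq_one_left h3]
    rfl
  obtain ⟨g, hg⟩ := g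
  have key : ∀ g ∈ InstData.M.G, ∀ (j : InstData.M.J), ∀ c ∈ InstData.M.C, ∃ i, ∃ k ∈ InstData.M.C,
      g (c (InstData.M.d j)) = k (InstData.M.d i) := by
    intro g hg
    induction hg using Subgroup.closure_induction'' with
    | mem x hx =>
      intro j c hc
      rcases hx with hx | hx
      · exact ⟨j, x * c, InstData.M.C.mul_mem hx hc, rfl⟩
      · rw [Set.mem_singleton_iff.1 hx]
        exact h j c hc
    | inv_mem x hx =>
      intro j c hc
      rcases hx with hx | hx
      · exact ⟨j, x⁻¹ * c, InstData.M.C.mul_mem (InstData.M.C.inv_mem hx) hc, rfl⟩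
      · rw [Set.mem_singleton_iff.1 hx]
        exact h' j c hc
    | one =>
      intro j c hc
      exact ⟨j, c, hc, rfl⟩
    | mul x y _ _ hx hy =>
      intro j c hc
      obtain ⟨i, k, hk, e⟩ := hy j c hc
      obtain ⟨i', k', hk', e'⟩ := hx i k hk
      exact ⟨i', k', hk', by rw [LinearEquiv.mul_apply, e, e']⟩
  obtain ⟨i, k, hk, e⟩ := key g hg j 1 InstData.M.C.one_mem
  exact ⟨i, ⟨k, Conc.C_le_G hk⟩, Subgroup.mem_subgroupOf.2 hk, e⟩

end Cfsg.Agent.MonsterX.KStabCls
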