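import Cfsg.Agent.MonsterX.LaneQuad

/-!
# The number of elements of the base orbit orthogonal to the representatives `d j`: kernel checks

`#{s ∈ S : (s, d j) = 0} = 93151, 4440, 506, 63, 16, 1, 3, 0, 0, 1, 0, 0` (classes
`2A 2B 4A 4B 4C 6A 6C 6F 8B 10A 10B 12C`). One kernel check per class (4 s each).
-/

set_option autoImplicit false
set_option maxRecDepth 100000
set_option Elab.async false

namespace Cfsg.Agent.MonsterX.LaneCountChk

open Cfsg Cfsg.Agent.Monster Cfsg.Agent.Monster.VecEngine Cfsg.Agent.Monster.VecSpace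
open Cfsg.Agent.MonsterX.Space Cfsg.Agent.MonsterX.LaneQuad Cfsg.Agent.MonsterX.InstData
open Cfsg.Agent.MonsterX.USide (u)

theorem c0 : cntW 4 (bj 0) a0B 46576 46575 = true := by decide +kernel

theorem c1 : cntW 4 (bj 1) a0B 2216 2224 = true := by decide +kernel

theorem c2 : cntW 4 (bj 2) a0B 264 242 = true := by decide +kernel

theorem c3 : cntW 6 (bj 3) a0B 32 31 = true := by decide +kernel

theorem c4 : cntW 6 (bj 4) a0B 8 8 = true := by decide +kernel

theorem c5 : cntW 7 (bj 5) a0B 1 0 = true := by decide +kernel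

theorem c6 : cntW 7 (bj 6) a0B 0 3 = true := by decide +kernel

theorem c7 : cntW 7 (bj 7) a0B 0 0 = true := by decide +kernel

theorem c8 : cntW 7 (bj 8) a0B 0 0 = true := by decide +kernel

theorem c9 : cntW 7 (bj 9) a0B 1 0 = true := by decide +kernel

theorem c10 : cntW 7 (bj 10) a0B 0 0 = true := by decide +kernel

theorem c11 : cntW 7 (bj 11) a0B 0 0 = true := by decide +kernel

end Cfsg.Agent.MonsterX.LaneCountChk
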