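import Cfsg.Agent.MonsterX.LaneVec
import Cfsg.Agent.S0394

/-!
# The labels of the 98280 lanes are different; every minimal vector belongs to a lane
-/

set_option autoImplicit false
set_option linter.constructorNameAsVariable false

namespace Cfsg.Agent.MonsterX.LaneInj

open Cfsg Cfsg.Agent.Monster Cfsg.Agent.Monster.VecEngine Cfsg.Agent.Monster.PlaneArith Cfsg.Agent.Monster.LevelSets
open Cfsg.Agent.Monster.PauliBasic Cfsg.Agent.Monster.PauliClif Cfsg.Agent.Monster.PauliBits Cfsg.Agent.Monster.PauliPlanes
open Cfsg.Agent.MonsterX.Psi Cfsg.Agent.MonsterX.LaneLab Cfsg.Agent.MonsterX.LaneVec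

/-! ### Loops -/

/-- `p` holds below `n`. -/
noncomputable def allU (n : ℕ) (p : ℕ → Bool) : Bool :=
  Nat.rec (motive := fun _ => Bool) true (fun k ih => and (p k) ih) n

theorem allU_spec {n : ℕ} {p : ℕ → Bool} (h : allU n p = true) {k : ℕ} (hk : k < n) : p k = true := by
  induction n with
  | zero => omega
  | succ n ih =>
    have h' : and (p n) (allU n p) = true := h
    rw [Bool.and_eq_true] at h'
    rcases Nat.lt_succ_iff_lt_or_eq.mp hk with h1 | rfl
    · exact ih h'.2 h1
    · exact h'.1

/-- Evaluation of a number before it is used. -/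
noncomputable def forceN (n : ℕ) (k : ℕ → Bool) : Bool :=
  Nat.rec (motive := fun _ => Bool) (k 0) (fun m _ => k (Nat.succ m)) n

theorem forceN_eq (n : ℕ) (k : ℕ → Bool) : forceN n k = k n := by cases n <;> rfl

/-- The keys of the numbers below `n` with property `c` are different and not in `M`. -/
noncomputable def dist (c : ℕ → Bool) (key : ℕ → ℕ) (n : ℕ) : ℕ → Bool :=
  Nat.rec (motive := fun _ => ℕ → Bool) (fun _ => true)
    (fun k ih M => Bool.rec (ih M)
      (forceN (key k) fun x => and (Nat.beq (Nat.land (Nat.shiftRight M x) 1) 0)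
        (forceN (Nat.lor M (Nat.shiftLeft 1 x)) fun M' => ih M')) (c k)) n

theorem testBit_of_beq {M x : ℕ} (h : Nat.beq (Nat.land (Nat.shiftRight M x) 1) 0 = true) : M.testBit x = false := by
  have h1 : (M >>> x) &&& 1 = 0 := Nat.eq_of_beq_eq_true h
  unfold Nat.testBit
  rw [Nat.and_comm, h1]; rfl

theorem dist_spec {c : ℕ → Bool} {key : ℕ → ℕ} {n M : ℕ} (h : dist c key n M = true) :
    (∀ k < n, c k = true → M.testBit (key k) = false) ∧
      ∀ j < n, ∀ k < n, c j = true → c k = true → key j = key k → j = k := by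
  induction n generalizing M with
  | zero => exact ⟨fun k hk => absurd hk (by omega), fun j hj => absurd hj (by omega)⟩
  | succ n ih =>
    have h' : (Bool.rec (dist c key n M)
      (forceN (key n) fun x => and (Nat.beq (Nat.land (Nat.shiftRight M x) 1) 0)
        (forceN (Nat.lor M (Nat.shiftLeft 1 x)) fun M' => dist c key n M')) (c n) : Bool) = true := h
    cases hc : c n with
    | false =>
      rw [hc] at h'
      obtain ⟨h1, h2⟩ := ih h'
      refine ⟨fun k hk hck => ?_, fun j hj k hk hcj hck => ?_⟩
      · rcases Nat.lt_succ_iff_lt_or_eq.mp hk with h3 | rfl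
        · exact h1 k h3 hck
        · rw [hc] at hck; exact absurd hck (by simp)
      · rcases Nat.lt_succ_iff_lt_or_eq.mp hj with h3 | rfl
        · rcases Nat.lt_succ_iff_lt_or_eq.mp hk with h4 | rfl
          · exact h2 j h3 k h4 hcj hck
          · rw [hc] at hck; exact absurd hck (by simp)
        · rw [hc] at hcj; exact absurd hcj (by simp)
    | true =>
      rw [hc] at h'
      have h'' : (and (Nat.beq (Nat.land (Nat.shiftRight M (key n)) 1) 0)
        (dist c key n (Nat.lor M (Nat.shiftLeft 1 (key n))))) = true := by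
        simp only [forceN_eq] at h'
        exact h'
      rw [Bool.and_eq_true] at h''
      have hM := testBit_of_beq h''.1
      obtain ⟨h1, h2⟩ := ih h''.2
      have h3 : ∀ x, (Nat.lor M (Nat.shiftLeft 1 (key n))).testBit x = (M.testBit x || decide (key n = x)) := by
        intro x
        show (M ||| (1 <<< key n)).testBit x = _
        rw [Nat.testBit_or, Nat.one_shiftLeft, Nat.testBit_two_pow]
      refine ⟨fun k hk hck => ?_, fun j hj k hk hcj hck hjk => ?_⟩
      · rcases Nat.lt_succ_iff_lt_or_eq.mp hk with h4 | rfl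
        · have h5 := h1 k h4 hck
          rw [h3, Bool.or_eq_false_iff] at h5
          exact h5.1
        · exact hM
      · rcases Nat.lt_succ_iff_lt_or_eq.mp hj with h4 | rfl
        · rcases Nat.lt_succ_iff_lt_or_eq.mp hk with h5 | rfl
          · exact h2 j h4 k h5 hcj hck hjk
          · exfalso
            have h6 := h1 j h4 hcj
            rw [h3, hjk] at h6
            simp at h6
        · rcases Nat.lt_succ_iff_lt_or_eq.mp hk with h5 | rfl
          · exfalso
            have h6 := h1 k h5 hck
            rw [h3, hjk] at h6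
            simp at h6
          · rfl

/-! ### Lanes at small distance -/

/-- Lanes `i` in which some plane differs from its value in lane `i + s`. -/
noncomputable def dif (s : ℕ) (l : List ℕ) : ℕ :=
  List.rec (motive := fun _ => ℕ) 0 (fun p _ ih => Nat.lor (Nat.xor p (Nat.shiftRight p s)) ih) l

theorem testBit_dif {s : ℕ} {l : List ℕ} {i : ℕ} (h : (dif s l).testBit i = true) :
    ∃ p ∈ l, p.testBit i ≠ p.testBit (i + s) := by
  induction l with
  | nil =>
    have h' : (0 : ℕ).testBit i = true := h
    exact absurd h' (by simp)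
  | cons p l ih =>
    have h' : ((p ^^^ (p >>> s)) ||| dif s l).testBit i = true := h
    rw [Nat.testBit_or, Bool.or_eq_true, Nat.testBit_xor, Nat.testBit_shiftRight, Nat.add_comm s i] at h'
    rcases h' with h1 | h1
    · refine ⟨p, List.mem_cons_self, fun h2 => ?_⟩
      rw [h2] at h1
      simp at h1
    · obtain ⟨q, hq, h2⟩ := ih h1
      exact ⟨q, List.mem_cons_of_mem _ hq, h2⟩

/-- The 24 planes of `(a, b)`. -/
noncomputable def Pab : List ℕ :=
  [P0, P1, P2, P3, P4, P5, P6, P7, P8, P9, P10, P11, P12, P13, P14, P15, P16, P17, P18, P19, P20, P21, P22, P23]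

/-- Lanes at distance `s` are different. -/
noncomputable def shiftOK (s : ℕ) : Bool :=
  forceN (Nat.land XL (Nat.shiftRight XL s)) fun m => Nat.beq (Nat.land m (dif s Pab)) m

theorem shiftOK_spec {s : ℕ} (h : shiftOK s = true) {i : ℕ} (hi : XL.testBit i = true)
    (hi' : XL.testBit (i + s) = true) : ∃ p ∈ Pab, p.testBit i ≠ p.testBit (i + s) := by
  unfold shiftOK at h
  rw [forceN_eq] at h
  apply testBit_dif
  have h1 : ((XL &&& (XL >>> s)) &&& dif s Pab) = XL &&& (XL >>> s) := Nat.eq_of_beq_eq_true h
  have h2 := congrArg (fun x => x.testBit i) h1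
  simp only [Nat.testBit_and, Nat.testBit_shiftRight, Nat.add_comm s i, hi, hi', Bool.true_and] at h2
  exact h2

theorem sh0 : allU 8 (fun k => shiftOK (Nat.add k 1)) = true := by decide +kernel
theorem sh1 : allU 8 (fun k => shiftOK (Nat.add k 9)) = true := by decide +kernel
theorem sh2 : allU 8 (fun k => shiftOK (Nat.add k 17)) = true := by decide +kernel
theorem sh3 : allU 8 (fun k => shiftOK (Nat.add k 25)) = true := by decide +kernel
theorem sh4 : allU 8 (fun k => shiftOK (Nat.add k 33)) = true := by decide +kernel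
theorem sh5 : allU 8 (fun k => shiftOK (Nat.add k 41)) = true := by decide +kernel
theorem sh6 : allU 8 (fun k => shiftOK (Nat.add k 49)) = true := by decide +kernel
theorem sh7 : allU 7 (fun k => shiftOK (Nat.add k 57)) = true := by decide +kernel

theorem sh_all {s : ℕ} (h0 : 0 < s) (h1 : s < 64) : shiftOK s = true := by
  have key : ∀ {a n : ℕ}, allU n (fun k => shiftOK (Nat.add k a)) = true → a ≤ s → s < n + a → shiftOK s = true := by
    intro a n h h2 h3
    have h4 := allU_spec h (k := s - a) (by omega)
    have h5 : Nat.add (s - a) a = s := Nat.sub_add_cancel h2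
    rw [h5] at h4
    exact h4
  rcases lt_or_ge s 9 with h | h
  · exact key sh0 (by omega) (by omega)
  rcases lt_or_ge s 17 with h' | h'
  · exact key sh1 h (by omega)
  rcases lt_or_ge s 25 with h2 | h2
  · exact key sh2 h' (by omega)
  rcases lt_or_ge s 33 with h3 | h3
  · exact key sh3 h2 (by omega)
  rcases lt_or_ge s 41 with h4 | h4
  · exact key sh4 h3 (by omega)
  rcases lt_or_ge s 49 with h5 | h5
  · exact key sh5 h4 (by omega)
  rcases lt_or_ge s 57 with h6 | h6
  · exact key sh6 h5 (by omega)
  · exact key sh7 h6 (by omega)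

/-! ### Keys of blocks -/

/-- The block `i` of width `w`. -/
noncomputable def fld (w i p : ℕ) : ℕ := Nat.land (Nat.shiftRight p (Nat.mul w i)) (full w)

theorem testBit_fld {w i p r : ℕ} (hr : r < w) : (fld w i p).testBit r = p.testBit (w * i + r) := by
  show ((p >>> (w * i)) &&& full w).testBit r = _
  rw [Nat.testBit_and, Nat.testBit_shiftRight, testBit_full, decide_eq_true hr, Bool.and_true]

/-- All planes are constant on the lanes of the block. -/
noncomputable def okB (w i : ℕ) (l : List ℕ) : Bool :=
  List.rec (motive := fun _ => Bool) true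
    (fun p _ ih => and (or (Nat.beq (fld w i p) 0) (Nat.beq (fld w i p) (fld w i XL))) ih) l

/-- The key of a block. -/
noncomputable def keyB (w i : ℕ) (l : List ℕ) : ℕ :=
  List.rec (motive := fun _ => ℕ) 0
    (fun p _ ih => Nat.lor (Bool.rec 1 0 (Nat.beq (fld w i p) 0)) (Nat.shiftLeft ih 1)) l

theorem testBit_lor_shl (b : Bool) (x k : ℕ) :
    (Nat.lor (Bool.rec 1 0 b) (Nat.shiftLeft x 1)).testBit k =
      Nat.rec (motive := fun _ => Bool) (!b) (fun m _ => x.testBit m) k := by
  have h1 : (Nat.lor (Bool.rec 1 0 b) (Nat.shiftLeft x 1)) = ((Bool.rec 1 0 b : ℕ) ||| (x <<< 1)) := rfl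
  rw [h1, Nat.testBit_or, Nat.testBit_shiftLeft]
  cases k with
  | zero => cases b <;> simp
  | succ m =>
    have h2 : (Bool.rec 1 0 b : ℕ).testBit (m + 1) = false := by
      cases b
      · show Nat.testBit 1 (m + 1) = false
        rw [show (1 : ℕ) = 2 ^ 0 from rfl, Nat.testBit_two_pow]; simp
      · exact Nat.zero_testBit _
    rw [h2, Bool.false_or, Nat.add_sub_cancel, decide_eq_true (by omega), Bool.true_and]

theorem key_spec {w i : ℕ} {l : List ℕ} (h : okB w i l = true) {r : ℕ} (hr : r < w)
    (hX : XL.testBit (w * i + r) = true) (k : ℕ) :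
    (get l k).testBit (w * i + r) = (keyB w i l).testBit k := by
  induction l generalizing k with
  | nil =>
    show (0 : ℕ).testBit _ = (0 : ℕ).testBit _
    simp
  | cons p l ih =>
    have h' : (((Nat.beq (fld w i p) 0) || (Nat.beq (fld w i p) (fld w i XL))) && okB w i l) = true := h
    rw [Bool.and_eq_true, Bool.or_eq_true] at h'
    show _ = (Nat.lor (Bool.rec 1 0 (Nat.beq (fld w i p) 0)) (Nat.shiftLeft (keyB w i l) 1)).testBit k
    rw [testBit_lor_shl]
    cases k with
    | zero =>
      show p.testBit (w * i + r) = !(Nat.beq (fld w i p) 0)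
      rw [← testBit_fld hr]
      cases hb : Nat.beq (fld w i p) 0 with
      | true =>
        rw [Nat.eq_of_beq_eq_true hb]; simp
      | false =>
        rw [hb] at h'
        have h2 := Nat.eq_of_beq_eq_true (h'.1.resolve_left (by simp))
        rw [h2, testBit_fld hr, hX]; rfl
    | succ m => exact ih h'.2 m

/-- The planes `a_0, …, a_10`. -/
noncomputable def PA : List ℕ := [P12, P13, P14, P15, P16, P17, P18, P19, P20, P21, P22]

/-- The planes `b_0, …, b_11`. -/
noncomputable def PB : List ℕ := [P0, P1, P2, P3, P4, P5, P6, P7, P8, P9, P10, P11]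

theorem okT : allU 759 (fun i => okB 64 i PA) = true := by decide +kernel

theorem distT : dist (fun _ => true) (fun i => keyB 64 i PA) 759 0 = true := by decide +kernel

theorem okX0 : allU 512 (fun i => and (okB 32 (Nat.add 2048 i) PA) (Nat.beq (keyB 32 (Nat.add 2048 i) PA) i)) = true := by
  decide +kernel

theorem okX1 : allU 512 (fun i => and (okB 32 (Nat.add 2560 i) PA)
    (Nat.beq (keyB 32 (Nat.add 2560 i) PA) (Nat.add 512 i))) = true := by
  decide +kernel

theorem okX2 : allU 512 (fun i => and (okB 32 (Nat.add 3072 i) PA)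
    (Nat.beq (keyB 32 (Nat.add 3072 i) PA) (Nat.add 1024 i))) = true := by
  decide +kernel

theorem okX3 : allU 512 (fun i => and (okB 32 (Nat.add 3584 i) PA)
    (Nat.beq (keyB 32 (Nat.add 3584 i) PA) (Nat.add 1536 i))) = true := by
  decide +kernel

theorem okX {j : ℕ} (h0 : 2048 ≤ j) (h1 : j < 4096) : okB 32 j PA = true ∧ keyB 32 j PA = j - 2048 := by
  have key : ∀ {a b : ℕ}, allU 512 (fun i => and (okB 32 (Nat.add a i) PA)
      (Nat.beq (keyB 32 (Nat.add a i) PA) (Nat.add b i))) = true → a ≤ j → j < a + 512 → a = b + 2048 →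
      okB 32 j PA = true ∧ keyB 32 j PA = j - 2048 := by
    intro a b h h2 h3 h4
    have h5 := allU_spec h (k := j - a) (by omega)
    have h6 : Nat.add a (j - a) = j := Nat.add_sub_cancel' h2
    have h7 : Nat.add b (j - a) = j - 2048 := by show b + (j - a) = j - 2048; omega
    rw [Bool.and_eq_true, h6, h7] at h5
    exact ⟨h5.1, Nat.eq_of_beq_eq_true h5.2⟩
  have hz : allU 512 (fun i => and (okB 32 (Nat.add 2048 i) PA)
      (Nat.beq (keyB 32 (Nat.add 2048 i) PA) (Nat.add 0 i))) = true := by
    have h5 : ∀ i, Nat.add 0 i = i := Nat.zero_add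
    simp only [h5]
    exact okX0
  rcases lt_or_ge j 2560 with h | h
  · exact key hz h0 (by omega) (by norm_num)
  rcases lt_or_ge j 3072 with h' | h'
  · exact key okX1 h (by omega) (by norm_num)
  rcases lt_or_ge j 3584 with h2 | h2
  · exact key okX2 h' (by omega) (by norm_num)
  · exact key okX3 h2 (by omega) (by norm_num)

/-! ### The small block -/

/-- The number with the bits of lane `i`. -/
noncomputable def gat (l : List ℕ) (i : ℕ) : ℕ :=
  List.rec (motive := fun _ => ℕ) 0
    (fun p _ ih => Nat.lor (Bool.rec 1 0 (Nat.beq (Nat.land (Nat.shiftRight p i) 1) 0)) (Nat.shiftLeft ih 1)) l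

theorem beq_bit0 (p i : ℕ) : (!(Nat.beq (Nat.land (Nat.shiftRight p i) 1) 0)) = p.testBit i := by
  cases h : p.testBit i with
  | false =>
    have h1 : (p >>> i) &&& 1 = 0 := by
      unfold Nat.testBit at h
      rw [Nat.and_comm] at h
      simpa using h
    have h2 : Nat.beq (Nat.land (Nat.shiftRight p i) 1) 0 = true := by
      show Nat.beq ((p >>> i) &&& 1) 0 = true
      rw [h1]; rfl
    rw [h2]; rfl
  | true =>
    cases h2 : Nat.beq (Nat.land (Nat.shiftRight p i) 1) 0 with
    | false => rfl
    | true =>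
      rw [testBit_of_beq h2] at h
      exact absurd h (by simp)

theorem testBit_gat (l : List ℕ) (i k : ℕ) : (gat l i).testBit k = (get l k).testBit i := by
  induction l generalizing k with
  | nil => show (0 : ℕ).testBit k = (0 : ℕ).testBit i; simp
  | cons p l ih =>
    show (Nat.lor (Bool.rec 1 0 (Nat.beq (Nat.land (Nat.shiftRight p i) 1) 0)) (Nat.shiftLeft (gat l i) 1)).testBit k = _
    rw [testBit_lor_shl]
    cases k with
    | zero => exact beq_bit0 p i
    | succ m => exact ih m

theorem distBC : dist (fun i => not (Nat.beq (Nat.land (Nat.shiftRight XL (Nat.add 62464 i)) 1) 0))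
    (fun i => gat PB (Nat.add 62464 i)) 1024 0 = true := by decide +kernel

/-! ### The regions -/

theorem gap_aux {A n m : ℕ} (h : Nat.beq (Nat.land (Nat.shiftRight A n) (full m)) 0 = true) {i : ℕ} (h1 : n ≤ i)
    (h2 : i < n + m) : A.testBit i = false := by
  have h3 : ((A >>> n) &&& full m).testBit (i - n) = false := of_mask_zero h (i - n)
  rw [Nat.testBit_and, Nat.testBit_shiftRight, testBit_full, Nat.add_sub_cancel' h1,
    decide_eq_true (by omega), Bool.and_true] at h3
  exact h3

theorem gap1 : Nat.beq (Nat.land (Nat.shiftRight XL 48576) (full 13888)) 0 = true := by decide +kernel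

theorem gap2 : Nat.beq (Nat.land (Nat.shiftRight XL 63488) (full 2048)) 0 = true := by decide +kernel

/-- Lanes with `a_k = 1` for some `k < 11`. -/
noncomputable def AO : ℕ := List.rec (motive := fun _ => ℕ) 0 (fun p _ ih => Nat.lor p ih) PA

theorem testBit_or_list (l : List ℕ) (i : ℕ) :
    (List.rec (motive := fun _ => ℕ) 0 (fun p _ ih => Nat.lor p ih) l : ℕ).testBit i = true ↔
      ∃ p ∈ l, p.testBit i = true := by
  induction l with
  | nil => show (0 : ℕ).testBit i = true ↔ _; simp
  | cons p l ih =>
    show (p ||| (List.rec (motive := fun _ => ℕ) 0 (fun p _ ih => Nat.lor p ih) l : ℕ)).testBit i = true ↔ _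
    rw [Nat.testBit_or, Bool.or_eq_true, ih]
    simp

theorem aoT : Nat.beq (Nat.land (full 48576) AO) (full 48576) = true := by decide +kernel

theorem aoBC : Nat.beq (Nat.land (Nat.shiftRight AO 62464) (full 1024)) 0 = true := by decide +kernel

theorem abX : Nat.beq (Nat.land XL P23) (Nat.shiftLeft (Nat.shiftRight XL 65536) 65536) = true := by decide +kernel

theorem testBit_P23 {l : ℕ} (hl : XL.testBit l = true) : P23.testBit l = decide (65536 ≤ l) := by
  have h1 : (XL &&& P23) = (XL >>> 65536) <<< 65536 := Nat.eq_of_beq_eq_true abX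
  have h2 := congrArg (fun x => x.testBit l) h1
  simp only [Nat.testBit_and, hl, Bool.true_and, Nat.testBit_shiftLeft, Nat.testBit_shiftRight] at h2
  rw [h2]
  by_cases h : 65536 ≤ l
  · rw [decide_eq_true h, Bool.true_and, Nat.add_sub_cancel' h, hl]
  · rw [decide_eq_false h, Bool.false_and]

theorem full_aux {A n : ℕ} (h : Nat.beq (Nat.land (full n) A) (full n) = true) {i : ℕ} (hi : i < n) :
    A.testBit i = true := by
  have h1 : (full n &&& A) = full n := Nat.eq_of_beq_eq_true h
  have h2 := congrArg (fun x => x.testBit i) h1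
  simp only [Nat.testBit_and, testBit_full, decide_eq_true hi, Bool.true_and] at h2
  exact h2

theorem AO_T {l : ℕ} (h : l < 48576) : AO.testBit l = true := full_aux aoT h

theorem AO_BC {l : ℕ} (h : 62464 ≤ l) (h' : l < 63488) : AO.testBit l = false := gap_aux aoBC h (by omega)

/-! ### Injectivity -/

/-- Lanes with equal planes. -/
def Same (l l' : ℕ) : Prop := ∀ p ∈ Pab, p.testBit l = p.testBit l'

theorem Same.symm {l l' : ℕ} (h : Same l l') : Same l' l := fun p hp => (h p hp).symm

theorem near {l l' : ℕ} (hl : XL.testBit l = true) (hl' : XL.testBit l' = true) (h : Same l l') (hlt : l < l')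
    (h64 : l' < l + 64) : False := by
  obtain ⟨s, rfl⟩ := Nat.exists_eq_add_of_lt hlt
  obtain ⟨p, hp, hne⟩ := shiftOK_spec (sh_all (s := s + 1) (by omega) (by omega)) hl hl'
  exact hne (h p hp)

theorem near' {l l' : ℕ} (hl : XL.testBit l = true) (hl' : XL.testBit l' = true) (h : Same l l')
    (h1 : l' < l + 64) (h2 : l < l' + 64) : l = l' := by
  rcases lt_trichotomy l l' with h3 | h3 | h3
  · exact (near hl hl' h h3 h1).elim
  · exact h3
  · exact (near hl' hl h.symm h3 h2).elim

theorem mem_PA {p : ℕ} (h : p ∈ PA) : p ∈ Pab := by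
  unfold PA at h
  unfold Pab
  simp only [List.mem_cons, List.not_mem_nil, or_false] at h ⊢
  tauto

theorem mem_PB {p : ℕ} (h : p ∈ PB) : p ∈ Pab := by
  unfold PB at h
  unfold Pab
  simp only [List.mem_cons, List.not_mem_nil, or_false] at h ⊢
  tauto

theorem same_get {L : List ℕ} (hL : ∀ p ∈ L, p ∈ Pab) {l l' : ℕ} (h : Same l l') (k : ℕ) :
    (get L k).testBit l = (get L k).testBit l' := by
  have key : ∀ (L : List ℕ) (k : ℕ), get L k ∈ L ∨ get L k = 0 := by
    intro L
    induction L with
    | nil => intro k; right; rfl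
    | cons a L ih =>
      intro k
      cases k with
      | zero => left; exact List.mem_cons_self
      | succ k =>
        rcases ih k with h1 | h1
        · left; exact List.mem_cons_of_mem _ h1
        · right; exact h1
  rcases key L k with h1 | h1
  · exact h _ (hL _ h1)
  · rw [h1]; simp

theorem region {l : ℕ} (hl : XL.testBit l = true) : l < 48576 ∨ (62464 ≤ l ∧ l < 63488) ∨ 65536 ≤ l := by
  by_contra hc
  push Not at hc
  obtain ⟨h1, h2, h3⟩ := hc
  rcases lt_or_ge l 62464 with h4 | h4
  · have h5 := gap_aux gap1 h1 (by omega)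
    rw [hl] at h5; exact absurd h5 (by simp)
  · have h5 := gap_aux gap2 (h2 h4) (by omega)
    rw [hl] at h5; exact absurd h5 (by simp)

/-- **Lanes with equal classes are equal.** -/
theorem same_inj {l l' : ℕ} (hl : XL.testBit l = true) (hl' : XL.testBit l' = true) (h : Same l l') : l = l' := by
  have hmem23 : P23 ∈ Pab := by unfold Pab; simp
  have h23 : decide (65536 ≤ l) = decide (65536 ≤ l') := by
    rw [← testBit_P23 hl, ← testBit_P23 hl']; exact h _ hmem23
  have hAO : AO.testBit l = AO.testBit l' := by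
    rw [Bool.eq_iff_iff]
    unfold AO
    rw [testBit_or_list, testBit_or_list]
    constructor
    · rintro ⟨p, hp, h1⟩; exact ⟨p, hp, by rw [← h p (mem_PA hp)]; exact h1⟩
    · rintro ⟨p, hp, h1⟩; exact ⟨p, hp, by rw [h p (mem_PA hp)]; exact h1⟩
  rcases region hl with hT | hB | hX
  · -- the first region
    have hl'1 : l' < 48576 := by
      rcases region hl' with h1 | h1 | h1
      · exact h1
      · rw [AO_T hT, AO_BC h1.1 h1.2] at hAO; exact absurd hAO (by simp)
      · rw [decide_eq_false (by omega), decide_eq_true h1] at h23; exact absurd h23 (by simp)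
    have e1 : 64 * (l / 64) + l % 64 = l := Nat.div_add_mod l 64
    have e2 : 64 * (l' / 64) + l' % 64 = l' := Nat.div_add_mod l' 64
    have k1 := key_spec (allU_spec okT (k := l / 64) (by omega)) (Nat.mod_lt l (by norm_num : 64 > 0)) (by rw [e1]; exact hl)
    have k2 := key_spec (allU_spec okT (k := l' / 64) (by omega)) (Nat.mod_lt l' (by norm_num : 64 > 0)) (by rw [e2]; exact hl')
    rw [e1] at k1
    rw [e2] at k2
    have hk : keyB 64 (l / 64) PA = keyB 64 (l' / 64) PA := by
      apply Nat.eq_of_testBit_eq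
      intro k
      rw [← k1, ← k2]
      exact same_get (fun p hp => mem_PA hp) h k
    have hd := (dist_spec distT).2 (l / 64) (by omega) (l' / 64) (by omega) rfl rfl hk
    exact near' hl hl' h (by omega) (by omega)
  · -- the small block
    have hl'1 : 62464 ≤ l' ∧ l' < 63488 := by
      rcases region hl' with h1 | h1 | h1
      · rw [AO_T h1, AO_BC hB.1 hB.2] at hAO; exact absurd hAO (by simp)
      · exact h1
      · rw [decide_eq_false (by omega), decide_eq_true h1] at h23; exact absurd h23 (by simp)
    have e1 : Nat.add 62464 (l - 62464) = l := Nat.add_sub_cancel' hB.1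
    have e2 : Nat.add 62464 (l' - 62464) = l' := Nat.add_sub_cancel' hl'1.1
    have hd := (dist_spec distBC).2 (l - 62464) (by omega) (l' - 62464) (by omega)
      (by rw [beq_bit0, e1]; exact hl) (by rw [beq_bit0, e2]; exact hl') (by
        show gat PB (Nat.add 62464 (l - 62464)) = gat PB (Nat.add 62464 (l' - 62464))
        rw [e1, e2]
        apply Nat.eq_of_testBit_eq
        intro k
        rw [testBit_gat, testBit_gat]
        exact same_get (fun p hp => mem_PB hp) h k)
    omega
  · -- the last region
    have hl'1 : 65536 ≤ l' := by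
      rw [decide_eq_true hX] at h23
      exact of_decide_eq_true h23.symm
    have hlt := lt_of_XL hl
    have hlt' := lt_of_XL hl'
    have e1 : 32 * (l / 32) + l % 32 = l := Nat.div_add_mod l 32
    have e2 : 32 * (l' / 32) + l' % 32 = l' := Nat.div_add_mod l' 32
    obtain ⟨o1, q1⟩ := okX (j := l / 32) (by omega) (by omega)
    obtain ⟨o2, q2⟩ := okX (j := l' / 32) (by omega) (by omega)
    have k1 := key_spec o1 (Nat.mod_lt l (by norm_num : 32 > 0)) (by rw [e1]; exact hl)
    have k2 := key_spec o2 (Nat.mod_lt l' (by norm_num : 32 > 0)) (by rw [e2]; exact hl')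
    rw [e1] at k1
    rw [e2] at k2
    have hk : keyB 32 (l / 32) PA = keyB 32 (l' / 32) PA := by
      apply Nat.eq_of_testBit_eq
      intro k
      rw [← k1, ← k2]
      exact same_get (fun p hp => mem_PA hp) h k
    rw [q1, q2] at hk
    exact near' hl hl' h (by omega) (by omega)

theorem same_of_ab {l l' : ℕ} (h : ab (lab l) = ab (lab l')) : Same l l' := by
  have ha : ∀ k : Fin 12, bit (get P (12 + k.1)) l = bit (get P (12 + k.1)) l' := fun k =>
    congrFun (congrArg Prod.fst h) k
  have hb : ∀ k : Fin 12, bit (get P k.1) l = bit (get P k.1) l' := fun k => congrFun (congrArg Prod.snd h) k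
  have hbit : ∀ p, bit p l = bit p l' → p.testBit l = p.testBit l' := by
    intro p hp
    rw [Bool.eq_iff_iff, ← bit_eq_one_iff, ← bit_eq_one_iff, hp]
  intro p hp
  apply hbit
  unfold Pab at hp
  simp only [List.mem_cons, List.not_mem_nil, or_false] at hp
  rcases hp with rfl | rfl | rfl | rfl | rfl | rfl | rfl | rfl | rfl | rfl | rfl | rfl | rfl | rfl | rfl | rfl | rfl |
    rfl | rfl | rfl | rfl | rfl | rfl | rfl
  · exact hb 0
  · exact hb 1
  · exact hb 2
  · exact hb 3
  · exact hb 4
  · exact hb 5
  · exact hb 6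
  · exact hb 7
  · exact hb 8
  · exact hb 9
  · exact hb 10
  · exact hb 11
  · exact ha 0
  · exact ha 1
  · exact ha 2
  · exact ha 3
  · exact ha 4
  · exact ha 5
  · exact ha 6
  · exact ha 7
  · exact ha 8
  · exact ha 9
  · exact ha 10
  · exact ha 11

/-- **Lanes with equal classes are equal.** -/
theorem lab_inj {l l' : ℕ} (hl : XL.testBit l = true) (hl' : XL.testBit l' = true) (h : ab (lab l) = ab (lab l')) :
    l = l' := same_inj hl hl' (same_of_ab h)

/-! ### All minimal vectors -/

/-- **Every minimal vector belongs to a lane up to sign.** -/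
theorem exists_lane (v : leechLattice) (hv : sqNorm (v : GolayPt → ℤ) = 32) :
    ∃ l, XL.testBit l = true ∧ (v = lv l ∨ v = -lv l) := by
  classical
  set A : Finset ℕ := (Finset.range (2 ^ 17)).filter (fun i => XL.testBit i = true) with hA
  have hAc : A.card = 98280 := card_XL
  have hAm : ∀ l ∈ A, XL.testBit l = true := fun l hl => (Finset.mem_filter.mp hl).2
  let f : ℕ × Bool → (GolayPt → ℤ) := fun q => if q.2 then (lv q.1 : GolayPt → ℤ) else ((-lv q.1 : leechLattice) : GolayPt → ℤ)
  have hpsi : ∀ q : ℕ × Bool, ∀ w : leechLattice, f q = (w : GolayPt → ℤ) → psi w = psi (lv q.1) := by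
    intro q w hw
    by_cases h : q.2 = true
    · have h1 : w = lv q.1 := Subtype.ext (by rw [← hw]; simp [f, h])
      rw [h1]
    · have h1 : w = -lv q.1 := Subtype.ext (by rw [← hw]; simp [f, h])
      rw [h1, Short.psi_neg]
  have hinj : Set.InjOn f ((A ×ˢ (Finset.univ : Finset Bool) : Finset (ℕ × Bool)) : Set (ℕ × Bool)) := by
    intro q hq q' hq' he
    rw [Finset.mem_coe, Finset.mem_product] at hq hq'
    have hl := hAm _ hq.1
    have hl' := hAm _ hq'.1
    have h1 : q.1 = q'.1 := by
      apply lab_inj hl hl'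
      rw [← psi_lv hl, ← psi_lv hl']
      by_cases h : q'.2 = true
      · have h2 : f q = ((lv q'.1 : leechLattice) : GolayPt → ℤ) := by rw [he]; simp [f, h]
        exact (hpsi q _ h2).symm
      · have h2 : f q = ((-lv q'.1 : leechLattice) : GolayPt → ℤ) := by rw [he]; simp [f, h]
        rw [← hpsi q _ h2, Short.psi_neg]
    have hne : lv q.1 ≠ -lv q.1 := by
      intro h2
      have h3 := sqNorm_lv hl
      have h4 : ∀ p, (lv q.1 : GolayPt → ℤ) p = 0 := by
        intro p
        have h5 := congrArg (fun w : leechLattice => (w : GolayPt → ℤ) p) h2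
        simp only [AddSubgroup.coe_neg, Pi.neg_apply] at h5
        omega
      unfold sqNorm at h3
      simp [h4] at h3
    apply Prod.ext h1
    cases hq2 : q.2 <;> cases hq'2 : q'.2
    · rfl
    · exfalso
      simp only [f, hq2, hq'2, ← h1, if_true] at he
      exact hne (Subtype.ext he.symm)
    · exfalso
      simp only [f, hq2, hq'2, ← h1, if_true] at he
      exact hne (Subtype.ext he)
    · rfl
  have hsub : f '' ((A ×ˢ (Finset.univ : Finset Bool) : Finset (ℕ × Bool)) : Set (ℕ × Bool)) ⊆
      {x : GolayPt → ℤ | x ∈ leechLattice ∧ sqNorm x = 32} := by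
    rintro _ ⟨q, hq, rfl⟩
    rw [Finset.mem_coe, Finset.mem_product] at hq
    have hl := hAm _ hq.1
    by_cases h : q.2 = true
    · have h2 : f q = ((lv q.1 : leechLattice) : GolayPt → ℤ) := by simp [f, h]
      rw [h2]
      exact ⟨(lv q.1).2, sqNorm_lv hl⟩
    · have h2 : f q = ((-lv q.1 : leechLattice) : GolayPt → ℤ) := by simp [f, h]
      rw [h2]
      refine ⟨(-lv q.1).2, ?_⟩
      rw [AddSubgroup.coe_neg, Cfsg.Agent.Leech.Basic.sqNorm_neg]
      exact sqNorm_lv hl
  have hcard : (f '' ((A ×ˢ (Finset.univ : Finset Bool) : Finset (ℕ × Bool)) : Set (ℕ × Bool))).ncard = 196560 := by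
    rw [hinj.ncard_image, Set.ncard_coe_finset, Finset.card_product, hAc]
    rfl
  have hfin : {x : GolayPt → ℤ | x ∈ leechLattice ∧ sqNorm x = 32}.Finite :=
    Set.finite_of_ncard_ne_zero (by rw [Cfsg.Agent.S0394.result]; norm_num)
  have heq := Set.eq_of_subset_of_ncard_le hsub (by rw [hcard, Cfsg.Agent.S0394.result]) hfin
  have hv2 : (v : GolayPt → ℤ) ∈ {x : GolayPt → ℤ | x ∈ leechLattice ∧ sqNorm x = 32} := ⟨v.2, hv⟩
  rw [← heq] at hv2
  obtain ⟨q, hq, hfq⟩ := hv2
  rw [Finset.mem_coe, Finset.mem_product] at hq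
  refine ⟨q.1, hAm _ hq.1, ?_⟩
  by_cases h : q.2 = true
  · left; exact Subtype.ext (by rw [← hfq]; simp [f, h])
  · right; exact Subtype.ext (by rw [← hfq]; simp [f, h])

/-- Labels of lanes are short. -/
theorem lab_mem {l : ℕ} (hl : XL.testBit l = true) : lab l ∈ Short.Sh := ⟨lv l, sqNorm_lv hl, psi_lv hl⟩

/-- **Every short element has the class of a lane.** -/
theorem exists_lab {x : Pauli 12} (hx : x ∈ Short.Sh) : ∃ l, XL.testBit l = true ∧ ab x = ab (lab l) := by
  obtain ⟨v, hv, hp⟩ := hx
  obtain ⟨l, hl, h1⟩ := exists_lane v hv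
  refine ⟨l, hl, ?_⟩
  rw [← hp, ← psi_lv hl]
  rcases h1 with rfl | rfl
  · rfl
  · exact Short.psi_neg _

/-- The lane of a short element and its vector. -/
theorem lam_lab {l : ℕ} (hl : XL.testBit l = true) : Short.lam (lab l) = lv l ∨ Short.lam (lab l) = -lv l := by
  apply eq_or_neg (Short.lam_norm _ (lab_mem hl)) (sqNorm_lv hl)
  rw [Short.psi_lam _ (lab_mem hl), psi_lv hl]

end Cfsg.Agent.MonsterX.LaneInj
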