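import Cfsg.Agent.MonsterX.LaneEq
import Cfsg.Agent.MonsterX.USide
import Cfsg.Agent.MonsterX.InstEval

/-!
# The inner products of a vector with all `196560` axes of the base orbit

`rowsQ`: the quadratic form `λᵀ M λ` in all lanes at once; `F_sv`: the inner product of a vector with the axis
`sv X l b = u (lv l) ± 2 X (lab l)` of a lane; `ncard_zero`: the number of elements of the base orbit orthogonal to
`W w (vecV x)` from a kernel check.
-/

set_option autoImplicit false
set_option maxRecDepth 100000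

namespace Cfsg.Agent.MonsterX.LaneQuad

open Cfsg Cfsg.Agent.Monster Cfsg.Agent.Monster.VecEngine Cfsg.Agent.Monster.VecSpace
open Cfsg.Agent.Monster.PlaneArith Cfsg.Agent.Monster.LevelSets
open Cfsg.Agent.Monster.PauliBasic Cfsg.Agent.Monster.PauliClif Cfsg.Agent.Monster.PauliBits Cfsg.Agent.Monster.PauliPlanes
open Cfsg.Agent.MonsterX.LaneLab Cfsg.Agent.MonsterX.LaneVec Cfsg.Agent.MonsterX.LaneInj
open Cfsg.Agent.MonsterX.ProgBase Cfsg.Agent.MonsterX.ProgTable Cfsg.Agent.MonsterX.Space Cfsg.Agent.MonsterX.Conc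
open Cfsg.Agent.MonsterX.MatAct (ln)
open Cfsg.Agent.MonsterX.USide (uq u lane F_uq sum_range_pt lane_inj)
open Cfsg.Agent.MonsterX.InstData Cfsg.Agent.MonsterX.InstEval
open Cfsg.Agent.SporadicA.M24Gens (pidx)

/-! ### The quadratic form -/

/-- The row `i`: diagonal entry and the entries `k < j` of the matrix. -/
noncomputable def rowL (i : ℕ) (j : ℕ) : List (ℕ × Pl) :=
  Nat.rec (motive := fun _ => List (ℕ × Pl)) [(ln i i, L i)] (fun k ih => (ln i k, .cons 0 (L k)) :: ih) j

/-- The rows. -/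
noncomputable def rowsQ (n : ℕ) : List (Pl × List (ℕ × Pl)) :=
  Nat.rec (motive := fun _ => List (Pl × List (ℕ × Pl))) [] (fun i ih => (L i, rowL i i) :: ih) n

theorem linVal_rowL (i j : ℕ) (y : Pl) (l : ℕ) : linVal (rowL i j) y l =
    val y (ln i i) * val (L i) l + ∑ k ∈ Finset.range j, val y (ln i k) * (2 * val (L k) l) := by
  induction j with
  | zero =>
    show linVal [(ln i i, L i)] y l = _
    rw [linVal_cons, linVal_nil, Finset.sum_range_zero]
  | succ j ih =>
    show linVal ((ln i j, .cons 0 (L j)) :: rowL i j) y l = _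
    rw [linVal_cons, ih, Finset.sum_range_succ, val_cons, bt_zero]
    ring

theorem quadVal_rowsQ (n : ℕ) (y : Pl) (l : ℕ) (hs : ∀ a < n, ∀ b < n, val y (ln a b) = val y (ln b a)) :
    quadVal (rowsQ n) y l =
      ∑ a ∈ Finset.range n, ∑ b ∈ Finset.range n, val (L a) l * val (L b) l * val y (ln a b) := by
  induction n with
  | zero => rfl
  | succ n ih =>
    show quadVal ((L n, rowL n n) :: rowsQ n) y l = _
    rw [quadVal_cons, ih (fun a ha b hb => hs a (by omega) b (by omega)), linVal_rowL]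
    rw [Finset.sum_range_succ (fun a => ∑ b ∈ Finset.range (n + 1), val (L a) l * val (L b) l * val y (ln a b))]
    simp only [Finset.sum_range_succ (fun b => val (L _) l * val (L b) l * val y (ln _ b))]
    rw [Finset.sum_add_distrib]
    have h1 : ∑ a ∈ Finset.range n, val (L a) l * val (L n) l * val y (ln a n) =
        ∑ b ∈ Finset.range n, val (L n) l * val (L b) l * val y (ln n b) := by
      apply Finset.sum_congr rfl
      intro a ha
      rw [hs a (by have := Finset.mem_range.mp ha; omega) n (by omega)]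
      ring
    rw [h1]
    have h2 : val (L n) l * ∑ k ∈ Finset.range n, val y (ln n k) * (2 * val (L k) l) =
        2 * ∑ b ∈ Finset.range n, val (L n) l * val (L b) l * val y (ln n b) := by
      rw [Finset.mul_sum, Finset.mul_sum]
      apply Finset.sum_congr rfl
      intro b _
      ring
    rw [mul_add, h2]
    ring

/-! ### Lanes and points -/

theorem pos_eq : ∀ p : GolayPt, Cfsg.Agent.LeechMat.Code.pos p = pidx p := by
  intro p
  cases p <;> rfl

theorem lv_apply {l : ℕ} (hl : XL.testBit l = true) (p : GolayPt) : (lv l : GolayPt → ℤ) p = val (L (pidx p)) l := by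
  rw [lv_coe hl, lvec_apply, pos_eq]

/-- The matrix part of a vector of `V` is symmetric. -/
theorem lane_symm (v : V) (p q : GolayPt) : v.1 (lane p q) = v.1 (lane q p) := by
  have h1 := USide.dotU_uv p q v.1
  have h2 := USide.dotU_uv q p v.1
  rw [← h1, ← h2, ← USide.tr_uv p q]
  have h3 : semU ℚ U trP v.1 = v.1 := mem_Vs.1 v.2
  conv_rhs => rw [← h3]
  exact (dotU_semU ℚ two_ne_zero trP_good _ _).symm

theorem XL_U_chk : Nat.beq (Nat.land XL U) XL = true := by decide +kernel

theorem U_of_XL {l : ℕ} (hl : XL.testBit l = true) : U.testBit l = true := by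
  have h1 : (XL &&& U) = XL := Nat.eq_of_beq_eq_true XL_U_chk
  have h2 := congrArg (fun x => x.testBit l) h1
  simp only [Nat.testBit_and, hl, Bool.true_and] at h2
  exact h2

theorem XL_mat_chk : Nat.beq (Nat.land XL matM) 0 = true := by decide +kernel

theorem not_mat {l : ℕ} (hl : XL.testBit l = true) : ¬ matM.testBit l = true := by
  have h1 : (XL &&& matM).testBit l = false := of_mask_zero XL_mat_chk l
  rw [Nat.testBit_and, hl, Bool.true_and] at h1
  rw [h1]; simp

/-- The lane as a coordinate. -/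
noncomputable def lc (l : ℕ) (hl : XL.testBit l = true) : Lane U := ⟨l, U_of_XL hl⟩

/-- The inner product with `u (lv l)`. -/
theorem F_u_lane {l : ℕ} (hl : XL.testBit l = true) {v : V} {y : Pl} {c : ℚ}
    (hy : ∀ i : Lane U, c * (v : Lane U → ℚ) i = ((val y i.1 : ℤ) : ℚ)) :
    c * F (u (lv l)) v = ((quadVal (rowsQ 24) y l : ℤ) : ℚ) / 16 := by
  have hsym : ∀ a < 24, ∀ b < 24, val y (ln a b) = val y (ln b a) := by
    intro a ha b hb
    have h1 : Cfsg.Agent.SporadicA.M24Gens.pidx (Cfsg.Agent.SporadicA.GolayBase.pt a) = a :=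
      Cfsg.Agent.SporadicA.GolayBase.idx_pt ha
    have h2 : Cfsg.Agent.SporadicA.M24Gens.pidx (Cfsg.Agent.SporadicA.GolayBase.pt b) = b :=
      Cfsg.Agent.SporadicA.GolayBase.idx_pt hb
    have h3 := hy (lane (Cfsg.Agent.SporadicA.GolayBase.pt a) (Cfsg.Agent.SporadicA.GolayBase.pt b))
    have h4 := hy (lane (Cfsg.Agent.SporadicA.GolayBase.pt b) (Cfsg.Agent.SporadicA.GolayBase.pt a))
    rw [lane_symm, h4] at h3
    have h5 : (lane (Cfsg.Agent.SporadicA.GolayBase.pt a) (Cfsg.Agent.SporadicA.GolayBase.pt b)).1 = ln a b := by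
      show ln (pidx _) (pidx _) = _
      rw [h1, h2]
    have h6 : (lane (Cfsg.Agent.SporadicA.GolayBase.pt b) (Cfsg.Agent.SporadicA.GolayBase.pt a)).1 = ln b a := by
      show ln (pidx _) (pidx _) = _
      rw [h1, h2]
    rw [h5, h6] at h3
    exact_mod_cast h3.symm
  rw [quadVal_rowsQ 24 y l hsym]
  show c * F (uq _) v = _
  rw [F_uq, Finset.mul_sum]
  push_cast
  rw [sum_range_pt, Finset.sum_div]
  apply Finset.sum_congr rfl
  intro p _
  rw [sum_range_pt, Finset.mul_sum, Finset.sum_div]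
  apply Finset.sum_congr rfl
  intro q _
  have h1 := hy (lane p q)
  have h2 : ((val y (ln (pidx p) (pidx q)) : ℤ) : ℚ) = c * (v : Lane U → ℚ) (lane p q) := h1.symm
  rw [h2]
  have h3 : Cfsg.Agent.MonsterX.CoGens.rt (lv l) p = ((val (L (pidx p)) l : ℤ) : ℚ) := by
    show (((lv l : GolayPt → ℤ) p : ℤ) : ℚ) = _
    rw [lv_apply hl]
  have h4 : Cfsg.Agent.MonsterX.CoGens.rt (lv l) q = ((val (L (pidx q)) l : ℤ) : ℚ) := by
    show (((lv l : GolayPt → ℤ) q : ℤ) : ℚ) = _
    rw [lv_apply hl]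
  rw [h3, h4]
  ring

/-! ### The vectors `X` -/

/-- `X x` has the coordinates `KX.Xf x`. -/
def XHyp (X : Pauli 12 → V) : Prop := ∀ x : Pauli 12, ∀ i : Lane U, (X x : Lane U → ℚ) i = KX.Xf x i.1

theorem Xf_lab {l : ℕ} (hl : XL.testBit l = true) (i : ℕ) : KX.Xf (lab l) i = if i = l then 1 else 0 := by
  unfold KX.Xf
  rw [LaneEq.SL_eq]
  by_cases hi : XL.testBit i = true
  · rw [if_pos hi]
    unfold KX.chi
    by_cases hil : i = l
    · subst hil
      rw [if_pos (LaneEq.labP_eq i), if_pos rfl]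
    · rw [if_neg hil, if_neg, if_neg]
      · intro h
        apply hil
        apply lab_inj hi hl
        rw [← LaneEq.labP_eq i, h, Short.ab_z_mul]
      · intro h
        apply hil
        apply lab_inj hi hl
        rw [← LaneEq.labP_eq i, h]
  · rw [if_neg hi]
    have : i ≠ l := by
      rintro rfl
      exact hi hl
    rw [if_neg this]

theorem F_X {X : Pauli 12 → V} (hX : XHyp X) {l : ℕ} (hl : XL.testBit l = true) (v : V) :
    F (X (lab l)) v = (v : Lane U → ℚ) (lc l hl) := by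
  have h0 : ∀ i : Lane U, (X (lab l) : Lane U → ℚ) i = if i.1 = l then 1 else 0 := fun i => by
    rw [hX, Xf_lab hl]
  rw [F_sum, Finset.sum_eq_single (lc l hl)]
  · have h1 : (lc l hl).1 = l := rfl
    have h2 := h0 (lc l hl)
    rw [if_pos h1] at h2
    rw [h2, one_mul]
  · intro i _ hi
    have h1 : ¬ i.1 = l := fun h => hi (Subtype.ext h)
    have h2 := h0 i
    rw [if_neg h1] at h2
    rw [h2, zero_mul]
  · intro h; exact absurd (Finset.mem_univ _) h

/-- `2` or `-2`. -/
noncomputable def e2 (b : Bool) : ℤ := Bool.rec (-2) 2 b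

theorem e2_true : e2 true = 2 := rfl

theorem e2_false : e2 false = -2 := rfl

/-- The axes of a lane. -/
noncomputable def sv (X : Pauli 12 → V) (l : ℕ) (b : Bool) : V := u (lv l) + (e2 b : ℚ) • X (lab l)

/-- `16 * 2 ^ n` times the inner product. -/
noncomputable def qv (y : Pl) (l : ℕ) (b : Bool) : ℤ := quadVal (rowsQ 24) y l + 16 * e2 b * val y l

theorem F_sv {X : Pauli 12 → V} (hX : XHyp X) {l : ℕ} (hl : XL.testBit l = true) {v : V} {y : Pl} {c : ℚ}
    (hy : ∀ i : Lane U, c * (v : Lane U → ℚ) i = ((val y i.1 : ℤ) : ℚ)) (b : Bool) :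
    c * F (sv X l b) v = ((qv y l b : ℤ) : ℚ) / 16 := by
  unfold sv
  have h1 : F (u (lv l) + (e2 b : ℚ) • X (lab l)) v = F (u (lv l)) v + (e2 b : ℚ) * F (X (lab l)) v := by
    rw [F_symm, map_add, map_smul, F_symm v, F_symm v, smul_eq_mul]
  rw [h1, F_X hX hl, mul_add, F_u_lane hl hy]
  have h2 : c * ((e2 b : ℚ) * (v : Lane U → ℚ) (lc l hl)) = (e2 b : ℚ) * ((val y l : ℤ) : ℚ) := by
    have h3 := hy (lc l hl)
    have h4 : ((val y (lc l hl).1 : ℤ) : ℚ) = ((val y l : ℤ) : ℚ) := rfl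
    rw [h4] at h3
    rw [← h3]; ring
  rw [h2]
  unfold qv
  push_cast
  ring

/-! ### The base orbit -/

/-- The base orbit. -/
def SHyp (X : Pauli 12 → V) (S : Set V) : Prop := S = (fun x => u (Short.lam x) + (2 : ℚ) • X x) '' Short.Sh

theorem u_neg (v : leechLattice) : u (-v) = u v := by
  apply Subtype.ext
  show USide.uf _ = USide.uf _
  unfold USide.uf
  refine Finset.sum_congr rfl fun p _ => Finset.sum_congr rfl fun q _ => ?_
  have h : ∀ p, CoGens.rt (-v) p = - CoGens.rt v p := by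
    intro p
    show (((-v : leechLattice) : GolayPt → ℤ) p : ℚ) = _
    rw [AddSubgroup.coe_neg, Pi.neg_apply]
    push_cast; rfl
  rw [h, h]
  congr 1
  ring

theorem X_z {X : Pauli 12 → V} (hX : XHyp X) (x : Pauli 12) : X (Pauli.z 12 * x) = - X x := by
  apply Subtype.ext
  funext i
  have h1 := hX (Pauli.z 12 * x) i
  rw [KX.Xf_z] at h1
  rw [h1]
  show - KX.Xf x i.1 = - (X x : Lane U → ℚ) i
  rw [hX]

theorem e2_false_smul (w : V) : (e2 false : ℚ) • w = - ((2 : ℚ) • w) := by
  have h : (e2 false : ℚ) = - (2 : ℚ) := by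
    rw [e2_false]; norm_num
  rw [h]
  exact neg_smul (2 : ℚ) w

theorem e2_true_smul (w : V) : (e2 true : ℚ) • w = (2 : ℚ) • w := by
  have h : (e2 true : ℚ) = (2 : ℚ) := by
    rw [e2_true]; norm_num
  rw [h]

theorem S_sv {X : Pauli 12 → V} (hX : XHyp X) {S : Set V} (hS : SHyp X S) :
    S = {s | ∃ l, XL.testBit l = true ∧ ∃ b, s = sv X l b} := by
  rw [show S = _ from hS]
  ext s
  constructor
  · rintro ⟨x, hx, rfl⟩
    obtain ⟨l, hl, hab⟩ := exists_lab hx
    have hlam : u (Short.lam x) = u (lv l) := by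
      have h1 : Short.lam x = Short.lam (lab l) := by unfold Short.lam; rw [hab]
      rw [h1]
      rcases lam_lab hl with h2 | h2
      · rw [h2]
      · rw [h2, u_neg]
    refine ⟨l, hl, ?_⟩
    have h3 : x = lab l ∨ x = Pauli.z 12 * lab l := (ab_eq_iff x (lab l)).1 hab
    rcases h3 with h3 | h3
    · refine ⟨true, ?_⟩
      show u (Short.lam x) + (2 : ℚ) • X x = sv X l true
      unfold sv
      rw [← hlam, ← h3, e2_true_smul]
    · refine ⟨false, ?_⟩
      show u (Short.lam x) + (2 : ℚ) • X x = sv X l false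
      unfold sv
      rw [hlam, h3, X_z hX, smul_neg, e2_false_smul]
  · rintro ⟨l, hl, b, rfl⟩
    have hlam : u (Short.lam (lab l)) = u (lv l) := by
      rcases lam_lab hl with h2 | h2
      · rw [h2]
      · rw [h2, u_neg]
    cases b
    · refine ⟨Pauli.z 12 * lab l, Short.Sh_z _ (lab_mem hl), ?_⟩
      show u (Short.lam (Pauli.z 12 * lab l)) + (2 : ℚ) • X (Pauli.z 12 * lab l) = sv X l false
      unfold sv
      rw [Short.lam_z, hlam, X_z hX, smul_neg, e2_false_smul]
    · refine ⟨lab l, lab_mem hl, ?_⟩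
      show u (Short.lam (lab l)) + (2 : ℚ) • X (lab l) = sv X l true
      unfold sv
      rw [hlam, e2_true_smul]

theorem sv_lane {X : Pauli 12 → V} (hX : XHyp X) {l l' : ℕ} (hl : XL.testBit l = true) (hl' : XL.testBit l' = true)
    (b : Bool) : (sv X l b : Lane U → ℚ) (lc l' hl') = if l' = l then (e2 b : ℚ) else 0 := by
  have h0 : (sv X l b : Lane U → ℚ) (lc l' hl') =
      (u (lv l) : Lane U → ℚ) (lc l' hl') + (e2 b : ℚ) * (X (lab l) : Lane U → ℚ) (lc l' hl') := rfl
  have h1 : (u (lv l) : Lane U → ℚ) (lc l' hl') = 0 := USide.uf_other _ (not_mat hl')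
  have h2 : (X (lab l) : Lane U → ℚ) (lc l' hl') = if l' = l then 1 else 0 := by
    rw [hX, Xf_lab hl]
    rfl
  rw [h0, h1, h2, zero_add]
  split_ifs
  · rw [mul_one]
  · rw [mul_zero]

theorem e2_inj {b b' : Bool} (h : (e2 b : ℚ) = (e2 b' : ℚ)) : b = b' := by
  have h1 : e2 b = e2 b' := by exact_mod_cast h
  cases b <;> cases b'
  · rfl
  · exfalso; rw [e2_true, e2_false] at h1; omega
  · exfalso; rw [e2_true, e2_false] at h1; omega
  · rfl

theorem e2_ne (b : Bool) : (e2 b : ℚ) ≠ 0 := by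
  intro h
  have h1 : e2 b = 0 := by exact_mod_cast h
  cases b
  · rw [e2_false] at h1; omega
  · rw [e2_true] at h1; omega

theorem sv_inj {X : Pauli 12 → V} (hX : XHyp X) {l l' : ℕ} (hl : XL.testBit l = true) (hl' : XL.testBit l' = true)
    {b b' : Bool} (h : sv X l b = sv X l' b') : l = l' ∧ b = b' := by
  have h1 : (sv X l b : Lane U → ℚ) (lc l hl) = (sv X l' b' : Lane U → ℚ) (lc l hl) := by rw [h]
  rw [sv_lane hX hl hl, sv_lane hX hl' hl, if_pos rfl] at h1
  by_cases hll : l = l'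
  · rw [if_pos hll] at h1
    exact ⟨hll, e2_inj h1⟩
  · rw [if_neg hll] at h1
    exact absurd h1 (e2_ne b)

/-! ### The kernel check -/

/-- The lanes of `XL` with value zero. -/
noncomputable def zm (Y : Pl) : ℕ := Nat.xor XL (Nat.land XL (nz Y))

theorem testBit_zm (Y : Pl) (i : ℕ) : (zm Y).testBit i = true ↔ XL.testBit i = true ∧ val Y i = 0 := by
  show (XL ^^^ (XL &&& nz Y)).testBit i = true ↔ _
  rw [Nat.testBit_xor, Nat.testBit_and]
  have h := testBit_nz Y i
  cases h1 : XL.testBit i <;> cases h2 : (nz Y).testBit i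
  · simp
  · simp
  · rw [h2] at h
    have h3 : val Y i = 0 := by
      by_contra hc
      exact absurd (h.mpr hc) (by simp)
    simp [h3]
  · rw [h2] at h
    have h3 := h.mp rfl
    simp [h3]

/-- `32 x` -/
noncomputable def x32 (x : Pl) : Pl := .cons 0 (.cons 0 (.cons 0 (.cons 0 (.cons 0 x))))

theorem val_x32 (x : Pl) (i : ℕ) : val (x32 x) i = 32 * val x i := by
  unfold x32
  simp only [val_cons, bt_zero]
  ring

/-- The numbers of lanes with inner product zero, for the two signs. -/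
noncomputable def cnt (n₀ n₁ : ℕ) (y : Pl) : Bool :=
  quad 131072 (rowsQ 24) y (.sgn 0) fun q => go (x32 (low 131072 y)) fun z =>
    and (cardIs 17 18 n₁ (zm (plus q z))) (cardIs 17 18 n₀ (zm (sub 131072 q z)))

theorem qv_true (y : Pl) (i : ℕ) : qv y i true = quadVal (rowsQ 24) y i + 32 * val y i := by
  unfold qv
  rw [e2_true]
  norm_num

theorem qv_false (y : Pl) (i : ℕ) : qv y i false = quadVal (rowsQ 24) y i - 32 * val y i := by
  unfold qv
  rw [e2_false]
  ring

theorem card_zm {Y : Pl} {n : ℕ} {g : ℕ → ℤ} (hn : n < 2 ^ 18) (h : cardIs 17 18 n (zm Y) = true)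
    (hg : ∀ i < 131072, val Y i = g i) :
    ((Finset.range (2 ^ 17)).filter (fun i => XL.testBit i = true ∧ g i = 0)).card = n := by
  have h1 := cardIs_sound hn h
  refine Eq.trans (congrArg Finset.card (Finset.filter_congr fun i hi => ?_)) h1
  have hi' : i < 131072 := lt_of_lt_of_eq (Finset.mem_range.mp hi) (by norm_num)
  rw [testBit_zm, hg i hi']

theorem cnt_sound {n₀ n₁ : ℕ} {y : Pl} (h : cnt n₀ n₁ y = true) (h0 : n₀ < 2 ^ 18) (h1 : n₁ < 2 ^ 18) :
    ((Finset.range (2 ^ 17)).filter (fun i => XL.testBit i = true ∧ qv y i false = 0)).card = n₀ ∧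
      ((Finset.range (2 ^ 17)).filter (fun i => XL.testBit i = true ∧ qv y i true = 0)).card = n₁ := by
  unfold cnt at h
  obtain ⟨q, hq, hk⟩ := quad_sound h
  rw [go_eq, Bool.and_eq_true] at hk
  have hq' : ∀ i < 131072, val q i = quadVal (rowsQ 24) y i := by
    intro i hi
    rw [hq i hi, val_sgn, bt_zero]; ring
  have hz : ∀ i < 131072, val (norm (x32 (low 131072 y))) i = 32 * val y i := by
    intro i hi
    rw [val_norm, val_x32, val_low _ _ _ hi]
  constructor
  · refine card_zm h0 hk.2 fun i hi => ?_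
    rw [val_sub _ _ _ _ hi, hq' i hi, hz i hi, qv_false]
  · refine card_zm h1 hk.1 fun i hi => ?_
    rw [val_plus, hq' i hi, hz i hi, qv_true]

/-- The number of elements of the base orbit orthogonal to a vector. -/
theorem ncard_of {X : Pauli 12 → V} (hX : XHyp X) {S : Set V} (hS : SHyp X S) {v : V} {y : Pl} {c : ℚ} (hc : c ≠ 0)
    (hy : ∀ i : Lane U, c * (v : Lane U → ℚ) i = ((val y i.1 : ℤ) : ℚ)) {n₀ n₁ : ℕ} (h0 : n₀ < 2 ^ 18)
    (h1 : n₁ < 2 ^ 18) (h : cnt n₀ n₁ y = true) : {s | s ∈ S ∧ F s v = 0}.ncard = n₀ + n₁ := by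
  classical
  obtain ⟨g0, g1⟩ := cnt_sound h h0 h1
  set A : Bool → Finset ℕ := fun b => (Finset.range (2 ^ 17)).filter (fun i => XL.testBit i = true ∧ qv y i b = 0) with hA
  have hmem : ∀ b i, i ∈ A b ↔ XL.testBit i = true ∧ qv y i b = 0 := by
    intro b i
    rw [hA]
    simp only [Finset.mem_filter, Finset.mem_range]
    constructor
    · rintro ⟨-, h2⟩; exact h2
    · rintro ⟨h2, h3⟩
      exact ⟨lt_of_lt_of_le (lt_of_XL h2) (by norm_num), h2, h3⟩
  have hF : ∀ l b, XL.testBit l = true → (F (sv X l b) v = 0 ↔ qv y l b = 0) := by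
    intro l b hl
    have h2 := F_sv hX hl hy b
    constructor
    · intro h3
      rw [h3, mul_zero] at h2
      have h4 : ((qv y l b : ℤ) : ℚ) = 0 := by linarith
      exact_mod_cast h4
    · intro h3
      rw [h3] at h2
      have h4 : c * F (sv X l b) v = 0 := by rw [h2]; norm_num
      exact (mul_eq_zero.mp h4).resolve_left hc
  have hset : {s | s ∈ S ∧ F s v = 0} = (fun l => sv X l false) '' (A false : Set ℕ) ∪
      (fun l => sv X l true) '' (A true : Set ℕ) := by
    rw [S_sv hX hS]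
    ext s
    constructor
    · rintro ⟨⟨l, hl, b, rfl⟩, hFs⟩
      have h2 := (hF l b hl).mp hFs
      cases b
      · left; exact ⟨l, (hmem false l).mpr ⟨hl, h2⟩, rfl⟩
      · right; exact ⟨l, (hmem true l).mpr ⟨hl, h2⟩, rfl⟩
    · rintro (⟨l, hl, rfl⟩ | ⟨l, hl, rfl⟩)
      · obtain ⟨h2, h3⟩ := (hmem false l).mp hl
        exact ⟨⟨l, h2, false, rfl⟩, (hF l false h2).mpr h3⟩
      · obtain ⟨h2, h3⟩ := (hmem true l).mp hl
        exact ⟨⟨l, h2, true, rfl⟩, (hF l true h2).mpr h3⟩
  have hinj : ∀ b, Set.InjOn (fun l => sv X l b) (A b : Set ℕ) := by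
    intro b l hl l' hl' he
    exact (sv_inj hX ((hmem b l).mp hl).1 ((hmem b l').mp hl').1 he).1
  rw [hset, Set.ncard_union_eq]
  · rw [(hinj false).ncard_image, (hinj true).ncard_image, Set.ncard_coe_finset, Set.ncard_coe_finset, g0, g1]
  · rw [Set.disjoint_left]
    rintro _ ⟨l, hl, rfl⟩ ⟨l', hl', he⟩
    have h2 := (sv_inj hX ((hmem true l').mp hl').1 ((hmem false l).mp hl).1 he).2
    exact absurd h2 (by simp)

/-- The check for `W w (vecV x)`. -/
noncomputable def cntW (n : ℕ) (w : List ℕ) (x : Pl) (n₀ n₁ : ℕ) : Bool := runL (w.map prog) (up n x) (cnt n₀ n₁)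

theorem ncard_zero {X : Pauli 12 → V} (hX : XHyp X) {S : Set V} (hS : SHyp X S) {n : ℕ} {w : List ℕ} {x : Pl}
    (hx : sym x = true) {n₀ n₁ : ℕ} (h0 : n₀ < 2 ^ 18) (h1 : n₁ < 2 ^ 18) (h : cntW n w x n₀ n₁ = true) :
    {s | s ∈ S ∧ F s (W w (vecV x)) = 0}.ncard = n₀ + n₁ := by
  obtain ⟨y, hy, hk⟩ := run_coe hx h
  exact ncard_of hX hS (pow_ne_zero n two_ne_zero) hy h0 h1 hk

end Cfsg.Agent.MonsterX.LaneQuad
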