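import Cfsg.Agent.MonsterX.LaneLam0
import Cfsg.Agent.MonsterX.LaneLam1
import Cfsg.Agent.MonsterX.LaneLam2
import Cfsg.Agent.MonsterX.LaneLam3
import Cfsg.Agent.MonsterX.LaneLab
import Cfsg.Agent.MonsterX.Short
import Cfsg.Agent.Monster.LevelSets
import Cfsg.Agent.Monster.PauliPlanes
import Cfsg.Agent.BabyM.Rigid23Main

/-!
# The minimal vectors of the 98280 lanes

`XL`: mask of the lanes (all `< 2 ^ 17`); `L k`: coordinate planes; `P`: label planes (`PauliPlanes.labP 12 P l` is the Pauli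
element of lane `l`).  `lvec l`: the vector of lane `l`.  Results:

* `mem_leech`: `lvec l` is in the lattice, `sqNorm_lvec`: its norm is 32;
* `psi_lvec`: its image under `psi` is the label of the lane.
-/

set_option autoImplicit false

namespace Cfsg.Agent.MonsterX.LaneVec

open Cfsg Cfsg.Agent.Monster Cfsg.Agent.Monster.VecEngine Cfsg.Agent.Monster.PlaneArith Cfsg.Agent.Monster.LevelSets
open Cfsg.Agent.Monster.PauliBasic Cfsg.Agent.Monster.PauliClif Cfsg.Agent.Monster.PauliBits Cfsg.Agent.Monster.PauliPlanes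
open Cfsg.Agent.LeechMat.Code Cfsg.Agent.LeechMat.Elements Cfsg.Agent.MonsterX.Psi
open Cfsg.Agent.MonsterX.LaneLam0 Cfsg.Agent.MonsterX.LaneLam1 Cfsg.Agent.MonsterX.LaneLam2
open Cfsg.Agent.MonsterX.LaneLam3 Cfsg.Agent.MonsterX.LaneLab

/-- The coordinate planes. -/
noncomputable def Ls : List Pl :=
  [L0, L1, L2, L3, L4, L5, L6, L7, L8, L9, L10, L11, L12, L13, L14, L15, L16, L17, L18, L19, L20, L21, L22, L23]

/-- The `k`-th entry. -/
noncomputable def nthP (l : List Pl) : ℕ → Pl :=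
  List.rec (motive := fun _ => ℕ → Pl) (fun _ => .sgn 0)
    (fun a _ ih k => Nat.rec (motive := fun _ => Pl) a (fun m _ => ih m) k) l

/-- Coordinate `k` of the minimal vectors. -/
noncomputable def L (k : ℕ) : Pl := nthP Ls k

/-- The vector of a lane. -/
noncomputable def lvec (l : ℕ) : GolayPt → ℤ := fun p => val (L (pos p)) l

theorem lvec_apply (l : ℕ) (p : GolayPt) : lvec l p = val (L (pos p)) l := rfl

/-- The coordinate planes with the lanes of the coefficients. -/
noncomputable def idxL : List (ℕ × Pl) :=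
  [(0, L0), (1, L1), (2, L2), (3, L3), (4, L4), (5, L5), (6, L6), (7, L7), (8, L8), (9, L9), (10, L10), (11, L11), (12, L12), (13, L13), (14, L14), (15, L15), (16, L16), (17, L17), (18, L18), (19, L19), (20, L20), (21, L21), (22, L22), (23, L23)]

theorem linVal_idxL (x : Pl) (l : ℕ) : linVal idxL x l = ∑ k ∈ Finset.range 24, val x k * val (L k) l := by
  simp only [Finset.sum_range_succ, Finset.sum_range_zero, idxL, linVal_cons, linVal_nil]
  show _ = 0 + val x 0 * val L0 l + val x 1 * val L1 l + val x 2 * val L2 l + val x 3 * val L3 l + val x 4 * val L4 l + val x 5 * val L5 l + val x 6 * val L6 l + val x 7 * val L7 l + val x 8 * val L8 l + val x 9 * val L9 l + val x 10 * val L10 l + val x 11 * val L11 l + val x 12 * val L12 l + val x 13 * val L13 l + val x 14 * val L14 l + val x 15 * val L15 l + val x 16 * val L16 l + val x 17 * val L17 l + val x 18 * val L18 l + val x 19 * val L19 l + val x 20 * val L20 l + val x 21 * val L21 l + val x 22 * val L22 l + val x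 23 * val L23 l
  ring

/-! ### Divisibility by `8` and the class modulo `16` -/

/-- The parity plane. -/
noncomputable def hd (Y : Pl) : ℕ := Pl.rec (motive := fun _ => ℕ) (fun s => s) (fun p _ _ => p) Y

/-- The half. -/
noncomputable def tl (Y : Pl) : Pl := Pl.rec (motive := fun _ => Pl) (fun s => .sgn s) (fun _ L _ => L) Y

theorem val_hd_tl (Y : Pl) (i : ℕ) : val Y i = bt (hd Y) i + 2 * val (tl Y) i := by
  cases Y with
  | sgn s => show - bt s i = bt s i + 2 * - bt s i; ring
  | cons p L => rfl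

/-- The value is `8 m` with `m` congruent to the bit of `p`, in the lanes of `XL`. -/
noncomputable def is8 (p : ℕ) (Y : Pl) : Bool :=
  and (and (Nat.beq (Nat.land XL (hd Y)) 0) (Nat.beq (Nat.land XL (hd (tl Y))) 0))
    (and (Nat.beq (Nat.land XL (hd (tl (tl Y)))) 0) (Nat.beq (Nat.land XL (Nat.xor p (hd (tl (tl (tl Y)))))) 0))

theorem bt_zero_of {p i : ℕ} (h : Nat.beq (Nat.land XL p) 0 = true) (hi : XL.testBit i = true) : bt p i = 0 := by
  have h1 : (XL &&& p).testBit i = false := of_mask_zero h i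
  rw [Nat.testBit_and, hi, Bool.true_and] at h1
  unfold bt
  rw [h1]; rfl

theorem is8_sound {p : ℕ} {Y : Pl} (h : is8 p Y = true) {i : ℕ} (hi : XL.testBit i = true) :
    ∃ m : ℤ, val Y i = 8 * m ∧ ((m : ℤ) : ZMod 2) = bit p i := by
  unfold is8 at h
  simp only [Bool.and_eq_true] at h
  obtain ⟨⟨h0, h1⟩, h2, h3⟩ := h
  have h3' := of_mask_zero h3 i
  have h4 : (XL &&& (p ^^^ hd (tl (tl (tl Y))))).testBit i = false := h3'
  rw [Nat.testBit_and, hi, Bool.true_and, Nat.testBit_xor] at h4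
  refine ⟨val (tl (tl (tl Y))) i, ?_, ?_⟩
  · rw [val_hd_tl Y, val_hd_tl (tl Y), val_hd_tl (tl (tl Y)), bt_zero_of h0 hi, bt_zero_of h1 hi, bt_zero_of h2 hi]
    ring
  · rw [val_hd_tl (tl (tl (tl Y)))]
    push_cast
    have h5 : (2 : ZMod 2) = 0 := by decide
    rw [h5, zero_mul, add_zero]
    unfold bt bit
    cases h6 : p.testBit i <;> cases h7 : (hd (tl (tl (tl Y)))).testBit i <;> rw [h6, h7] at h4 <;> simp at h4 ⊢

/-- The check of a scalar product with a constant vector `x`. -/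
noncomputable def chk (x : Pl) (p : ℕ) : Bool := lin 131072 idxL x (.sgn 0) fun y => is8 p y

theorem chk_sound {x : Pl} {p : ℕ} (h : chk x p = true) {i : ℕ} (hi : XL.testBit i = true) (hlt : i < 131072) :
    ∃ m : ℤ, linVal idxL x i = 8 * m ∧ ((m : ℤ) : ZMod 2) = bit p i := by
  obtain ⟨y, hy, hk⟩ := lin_sound h
  obtain ⟨m, hm, hm2⟩ := is8_sound hk hi
  refine ⟨m, ?_, hm2⟩
  rw [← hm, hy i hlt, val_sgn, bt_zero]; ring

theorem dot_eq {n : ℕ} {x : Pl} (hx : ∀ k < 24, val x k = sdig n k) (l : ℕ) :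
    dotInt (lvec l) (vec n) = linVal idxL x l := by
  rw [linVal_idxL]
  have h1 := sum_points (fun k => sdig n k * val (L k) l)
  have h2 : dotInt (lvec l) (vec n) = ∑ p : GolayPt, sdig n (pos p) * val (L (pos p)) l := by
    unfold dotInt
    apply Finset.sum_congr rfl
    intro p _
    rw [lvec_apply, vec_apply]; ring
  rw [h2, h1]
  apply Finset.sum_congr rfl
  intro k hk
  rw [hx k (Finset.mem_range.mp hk)]

/-! ### The 24 scalar products -/

/-- planes of the vector of `X_0` -/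
def xX0 : Pl := .cons 0x0 (.cons 0x34200f (.cons 0x1049 (.cons 0x9 (.sgn 0x9))))

theorem hxX0 : ∀ k < 24, val xX0 k = sdig (xs.getD 0 0) k := by decide +kernel

theorem cX0 : chk xX0 P0 = true := by decide +kernel

/-- planes of the vector of `X_1` -/
def xX1 : Pl := .cons 0x0 (.cons 0x3da100 (.cons 0x0 (.cons 0x0 (.sgn 0x0))))

theorem hxX1 : ∀ k < 24, val xX1 k = sdig (xs.getD 1 0) k := by decide +kernel

theorem cX1 : chk xX1 P1 = true := by decide +kernel

/-- planes of the vector of `X_2` -/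
def xX2 : Pl := .cons 0x0 (.cons 0x7dab4f (.cons 0x488008 (.cons 0x488008 (.sgn 0x488008))))

theorem hxX2 : ∀ k < 24, val xX2 k = sdig (xs.getD 2 0) k := by decide +kernel

theorem cX2 : chk xX2 P2 = true := by decide +kernel

/-- planes of the vector of `X_3` -/
def xX3 : Pl := .cons 0x0 (.cons 0x3db59f (.cons 0x318087 (.cons 0x318087 (.sgn 0x318087))))

theorem hxX3 : ∀ k < 24, val xX3 k = sdig (xs.getD 3 0) k := by decide +kernel

theorem cX3 : chk xX3 P3 = true := by decide +kernel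

/-- planes of the vector of `X_4` -/
def xX4 : Pl := .cons 0x0 (.cons 0x24f801 (.cons 0x0 (.cons 0x0 (.sgn 0x0))))

theorem hxX4 : ∀ k < 24, val xX4 k = sdig (xs.getD 4 0) k := by decide +kernel

theorem cX4 : chk xX4 P4 = true := by decide +kernel

/-- planes of the vector of `X_5` -/
def xX5 : Pl := .cons 0x0 (.cons 0x6d0803 (.cons 0x240801 (.cons 0x240801 (.sgn 0x240801))))

theorem hxX5 : ∀ k < 24, val xX5 k = sdig (xs.getD 5 0) k := by decide +kernel

theorem cX5 : chk xX5 P5 = true := by decide +kernel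

/-- planes of the vector of `X_6` -/
def xX6 : Pl := .cons 0x0 (.cons 0x13e005 (.cons 0x200105 (.cons 0x5 (.sgn 0x5))))

theorem hxX6 : ∀ k < 24, val xX6 k = sdig (xs.getD 6 0) k := by decide +kernel

theorem cX6 : chk xX6 P6 = true := by decide +kernel

/-- planes of the vector of `X_7` -/
def xX7 : Pl := .cons 0x0 (.cons 0x789810 (.cons 0x0 (.cons 0x0 (.sgn 0x0))))

theorem hxX7 : ∀ k < 24, val xX7 k = sdig (xs.getD 7 0) k := by decide +kernel

theorem cX7 : chk xX7 P7 = true := by decide +kernel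

/-- planes of the vector of `X_8` -/
def xX8 : Pl := .cons 0x0 (.cons 0xaa37df (.cons 0x800008 (.cons 0x800008 (.sgn 0x800008))))

theorem hxX8 : ∀ k < 24, val xX8 k = sdig (xs.getD 8 0) k := by decide +kernel

theorem cX8 : chk xX8 P8 = true := by decide +kernel

/-- planes of the vector of `X_9` -/
def xX9 : Pl := .cons 0x0 (.cons 0xf097bf (.cons 0x800010 (.cons 0x800010 (.sgn 0x800010))))

theorem hxX9 : ∀ k < 24, val xX9 k = sdig (xs.getD 9 0) k := by decide +kernel

theorem cX9 : chk xX9 P9 = true := by decide +kernel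

/-- planes of the vector of `X_10` -/
def xX10 : Pl := .cons 0x0 (.cons 0x1ed080 (.cons 0x0 (.cons 0x0 (.sgn 0x0))))

theorem hxX10 : ∀ k < 24, val xX10 k = sdig (xs.getD 10 0) k := by decide +kernel

theorem cX10 : chk xX10 P10 = true := by decide +kernel

/-- planes of the vector of `X_11` -/
def xX11 : Pl := .cons 0xffffff (.cons 0x0 (.cons 0x800000 (.cons 0x800000 (.sgn 0x800000))))

theorem hxX11 : ∀ k < 24, val xX11 k = sdig (xs.getD 11 0) k := by decide +kernel

theorem cX11 : chk xX11 P11 = true := by decide +kernel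

/-- planes of the vector of `Z_0` -/
def xZ0 : Pl := .cons 0x0 (.cons 0x0 (.cons 0x24a000 (.cons 0x0 (.sgn 0x0))))

theorem hxZ0 : ∀ k < 24, val xZ0 k = sdig (zs.getD 0 0) k := by decide +kernel

theorem cZ0 : chk xZ0 P12 = true := by decide +kernel

/-- planes of the vector of `Z_1` -/
def xZ1 : Pl := .cons 0x0 (.cons 0x0 (.cons 0x402804 (.cons 0x0 (.sgn 0x0))))

theorem hxZ1 : ∀ k < 24, val xZ1 k = sdig (zs.getD 1 0) k := by decide +kernel

theorem cZ1 : chk xZ1 P13 = true := by decide +kernel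

/-- planes of the vector of `Z_2` -/
def xZ2 : Pl := .cons 0x0 (.cons 0x0 (.cons 0x800200 (.cons 0x800000 (.sgn 0x800000))))

theorem hxZ2 : ∀ k < 24, val xZ2 k = sdig (zs.getD 2 0) k := by decide +kernel

theorem cZ2 : chk xZ2 P14 = true := by decide +kernel

/-- planes of the vector of `Z_3` -/
def xZ3 : Pl := .cons 0x0 (.cons 0x0 (.cons 0x800400 (.cons 0x800000 (.sgn 0x800000))))

theorem hxZ3 : ∀ k < 24, val xZ3 k = sdig (zs.getD 3 0) k := by decide +kernel

theorem cZ3 : chk xZ3 P15 = true := by decide +kernel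

/-- planes of the vector of `Z_4` -/
def xZ4 : Pl := .cons 0x0 (.cons 0x0 (.cons 0x342000 (.cons 0x0 (.sgn 0x0))))

theorem hxZ4 : ∀ k < 24, val xZ4 k = sdig (zs.getD 4 0) k := by decide +kernel

theorem cZ4 : chk xZ4 P16 = true := by decide +kernel

/-- planes of the vector of `Z_5` -/
def xZ5 : Pl := .cons 0x0 (.cons 0x0 (.cons 0xa (.cons 0x8 (.sgn 0x8))))

theorem hxZ5 : ∀ k < 24, val xZ5 k = sdig (zs.getD 5 0) k := by decide +kernel

theorem cZ5 : chk xZ5 P17 = true := by decide +kernel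

/-- planes of the vector of `Z_6` -/
def xZ6 : Pl := .cons 0x0 (.cons 0x0 (.cons 0xc (.cons 0x8 (.sgn 0x8))))

theorem hxZ6 : ∀ k < 24, val xZ6 k = sdig (zs.getD 6 0) k := by decide +kernel

theorem cZ6 : chk xZ6 P18 = true := by decide +kernel

/-- planes of the vector of `Z_7` -/
def xZ7 : Pl := .cons 0x0 (.cons 0x0 (.cons 0x410 (.cons 0x400 (.sgn 0x400))))

theorem hxZ7 : ∀ k < 24, val xZ7 k = sdig (zs.getD 7 0) k := by decide +kernel

theorem cZ7 : chk xZ7 P19 = true := by decide +kernel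

/-- planes of the vector of `Z_8` -/
def xZ8 : Pl := .cons 0x0 (.cons 0x0 (.cons 0x800020 (.cons 0x800000 (.sgn 0x800000))))

theorem hxZ8 : ∀ k < 24, val xZ8 k = sdig (zs.getD 8 0) k := by decide +kernel

theorem cZ8 : chk xZ8 P20 = true := by decide +kernel

/-- planes of the vector of `Z_9` -/
def xZ9 : Pl := .cons 0x0 (.cons 0x0 (.cons 0x240 (.cons 0x200 (.sgn 0x200))))

theorem hxZ9 : ∀ k < 24, val xZ9 k = sdig (zs.getD 9 0) k := by decide +kernel

theorem cZ9 : chk xZ9 P21 = true := by decide +kernel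

/-- planes of the vector of `Z_10` -/
def xZ10 : Pl := .cons 0x0 (.cons 0x0 (.cons 0x480 (.cons 0x400 (.sgn 0x400))))

theorem hxZ10 : ∀ k < 24, val xZ10 k = sdig (zs.getD 10 0) k := by decide +kernel

theorem cZ10 : chk xZ10 P22 = true := by decide +kernel

/-- planes of the vector of `Z_11` -/
def xZ11 : Pl := .cons 0x0 (.cons 0x0 (.cons 0x0 (.cons 0x1 (.sgn 0x0))))

theorem hxZ11 : ∀ k < 24, val xZ11 k = sdig (zs.getD 11 0) k := by decide +kernel

theorem cZ11 : chk xZ11 P23 = true := by decide +kernel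

theorem dotX {l : ℕ} (hl : XL.testBit l = true) (hlt : l < 131072) (k : Fin 12) :
    ∃ m : ℤ, dotInt (lvec l) (vX k : leechLattice) = 8 * m ∧ ((m : ℤ) : ZMod 2) = bit (get P (k.1)) l := by
  show ∃ m : ℤ, dotInt (lvec l) (vec (xs.getD k 0)) = 8 * m ∧ _
  fin_cases k
  · exact ⟨_, (dot_eq hxX0 l).trans (chk_sound cX0 hl hlt).choose_spec.1, (chk_sound cX0 hl hlt).choose_spec.2⟩
  · exact ⟨_, (dot_eq hxX1 l).trans (chk_sound cX1 hl hlt).choose_spec.1, (chk_sound cX1 hl hlt).choose_spec.2⟩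
  · exact ⟨_, (dot_eq hxX2 l).trans (chk_sound cX2 hl hlt).choose_spec.1, (chk_sound cX2 hl hlt).choose_spec.2⟩
  · exact ⟨_, (dot_eq hxX3 l).trans (chk_sound cX3 hl hlt).choose_spec.1, (chk_sound cX3 hl hlt).choose_spec.2⟩
  · exact ⟨_, (dot_eq hxX4 l).trans (chk_sound cX4 hl hlt).choose_spec.1, (chk_sound cX4 hl hlt).choose_spec.2⟩
  · exact ⟨_, (dot_eq hxX5 l).trans (chk_sound cX5 hl hlt).choose_spec.1, (chk_sound cX5 hl hlt).choose_spec.2⟩
  · exact ⟨_, (dot_eq hxX6 l).trans (chk_sound cX6 hl hlt).choose_spec.1, (chk_sound cX6 hl hlt).choose_spec.2⟩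
  · exact ⟨_, (dot_eq hxX7 l).trans (chk_sound cX7 hl hlt).choose_spec.1, (chk_sound cX7 hl hlt).choose_spec.2⟩
  · exact ⟨_, (dot_eq hxX8 l).trans (chk_sound cX8 hl hlt).choose_spec.1, (chk_sound cX8 hl hlt).choose_spec.2⟩
  · exact ⟨_, (dot_eq hxX9 l).trans (chk_sound cX9 hl hlt).choose_spec.1, (chk_sound cX9 hl hlt).choose_spec.2⟩
  · exact ⟨_, (dot_eq hxX10 l).trans (chk_sound cX10 hl hlt).choose_spec.1, (chk_sound cX10 hl hlt).choose_spec.2⟩
  · exact ⟨_, (dot_eq hxX11 l).trans (chk_sound cX11 hl hlt).choose_spec.1, (chk_sound cX11 hl hlt).choose_spec.2⟩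

theorem dotZ {l : ℕ} (hl : XL.testBit l = true) (hlt : l < 131072) (k : Fin 12) :
    ∃ m : ℤ, dotInt (lvec l) (vZ k : leechLattice) = 8 * m ∧ ((m : ℤ) : ZMod 2) = bit (get P (12 + k.1)) l := by
  show ∃ m : ℤ, dotInt (lvec l) (vec (zs.getD k 0)) = 8 * m ∧ _
  fin_cases k
  · exact ⟨_, (dot_eq hxZ0 l).trans (chk_sound cZ0 hl hlt).choose_spec.1, (chk_sound cZ0 hl hlt).choose_spec.2⟩
  · exact ⟨_, (dot_eq hxZ1 l).trans (chk_sound cZ1 hl hlt).choose_spec.1, (chk_sound cZ1 hl hlt).choose_spec.2⟩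
  · exact ⟨_, (dot_eq hxZ2 l).trans (chk_sound cZ2 hl hlt).choose_spec.1, (chk_sound cZ2 hl hlt).choose_spec.2⟩
  · exact ⟨_, (dot_eq hxZ3 l).trans (chk_sound cZ3 hl hlt).choose_spec.1, (chk_sound cZ3 hl hlt).choose_spec.2⟩
  · exact ⟨_, (dot_eq hxZ4 l).trans (chk_sound cZ4 hl hlt).choose_spec.1, (chk_sound cZ4 hl hlt).choose_spec.2⟩
  · exact ⟨_, (dot_eq hxZ5 l).trans (chk_sound cZ5 hl hlt).choose_spec.1, (chk_sound cZ5 hl hlt).choose_spec.2⟩
  · exact ⟨_, (dot_eq hxZ6 l).trans (chk_sound cZ6 hl hlt).choose_spec.1, (chk_sound cZ6 hl hlt).choose_spec.2⟩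
  · exact ⟨_, (dot_eq hxZ7 l).trans (chk_sound cZ7 hl hlt).choose_spec.1, (chk_sound cZ7 hl hlt).choose_spec.2⟩
  · exact ⟨_, (dot_eq hxZ8 l).trans (chk_sound cZ8 hl hlt).choose_spec.1, (chk_sound cZ8 hl hlt).choose_spec.2⟩
  · exact ⟨_, (dot_eq hxZ9 l).trans (chk_sound cZ9 hl hlt).choose_spec.1, (chk_sound cZ9 hl hlt).choose_spec.2⟩
  · exact ⟨_, (dot_eq hxZ10 l).trans (chk_sound cZ10 hl hlt).choose_spec.1, (chk_sound cZ10 hl hlt).choose_spec.2⟩
  · exact ⟨_, (dot_eq hxZ11 l).trans (chk_sound cZ11 hl hlt).choose_spec.1, (chk_sound cZ11 hl hlt).choose_spec.2⟩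

/-! ### Membership and the image under `psi` -/

/-- A vector with scalar products divisible by `8` with the 24 vectors is in the lattice. -/
theorem mem_of_psi {w : GolayPt → ℤ} (hX : ∀ k, (8 : ℤ) ∣ dotInt w (vX k : leechLattice))
    (hZ : ∀ k, (8 : ℤ) ∣ dotInt w (vZ k : leechLattice)) : w ∈ leechLattice := by
  have hlift : ∀ p : B 12 × B 12, (8 : ℤ) ∣ dotInt w (lift p : leechLattice) := by
    intro p
    have key : ∀ (s : Finset (Fin 12)) (c : Fin 12 → ℕ) (v : Fin 12 → leechLattice),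
        (∀ k, (8 : ℤ) ∣ dotInt w (v k : leechLattice)) →
        (8 : ℤ) ∣ dotInt w ((∑ k ∈ s, c k • v k : leechLattice) : GolayPt → ℤ) := by
      intro s c v hv
      induction s using Finset.induction_on with
      | empty => simp [dotInt]
      | insert a s ha ih =>
        rw [Finset.sum_insert ha, AddSubgroup.coe_add, Cfsg.Agent.Leech.Basic.dotInt_add_right]
        apply dvd_add _ ih
        have : dotInt w ((c a • v a : leechLattice) : GolayPt → ℤ) = c a * dotInt w (v a : leechLattice) := by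
          unfold dotInt
          rw [Finset.mul_sum]
          apply Finset.sum_congr rfl
          intro i _
          have : ((c a • v a : leechLattice) : GolayPt → ℤ) i = c a * (v a : GolayPt → ℤ) i := by
            rw [AddSubgroup.coe_nsmul, Pi.smul_apply, nsmul_eq_mul]
          rw [this]; ring
        rw [this]
        exact Dvd.dvd.mul_left (hv a) _
    unfold lift
    rw [AddSubgroup.coe_add, Cfsg.Agent.Leech.Basic.dotInt_add_right]
    exact dvd_add (key _ _ _ hX) (key _ _ _ hZ)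
  -- every `y` is `lift (psi y) + 2 u`
  have hdec : ∀ y : leechLattice, ∃ u : leechLattice, (8 : ℤ) ∣ dotInt w (y : GolayPt → ℤ) - 2 * dotInt w (u : GolayPt → ℤ) := by
    intro y
    obtain ⟨u, hu⟩ := psi_eq_iff.1 (psi_lift (psi y)).symm
    refine ⟨u, ?_⟩
    have h1 : y = lift (psi y) + (u + u) := by
      rw [← two_smul ℕ u, ← hu]; abel
    have h2 : dotInt w (y : GolayPt → ℤ) = dotInt w (lift (psi y) : leechLattice) + 2 * dotInt w (u : GolayPt → ℤ) := by
      conv_lhs => rw [h1]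
      rw [AddSubgroup.coe_add, AddSubgroup.coe_add, Cfsg.Agent.Leech.Basic.dotInt_add_right, Cfsg.Agent.Leech.Basic.dotInt_add_right]; ring
    rw [h2, add_sub_cancel_right]
    exact hlift _
  apply Cfsg.Agent.BabyM.Rigid23Main.mem_of_dual
  intro y hy
  obtain ⟨u, hu⟩ := hdec ⟨y, hy⟩
  obtain ⟨u', hu'⟩ := hdec u
  obtain ⟨u'', hu''⟩ := hdec u'
  have h0 : ((⟨y, hy⟩ : leechLattice) : GolayPt → ℤ) = y := rfl
  rw [h0] at hu
  omega

theorem mem_leech {l : ℕ} (hl : XL.testBit l = true) (hlt : l < 131072) : lvec l ∈ leechLattice := by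
  apply mem_of_psi
  · intro k
    obtain ⟨m, hm, -⟩ := dotX hl hlt k
    exact ⟨m, hm⟩
  · intro k
    obtain ⟨m, hm, -⟩ := dotZ hl hlt k
    exact ⟨m, hm⟩

/-- All lanes are below `2 ^ 17`. -/
theorem XL_lt : XL < 2 ^ 131072 := by decide +kernel

theorem lt_of_XL {l : ℕ} (hl : XL.testBit l = true) : l < 131072 := by
  by_contra hc
  have h1 := Nat.testBit_lt_two_pow (lt_of_lt_of_le XL_lt (Nat.pow_le_pow_right (by norm_num) (not_lt.mp hc)))
  rw [hl] at h1
  exact absurd h1 (by simp)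

/-- The lattice vector of a lane. -/
noncomputable def lv (l : ℕ) : leechLattice :=
  if h : XL.testBit l = true then ⟨lvec l, mem_leech h (lt_of_XL h)⟩ else 0

theorem lv_coe {l : ℕ} (hl : XL.testBit l = true) : (lv l : GolayPt → ℤ) = lvec l := by
  unfold lv
  rw [dif_pos hl]

/-- The label of a lane. -/
noncomputable def lab (l : ℕ) : Pauli 12 := labP 12 P l

/-- **The image of the vector of a lane is the label.** -/
theorem psi_lv {l : ℕ} (hl : XL.testBit l = true) : psi (lv l) = ab (lab l) := by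
  have hlt := lt_of_XL hl
  apply Prod.ext
  · funext k
    obtain ⟨m, hm, hm2⟩ := dotZ hl hlt k
    show bl (lv l) (vZ k) = bit (get P (12 + k.1)) l
    unfold bl
    rw [lv_coe hl, hm, Int.mul_ediv_cancel_left _ (by norm_num), hm2]
  · funext k
    obtain ⟨m, hm, hm2⟩ := dotX hl hlt k
    show bl (lv l) (vX k) = bit (get P k.1) l
    unfold bl
    rw [lv_coe hl, hm, Int.mul_ediv_cancel_left _ (by norm_num), hm2]

/-! ### The norm -/

/-- squares of the coordinates -/
noncomputable def sqL : List (Pl × List (ℕ × Pl)) :=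
  [(L0, [(0, L0)]), (L1, [(0, L1)]), (L2, [(0, L2)]), (L3, [(0, L3)]), (L4, [(0, L4)]), (L5, [(0, L5)]), (L6, [(0, L6)]), (L7, [(0, L7)]), (L8, [(0, L8)]), (L9, [(0, L9)]), (L10, [(0, L10)]), (L11, [(0, L11)]), (L12, [(0, L12)]), (L13, [(0, L13)]), (L14, [(0, L14)]), (L15, [(0, L15)]), (L16, [(0, L16)]), (L17, [(0, L17)]), (L18, [(0, L18)]), (L19, [(0, L19)]), (L20, [(0, L20)]), (L21, [(0, L21)]), (L22, [(0, L22)]), (L23, [(0, L23)])]

theorem quadVal_sqL (l : ℕ) : quadVal sqL (.cons 1 (.sgn 0)) l = ∑ k ∈ Finset.range 24, val (L k) l * val (L k) l := by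
  have h1 : val (.cons 1 (.sgn 0)) 0 = 1 := by decide
  simp only [Finset.sum_range_succ, Finset.sum_range_zero, sqL, quadVal_cons, quadVal_nil, linVal_cons, linVal_nil, h1]
  show _ = 0 + val L0 l * val L0 l + val L1 l * val L1 l + val L2 l * val L2 l + val L3 l * val L3 l + val L4 l * val L4 l + val L5 l * val L5 l + val L6 l * val L6 l + val L7 l * val L7 l + val L8 l * val L8 l + val L9 l * val L9 l + val L10 l * val L10 l + val L11 l * val L11 l + val L12 l * val L12 l + val L13 l * val L13 l + val L14 l * val L14 l + val L15 l * val L15 l + val L16 l * val L16 l + val L17 l * val L17 l + val L18 l * val L18 l + val L19 l * val L19 l + val L20 l * val L20 l + val L21 l * val L21 l + val L22 l * val L22 l + val L23 l * val L23 l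
  ring

theorem norm_chk : quad 131072 sqL (.cons 1 (.sgn 0)) (.sgn 0)
    (fun y => Nat.beq (Nat.land XL (eqm 131072 y (cst 131072 6 32))) XL) = true := by decide +kernel

theorem sqNorm_lv {l : ℕ} (hl : XL.testBit l = true) : sqNorm (lv l : GolayPt → ℤ) = 32 := by
  obtain ⟨y, hy, hk⟩ := quad_sound norm_chk
  have hlt := lt_of_XL hl
  have h1 : (XL &&& eqm 131072 y (cst 131072 6 32)) = XL := Nat.eq_of_beq_eq_true hk
  have h2 : (eqm 131072 y (cst 131072 6 32)).testBit l = true := by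
    have h3 := congrArg (fun x => x.testBit l) h1
    simp only [Nat.testBit_and, hl, Bool.true_and] at h3
    exact h3
  rw [testBit_eqm] at h2
  have h4 := h2.2
  rw [hy l hlt, quadVal_sqL, val_sgn, bt_zero, val_cst _ _ _ _ hlt (by norm_num)] at h4
  rw [lv_coe hl]
  unfold sqNorm
  have h5 : ∑ p : GolayPt, (lvec l p) ^ 2 = ∑ p : GolayPt, val (L (pos p)) l * val (L (pos p)) l := by
    apply Finset.sum_congr rfl
    intro p _
    rw [lvec_apply]; ring
  rw [h5, sum_points (fun k => val (L k) l * val (L k) l)]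
  norm_num at h4
  exact h4

/-! ### The sign plane and the number of lanes -/

theorem sign_chk : Nat.beq (Nat.land XL (Nat.xor P24 (Nat.land P11 P23))) 0 = true := by decide +kernel

/-- The sign of the label of a lane. -/
theorem lab_s {l : ℕ} (hl : XL.testBit l = true) : (lab l).s = (lab l).b 11 * (lab l).a 11 := by
  have h1 : (XL &&& (P24 ^^^ (P11 &&& P23))).testBit l = false := of_mask_zero sign_chk l
  rw [Nat.testBit_and, hl, Bool.true_and, Nat.testBit_xor, Nat.testBit_and] at h1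
  show bit P24 l = bit P11 l * bit P23 l
  unfold bit
  cases h2 : P24.testBit l <;> cases h3 : P11.testBit l <;> cases h4 : P23.testBit l <;> rw [h2, h3, h4] at h1 <;>
    simp at h1 ⊢

theorem card_XL : ((Finset.range (2 ^ 17)).filter (fun i => XL.testBit i = true)).card = 98280 :=
  cardIs_sound (k := 18) (by norm_num) (by decide +kernel)

end Cfsg.Agent.MonsterX.LaneVec
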