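import Cfsg.Agent.MonsterX.Lat

/-!
Functions on the minimal vectors of the Leech lattice with values in `ZMod 2`, invariant under `-1` and
additive on the triangles (`v`, `w`, `v - w` minimal), are given by the inner products with a lattice
vector.
-/

set_option autoImplicit false

namespace Cfsg.Agent.MonsterX.LatChars

open Cfsg Cfsg.Agent.MonsterX.KSide Cfsg.Agent.MonsterX.Lat Cfsg.Agent.Leech.Min
  Cfsg.Agent.Leech.Trans Cfsg.Agent.Leech.Code Cfsg.Agent.Leech.Basic

/-! ### Octads generate the code -/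

/-- Induction over the code words: every word is a sum of octads. -/
theorem words_induction {Pr : Finset GolayPt → Prop} (h0 : Pr ∅)
    (hs : ∀ C ∈ Words, ∀ O ∈ octads, Pr C → Pr (symmDiff C O)) : ∀ C ∈ Words, Pr C := by
  have key : ∀ n : ℕ, ∀ C ∈ Words, C.card ≤ n → Pr C := by
    intro n
    induction n with
    | zero =>
      intro C _ hc
      rw [Finset.card_eq_zero.1 (Nat.le_zero.1 hc)]
      exact h0
    | succ n ih =>
      intro C hC hc
      by_cases hne : C.Nonempty
      · have h8 := eight_le_card hC hne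
        obtain ⟨s, hsC, hs5⟩ := Finset.exists_subset_card_eq (s := C) (n := 5) (by omega)
        obtain ⟨O, ⟨hO, hsO⟩, -⟩ := steiner.2 s hs5
        have hO8 : O.card = 8 := steiner.1 O hO
        have hOw : O ∈ Words := hO.1
        have h1 : 5 ≤ (C ∩ O).card := by
          rw [← hs5]
          exact Finset.card_le_card (Finset.subset_inter hsC hsO)
        have h2 := even_inter hC hOw
        have h3 := SporadicA.GolayBase.card_symmDiff_add C O
        have h4 : (symmDiff C O).card ≤ n := by
          obtain ⟨k, hk⟩ := h2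
          omega
        have h5 := ih _ (symmDiff_mem hC hOw) h4
        have h6 := hs _ (symmDiff_mem hC hOw) O hO h5
        rwa [symmDiff_symmDiff_cancel_right] at h6
      · rw [Finset.not_nonempty_iff_eq_empty.1 hne]
        exact h0
  exact fun C hC => key _ C hC le_rfl

/-! ### The pairing -/

theorem eight_dvd_dot (v w : leechLattice) : (8 : ℤ) ∣ dot v w := eight_dvd_dotInt v.2 w.2

/-- Inner product with `y`, modulo 2. -/
def pr (y v : leechLattice) : ZMod 2 := ((dot v y / 8 : ℤ) : ZMod 2)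

theorem dot_add_left (v w y : leechLattice) : dot (v + w) y = dot v y + dot w y := by
  show dotInt _ _ = _
  rw [AddSubgroup.coe_add, dotInt_add_left]

theorem dot_sub_left (v w y : leechLattice) : dot (v - w) y = dot v y - dot w y := by
  show dotInt _ _ = _
  rw [AddSubgroup.coe_sub, dotInt_sub_left]

theorem pr_sub (y v w : leechLattice) : pr y (v - w) = pr y v + pr y w := by
  unfold pr
  rw [dot_sub_left, Int.sub_ediv_of_dvd _ (eight_dvd_dot w y)]
  push_cast
  have : ∀ a b : ZMod 2, a - b = a + b := by decide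
  exact this _ _

theorem pr_neg (y v : leechLattice) : pr y (-v) = pr y v := by
  have h := pr_sub y 0 v
  rw [zero_sub] at h
  rw [h]
  unfold pr
  have : dot 0 y = 0 := by
    have := dot_sub_left 0 0 y
    rw [sub_zero] at this
    omega
  rw [this]
  simp

theorem pr_add_left (y z v : leechLattice) : pr (y + z) v = pr y v + pr z v := by
  unfold pr
  rw [dot_comm, dot_add_left, Int.add_ediv_of_dvd_left (eight_dvd_dot y v), dot_comm y, dot_comm z]
  push_cast
  rfl

theorem pr_eq_zero_iff (y v : leechLattice) : pr y v = 0 ↔ (16 : ℤ) ∣ dot v y := by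
  unfold pr
  rw [ZMod.intCast_zmod_eq_zero_iff_dvd]
  have := eight_dvd_dot v y
  push_cast
  omega

theorem pr_eq_of_dot {y v : leechLattice} {a : ℤ} (h : dot v y = 8 * a) : pr y v = (a : ZMod 2) := by
  unfold pr
  rw [h, Int.mul_ediv_cancel_left _ (by norm_num)]

/-- Additivity on the triangles. -/
structure Tri (e : leechLattice → ZMod 2) : Prop where
  neg : ∀ v, nrm v = 32 → e (-v) = e v
  tri : ∀ v w, nrm v = 32 → nrm w = 32 → dot v w = 16 → e (v - w) = e v + e w

theorem Tri.add_pr {e : leechLattice → ZMod 2} (h : Tri e) (y : leechLattice) :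
    Tri (fun v => e v + pr y v) := by
  refine ⟨fun v hv => ?_, fun v w hv hw hvw => ?_⟩
  · show e (-v) + pr y (-v) = _
    rw [h.neg v hv, pr_neg]
  · show e (v - w) + pr y (v - w) = _
    rw [h.tri v w hv hw hvw, pr_sub]
    ring

theorem zmod2_add_self (a : ZMod 2) : a + a = 0 := by revert a; decide

/-! ### Vectors of type 2 -/

/-- `-2` on `N`, `2` on `O \ N` -/
def vec2 (O N : Finset GolayPt) : GolayPt → ℤ :=
  fun i => if i ∈ N then -2 else if i ∈ O then 2 else 0

theorem type2_vec2 {O N : Finset GolayPt} (hO : O ∈ octads) (hN : N ⊆ O) (he : Even N.card) :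
    Type2 (vec2 O N) := by
  refine ⟨O, hO, fun i hi => ?_, fun i hi => ?_, ?_⟩
  · unfold vec2
    split_ifs
    · right; rfl
    · left; rfl
  · unfold vec2
    rw [if_neg fun h => hi (hN h), if_neg hi]
  · have : (O.filter fun i => vec2 O N i = -2) = N := by
      ext i
      rw [Finset.mem_filter]
      unfold vec2
      constructor
      · rintro ⟨h1, h2⟩
        by_contra h3
        rw [if_neg h3, if_pos h1] at h2
        norm_num at h2
      · intro h
        exact ⟨hN h, if_pos h⟩
    rw [this]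
    exact he

/-- the lattice vector -/
def lv2 (O N : Finset GolayPt) (hO : O ∈ octads) (hN : N ⊆ O) (he : Even N.card) : leechLattice :=
  ⟨vec2 O N, ((min_iff _).2 (Or.inr (Or.inl (type2_vec2 hO hN he)))).1⟩

theorem nrm_lv2 {O N : Finset GolayPt} (hO : O ∈ octads) (hN : N ⊆ O) (he : Even N.card) :
    nrm (lv2 O N hO hN he) = 32 :=
  ((min_iff _).2 (Or.inr (Or.inl (type2_vec2 hO hN he)))).2

theorem eq_lv2 {v : leechLattice} (h : Type2 (v : GolayPt → ℤ)) :
    ∃ O N, ∃ (hO : O ∈ octads) (hN : N ⊆ O) (he : Even N.card), v = lv2 O N hO hN he := by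
  obtain ⟨O, hO, h2, h0, he⟩ := h
  refine ⟨O, O.filter fun i => (v : GolayPt → ℤ) i = -2, hO, Finset.filter_subset _ _, he, ?_⟩
  apply Subtype.ext
  funext i
  show _ = vec2 _ _ i
  unfold vec2
  by_cases hi : i ∈ O
  · rcases h2 i hi with e | e
    · rw [if_neg, if_pos hi, e]
      rw [Finset.mem_filter]
      rintro ⟨-, h⟩
      rw [e] at h; norm_num at h
    · rw [if_pos (Finset.mem_filter.2 ⟨hi, e⟩), e]
  · rw [if_neg, if_neg hi, h0 i hi]
    rw [Finset.mem_filter]
    exact fun h => hi h.1

/-! ### Vectors of type 3 -/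

/-- sign function of a set -/
def sg (C : Finset GolayPt) (i : GolayPt) : ℤ := if i ∈ C then -1 else 1

theorem sg_cases (C : Finset GolayPt) (i : GolayPt) : sg C i = 1 ∨ sg C i = -1 := by
  unfold sg; split_ifs
  · exact Or.inr rfl
  · exact Or.inl rfl

theorem sg_mul_self (C : Finset GolayPt) (i : GolayPt) : sg C i * sg C i = 1 := by
  rcases sg_cases C i with h | h <;> rw [h] <;> rfl

/-- `(-3 at i, 1 elsewhere)` with signs changed on `C` -/
def vec3 (C : Finset GolayPt) (i : GolayPt) : GolayPt → ℤ :=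
  fun k => sg C k * (if k = i then -3 else 1)

theorem vec3_same (C : Finset GolayPt) (i : GolayPt) : vec3 C i i = sg C i * -3 := by
  unfold vec3; rw [if_pos rfl]

theorem vec3_ne (C : Finset GolayPt) {i k : GolayPt} (h : k ≠ i) : vec3 C i k = sg C k := by
  unfold vec3; rw [if_neg h, mul_one]

theorem type3_vec3 {C : Finset GolayPt} (hC : C ∈ Words) (i : GolayPt) : Type3 (vec3 C i) := by
  refine ⟨i, ?_, fun k hk => ?_, ?_⟩
  · rw [vec3_same]
    rcases sg_cases C i with h | h <;> rw [h] <;> norm_num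
  · rw [vec3_ne C hk]; exact sg_cases C k
  · have : cls (vec3 C i) 1 = Cᶜ := by
      ext k
      rw [mem_cls, Finset.mem_compl]
      unfold Int.ModEq
      by_cases hk : k = i
      · subst hk
        rw [vec3_same]
        unfold sg
        split_ifs with h
        · simp [h]
        · simp [h]
      · rw [vec3_ne C hk]
        unfold sg
        split_ifs with h
        · simp [h]
        · simp [h]
    rw [this]
    exact compl_mem hC

/-- the lattice vector -/
def lv3 (C : Finset GolayPt) (i : GolayPt) (hC : C ∈ Words) : leechLattice :=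
  ⟨vec3 C i, ((min_iff _).2 (Or.inr (Or.inr (type3_vec3 hC i)))).1⟩

theorem nrm_lv3 {C : Finset GolayPt} (hC : C ∈ Words) (i : GolayPt) : nrm (lv3 C i hC) = 32 :=
  ((min_iff _).2 (Or.inr (Or.inr (type3_vec3 hC i)))).2

theorem eq_lv3 {v : leechLattice} (h : Type3 (v : GolayPt → ℤ)) :
    ∃ C i, ∃ hC : C ∈ Words, v = lv3 C i hC := by
  obtain ⟨i, hi, h1, hC⟩ := h
  refine ⟨(cls (v : GolayPt → ℤ) 1)ᶜ, i, compl_mem hC, ?_⟩
  apply Subtype.ext
  funext k
  show _ = vec3 _ _ k
  by_cases hk : k = i
  · subst hk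
    rw [vec3_same]
    unfold sg
    rcases hi with e | e
    · rw [if_pos, e]; · rfl
      rw [Finset.mem_compl, mem_cls, e]
      decide
    · rw [if_neg, e]; · rfl
      rw [Finset.mem_compl, mem_cls, e, not_not]
      decide
  · rw [vec3_ne _ hk]
    unfold sg
    rcases h1 k hk with e | e
    · rw [if_neg, e]
      rw [Finset.mem_compl, mem_cls, e, not_not]
    · rw [if_pos, e]
      rw [Finset.mem_compl, mem_cls, e]
      decide


/-! ### Values on the vectors of type 4 -/

theorem dot_of_sub {v w : leechLattice} (hv : nrm v = 32) (hw : nrm w = 32)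
    (h : nrm (v - w) = 32) : dot v w = 16 := by
  have h1 : nrm (v - w) = nrm v - 2 * dot v w + nrm w := by
    show sqNorm _ = _
    rw [AddSubgroup.coe_sub, sqNorm_sub]
  omega

theorem Tri.tri' {e : leechLattice → ZMod 2} (h : Tri e) {v w u : leechLattice}
    (hv : nrm v = 32) (hw : nrm w = 32) (hu : nrm u = 32) (huv : v - w = u) :
    e u = e v + e w := by
  subst huv
  exact h.tri v w hv hw (dot_of_sub hv hw hu)

theorem neg_or {a : ℤ} (h : a = 4 ∨ a = -4) : -a = 4 ∨ -a = -4 := by
  rcases h with h | h <;> rw [h]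
  · exact Or.inr rfl
  · exact Or.inl rfl

theorem lv_sub {i j k : GolayPt} (hij : i ≠ j) (hik : i ≠ k) (hjk : j ≠ k) {a b c : ℤ}
    (ha : a = 4 ∨ a = -4) (hb : b = 4 ∨ b = -4) (hc : c = 4 ∨ c = -4) :
    lv i k a b hik ha hb - lv j k c b hjk hc hb = lv i j a (-c) hij ha (neg_or hc) := by
  apply Subtype.ext
  funext m
  rw [AddSubgroup.coe_sub, Pi.sub_apply, lv_coe, lv_coe, lv_coe]
  unfold two
  by_cases h1 : m = i
  · subst h1
    simp [hij, hik]
  · by_cases h2 : m = j
    · subst h2
      simp [h1, hjk]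
    · by_cases h3 : m = k
      · subst h3
        simp [h1, h2]
      · simp [h1, h2, h3]

theorem lv_neg {i j : GolayPt} (hij : i ≠ j) {a b : ℤ}
    (ha : a = 4 ∨ a = -4) (hb : b = 4 ∨ b = -4) :
    -lv i j a b hij ha hb = lv i j (-a) (-b) hij (neg_or ha) (neg_or hb) := by
  apply Subtype.ext
  funext m
  rw [AddSubgroup.coe_neg, Pi.neg_apply, lv_coe, lv_coe]
  unfold two
  split_ifs <;> simp

theorem e_neg_lv {e : leechLattice → ZMod 2} (h : Tri e) {i j : GolayPt} (hij : i ≠ j) {a b : ℤ}
    (ha : a = 4 ∨ a = -4) (hb : b = 4 ∨ b = -4) :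
    e (lv i j (-a) (-b) hij (neg_or ha) (neg_or hb)) = e (lv i j a b hij ha hb) := by
  rw [← lv_neg]
  exact h.neg _ (nrm_lv _ _ _ _ _ _ _)

theorem even_empty : Even (∅ : Finset GolayPt).card := ⟨0, rfl⟩

/-- A symmetric function on pairs with `t i k = t j k` is constant. -/
theorem const_of {t : GolayPt → GolayPt → ZMod 2} (hs : ∀ i j, t i j = t j i)
    (ht : ∀ i j k, i ≠ j → i ≠ k → j ≠ k → t i k = t j k) {i j k l : GolayPt} (hij : i ≠ j)
    (hkl : k ≠ l) : t i j = t k l := by
  have ht' : ∀ i j k, i ≠ k → j ≠ k → t i k = t j k := by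
    intro i j k h1 h2
    by_cases h : i = j
    · rw [h]
    · exact ht i j k h h1 h2
  by_cases hil : i = l
  · subst hil
    rw [hs i j]
    exact ht' j k i (Ne.symm hij) hkl
  · rw [hs i j, ht' j l i (Ne.symm hij) (Ne.symm hil), hs l i]
    exact ht' i k l hil hkl

section

variable {e : leechLattice → ZMod 2} (h : Tri e)

include h

theorem exists_type4_form : ∃ (g : GolayPt → ZMod 2) (s : ZMod 2),
    (∀ i j (hij : i ≠ j), e (lv i j 4 (-4) hij four_or neg_four_or) = g i + g j) ∧
    ∀ i j (hij : i ≠ j), e (lv i j 4 4 hij four_or four_or) = g i + g j + s := by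
  classical
  set g : GolayPt → ZMod 2 := fun i => if hi : i = none then 0 else
    e (lv i none 4 (-4) hi four_or neg_four_or) with hg
  have hg0 : g none = 0 := dif_pos rfl
  have hg1 : ∀ i (hi : i ≠ none), g i = e (lv i none 4 (-4) hi four_or neg_four_or) :=
    fun i hi => dif_neg hi
  have h1 : ∀ i j (hij : i ≠ j), e (lv i j 4 (-4) hij four_or neg_four_or) = g i + g j := by
    intro i j hij
    by_cases hi : i = none
    · subst hi
      rw [hg0, zero_add, hg1 j hij.symm]
      have h2 := e_neg_lv h hij four_or neg_four_or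
      rw [← h2, lv_swap hij]
      rfl
    · by_cases hj : j = none
      · subst hj
        rw [hg0, add_zero, hg1 i hi]
      · rw [hg1 i hi, hg1 j hj]
        exact h.tri' (nrm_lv _ _ _ _ _ _ _) (nrm_lv _ _ _ _ _ _ _) (nrm_lv _ _ _ _ _ _ _)
          (lv_sub hij hi hj four_or neg_four_or four_or)
  set t : GolayPt → GolayPt → ZMod 2 := fun i j => if hij : i = j then 0 else
    e (lv i j 4 4 hij four_or four_or) + g i + g j with ht
  have ht1 : ∀ i j (hij : i ≠ j), t i j = e (lv i j 4 4 hij four_or four_or) + g i + g j :=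
    fun i j hij => dif_neg hij
  have hts : ∀ i j, t i j = t j i := by
    intro i j
    by_cases hij : i = j
    · rw [hij]
    · rw [ht1 i j hij, ht1 j i (Ne.symm hij), lv_swap hij]
      ring
  have htt : ∀ i j k, i ≠ j → i ≠ k → j ≠ k → t i k = t j k := by
    intro i j k hij hik hjk
    rw [ht1 i k hik, ht1 j k hjk]
    have h2 := h.tri' (nrm_lv _ _ _ _ _ _ _) (nrm_lv _ _ _ _ _ _ _) (nrm_lv _ _ _ _ _ _ _)
      (lv_sub hij hik hjk four_or four_or four_or)
    have h3 := h1 i j hij
    have h4 : g i + g j = e (lv i k 4 4 hik four_or four_or) +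
        e (lv j k 4 4 hjk four_or four_or) := h3.symm.trans h2
    have h5 : ∀ a b c d f : ZMod 2, a + b = c + d → c + a + f = d + b + f := by decide
    exact h5 _ _ _ _ _ h4
  obtain ⟨q, hq⟩ := exists_notMem {none} (by simp)
  rw [Finset.mem_singleton] at hq
  refine ⟨g, t none q, h1, fun i j hij => ?_⟩
  rw [const_of hts htt (Ne.symm hq) hij, ht1 i j hij]
  have h5 : ∀ a b c : ZMod 2, a = b + c + (a + b + c) := by decide
  exact h5 _ _ _

theorem lv2_sub {O N : Finset GolayPt} (hO : O ∈ octads) (hN : N ⊆ O) (he : Even N.card)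
    {i j : GolayPt} (hij : i ≠ j) (hi : i ∈ O) (hj : j ∈ O) (hiN : i ∉ N) (hjN : j ∉ N)
    (hN' : insert i (insert j N) ⊆ O) (he' : Even (insert i (insert j N)).card) :
    e (lv2 O (insert i (insert j N)) hO hN' he') =
      e (lv2 O N hO hN he) + e (lv i j 4 4 hij four_or four_or) := by
  refine h.tri' (nrm_lv2 _ _ _) (nrm_lv _ _ _ _ _ _ _) (nrm_lv2 _ _ _) ?_
  apply Subtype.ext
  funext m
  rw [AddSubgroup.coe_sub, Pi.sub_apply, lv_coe]
  show vec2 O N m - two i j 4 4 m = vec2 O (insert i (insert j N)) m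
  unfold vec2 two
  by_cases h1 : m = i
  · subst h1
    rw [if_neg hiN, if_pos hi, if_pos rfl, if_pos (Finset.mem_insert_self _ _)]
    norm_num
  · by_cases h2 : m = j
    · subst h2
      rw [if_neg hjN, if_pos hj, if_neg h1, if_pos rfl,
        if_pos (Finset.mem_insert_of_mem (Finset.mem_insert_self _ _))]
      norm_num
    · have h3 : m ∈ insert i (insert j N) ↔ m ∈ N := by
        rw [Finset.mem_insert, Finset.mem_insert]
        tauto
      simp only [h3, if_neg h1, if_neg h2, sub_zero]

theorem e_lv2 {g : GolayPt → ZMod 2} {s : ZMod 2}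
    (hs : ∀ i j (hij : i ≠ j), e (lv i j 4 4 hij four_or four_or) = g i + g j + s)
    {O : Finset GolayPt} (hO : O ∈ octads) : ∀ n : ℕ, ∀ N (hN : N ⊆ O) (he : Even N.card),
      N.card = 2 * n → e (lv2 O N hO hN he) =
        e (lv2 O ∅ hO (Finset.empty_subset _) even_empty) + n * s + ∑ i ∈ N, g i := by
  intro n
  induction n with
  | zero =>
    intro N hN he hc
    have : N = ∅ := Finset.card_eq_zero.1 (by omega)
    subst this
    simp
  | succ n ih =>
    intro N hN he hc
    obtain ⟨i, hi⟩ : N.Nonempty := by rw [← Finset.card_pos]; omega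
    obtain ⟨j, hj⟩ : (N.erase i).Nonempty := by
      rw [← Finset.card_pos, Finset.card_erase_of_mem hi]; omega
    obtain ⟨N', hN'⟩ : ∃ N', N' = (N.erase i).erase j := ⟨_, rfl⟩
    have hcard : N'.card = 2 * n := by
      rw [hN', Finset.card_erase_of_mem hj, Finset.card_erase_of_mem hi]; omega
    have hNN : N = insert i (insert j N') := by
      rw [hN', Finset.insert_erase hj, Finset.insert_erase hi]
    rw [Finset.mem_erase] at hj
    have hiN' : i ∉ N' := by rw [hN']; simp
    have hjN' : j ∉ N' := by rw [hN']; simp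
    have hsub : N' ⊆ O := by
      intro x hx
      apply hN
      rw [hNN]
      exact Finset.mem_insert_of_mem (Finset.mem_insert_of_mem hx)
    have he' : Even N'.card := by rw [hcard]; exact even_two_mul n
    have hiO := hN hi
    have hjO := hN hj.2
    subst hNN
    rw [lv2_sub h hO hsub he' (Ne.symm hj.1) hiO hjO hiN' hjN' hN he, ih N' hsub he' hcard,
      hs i j (Ne.symm hj.1), Finset.sum_insert (by
        rw [Finset.mem_insert, not_or]; exact ⟨Ne.symm hj.1, hiN'⟩), Finset.sum_insert hjN']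
    push_cast
    ring

theorem sum_octad {g : GolayPt → ZMod 2} {s : ZMod 2}
    (hs : ∀ i j (hij : i ≠ j), e (lv i j 4 4 hij four_or four_or) = g i + g j + s)
    {O : Finset GolayPt} (hO : O ∈ octads) : ∑ i ∈ O, g i = 0 := by
  have hc : O.card = 8 := steiner.1 O hO
  have h1 := e_lv2 h hs hO 4 O (Finset.Subset.refl _) (by rw [hc]; decide) (by rw [hc])
  have h2 : lv2 O O hO (Finset.Subset.refl _) (by rw [hc]; decide) =
      -lv2 O ∅ hO (Finset.empty_subset _) even_empty := by
    apply Subtype.ext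
    funext m
    rw [AddSubgroup.coe_neg, Pi.neg_apply]
    show vec2 O O m = -vec2 O ∅ m
    unfold vec2
    by_cases hm : m ∈ O
    · simp [hm]
    · simp [hm]
  rw [h2, h.neg _ (nrm_lv2 _ _ _)] at h1
  have h3 : ((4 : ℕ) : ZMod 2) = 0 := by decide
  rw [h3, zero_mul, add_zero] at h1
  exact (left_eq_add.1 h1)

end

theorem sum_symmDiff (g : GolayPt → ZMod 2) (C D : Finset GolayPt) :
    ∑ i ∈ symmDiff C D, g i = ∑ i ∈ C, g i + ∑ i ∈ D, g i := by
  classical
  have h1 : ∀ A : Finset GolayPt, ∑ i ∈ A, g i = ∑ i, if i ∈ A then g i else 0 := by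
    intro A
    rw [Finset.sum_ite_mem, Finset.univ_inter]
  rw [h1, h1 C, h1 D, ← Finset.sum_add_distrib]
  refine Finset.sum_congr rfl fun i _ => ?_
  have h2 := zmod2_add_self (g i)
  simp only [Finset.mem_symmDiff]
  by_cases hC : i ∈ C <;> by_cases hD : i ∈ D <;> simp [hC, hD, h2]

theorem sum_eq_card (g : GolayPt → ZMod 2) (c : Finset GolayPt) :
    ∑ i ∈ c, g i = (((Finset.univ.filter fun i => g i = 1) ∩ c).card : ZMod 2) := by
  classical
  have h1 : ∀ i, g i = if g i = 1 then 1 else 0 := by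
    intro i
    have : ∀ a : ZMod 2, a = if a = 1 then 1 else 0 := by decide
    exact this _
  rw [Finset.sum_congr rfl fun i _ => h1 i, ← Finset.sum_filter, Finset.sum_const, nsmul_eq_mul,
    mul_one]
  congr 2
  ext i
  simp [Finset.mem_inter, and_comm]

theorem even_of_zmod {n : ℕ} (h : (n : ZMod 2) = 0) : Even n := by
  rw [ZMod.natCast_eq_zero_iff] at h
  exact (even_iff_two_dvd).2 h

/-- `2 χ_C` is in the lattice. -/
theorem two_chi_mem {C : Finset GolayPt} (hC : C ∈ Words) :
    (fun i => 2 * chi C i) ∈ leechLattice := by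
  refine IsLeech.mem (m := 0) ⟨fun i => ?_, ?_, fun c hc => ?_⟩
  · unfold Int.ModEq; omega
  · rw [← Finset.mul_sum, sum_chi]
    obtain ⟨k, hk⟩ := four_dvd_card hC
    rw [hk]
    unfold Int.ModEq
    push_cast
    omega
  · have h1 : ∑ i ∈ c, 2 * chi C i = 2 * ((c ∩ C).card : ℤ) := by
      rw [← Finset.mul_sum, ← sum_chi_mul, sum_chi_chi]
    rw [h1]
    obtain ⟨k, hk⟩ := even_inter hc hC
    rw [hk]
    unfold Int.ModEq
    push_cast
    omega

/-- `4 χ_D` is in the lattice for `|D|` even. -/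
theorem four_chi_mem {D : Finset GolayPt} (hD : Even D.card) :
    (fun i => 4 * chi D i) ∈ leechLattice := by
  refine IsLeech.mem (m := 0) ⟨fun i => ?_, ?_, fun c hc => ?_⟩
  · unfold Int.ModEq; omega
  · rw [← Finset.mul_sum, sum_chi]
    obtain ⟨k, hk⟩ := hD
    rw [hk]
    unfold Int.ModEq
    push_cast
    omega
  · rw [← Finset.mul_sum]
    unfold Int.ModEq
    omega

theorem chi_eq (g : GolayPt → ZMod 2) (i : GolayPt) :
    ((chi (Finset.univ.filter fun i => g i = 1) i : ℤ) : ZMod 2) = g i := by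
  unfold chi
  have : ∀ a : ZMod 2, a = 1 ∨ a = 0 := by decide
  rcases this (g i) with h | h
  · rw [if_pos (by simp [h]), h]; rfl
  · rw [if_neg (by simp [h]), h]; rfl

/-- Stage 1: the values on the vectors of type 4. -/
theorem stage1 {e : leechLattice → ZMod 2} (h : Tri e) :
    ∃ y : leechLattice, ∀ v : leechLattice, Type4 (v : GolayPt → ℤ) → e v = pr y v := by
  classical
  obtain ⟨g, s, h1, h2⟩ := exists_type4_form h
  obtain ⟨C, hCdef⟩ : ∃ C, C = Finset.univ.filter fun i => g i = 1 := ⟨_, rfl⟩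
  have hg0 : ∀ c ∈ Words, ∑ i ∈ c, g i = 0 := by
    apply words_induction
    · simp
    · intro c _ O hO hc
      rw [sum_symmDiff, hc, sum_octad h h2 hO, add_zero]
  have hC : C ∈ Words := by
    apply mem_of_even_inter
    intro d hd
    apply even_of_zmod
    rw [hCdef, ← sum_eq_card, hg0 d hd]
  have hchi : ∀ i, ((chi C i : ℤ) : ZMod 2) = g i := by
    intro i; rw [hCdef]; exact chi_eq g i
  -- the vector for `g`
  obtain ⟨y₁, hy₁⟩ : ∃ y₁ : leechLattice, (y₁ : GolayPt → ℤ) = fun i => 2 * chi C i :=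
    ⟨⟨_, two_chi_mem hC⟩, rfl⟩
  obtain ⟨y₂, hy₂⟩ : ∃ y₂ : leechLattice, (y₂ : GolayPt → ℤ) = vec3 ∅ none :=
    ⟨lv3 ∅ none empty_mem, rfl⟩
  have hsum : ∃ y₃ : leechLattice, (∀ i j (hij : i ≠ j),
      pr y₃ (lv i j 4 (-4) hij four_or neg_four_or) = 0) ∧
      ∀ i j (hij : i ≠ j), pr y₃ (lv i j 4 4 hij four_or four_or) = s := by
    have hs01 : s = 0 ∨ s = 1 := by
      have : ∀ a : ZMod 2, a = 0 ∨ a = 1 := by decide
      exact this s
    rcases hs01 with hs | hs
    · refine ⟨0, fun i j hij => ?_, fun i j hij => ?_⟩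
      · rw [pr_eq_zero_iff, dot_lv]; simp
      · rw [hs, pr_eq_zero_iff, dot_lv]; simp
    · have hval : ∀ i, (y₂ : GolayPt → ℤ) i = 1 ∨ (y₂ : GolayPt → ℤ) i = -3 := by
        intro i
        rw [hy₂]
        by_cases hi : i = none
        · subst hi
          right; rw [vec3_same]; rfl
        · left; rw [vec3_ne _ hi]; rfl
      have hone : ∀ i j, i ≠ j → ¬ ((y₂ : GolayPt → ℤ) i = -3 ∧ (y₂ : GolayPt → ℤ) j = -3) := by
        intro i j hij
        rw [hy₂]
        rintro ⟨e1, e2⟩
        by_cases hi : i = none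
        · have hj : j ≠ none := fun hj => hij (hi.trans hj.symm)
          rw [vec3_ne _ hj] at e2
          have : sg ∅ j = 1 := rfl
          rw [this] at e2
          norm_num at e2
        · rw [vec3_ne _ hi] at e1
          have : sg ∅ i = 1 := rfl
          rw [this] at e1
          norm_num at e1
      refine ⟨y₂, fun i j hij => ?_, fun i j hij => ?_⟩
      · rw [pr_eq_zero_iff, dot_lv]
        rcases hval i with e1 | e1 <;> rcases hval j with e2 | e2 <;> rw [e1, e2] <;> norm_num
      · have := hone i j hij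
        rw [hs]
        have h3 : ∃ a : ℤ, (a = 1 ∨ a = -1) ∧ dot (lv i j 4 4 hij four_or four_or) y₂ = 8 * a := by
          rw [dot_lv]
          rcases hval i with e1 | e1 <;> rcases hval j with e2 | e2
          · exact ⟨1, Or.inl rfl, by rw [e1, e2]; rfl⟩
          · exact ⟨-1, Or.inr rfl, by rw [e1, e2]; rfl⟩
          · exact ⟨-1, Or.inr rfl, by rw [e1, e2]; rfl⟩
          · exact absurd ⟨e1, e2⟩ this
        obtain ⟨a, ha, hda⟩ := h3
        rw [pr_eq_of_dot hda]
        rcases ha with rfl | rfl <;> decide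
  obtain ⟨y₃, h3, h4⟩ := hsum
  have key : ∀ i j (hij : i ≠ j), ∀ b (hb : b = 4 ∨ b = -4),
      e (lv i j 4 b hij four_or hb) = pr (y₁ + y₃) (lv i j 4 b hij four_or hb) := by
    intro i j hij b hb
    rw [pr_add_left]
    rcases hb with rfl | rfl
    · rw [h2 i j hij, h4 i j hij]
      congr 1
      have : dot (lv i j 4 4 hij four_or four_or) y₁ = 8 * (chi C i + chi C j) := by
        rw [dot_lv, hy₁]; ring
      rw [pr_eq_of_dot this]
      push_cast
      rw [hchi, hchi]
    · rw [h1 i j hij, h3 i j hij, add_zero]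
      have : dot (lv i j 4 (-4) hij four_or neg_four_or) y₁ = 8 * (chi C i - chi C j) := by
        rw [dot_lv, hy₁]; ring
      rw [pr_eq_of_dot this]
      push_cast
      rw [hchi, hchi]
      have : ∀ a b : ZMod 2, a - b = a + b := by decide
      exact (this _ _).symm
  refine ⟨y₁ + y₃, fun v hv => ?_⟩
  obtain ⟨i, j, hij, a, b, ha, hb, hvv⟩ := eq_two_of_type4 hv
  have hvl : v = lv i j a b hij ha hb := Subtype.ext hvv
  rw [hvl]
  rcases ha with rfl | rfl
  · exact key i j hij b hb
  · have h5 : lv i j (-4) b hij neg_four_or hb = -lv i j 4 (-b) hij four_or (neg_or hb) := by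
      rw [lv_neg]
      congr 1
      rw [neg_neg]
    rw [h5, h.neg _ (nrm_lv _ _ _ _ _ _ _), pr_neg]
    exact key i j hij (-b) (neg_or hb)

end Cfsg.Agent.MonsterX.LatChars
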