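import Cfsg.Agent.MonsterX.LatChars
import Cfsg.Agent.Leech.FrameAux

/-!
Functions on the minimal vectors additive on triangles, second part: the case of value zero on the
vectors of type 4, and the theorem `exists_pr`.
-/

set_option autoImplicit false

namespace Cfsg.Agent.MonsterX.LatCharsTwo

open Cfsg Cfsg.Agent.MonsterX.KSide Cfsg.Agent.MonsterX.Lat Cfsg.Agent.MonsterX.LatChars
  Cfsg.Agent.Leech.Min
  Cfsg.Agent.Leech.Trans Cfsg.Agent.Leech.Code Cfsg.Agent.Leech.Basic

theorem sg_symmDiff_of_notMem {C O : Finset GolayPt} {i : GolayPt} (h : i ∉ O) :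
    sg (symmDiff C O) i = sg C i := by
  unfold sg
  simp only [Finset.mem_symmDiff]
  by_cases hC : i ∈ C <;> simp [hC, h]

theorem sg_symmDiff_of_mem {C O : Finset GolayPt} {i : GolayPt} (h : i ∈ O) :
    sg (symmDiff C O) i = -sg C i := by
  unfold sg
  simp only [Finset.mem_symmDiff]
  by_cases hC : i ∈ C <;> simp [hC, h]

theorem sg_mul_four (C : Finset GolayPt) (i : GolayPt) : sg C i * 4 = 4 ∨ sg C i * 4 = -4 := by
  rcases sg_cases C i with h | h <;> rw [h]
  · exact Or.inl rfl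
  · exact Or.inr rfl

theorem sg_mul_neg_four (C : Finset GolayPt) (i : GolayPt) :
    sg C i * -4 = 4 ∨ sg C i * -4 = -4 := by
  rcases sg_cases C i with h | h <;> rw [h]
  · exact Or.inr rfl
  · exact Or.inl rfl

theorem lv3_sub {C : Finset GolayPt} (hC : C ∈ Words) {i j : GolayPt} (hij : i ≠ j) :
    lv3 C i hC - lv3 C j hC =
      lv i j (sg C i * -4) (sg C j * 4) hij (sg_mul_neg_four C i) (sg_mul_four C j) := by
  apply Subtype.ext
  funext m
  rw [AddSubgroup.coe_sub, Pi.sub_apply, lv_coe]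
  show vec3 C i m - vec3 C j m = _
  unfold two
  by_cases h1 : m = i
  · subst h1
    rw [if_pos rfl, vec3_same, vec3_ne C hij]; ring
  · by_cases h2 : m = j
    · subst h2
      rw [if_neg h1, if_pos rfl, vec3_ne C h1, vec3_same]; ring
    · rw [if_neg h1, if_neg h2, vec3_ne C h1, vec3_ne C h2, sub_self]

theorem lv3_sub_lv2 {C O : Finset GolayPt} (hC : C ∈ Words) (hO : O ∈ octads) {i : GolayPt}
    (hi : i ∉ O) : lv3 C i hC - lv2 O (O ∩ C) hO Finset.inter_subset_left
      (even_inter hO.1 hC) = lv3 (symmDiff C O) i (symmDiff_mem hC hO.1) := by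
  apply Subtype.ext
  funext m
  rw [AddSubgroup.coe_sub, Pi.sub_apply]
  show vec3 C i m - vec2 O (O ∩ C) m = vec3 (symmDiff C O) i m
  by_cases h1 : m = i
  · subst h1
    rw [vec3_same, vec3_same, sg_symmDiff_of_notMem hi]
    unfold vec2
    rw [if_neg fun h => hi (Finset.mem_inter.1 h).1, if_neg hi, sub_zero]
  · rw [vec3_ne _ h1, vec3_ne _ h1]
    by_cases hm : m ∈ O
    · rw [sg_symmDiff_of_mem hm]
      unfold vec2 sg
      by_cases hc : m ∈ C
      · rw [if_pos hc, if_pos (Finset.mem_inter.2 ⟨hm, hc⟩)]; norm_num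
      · rw [if_neg hc, if_neg fun h => hc (Finset.mem_inter.1 h).2, if_pos hm]; norm_num
    · rw [sg_symmDiff_of_notMem hm]
      unfold vec2
      rw [if_neg fun h => hm (Finset.mem_inter.1 h).1, if_neg hm, sub_zero]

theorem lv3_univ (i : GolayPt) : lv3 Finset.univ i univ_mem = -lv3 ∅ i empty_mem := by
  apply Subtype.ext
  funext m
  rw [AddSubgroup.coe_neg, Pi.neg_apply]
  show vec3 Finset.univ i m = -vec3 ∅ i m
  unfold vec3 sg
  by_cases hm : m = i
  · simp [hm]
  · simp [hm]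

section

variable {e : leechLattice → ZMod 2} (h : Tri e)
  (h4 : ∀ v : leechLattice, Type4 (v : GolayPt → ℤ) → e v = 0)

include h h4

theorem e_lv2' {O : Finset GolayPt} (hO : O ∈ octads) {N : Finset GolayPt} (hN : N ⊆ O)
    (he : Even N.card) : e (lv2 O N hO hN he) =
      e (lv2 O ∅ hO (Finset.empty_subset _) even_empty) := by
  obtain ⟨n, hn⟩ := he
  have h1 := e_lv2 h (g := fun _ => 0) (s := 0) (fun i j hij => by
    rw [h4 _ (type4_two hij four_or four_or)]; simp) hO n N hN ⟨n, hn⟩ (by omega)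
  rw [h1]
  simp

theorem e_lv3_eq {C : Finset GolayPt} (hC : C ∈ Words) (i j : GolayPt) :
    e (lv3 C i hC) = e (lv3 C j hC) := by
  by_cases hij : i = j
  · rw [hij]
  · have h1 := h.tri' (nrm_lv3 hC i) (nrm_lv3 hC j) (nrm_lv _ _ _ _ _ _ _) (lv3_sub hC hij)
    rw [h4 _ (type4_two hij (sg_mul_neg_four C i) (sg_mul_four C j))] at h1
    have : ∀ a b : ZMod 2, 0 = a + b → a = b := by decide
    exact this _ _ h1

theorem e_lv3_symmDiff {C O : Finset GolayPt} (hC : C ∈ Words) (hO : O ∈ octads) (j : GolayPt) :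
    e (lv3 (symmDiff C O) j (symmDiff_mem hC hO.1)) =
      e (lv3 C j hC) + e (lv2 O ∅ hO (Finset.empty_subset _) even_empty) := by
  have hO8 : O.card = 8 := steiner.1 O hO
  obtain ⟨i, hi⟩ := exists_notMem O (by omega)
  rw [e_lv3_eq h h4 _ j i, e_lv3_eq h h4 hC j i]
  rw [h.tri' (nrm_lv3 hC i) (nrm_lv2 hO Finset.inter_subset_left (even_inter hO.1 hC))
    (nrm_lv3 _ i) (lv3_sub_lv2 hC hO hi), e_lv2' h h4 hO]

/-- The functional on the code. -/
theorem exists_H : ∃ (H : Finset GolayPt → ZMod 2) (c : ZMod 2),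
    (∀ C (hC : C ∈ Words) i, e (lv3 C i hC) = H C + c) ∧
    (∀ O (hO : O ∈ octads), e (lv2 O ∅ hO (Finset.empty_subset _) even_empty) = H O) ∧
    (∀ C ∈ Words, ∀ D ∈ Words, H (symmDiff C D) = H C + H D) ∧ H Finset.univ = 0 := by
  classical
  obtain ⟨c, hc⟩ : ∃ c, c = e (lv3 ∅ none empty_mem) := ⟨_, rfl⟩
  obtain ⟨H, hH⟩ : ∃ H : Finset GolayPt → ZMod 2,
      H = fun C => if hC : C ∈ Words then e (lv3 C none hC) + c else 0 := ⟨_, rfl⟩
  have hH1 : ∀ C (hC : C ∈ Words), H C = e (lv3 C none hC) + c := by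
    intro C hC; rw [hH]; exact dif_pos hC
  have h1 : ∀ C (hC : C ∈ Words) i, e (lv3 C i hC) = H C + c := by
    intro C hC i
    rw [hH1 C hC, e_lv3_eq h h4 hC i none, add_assoc, zmod2_add_self, add_zero]
  have h0 : H ∅ = 0 := by rw [hH1 ∅ empty_mem, ← hc, zmod2_add_self]
  have hA : ∀ C (hC : C ∈ Words) O (hO : O ∈ octads), H (symmDiff C O) =
      H C + e (lv2 O ∅ hO (Finset.empty_subset _) even_empty) := by
    intro C hC O hO
    rw [hH1 _ (symmDiff_mem hC hO.1), hH1 C hC, e_lv3_symmDiff h h4 hC hO none]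
    ring
  have h2 : ∀ O (hO : O ∈ octads),
      e (lv2 O ∅ hO (Finset.empty_subset _) even_empty) = H O := by
    intro O hO
    have h3 := hA ∅ empty_mem O hO
    rw [h0, zero_add] at h3
    rw [← h3]
    congr 1
    exact bot_symmDiff O
  refine ⟨H, c, h1, h2, fun C hC => ?_, ?_⟩
  · apply words_induction
    · rw [h0, add_zero]
      congr 1
      exact symmDiff_bot C
    · intro D hD O hO ih
      rw [← symmDiff_assoc, hA _ (symmDiff_mem hC hD) O hO, ih, hA D hD O hO]
      ring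
  · have h3 := h1 Finset.univ univ_mem none
    rw [lv3_univ, h.neg _ (nrm_lv3 _ _), ← hc] at h3
    have : ∀ a b : ZMod 2, a = b + a → b = 0 := by decide
    exact this _ _ h3

end

theorem ind_add_support (c d : GolayPt → ZMod 2) :
    support₂ (c + d) = symmDiff (support₂ c) (support₂ d) := by
  have h1 := ind_symmDiff (support₂ c) (support₂ d)
  rw [ind_support₂, ind_support₂] at h1
  rw [← h1, support₂_ind]

/-- A functional on the code is given by a set of points. -/
theorem exists_functional {H : Finset GolayPt → ZMod 2}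
    (hH : ∀ C ∈ Words, ∀ D ∈ Words, H (symmDiff C D) = H C + H D) :
    ∃ d : GolayPt → ZMod 2, ∀ C ∈ Words, H C = ∑ i ∈ C, d i := by
  classical
  let f : golayCode →+ ZMod 2 :=
    AddMonoidHom.mk' (fun c => H (support₂ (c : GolayPt → ZMod 2))) fun a b => by
      rw [Submodule.coe_add, ind_add_support]
      exact hH _ (support₂_mem a.2) _ (support₂_mem b.2)
  obtain ⟨g, hg⟩ := LinearMap.exists_extend (f.toZModLinearMap 2)
  refine ⟨fun i => g (Pi.single i 1), fun C hC => ?_⟩
  have hC' : ind C ∈ golayCode := (mem_words_iff C).1 hC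
  have h1 : g (ind C) = H C := by
    have h2 := LinearMap.congr_fun hg ⟨ind C, hC'⟩
    have h3 : (f.toZModLinearMap 2) ⟨ind C, hC'⟩ = H C := by
      show H (support₂ (ind C)) = H C
      rw [support₂_ind]
    rw [← h3, ← h2]
    rfl
  rw [← h1, LinearMap.pi_apply_eq_sum_univ g (ind C)]
  have h4 : ∀ i, ind C i • g (fun j => if i = j then (1 : ZMod 2) else 0) =
      if i ∈ C then g (Pi.single i 1) else 0 := by
    intro i
    have h5 : (fun j => if i = j then (1 : ZMod 2) else 0) = Pi.single i 1 := by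
      funext j
      rw [Pi.single_apply]
      by_cases hij : i = j
      · rw [if_pos hij, if_pos hij.symm]
      · rw [if_neg hij, if_neg (Ne.symm hij)]
    rw [h5, ind_apply]
    split_ifs
    · rw [one_smul]
    · rw [zero_smul]
  rw [Finset.sum_congr rfl fun i _ => h4 i, Finset.sum_ite_mem, Finset.univ_inter]

theorem vec3_eq (C : Finset GolayPt) (i m : GolayPt) :
    vec3 C i m = 1 - 2 * chi C m - (if m = i then 4 * sg C m else 0) := by
  unfold vec3 sg chi
  split_ifs <;> norm_num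

/-- Stage 2: zero on the vectors of type 4. -/
theorem stage2 {e : leechLattice → ZMod 2} (h : Tri e)
    (h4 : ∀ v : leechLattice, Type4 (v : GolayPt → ℤ) → e v = 0) :
    ∃ y : leechLattice, ∀ v : leechLattice, nrm v = 32 → e v = pr y v := by
  classical
  obtain ⟨H, c, h1, h2, h3, huniv⟩ := exists_H h h4
  obtain ⟨d, hd⟩ := exists_functional h3
  obtain ⟨D, hD⟩ : ∃ D, D = Finset.univ.filter fun i => d i = 1 := ⟨_, rfl⟩
  have hchi : ∀ i, ((chi D i : ℤ) : ZMod 2) = d i := by
    intro i; rw [hD]; exact chi_eq d i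
  have hDe : Even D.card := by
    apply even_of_zmod
    have h5 := sum_eq_card d Finset.univ
    rw [← hd _ univ_mem, huniv, Finset.inter_univ, ← hD] at h5
    exact h5.symm
  obtain ⟨k, hk⟩ := hDe
  obtain ⟨y₁, hy₁⟩ : ∃ y₁ : leechLattice, (y₁ : GolayPt → ℤ) = fun i => 4 * chi D i :=
    ⟨⟨_, four_chi_mem ⟨k, hk⟩⟩, rfl⟩
  -- values of `pr y₁`
  have v4 : ∀ i j (hij : i ≠ j) a b (ha : a = 4 ∨ a = -4) (hb : b = 4 ∨ b = -4),
      pr y₁ (lv i j a b hij ha hb) = 0 := by
    intro i j hij a b ha hb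
    rw [pr_eq_zero_iff, dot_lv, hy₁]
    show (16 : ℤ) ∣ a * (4 * chi D i) + b * (4 * chi D j)
    rcases ha with rfl | rfl <;> rcases hb with rfl | rfl <;> omega
  have v2 : ∀ O N (hO : O ∈ octads) (hN : N ⊆ O) (he : Even N.card),
      pr y₁ (lv2 O N hO hN he) = H O := by
    intro O N hO hN he
    have e1 : dot (lv2 O N hO hN he) y₁ =
        8 * ∑ m, (if m ∈ N then (-1 : ℤ) else if m ∈ O then 1 else 0) * chi D m := by
      show dotInt (vec2 O N) _ = _
      unfold dotInt
      rw [hy₁, Finset.mul_sum]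
      refine Finset.sum_congr rfl fun m _ => ?_
      unfold vec2
      split_ifs <;> ring
    rw [pr_eq_of_dot e1, hd O hO.1]
    push_cast
    rw [← Finset.univ_inter O, ← Finset.sum_ite_mem]
    refine Finset.sum_congr rfl fun m _ => ?_
    rw [hchi]
    have hneg : (-1 : ZMod 2) = 1 := by decide
    by_cases hm : m ∈ O
    · by_cases hmN : m ∈ N
      · simp [hm, hmN, hneg]
      · simp [hm, hmN]
    · have hmN : m ∉ N := fun h => hm (hN h)
      simp [hm, hmN]
  have v3 : ∀ C (hC : C ∈ Words) i, pr y₁ (lv3 C i hC) = k + H C := by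
    intro C hC i
    have e1 : dot (lv3 C i hC) y₁ = 8 * (k - ((C ∩ D).card : ℤ) - 2 * (sg C i * chi D i)) := by
      show dotInt (vec3 C i) _ = _
      have e2 : dotInt (vec3 C i) (y₁ : GolayPt → ℤ) =
          ∑ m, (4 * chi D m - 8 * (chi C m * chi D m) -
            (if m = i then 16 * (sg C m * chi D m) else 0)) := by
        unfold dotInt
        refine Finset.sum_congr rfl fun m _ => ?_
        rw [hy₁, vec3_eq]
        split_ifs <;> ring
      rw [e2, Finset.sum_sub_distrib, Finset.sum_sub_distrib, ← Finset.mul_sum, ← Finset.mul_sum,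
        sum_chi, sum_chi_chi, Finset.sum_ite_eq' Finset.univ i, if_pos (Finset.mem_univ i), hk]
      push_cast
      ring
    rw [pr_eq_of_dot e1]
    have e3 : (((C ∩ D).card : ℤ) : ZMod 2) = H C := by
      rw [hd C hC, sum_eq_card, ← hD, Finset.inter_comm]
      push_cast
      rfl
    have e4 : ((2 : ℤ) : ZMod 2) = 0 := by decide
    rw [Int.cast_sub, Int.cast_sub, Int.cast_mul, e3, e4, zero_mul, sub_zero]
    have : ∀ a b : ZMod 2, a - b = a + b := by decide
    rw [this]
    push_cast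
    rfl
  -- the last correction
  obtain ⟨y₂, hy₂⟩ : ∃ y₂ : leechLattice, (y₂ : GolayPt → ℤ) = Pi.single none 8 :=
    ⟨⟨_, Cfsg.Agent.Leech.FrameAux.eight_mem none⟩, rfl⟩
  have hdot₂ : ∀ v : leechLattice, dot v y₂ = 8 * (v : GolayPt → ℤ) none := by
    intro v
    show dotInt _ _ = _
    unfold dotInt
    rw [hy₂, Finset.sum_eq_single none]
    · rw [Pi.single_eq_same, mul_comm]
    · intro m _ hm; rw [Pi.single_eq_of_ne hm, mul_zero]
    · intro h; exact absurd (Finset.mem_univ _) h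
  obtain ⟨κ, hκ⟩ : ∃ κ : ZMod 2, κ = c + k := ⟨_, rfl⟩
  have hex : ∃ y₃ : leechLattice, (∀ v : leechLattice, (v : GolayPt → ℤ) none % 2 = 0 →
      pr y₃ v = 0) ∧ ∀ v : leechLattice, (v : GolayPt → ℤ) none % 2 = 1 → pr y₃ v = κ := by
    have : ∀ a : ZMod 2, a = 0 ∨ a = 1 := by decide
    rcases this κ with hκ0 | hκ1
    · have h0 : ∀ v, pr 0 v = 0 := by
        intro v
        rw [pr_eq_zero_iff, dot_comm]
        have h5 := dot_sub_left 0 0 v
        rw [sub_zero] at h5
        have : dot 0 v = 0 := by omega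
        rw [this]; exact dvd_zero _
      exact ⟨0, fun v _ => h0 v, fun v _ => by rw [h0, hκ0]⟩
    · refine ⟨y₂, fun v hv => ?_, fun v hv => ?_⟩
      · rw [pr_eq_of_dot (hdot₂ v)]
        rw [ZMod.intCast_zmod_eq_zero_iff_dvd]
        push_cast
        omega
      · rw [pr_eq_of_dot (hdot₂ v), hκ1]
        obtain ⟨a, ha⟩ : ∃ a, (v : GolayPt → ℤ) none = 2 * a + 1 := ⟨(v : GolayPt → ℤ) none / 2, by omega⟩
        rw [ha]
        push_cast
        have : (2 : ZMod 2) = 0 := by decide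
        rw [this, zero_mul, zero_add]
  obtain ⟨y₃, hy₃0, hy₃1⟩ := hex
  refine ⟨y₁ + y₃, fun v hv => ?_⟩
  rw [pr_add_left]
  rcases (min_iff _).1 ⟨v.2, hv⟩ with ht | ht | ht
  · rw [h4 v ht]
    obtain ⟨i, j, hij, a, b, ha, hb, hvv⟩ := eq_two_of_type4 ht
    have hvl : v = lv i j a b hij ha hb := Subtype.ext hvv
    rw [hvl, v4, hy₃0, add_zero]
    rw [lv_coe]
    unfold two
    split_ifs <;> omega
  · obtain ⟨O, N, hO, hN, he, rfl⟩ := eq_lv2 ht
    rw [e_lv2' h h4 hO hN he, h2 O hO, v2, hy₃0, add_zero]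
    show vec2 O N none % 2 = 0
    unfold vec2
    split_ifs <;> rfl
  · obtain ⟨C, i, hC, rfl⟩ := eq_lv3 ht
    rw [h1 C hC i, v3, hy₃1, hκ]
    · have : ∀ a b c : ZMod 2, a + b = c + a + (b + c) := by decide
      exact this _ _ _
    · exact type3_odd (type3_vec3 hC i) none

/-- Functions on the minimal vectors additive on triangles are inner products. -/
theorem exists_pr {e : leechLattice → ZMod 2} (h : Tri e) :
    ∃ y : leechLattice, ∀ v : leechLattice, nrm v = 32 → e v = pr y v := by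
  obtain ⟨y₁, h1⟩ := stage1 h
  obtain ⟨y₂, h2⟩ := stage2 (h.add_pr y₁) (fun v hv => by
    show e v + pr y₁ v = 0
    rw [h1 v hv, zmod2_add_self])
  refine ⟨y₁ + y₂, fun v hv => ?_⟩
  rw [pr_add_left, ← h2 v hv]
  have : ∀ a b : ZMod 2, a = b + (a + b) := by decide
  exact this _ _

end Cfsg.Agent.MonsterX.LatCharsTwo
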