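import Mathlib

/-!
# `F₂`-linear maps on 24-bit numbers, kernel-fast

A linear map is given by its 24 columns packed in one number (`24 * 24` bits); `lin` applies it.
`app` applies it with a table of the images of all nibbles (`6 * 16` entries of 24 bits).
-/

set_option autoImplicit false

namespace Cfsg.Agent.MonsterX.Lin24

/-- Column `i`. -/
def col (c i : ℕ) : ℕ := (c >>> (24 * i)) % 16777216

/-- The partial sum of the columns below `n` selected by the bits of `v`. -/
noncomputable def linN (c v n : ℕ) : ℕ :=
  Nat.rec (motive := fun _ => ℕ) 0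
    (fun i r => Nat.xor r (cond (v.testBit i) (col c i) 0)) n

theorem linN_zero (c v : ℕ) : linN c v 0 = 0 := rfl

theorem linN_succ (c v n : ℕ) :
    linN c v (n + 1) = linN c v n ^^^ (cond (v.testBit n) (col c n) 0) := rfl

/-- The linear map with columns `c`. -/
noncomputable def lin (c v : ℕ) : ℕ := linN c v 24

theorem xor_mid (a b c d : ℕ) : (a ^^^ b) ^^^ (c ^^^ d) = (a ^^^ c) ^^^ (b ^^^ d) := by
  apply Nat.eq_of_testBit_eq
  intro i
  simp only [Nat.testBit_xor]
  cases a.testBit i <;> cases b.testBit i <;> cases c.testBit i <;> cases d.testBit i <;> rfl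

theorem linN_xor (c v w n : ℕ) : linN c (v ^^^ w) n = linN c v n ^^^ linN c w n := by
  induction n with
  | zero => simp [linN_zero]
  | succ n ih =>
    rw [linN_succ, linN_succ, linN_succ, ih, xor_mid]
    congr 1
    rw [Nat.testBit_xor]
    cases v.testBit n <;> cases w.testBit n <;> simp

theorem lin_xor (c v w : ℕ) : lin c (v ^^^ w) = lin c v ^^^ lin c w := linN_xor c v w 24

theorem linN_of_zero (c n : ℕ) : linN c 0 n = 0 := by
  induction n with
  | zero => rfl
  | succ n ih => rw [linN_succ, ih]; simp

theorem lin_zero (c : ℕ) : lin c 0 = 0 := linN_of_zero c 24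

theorem col_lt (c i : ℕ) : col c i < 16777216 := Nat.mod_lt _ (by norm_num)

theorem linN_lt (c v n : ℕ) : linN c v n < 2 ^ 24 := by
  induction n with
  | zero => rw [linN_zero]; norm_num
  | succ n ih =>
    rw [linN_succ]
    refine Nat.xor_lt_two_pow ih ?_
    cases v.testBit n
    · norm_num
    · exact col_lt c n

theorem lin_lt (c v : ℕ) : lin c v < 2 ^ 24 := linN_lt c v 24

/-- All `i < n` satisfy the Boolean test `p`. -/
noncomputable def allB (n : ℕ) (p : ℕ → Bool) : Bool :=
  Nat.rec (motive := fun _ => Bool) true (fun i r => cond (p i) r false) n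

theorem allB_sound {n : ℕ} {p : ℕ → Bool} (h : allB n p = true) : ∀ i, i < n → p i = true := by
  induction n with
  | zero => intro i hi; omega
  | succ n ih =>
    have h2 : (cond (p n) (allB n p) false) = true := h
    cases hp : p n with
    | false => rw [hp] at h2; exact absurd h2 (by simp)
    | true =>
      rw [hp] at h2
      intro i hi
      rcases Nat.lt_succ_iff_lt_or_eq.1 hi with h3 | h3
      · exact ih h2 i h3
      · rw [h3]; exact hp

/-- `C = A ∘ B`. -/
noncomputable def cmpOK (A B C : ℕ) : Bool := allB 24 fun i => Nat.beq (col C i) (lin A (col B i))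

theorem lin_cmp {A B C : ℕ} (h : cmpOK A B C = true) (v : ℕ) : lin C v = lin A (lin B v) := by
  have h1 : ∀ n, n ≤ 24 → linN C v n = lin A (linN B v n) := by
    intro n
    induction n with
    | zero => intro _; rw [linN_zero, linN_zero, lin_zero]
    | succ n ih =>
      intro hn
      rw [linN_succ, linN_succ, lin_xor, ih (by omega)]
      congr 1
      have h2 := Nat.eq_of_beq_eq_true (allB_sound h n (by omega))
      cases v.testBit n
      · exact (lin_zero A).symm
      · exact h2
  exact h1 24 le_rfl

/-- The columns of the identity. -/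
def idc : ℕ := 0x800000400000200000100000080000040000020000010000008000004000002000001000000800000400000200000100000080000040000020000010000008000004000002000001

theorem lin_one {v : ℕ} (hv : v < 2 ^ 24) : lin idc v = v := by
  have h0 : allB 24 (fun i => Nat.beq (col idc i) (2 ^ i)) = true := by decide +kernel
  have h1 : ∀ n, n ≤ 24 → ∀ j, (linN idc v n).testBit j = (decide (j < n) && v.testBit j) := by
    intro n
    induction n with
    | zero => intro _ j; rw [linN_zero]; simp
    | succ n ih =>
      intro hn j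
      have h2 := Nat.eq_of_beq_eq_true (allB_sound h0 n (by omega))
      rw [linN_succ, Nat.testBit_xor, ih (by omega), h2]
      by_cases hj : j = n
      · subst hj
        cases hvj : v.testBit j <;> simp
      · have h3 : (cond (v.testBit n) (2 ^ n) 0).testBit j = false := by
          cases v.testBit n
          · simp
          · simp only [cond_true]; rw [Nat.testBit_two_pow]; simpa using (Ne.symm hj)
        rw [h3, Bool.xor_false]
        congr 1
        by_cases h4 : j < n
        · simp [h4, Nat.lt_succ_of_lt h4]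
        · have : ¬ j < n + 1 := by omega
          simp [h4, this]
  apply Nat.eq_of_testBit_eq
  intro j
  show (linN idc v 24).testBit j = _
  rw [h1 24 le_rfl]
  by_cases hj : j < 24
  · simp [hj]
  · have : v.testBit j = false := Nat.testBit_lt_two_pow (lt_of_lt_of_le hv
      (Nat.pow_le_pow_right (by norm_num) (by omega)))
    simp [this]

/-! ### Nibble tables -/

/-- Entry `a` of the table of nibble `k`. -/
def ent (t k a : ℕ) : ℕ := (t >>> (384 * k + 24 * a)) % 16777216

/-- The image computed with the nibble tables. -/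
def app (t v : ℕ) : ℕ :=
  Nat.xor (Nat.xor (Nat.xor (ent t 0 (v % 16)) (ent t 1 ((v >>> 4) % 16)))
    (Nat.xor (ent t 2 ((v >>> 8) % 16)) (ent t 3 ((v >>> 12) % 16))))
    (Nat.xor (ent t 4 ((v >>> 16) % 16)) (ent t 5 ((v >>> 20) % 16)))

/-- The table `t` belongs to the columns `c`. -/
noncomputable def tabOK (t c : ℕ) : Bool :=
  allB 6 fun k => allB 16 fun a => Nat.beq (ent t k a) (lin c (a <<< (4 * k)))

theorem split {v : ℕ} (hv : v < 2 ^ 24) :
    v = ((((v % 16) <<< 0) ^^^ (((v >>> 4) % 16) <<< 4)) ^^^
      ((((v >>> 8) % 16) <<< 8) ^^^ (((v >>> 12) % 16) <<< 12))) ^^^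
      ((((v >>> 16) % 16) <<< 16) ^^^ (((v >>> 20) % 16) <<< 20)) := by
  apply Nat.eq_of_testBit_eq
  intro i
  have h16 : (16 : ℕ) = 2 ^ 4 := by norm_num
  simp only [h16, Nat.testBit_xor, Nat.testBit_shiftLeft, Nat.testBit_mod_two_pow,
    Nat.testBit_shiftRight]
  by_cases h : i < 24
  · interval_cases i <;> simp
  · have h1 : v.testBit i = false := Nat.testBit_lt_two_pow (lt_of_lt_of_le hv
      (Nat.pow_le_pow_right (by norm_num) (by omega)))
    have e : ∀ k, k ≤ 20 → ¬ (i - k < 4) := fun k hk => by omega
    simp [h1, e 4 (by norm_num), e 8 (by norm_num), e 12 (by norm_num),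
      e 16 (by norm_num), e 20 (by norm_num)]

theorem app_eq {t c : ℕ} (h : tabOK t c = true) {v : ℕ} (hv : v < 2 ^ 24) : app t v = lin c v := by
  have h1 : ∀ k, k < 6 → ∀ a, a < 16 → ent t k a = lin c (a <<< (4 * k)) := fun k hk a ha => by
    exact Nat.eq_of_beq_eq_true (allB_sound (allB_sound h k hk) a ha)
  have hm : ∀ a : ℕ, a % 16 < 16 := fun a => Nat.mod_lt _ (by norm_num)
  conv_rhs => rw [split hv]
  simp only [lin_xor]
  rw [← h1 1 (by norm_num) _ (hm _), ← h1 2 (by norm_num) _ (hm _), ← h1 3 (by norm_num) _ (hm _),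
    ← h1 4 (by norm_num) _ (hm _), ← h1 5 (by norm_num) _ (hm _)]
  have h0 := h1 0 (by norm_num) _ (hm v)
  rw [Nat.mul_zero] at h0
  rw [← h0]
  rfl

theorem app_lt (t v : ℕ) : app t v < 2 ^ 24 := by
  have h : ∀ k a, ent t k a < 2 ^ 24 := fun k a => Nat.mod_lt _ (by norm_num)
  exact Nat.xor_lt_two_pow (Nat.xor_lt_two_pow (Nat.xor_lt_two_pow (h _ _) (h _ _))
    (Nat.xor_lt_two_pow (h _ _) (h _ _))) (Nat.xor_lt_two_pow (h _ _) (h _ _))

end Cfsg.Agent.MonsterX.Lin24
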