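import Cfsg.Agent.MonsterX.MainBasic

/-!
# The abstract theorem for the Monster, part 2: the order of `G`
-/

set_option autoImplicit false

namespace Cfsg.Agent.MonsterX.MainOrder

open Cfsg.Agent.MonsterX.Model Cfsg.Agent.MonsterX.MainBasic

/-- pairs `(s, x) ∈ S × X` with value `v0` -/
theorem card_pairs {G V α : Type*} [Group G] [MulAction G V] (K : Subgroup G) (F : V → V → α)
    (hF : ∀ (g : G) (x y : V), F (g • x) (g • y) = F x y)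
    (X S : Set V) (a0 : V) (hS : S = MulAction.orbit K a0)
    (hXK : ∀ k ∈ K, ∀ x ∈ X, k • x ∈ X) (v0 : α) :
    Nat.card {p : V × V // p.1 ∈ S ∧ p.2 ∈ X ∧ F p.1 p.2 = v0} =
      Nat.card {b // b ∈ X ∧ F a0 b = v0} * Nat.card S := by
  rw [mul_comm, ← Nat.card_prod]
  have hc : ∀ s : S, ∃ k : K, k • a0 = (s : V) := by
    rintro ⟨s, hs⟩
    rw [hS] at hs
    exact hs
  choose k hk using hc
  refine Nat.card_congr ⟨fun p => (⟨p.1.1, p.2.1⟩,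
      ⟨(k ⟨p.1.1, p.2.1⟩)⁻¹ • p.1.2, hXK _ (K.inv_mem (k _).2) _ p.2.2.1, ?_⟩),
    fun q => ⟨(q.1, k q.1 • q.2.1), q.1.2, hXK _ (k q.1).2 _ q.2.2.1, ?_⟩, ?_, ?_⟩
  · have h1 := hk ⟨p.1.1, p.2.1⟩
    have h2 := hF (k ⟨p.1.1, p.2.1⟩ : G) a0 (((k ⟨p.1.1, p.2.1⟩ : K) : G)⁻¹ • p.1.2)
    rw [smul_inv_smul] at h2
    change F a0 (((k ⟨p.1.1, p.2.1⟩ : K) : G)⁻¹ • p.1.2) = v0
    rw [← h2]
    change F ((k ⟨p.1.1, p.2.1⟩ : K) • a0) _ = v0
    rw [h1]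
    exact p.2.2.2
  · have h1 := hk q.1
    change F (q.1 : V) (((k q.1 : K) : G) • q.2.1) = v0
    rw [← h1]
    change F (((k q.1 : K) : G) • a0) _ = v0
    rw [hF]
    exact q.2.2.2
  · rintro ⟨⟨a, b⟩, h⟩
    simp
  · rintro ⟨s, ⟨b, hb⟩⟩
    simp

variable {W : Type} [AddCommGroup W] [Module ℚ W] {M : MData W} {K₀ : Type} [Group K₀]

theorem trans_R (hR : MRep M) (hO : MOrbit M) {b : W} (hb : b ∈ M.X) (hv : M.F M.a₀ b = 0) :
    ∃ g ∈ M.G, g M.a₀ = M.a₀ ∧ g M.a₁ = b := by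
  obtain ⟨j, h, hh, rfl⟩ := hb
  have h1 : M.F (h⁻¹ M.a₀) (M.d j) = 0 := by
    rw [← hR.C_isom h hh, apply_inv', hv]
  obtain ⟨g, hg, e1, e2⟩ := hO.trans₂ j (h⁻¹ M.a₀) ⟨h⁻¹, M.C.inv_mem hh, rfl⟩ h1
  refine ⟨h * g⁻¹, M.G.mul_mem (C_le hh) (M.G.inv_mem hg), ?_, ?_⟩
  · rw [LinearEquiv.mul_apply, ← eq_inv_apply g e1, apply_inv']
  · rw [LinearEquiv.mul_apply, ← e2, inv_apply']

theorem card_R (hR : MRep M) (hO : MOrbit M) :
    Nat.card {b // b ∈ M.X ∧ M.F M.a₀ b = 0} = 11707448673375 := by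
  have e := card_pairs (G := M.G) (V := W) (M.C.subgroupOf M.G) (fun x y => M.F x y)
    (fun g x y => G_isom hO hR g.2 x y) M.X M.S M.a₀ (by
      ext x
      constructor
      · rintro ⟨k, hk, rfl⟩
        exact ⟨⟨⟨k, C_le hk⟩, hk⟩, rfl⟩
      · rintro ⟨⟨⟨k, hk⟩, hk'⟩, rfl⟩
        exact ⟨k, hk', rfl⟩) (fun k hk x hx => C_X hk hx) (0 : ℚ)
  have h1 : Nat.card {p : W × W // p.1 ∈ M.S ∧ p.2 ∈ M.X ∧ M.F p.1 p.2 = 0} =
      11707448673375 * 196560 := by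
    rw [← hO.card_pairs, ← Nat.card_coe_set_eq]
    rfl
  have h2 : Nat.card M.S = 196560 := by rw [Nat.card_coe_set_eq, hR.S_card]
  rw [h1, h2] at e
  exact (Nat.eq_of_mul_eq_mul_right (by norm_num) e).symm

theorem card_G (hG : MGroup M K₀) (hR : MRep M) (hL : MLat M) (hO : MOrbit M) :
    Nat.card M.G = 808017424794512875886459904961710757005754368000000000 := by
  have := G_finite hO
  have e := Monster.AbstractOrder.card_group (G := M.G) (V := W) (M.C.subgroupOf M.G) M.X M.S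
    {b | b ∈ M.X ∧ M.F M.a₀ b = 0} M.a₀ M.a₁
    (by
      ext x
      constructor
      · intro hx
        obtain ⟨g, hg, e⟩ := X_eq_orbit hO hx
        exact ⟨⟨g, hg⟩, e⟩
      · rintro ⟨⟨g, hg⟩, rfl⟩
        exact G_X hO hg (S_sub_X hO a₀_mem_S))
    (by
      ext x
      constructor
      · rintro ⟨k, hk, rfl⟩
        exact ⟨⟨⟨k, C_le hk⟩, hk⟩, rfl⟩
      · rintro ⟨⟨⟨k, hk⟩, hk'⟩, rfl⟩
        exact ⟨k, hk', rfl⟩)
    (by
      rintro ⟨g, hg⟩ h0 h1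
      exact pair_stab hG hR hL hO hg h0 h1)
    (by
      rintro ⟨k, hk⟩ hk' h0
      exact C_a₁ hR hk' h0)
    (by
      rintro ⟨g, hg⟩ h0
      refine ⟨G_X hO hg (S_sub_X hO (a₁_mem_S hG hR)), ?_⟩
      change M.F M.a₀ (g M.a₁) = 0
      have h1 := G_isom hO hR hg M.a₀ M.a₁
      rw [show g M.a₀ = M.a₀ from h0, hL.F_a₁] at h1
      exact h1)
    (by
      rintro b ⟨hb, hv⟩
      obtain ⟨g, hg, e0, e1⟩ := trans_R hR hO hb hv
      exact ⟨⟨g, hg⟩, e0, e1⟩)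
  have h1 : Nat.card M.S = 196560 := by rw [Nat.card_coe_set_eq, hR.S_card]
  have h2 : Nat.card M.X = 97239461142009186000 := by rw [Nat.card_coe_set_eq, hO.card_X]
  have h3 : Nat.card ({b | b ∈ M.X ∧ M.F M.a₀ b = 0} : Set W) = 11707448673375 := card_R hR hO
  have h4 : Nat.card (M.C.subgroupOf M.G) = 2 ^ 25 * 4157776806543360000 := by
    rw [← card_C hG]
    exact Nat.card_congr (Subgroup.subgroupOfEquivOfLe C_le).toEquiv
  rw [h1, h2, h3, h4] at e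
  omega

end Cfsg.Agent.MonsterX.MainOrder
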