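import Cfsg.Agent.MonsterX.MainTrans
import Cfsg.Agent.MonsterX.SimpleCrit
import Cfsg.Prelude.Def_Sporadic

/-!
# The abstract theorem for the Monster, part 4: simplicity
-/

set_option autoImplicit false

namespace Cfsg.Agent.MonsterX.MainSimple

open Cfsg.Agent.MonsterX.Model Cfsg.Agent.MonsterX.MainBasic Cfsg.Agent.MonsterX.MainTrans

variable {W : Type} [AddCommGroup W] [Module ℚ W] {M : MData W} {K₀ : Type} [Group K₀]

/-- `z` as an element of `G` -/
def zG (hG : MGroup M K₀) : M.G := ⟨M.z, C_le (hG.Q_le hG.z_mem)⟩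

theorem mem_cent_iff (hG : MGroup M K₀) (hR : MRep M) (hL : MLat M) (hO : MOrbit M)
    (hT : MTrans M) (g : M.G) :
    g ∈ Subgroup.centralizer ({zG hG} : Set M.G) ↔ (g : W ≃ₗ[ℚ] W) ∈ M.C := by
  rw [SimpleCrit.mem_cent]
  constructor
  · intro h
    exact cent_z hG hR hL hO hT g.2 (congrArg Subtype.val h)
  · intro h
    exact Subtype.ext (hG.z_comm g h)

theorem hyp (hG : MGroup M K₀) (hR : MRep M) (hL : MLat M) (hO : MOrbit M) (hT : MTrans M) :
    SimpleCrit.Hyp (zG hG) (M.Q.subgroupOf M.G) where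
  sq := Subtype.ext hG.z_sq
  ne := fun h => hG.z_ne (congrArg Subtype.val h)
  two := by
    have h1 : Nat.card (M.Q.subgroupOf M.G) = 2 ^ 25 := by
      rw [← hG.Q_card]
      exact Nat.card_congr (Subgroup.subgroupOfEquivOfLe (hG.Q_le.trans C_le)).toEquiv
    exact IsPGroup.of_card h1
  mem := hG.z_mem
  le := by
    intro q hq
    rw [mem_cent_iff hG hR hL hO hT]
    exact hG.Q_le hq
  inv := by
    intro c hc q hq
    rw [mem_cent_iff hG hR hL hO hT] at hc
    exact Q_normal hG c hc q hq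
  irr := by
    intro R hR' hc
    have h1 := hG.Q_irred (R.map M.G.subtype) (by
      rintro _ ⟨r, hr, rfl⟩
      exact hR' hr) (by
      rintro g hg _ ⟨r, hr, rfl⟩
      exact ⟨⟨g, C_le hg⟩ * r * ⟨g, C_le hg⟩⁻¹,
        hc ⟨g, C_le hg⟩ ((mem_cent_iff hG hR hL hO hT _).2 hg) r hr, rfl⟩)
    rcases h1 with h1 | h1
    · left
      intro r hr
      rcases h1 r ⟨r, hr, rfl⟩ with h2 | h2
      · exact Or.inl (Subtype.ext h2)
      · exact Or.inr (Subtype.ext h2)
    · right
      ext x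
      constructor
      · intro hx
        exact hR' hx
      · intro hx
        have h2 : (x : W ≃ₗ[ℚ] W) ∈ R.map M.G.subtype := by
          rw [h1]
          exact hx
        obtain ⟨r, hr, e⟩ := h2
        have : r = x := Subtype.ext e
        rwa [← this]
  top := by
    intro R hQR hRC hc
    obtain ⟨π, hs, hπ⟩ := hG.quot
    have := hG.simple
    -- the image of `R` in `K₀`
    have hCG : ∀ c : M.C, (⟨c, C_le c.2⟩ : M.G) ∈ Subgroup.centralizer ({zG hG} : Set M.G) :=
      fun c => (mem_cent_iff hG hR hL hO hT _).2 c.2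
    let R' : Subgroup M.C := R.comap (Subgroup.inclusion C_le)
    have hR'n : R'.Normal := by
      refine ⟨fun r hr c => ?_⟩
      exact hc ⟨c, C_le c.2⟩ (hCG c) _ hr
    have hker : π.ker ≤ R' := by
      intro x hx
      exact hQR ((hπ x).1 hx)
    have hmapn : (R'.map π).Normal := hR'n.map π hs
    rcases hmapn.eq_bot_or_eq_top with h | h
    · left
      refine le_antisymm ?_ hQR
      intro x hx
      have hxC : (x : W ≃ₗ[ℚ] W) ∈ M.C := (mem_cent_iff hG hR hL hO hT _).1 (hRC hx)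
      have h1 : π ⟨x, hxC⟩ ∈ R'.map π := ⟨⟨x, hxC⟩, hx, rfl⟩
      rw [h, Subgroup.mem_bot] at h1
      exact (hπ _).1 h1
    · right
      refine le_antisymm hRC ?_
      intro x hx
      have hxC : (x : W ≃ₗ[ℚ] W) ∈ M.C := (mem_cent_iff hG hR hL hO hT _).1 hx
      have h1 : π ⟨x, hxC⟩ ∈ R'.map π := by
        rw [h]
        trivial
      obtain ⟨r, hr, e⟩ := h1
      have h2 : r⁻¹ * ⟨x, hxC⟩ ∈ R' := by
        apply hker
        rw [MonoidHom.mem_ker, map_mul, map_inv, e, inv_mul_cancel]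
      have h3 := R'.mul_mem hr h2
      rw [mul_inv_cancel_left] at h3
      exact h3
  fus := ⟨⟨M.τ, τ_mem⟩, hO.τ_z, fun h => hO.τ_z_ne (congrArg Subtype.val h)⟩
  out := by
    obtain ⟨q, hq, h1, h2⟩ := hO.τ_q
    refine ⟨⟨q, C_le (hG.Q_le hq)⟩, hq, ⟨M.τ, τ_mem⟩, ?_, h2⟩
    rw [mem_cent_iff hG hR hL hO hT]
    exact h1
  nab := by
    obtain ⟨y, hy, _, hy1⟩ := exists_y hG hR
    refine ⟨⟨y, C_le (hG.Q_le hy)⟩, hy, ⟨M.t₀, C_le (hG.Q_le hR.t₀_mem)⟩, hR.t₀_mem, ?_⟩
    intro h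
    have h1 : y * M.t₀ = M.t₀ * y := congrArg Subtype.val h
    rw [h1, mul_inv_cancel_right] at hy1
    exact hG.z_ne (by simpa using hy1.symm)

theorem isSimple (hG : MGroup M K₀) (hR : MRep M) (hL : MLat M) (hO : MOrbit M)
    (hT : MTrans M) : IsSimpleGroup M.G := by
  have := G_finite hO
  exact (hyp hG hR hL hO hT).isSimpleGroup

/-- **The group of the model is the Monster.** -/
theorem isM (hG : MGroup M K₀) (hR : MRep M) (hL : MLat M) (hO : MOrbit M)
    (hT : MTrans M) : Cfsg.IsM M.G :=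
  ⟨isSimple hG hR hL hO hT, MainOrder.card_G hG hR hL hO⟩

end Cfsg.Agent.MonsterX.MainSimple
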