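import Cfsg.Agent.MonsterX.MatAct

/-!
# The kernel checks of the action of the letters `0 … 39` on the symmetric matrices
-/

set_option autoImplicit false
set_option maxRecDepth 100000
set_option Elab.async false

namespace Cfsg.Agent.MonsterX.MatAct

open ProgTable Cfsg.Agent.Monster.VecEngine Cfsg.Agent.Monster.VecSpace
open Cfsg.Agent.MonsterX.ProgBase Cfsg.Agent.MonsterX.Space

/-- The check for the letter `n`. -/
noncomputable def ck (n : ℕ) : Bool := chk (prog n) (Nat.ble 39 n) (nzT n) (ngT n)


theorem ck_0 : ck 0 = true := by decide +kernel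

theorem ck_1 : ck 1 = true := by decide +kernel

theorem ck_2 : ck 2 = true := by decide +kernel

theorem ck_3 : ck 3 = true := by decide +kernel

theorem ck_4 : ck 4 = true := by decide +kernel

theorem ck_5 : ck 5 = true := by decide +kernel

theorem ck_6 : ck 6 = true := by decide +kernel

theorem ck_7 : ck 7 = true := by decide +kernel

theorem ck_8 : ck 8 = true := by decide +kernel

theorem ck_9 : ck 9 = true := by decide +kernel

theorem ck_10 : ck 10 = true := by decide +kernel

theorem ck_11 : ck 11 = true := by decide +kernel

theorem ck_12 : ck 12 = true := by decide +kernel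

theorem ck_13 : ck 13 = true := by decide +kernel

theorem ck_14 : ck 14 = true := by decide +kernel

theorem ck_15 : ck 15 = true := by decide +kernel

theorem ck_16 : ck 16 = true := by decide +kernel

theorem ck_17 : ck 17 = true := by decide +kernel

theorem ck_18 : ck 18 = true := by decide +kernel

theorem ck_19 : ck 19 = true := by decide +kernel

theorem ck_20 : ck 20 = true := by decide +kernel

theorem ck_21 : ck 21 = true := by decide +kernel

theorem ck_22 : ck 22 = true := by decide +kernel

theorem ck_23 : ck 23 = true := by decide +kernel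

theorem ck_24 : ck 24 = true := by decide +kernel

theorem ck_25 : ck 25 = true := by decide +kernel

theorem ck_26 : ck 26 = true := by decide +kernel

theorem ck_27 : ck 27 = true := by decide +kernel

theorem ck_28 : ck 28 = true := by decide +kernel

theorem ck_29 : ck 29 = true := by decide +kernel

theorem ck_30 : ck 30 = true := by decide +kernel

theorem ck_31 : ck 31 = true := by decide +kernel

theorem ck_32 : ck 32 = true := by decide +kernel

theorem ck_33 : ck 33 = true := by decide +kernel

theorem ck_34 : ck 34 = true := by decide +kernel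

theorem ck_35 : ck 35 = true := by decide +kernel

theorem ck_36 : ck 36 = true := by decide +kernel

theorem ck_37 : ck 37 = true := by decide +kernel

theorem ck_38 : ck 38 = true := by decide +kernel

theorem ck_39 : ck 39 = true := by decide +kernel

theorem ck_all (n : ℕ) (hn : n < 40) : ck n = true := by
  interval_cases n
  · exact ck_0
  · exact ck_1
  · exact ck_2
  · exact ck_3
  · exact ck_4
  · exact ck_5
  · exact ck_6
  · exact ck_7
  · exact ck_8
  · exact ck_9
  · exact ck_10
  · exact ck_11
  · exact ck_12
  · exact ck_13
  · exact ck_14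
  · exact ck_15
  · exact ck_16
  · exact ck_17
  · exact ck_18
  · exact ck_19
  · exact ck_20
  · exact ck_21
  · exact ck_22
  · exact ck_23
  · exact ck_24
  · exact ck_25
  · exact ck_26
  · exact ck_27
  · exact ck_28
  · exact ck_29
  · exact ck_30
  · exact ck_31
  · exact ck_32
  · exact ck_33
  · exact ck_34
  · exact ck_35
  · exact ck_36
  · exact ck_37
  · exact ck_38
  · exact ck_39

/-- The transposition. -/
theorem ck_tr : all 24 (fun a => all 24 fun b => check [trP] (.cons (bp a b) (.sgn 0)) [] (.cons (bp b a) (.sgn 0))) =
    true := by decide +kernel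

/-- The lanes of the matrix entries. -/
theorem ck_mat : all 24 (fun a => all 24 fun b => and (Nat.testBit U (ln a b)) (Nat.testBit matM (ln a b))) = true := by
  decide +kernel

/-- The mask of all matrix entries. -/
noncomputable def orB (m n : ℕ) : ℕ :=
  Nat.rec (motive := fun _ => ℕ) 0 (fun a ih => Nat.lor
    (Nat.rec (motive := fun _ => ℕ) 0 (fun b jh => Nat.lor (bp a b) jh) n) ih) m

theorem testBit_orB {m n i : ℕ} (h : (orB m n).testBit i = true) : ∃ a < m, ∃ b < n, i = ln a b := by
  have key : ∀ (a n : ℕ), (Nat.rec (motive := fun _ => ℕ) 0 (fun b jh => Nat.lor (bp a b) jh) n : ℕ).testBit i = true →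
      ∃ b < n, i = ln a b := by
    intro a n
    induction n with
    | zero => intro h; exact absurd (show Nat.testBit 0 i = true from h) (by simp)
    | succ n ih =>
      intro h
      have h' : ((bp a n) ||| (Nat.rec (motive := fun _ => ℕ) 0 (fun b jh => Nat.lor (bp a b) jh) n : ℕ)).testBit i =
        true := h
      rw [Nat.testBit_or, Bool.or_eq_true] at h'
      rcases h' with h' | h'
      · rw [testBit_bp, decide_eq_true_eq] at h'
        exact ⟨n, by omega, h'⟩
      · obtain ⟨b, hb, e⟩ := ih h'
        exact ⟨b, by omega, e⟩
  induction m with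
  | zero => exact absurd (show Nat.testBit 0 i = true from h) (by simp)
  | succ m ih =>
    have h' : ((Nat.rec (motive := fun _ => ℕ) 0 (fun b jh => Nat.lor (bp m b) jh) n : ℕ) ||| orB m n).testBit i =
      true := h
    rw [Nat.testBit_or, Bool.or_eq_true] at h'
    rcases h' with h' | h'
    · obtain ⟨b, hb, e⟩ := key m n h'
      exact ⟨m, by omega, b, hb, e⟩
    · obtain ⟨a, ha, b, hb, e⟩ := ih h'
      exact ⟨a, by omega, b, hb, e⟩

theorem orB_eq : orB 24 24 = matM :=
  Nat.eq_of_beq_eq_true (show Nat.beq (orB 24 24) matM = true by decide +kernel)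

/-- The lanes of `matM` are the lanes of the matrix entries. -/
theorem exists_ln {i : ℕ} (h : matM.testBit i = true) : ∃ a < 24, ∃ b < 24, i = ln a b := by
  rw [← orB_eq] at h
  exact testBit_orB h

theorem slotT_lt : ∀ a < 24, slotT.getD a 0 < 24 := by decide +kernel

theorem slotT_inj : ∀ a < 24, ∀ b < 24, slotT.getD a 0 = slotT.getD b 0 → a = b := by decide +kernel

theorem ln_inj {a b a' b' : ℕ} (ha : a < 24) (hb : b < 24) (ha' : a' < 24) (hb' : b' < 24)
    (h : ln a b = ln a' b') : a = a' ∧ b = b' := by
  have h1 := slotT_lt b hb
  have h2 := slotT_lt b' hb'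
  unfold ln at h
  exact ⟨slotT_inj a ha a' ha' (by omega), slotT_inj b hb b' hb' (by omega)⟩

end Cfsg.Agent.MonsterX.MatAct
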