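import Cfsg.Agent.MonsterX.InstData
import Cfsg.Agent.MonsterX.CertVec
import Cfsg.Agent.MonsterX.CertPairs

/-!
# Orders of the products `t₀ t_y`, `y` an axis: checks on vectors

`y = W (w ++ u) a₀` (`w` the word of `d j`, `u` a word in the letters of `C`).  `pairC k w u` is a kernel check
(`k = 0, 1, 2, 3, 4`) which gives `(t₀ t_y) ^ n = 1` with `n = 1, 2, 4, 6, 5`.
-/

set_option autoImplicit false

namespace Cfsg.Agent.MonsterX.OrdChk

open Cfsg.Agent.Monster.VecEngine Cfsg.Agent.Monster.VecSpace Cfsg.Agent.MonsterX.Space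
open Cfsg.Agent.MonsterX.ProgTable Cfsg.Agent.MonsterX.GensT Cfsg.Agent.MonsterX.ProgBase
open Cfsg.Agent.MonsterX.Conc Cfsg.Agent.MonsterX.Model Cfsg.Agent.MonsterX.InstData

/-! ### Evaluation of words -/

theorem good_list (w : List ℕ) : ∀ P ∈ w.map prog, GoodT P := progs_goodT w

/-- The result of a run is the vector of the word. -/
theorem run_W {w : List ℕ} {x : Pl} {k : Pl → Bool} (h : runL (CertVec.dec prog w) x k = true) :
    ∃ y, W w (vecV x) = vecV y ∧ k y = true := by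
  rw [CertVec.dec_eq] at h
  obtain ⟨y, hy, hk⟩ := runL_sound ℚ two_ne_zero (w.map prog) (fun P hP => (good_list w P hP).good.ok) x k h
  refine ⟨y, ?_, hk⟩
  unfold W vecV
  rw [WP_pr (good_list w)]
  congr 1
  rw [vecU_eq, vecU_eq, hy, res_semL ℚ (fun P hP => (good_list w P hP).good.pres)]

/-- `256` times the base axis. -/
noncomputable def A : Pl := up 8 a0B

theorem vecV_A : vecV A = (2 : ℚ) ^ 8 • vecV a0B := vecV_up 8 a0B

/-- `t₀` fixes the vector `W w a₀`. -/
noncomputable def fixC (w : List ℕ) : Bool :=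
  runL (CertVec.dec prog w) A fun y => checkFix (CertVec.dec prog [13, 14]) y

theorem smul_cancel {x y : V} (h : (2 : ℚ) ^ 8 • x = (2 : ℚ) ^ 8 • y) : x = y :=
  smul_right_injective V (pow_ne_zero 8 (two_ne_zero : (2 : ℚ) ≠ 0)) h

theorem fixC_sound {w : List ℕ} (h : fixC w = true) : M.t₀ (W w M.a₀) = W w M.a₀ := by
  obtain ⟨y, hy, hk⟩ := run_W h
  rw [CertVec.dec_eq] at hk
  have h1 : W [13, 14] (vecV y) = vecV y := W_fix_of_check hk
  rw [← hy, vecV_A, map_smul, map_smul] at h1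
  rw [M_a₀]
  exact smul_cancel h1

/-- `W w₁ a₀ = W w₂ a₀`. -/
noncomputable def eqC (w₁ w₂ : List ℕ) : Bool := check (CertVec.dec prog w₁) A (CertVec.dec prog w₂) A

theorem eqC_sound {w₁ w₂ : List ℕ} (h : eqC w₁ w₂ = true) : W w₁ M.a₀ = W w₂ M.a₀ := by
  unfold eqC at h
  rw [CertVec.dec_eq, CertVec.dec_eq] at h
  have h1 := W_eq_of_check h
  rw [vecV_A, map_smul, map_smul] at h1
  rw [M_a₀]
  exact smul_cancel h1

/-! ### Inverse words -/

/-- The inverse letter. -/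
noncomputable def iv (n : ℕ) : ℕ :=
  Bool.rec (Bool.rec (Bool.rec n (Nat.xor n 1) (Nat.beq (Nat.div n 2) 20)) (Nat.sub n 6) (Nat.ble 42 n && Nat.ble n 44))
    (Nat.add n 6) (Nat.ble 36 n && Nat.ble n 38)

example : iv 36 = 42 := by decide +kernel
example : iv 40 = 41 := by decide +kernel
example : iv 41 = 40 := by decide +kernel
example : iv 44 = 38 := by decide +kernel
example : iv 39 = 39 := by decide +kernel
example : iv 45 = 45 := by decide +kernel

/-- The inverse word, in front of `acc`. -/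
noncomputable def ivA (w : List ℕ) : List ℕ → List ℕ :=
  List.rec (motive := fun _ => List ℕ → List ℕ) (fun acc => acc) (fun n _ ih acc => ih (iv n :: acc)) w

/-- Concatenation. -/
noncomputable def cat (w : List ℕ) (v : List ℕ) : List ℕ :=
  List.rec (motive := fun _ => List ℕ) v (fun n _ ih => n :: ih) w

theorem cat_eq (w v : List ℕ) : cat w v = w ++ v := by
  induction w with
  | nil => rfl
  | cons n w ih => show n :: cat w v = _; rw [ih]; rfl

/-- The inverse letters are inverse. -/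
def Inv : Prop := ∀ n < 46, E (iv n) * E n = 1

/-- All letters are less than `46`. -/
def Lt (w : List ℕ) : Prop := ∀ n ∈ w, n < 46

theorem W_ivA (hI : Inv) (w acc : List ℕ) (hw : Lt w) : W (ivA w acc) = W acc * (W w)⁻¹ := by
  induction w generalizing acc with
  | nil => show W acc = _; rw [W_nil, inv_one, mul_one]
  | cons n w ih =>
    show W (ivA w (iv n :: acc)) = _
    rw [ih _ (fun m hm => hw m (by simp [hm])), W_cons, W_cons, mul_inv_rev]
    have h := hI n (hw n (by simp))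
    have h1 : E (iv n) = (E n)⁻¹ := eq_inv_of_mul_eq_one_left h
    rw [h1, mul_assoc]

/-! ### The group theory -/

section grp

variable {Γ : Type*} [Group Γ] {t s : Γ}

theorem pow_1 {t s : Γ} (ht : t * t = 1) (h : s = t) : (t * s) ^ 1 = 1 := by
  rw [h, _root_.pow_one, ht]

/-- `s` commutes with `t`. -/
theorem pow_two (ht : t * t = 1) (hs : s * s = 1) (h : s * t = t * s) : (t * s) ^ 2 = 1 := by
  rw [_root_.pow_two]
  calc t * s * (t * s) = t * (s * t) * s := by group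
    _ = (t * t) * (s * s) := by rw [h]; group
    _ = 1 := by rw [ht, hs, one_mul]

/-- `s t s` commutes with `t`. -/
theorem pow_four (ht : t * t = 1) (hs : s * s = 1) (h : (s * t * s) * t = t * (s * t * s)) : (t * s) ^ 4 = 1 := by
  have h1 : (t * s) ^ 4 = (t * (s * t * s)) ^ 2 := by
    rw [show (4 : ℕ) = 2 * 2 from rfl, pow_mul, _root_.pow_two (t * s)]
    congr 1
    group
  rw [h1]
  refine pow_two ht ?_ h
  calc s * t * s * (s * t * s) = s * t * (s * s) * t * s := by group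
    _ = 1 := by rw [hs, mul_one, mul_assoc s t t, ht, mul_one, hs]

/-- `s t s t s` commutes with `t`. -/
theorem pow_six (ht : t * t = 1) (hs : s * s = 1) (h : (s * t * s * t * s) * t = t * (s * t * s * t * s)) :
    (t * s) ^ 6 = 1 := by
  have h1 : (t * s) ^ 6 = (t * (s * t * s * t * s)) ^ 2 := by
    rw [show (6 : ℕ) = 3 * 2 from rfl, pow_mul]
    congr 1
    rw [show (3 : ℕ) = 2 + 1 from rfl, pow_succ, _root_.pow_two]
    group
  rw [h1]
  refine pow_two ht ?_ h
  calc s * t * s * t * s * (s * t * s * t * s) = s * t * s * t * (s * s) * t * s * t * s := by group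
    _ = 1 := by
      rw [hs, mul_one, mul_assoc (s * t * s) t t, ht, mul_one, mul_assoc (s * t) s s, hs, mul_one, mul_assoc s t t,
        ht, mul_one, hs]

/-- `t s t s t = s t s t s`. -/
theorem pow_five (ht : t * t = 1) (hs : s * s = 1) (h : t * s * t * s * t = s * t * s * t * s) : (t * s) ^ 5 = 1 := by
  have h1 : (t * s) ^ 5 = (t * s * t * s * t) * (s * t * s * t * s) := by
    simp only [pow_succ, pow_zero, one_mul]
    group
  rw [h1, h]
  calc s * t * s * t * s * (s * t * s * t * s) = s * t * s * t * (s * s) * t * s * t * s := by group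
    _ = 1 := by
      rw [hs, mul_one, mul_assoc (s * t * s) t t, ht, mul_one, mul_assoc (s * t) s s, hs, mul_one, mul_assoc s t t,
        ht, mul_one, hs]

end grp

/-! ### The check of a pair -/

/-- The letters of `t₀`. -/
def T0 : List ℕ := [13, 14]

/-- `t_y a₀`, as a word with `acc` appended: `g⁻¹, t₀, g`. -/
noncomputable def cyA (g acc : List ℕ) : List ℕ := ivA g (13 :: 14 :: cat g acc)

/-- The kernel check for the pair `(a₀, W g a₀)`; `k = 0, 1, 2, 3, 4` for `n = 1, 2, 4, 6, 5`. -/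
noncomputable def pairC (k : ℕ) (g : List ℕ) : Bool :=
  Nat.rec (motive := fun _ => Bool) (eqC g [])
    (fun k1 _ => Nat.rec (motive := fun _ => Bool) (fixC (ivA g []))
      (fun k2 _ => Nat.rec (motive := fun _ => Bool) (fixC (cyA g []))
        (fun k3 _ => Nat.rec (motive := fun _ => Bool) (fixC (cyA g (13 :: 14 :: ivA g [])))
          (fun _ _ => eqC (cyA g [13, 14]) (cat g (13 :: 14 :: cyA g []))) k3) k2) k1) k

/-- The order bound belonging to `k`. -/
def bnd : ℕ → ℕ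
  | 0 => 1
  | 1 => 2
  | 2 => 4
  | 3 => 6
  | _ => 5

theorem bnd_pos (k : ℕ) : 0 < bnd k := by
  unfold bnd; split <;> norm_num

theorem bnd_le (k : ℕ) : bnd k ≤ 6 := by
  unfold bnd; split <;> norm_num

theorem W_T0 (acc : List ℕ) : W (13 :: 14 :: acc) = W acc * M.t₀ := by
  rw [show (13 :: 14 :: acc : List ℕ) = [13, 14] ++ acc from rfl, W_append]
  rfl

theorem W_cyA (hI : Inv) {g : List ℕ} (hg : Lt g) (acc : List ℕ) :
    W (cyA g acc) = W acc * (W g * M.t₀ * (W g)⁻¹) := by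
  unfold cyA
  rw [W_ivA hI _ _ hg, W_T0, cat_eq, W_append]
  group

/-- **Soundness of the pair check.** -/
theorem pairC_sound (hI : Inv) (ht : M.t₀ * M.t₀ = 1) (hst : ∀ g ∈ M.G, g M.a₀ = M.a₀ → g * M.t₀ = M.t₀ * g)
    (htG : M.t₀ ∈ M.G) {k : ℕ} {g : List ℕ} (hg : Lt g) (hgG : W g ∈ M.G) (h : pairC k g = true) :
    (M.t₀ * (W g * M.t₀ * (W g)⁻¹)) ^ bnd k = 1 := by
  have hsG : W g * M.t₀ * (W g)⁻¹ ∈ M.G := M.G.mul_mem (M.G.mul_mem hgG htG) (M.G.inv_mem hgG)
  have hs : (W g * M.t₀ * (W g)⁻¹) * (W g * M.t₀ * (W g)⁻¹) = 1 := by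
    calc (W g * M.t₀ * (W g)⁻¹) * (W g * M.t₀ * (W g)⁻¹) = W g * (M.t₀ * M.t₀) * (W g)⁻¹ := by group
      _ = 1 := by rw [ht]; group
  match k, h with
  | 0, h =>
    have h1 : W g M.a₀ = M.a₀ := by
      have := eqC_sound (show eqC g [] = true from h)
      rwa [W_nil] at this
    have h2 := hst _ hgG h1
    refine pow_1 ht ?_
    rw [h2]; group
  | 1, h =>
    have h1 := fixC_sound (show fixC (ivA g []) = true from h)
    rw [W_ivA hI _ _ hg, W_nil, one_mul] at h1
    have h2 : (W g * M.t₀ * (W g)⁻¹) M.a₀ = M.a₀ := by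
      show (W g) (M.t₀ ((W g)⁻¹ M.a₀)) = M.a₀
      rw [h1]
      exact (W g).apply_symm_apply _
    exact pow_two ht hs (hst _ hsG h2)
  | 2, h =>
    have h1 := fixC_sound (show fixC (cyA g []) = true from h)
    rw [W_cyA hI hg, W_nil, one_mul] at h1
    generalize hsd : W g * M.t₀ * (W g)⁻¹ = s at hs h1 hsG ⊢
    refine pow_four ht hs (hst _ (M.G.mul_mem (M.G.mul_mem hsG htG) hsG) ?_)
    show s (M.t₀ (s M.a₀)) = M.a₀
    rw [h1]
    exact congrArg (fun e : V ≃ₗ[ℚ] V => e M.a₀) hs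
  | 3, h =>
    have h1 := fixC_sound (show fixC (cyA g (13 :: 14 :: ivA g [])) = true from h)
    rw [W_cyA hI hg, W_T0, W_ivA hI _ _ hg, W_nil, one_mul] at h1
    have h2 : (W g * M.t₀ * (W g)⁻¹) (M.t₀ ((W g * M.t₀ * (W g)⁻¹) M.a₀)) = M.t₀ ((W g * M.t₀ * (W g)⁻¹) M.a₀) := by
      have h3 := congrArg (fun x => W g x) h1
      have h4 : ∀ x : V, W g ((W g)⁻¹ x) = x := fun x => (W g).apply_symm_apply x
      have h5 : ∀ x : V, ((W g)⁻¹ * M.t₀ * (W g * M.t₀ * (W g)⁻¹)) x =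
          (W g)⁻¹ (M.t₀ ((W g * M.t₀ * (W g)⁻¹) x)) := fun x => rfl
      simp only [h5, h4] at h3
      exact h3
    generalize hsd : W g * M.t₀ * (W g)⁻¹ = s at hs h2 hsG ⊢
    refine pow_six ht hs (hst _ (M.G.mul_mem (M.G.mul_mem (M.G.mul_mem (M.G.mul_mem hsG htG) hsG) htG) hsG) ?_)
    show s (M.t₀ (s (M.t₀ (s M.a₀)))) = M.a₀
    rw [h2]
    have h6 : ∀ x : V, M.t₀ (M.t₀ x) = x := fun x => congrArg (fun e : V ≃ₗ[ℚ] V => e x) ht
    rw [h6]
    exact congrArg (fun e : V ≃ₗ[ℚ] V => e M.a₀) hs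
  | (k + 4), h =>
    have h1 := eqC_sound (show eqC (cyA g [13, 14]) (cat g (13 :: 14 :: cyA g [])) = true from h)
    rw [W_cyA hI hg, cat_eq, W_append, W_T0, W_T0, W_cyA hI hg, W_nil, one_mul, one_mul] at h1
    show (M.t₀ * (W g * M.t₀ * (W g)⁻¹)) ^ 5 = 1
    generalize hsd : W g * M.t₀ * (W g)⁻¹ = s at hs h1 hsG ⊢
    have h2 : ((s * M.t₀ * W g)⁻¹ * (M.t₀ * s)) M.a₀ = M.a₀ := by
      show (s * M.t₀ * W g)⁻¹ ((M.t₀ * s) M.a₀) = M.a₀
      rw [h1]
      exact (s * M.t₀ * W g).symm_apply_apply _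
    have h3 := hst _ (M.G.mul_mem (M.G.inv_mem (M.G.mul_mem (M.G.mul_mem hsG htG) hgG)) (M.G.mul_mem htG hsG)) h2
    have hti : M.t₀⁻¹ = M.t₀ := inv_eq_of_mul_eq_one_left ht
    have hsi : s⁻¹ = s := inv_eq_of_mul_eq_one_left hs
    refine pow_five ht hs ?_
    have h4 : (M.t₀ * s) * M.t₀ * (M.t₀ * s)⁻¹ = (s * M.t₀ * W g) * M.t₀ * (s * M.t₀ * W g)⁻¹ := by
      calc (M.t₀ * s) * M.t₀ * (M.t₀ * s)⁻¹
          = (s * M.t₀ * W g) * (((s * M.t₀ * W g)⁻¹ * (M.t₀ * s)) * M.t₀) * (M.t₀ * s)⁻¹ := by group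
        _ = (s * M.t₀ * W g) * (M.t₀ * ((s * M.t₀ * W g)⁻¹ * (M.t₀ * s))) * (M.t₀ * s)⁻¹ := by rw [h3]
        _ = _ := by group
    have h5 : (M.t₀ * s)⁻¹ = s * M.t₀ := by rw [mul_inv_rev, hti, hsi]
    have h6 : (s * M.t₀ * W g) * M.t₀ * (s * M.t₀ * W g)⁻¹ = s * M.t₀ * s * M.t₀ * s := by
      calc (s * M.t₀ * W g) * M.t₀ * (s * M.t₀ * W g)⁻¹ = s * M.t₀ * (W g * M.t₀ * (W g)⁻¹) * M.t₀⁻¹ * s⁻¹ := by group
        _ = _ := by rw [hsd, hti, hsi]
    rw [← h6, ← h4, h5]
    group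

/-- All pairs `(k, u)` of the list pass the check for the word `w`. -/
noncomputable def allP (w : List ℕ) (t : List (ℕ × List ℕ)) : Bool :=
  List.rec (motive := fun _ => Bool) true (fun p _ ih => and (pairC p.1 (cat w p.2)) ih) t

theorem allP_spec {w : List ℕ} {t : List (ℕ × List ℕ)} (h : allP w t = true) :
    ∀ p ∈ t, pairC p.1 (w ++ p.2) = true := by
  induction t with
  | nil => simp
  | cons p t ih =>
    have h' : and (pairC p.1 (cat w p.2)) (allP w t) = true := h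
    rw [Bool.and_eq_true, cat_eq] at h'
    intro q hq
    rcases List.mem_cons.1 hq with rfl | hq
    · exact h'.1
    · exact ih h'.2 q hq

end Cfsg.Agent.MonsterX.OrdChk
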