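import Cfsg.Agent.MonsterX.InstEval
import Cfsg.Agent.MonsterX.CertUTab

/-!
# The inner products of the pair table: the data

`vT`: for the representative `m` of class `j` the numbers `256 F(a₀, y)`, `256 F(a₁, y)`, `y = W (uw j m) (d j)`.
-/

set_option autoImplicit false

namespace Cfsg.Agent.MonsterX.PairValTab

open Cfsg.Agent.MonsterX.InstData Cfsg.Agent.MonsterX.InstEval Cfsg.Agent.MonsterX.CertUTab

/-- The table of values. -/
def vT : List (List (ℤ × ℤ)) := [
  [(0, 2048), (256, 256), (0, 0), (64, 64)],
  [(0, 256), (64, 64), (0, 0), (32, 32)],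
  [(0, 64), (64, 256), (32, 32), (64, 64), (40, 40), (104, 104)],
  [(256, 32), (64, 32), (64, 64), (0, 32), (32, 32), (64, 32), (48, 48), (40, 40), (40, 40), (40, 104)],
  [(64, 64), (64, 32), (32, 32), (0, 64), (40, 40), (48, 48), (32, 32)],
  [(0, 104), (64, 40), (32, 40), (104, 64), (40, 256), (40, 40), (48, 48), (40, 40), (64, 64)],
  [(40, 64), (32, 40), (40, 32), (104, 32), (64, 40), (0, 40), (40, 40), (48, 48), (48, 40), (40, 40), (32, 32)],
  [(40, 40), (64, 32), (48, 48), (32, 32), (40, 48)],
  [(32, 64), (40, 40), (40, 104), (64, 64), (32, 32), (40, 40), (40, 32), (40, 48), (40, 48), (48, 48), (64, 40), (40, 48), (40, 40), (64, 48)],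
  [(64, 40), (48, 64), (48, 40), (0, 48), (32, 40), (40, 40), (48, 32), (40, 40), (104, 48), (40, 40), (48, 48), (64, 64)],
  [(48, 32), (32, 40), (64, 40), (40, 40), (40, 48), (64, 48), (32, 48), (40, 40), (48, 40), (48, 48), (40, 40), (32, 48)],
  [(32, 64), (64, 40), (48, 48), (40, 48), (48, 40), (40, 40), (40, 40), (64, 40), (32, 40), (40, 32), (40, 40), (48, 32), (40, 40), (48, 40), (48, 40), (48, 48), (32, 40), (40, 40), (64, 40), (64, 48), (104, 40)]]

/-- The values of the representative `m` of class `j`. -/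
def vs (j m : ℕ) : ℤ × ℤ := (vT.getD j []).getD m (0, 0)

/-- The kernel check of the values of the representative `m` of class `j`. -/
noncomputable def valC (j m : ℕ) : Bool := formIs 8 (bj j ++ uw j m) a0B (vs j m).1 (vs j m).2

/-- The kernel check of the representatives `a, …, a + k - 1` of class `j`. -/
noncomputable def valsC (j a k : ℕ) : Bool :=
  Nat.rec (motive := fun _ => Bool) true (fun i ih => and (valC j (Nat.add a i)) ih) k

theorem valsC_spec {j a k : ℕ} (h : valsC j a k = true) : ∀ m, a ≤ m → m < a + k → valC j m = true := by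
  induction k with
  | zero => intro m h1 h2; omega
  | succ k ih =>
    have h' : and (valC j (a + k)) (valsC j a k) = true := h
    rw [Bool.and_eq_true] at h'
    intro m h1 h2
    rcases Nat.lt_succ_iff_lt_or_eq.1 (show m < (a + k) + 1 by omega) with h3 | rfl
    · exact ih h'.2 m h1 h3
    · exact h'.1

end Cfsg.Agent.MonsterX.PairValTab
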