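import Cfsg.Agent.MonsterX.OrdChk
import Cfsg.Agent.MonsterX.CertUTab

/-!
# The twelve pairs of inner product `0`: kernel checks

`zT` = the list of `(j, m, b, v, w)`: `v` the inverse of the word `uw j m` (followed by `x_1` if `b`), `w` a word with
`w a_r = a₀`, `w (d j) = a₁`, `a_r = v a₀`.
-/

set_option autoImplicit false
set_option maxRecDepth 100000
set_option Elab.async false

namespace Cfsg.Agent.MonsterX.PairZero

open Cfsg.Agent.MonsterX.Space Cfsg.Agent.MonsterX.Conc Cfsg.Agent.MonsterX.Model Cfsg.Agent.MonsterX.InstData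
open Cfsg.Agent.MonsterX.OrdChk Cfsg.Agent.MonsterX.CertUTab

/-- The word of the pair table. -/
def wd (j m : ℕ) (b : Bool) : List ℕ := uw j m ++ (if b then [1] else [])

/-- The kernel check of a pair of inner product `0`, part 1. -/
noncomputable def zC1 (j m : ℕ) (b : Bool) (v w : List ℕ) : Bool :=
  and (eqC (v ++ wd j m b) []) (eqC (v ++ w) [])

/-- Part 2. -/
noncomputable def zC2 (j : ℕ) (w : List ℕ) : Bool := eqC (bj j ++ w) [1]

/-- Part 3. -/
noncomputable def zC3 (j m : ℕ) (b : Bool) : Bool := fixC (bj j ++ wd j m b)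

/-- All letters are less than `46`. -/
def ltC (w : List ℕ) : Bool := w.all fun n => decide (n < 46)

/-- What is checked for a pair. -/
structure ZOK (j m : ℕ) (b : Bool) : Prop where
  fix : M.t₀ (W (wd j m b) (W (bj j) M.a₀)) = W (wd j m b) (W (bj j) M.a₀)
  tr : ∃ v w : List ℕ, (∀ n ∈ w, n < 46) ∧ W (wd j m b) (W v M.a₀) = M.a₀ ∧ W w (W v M.a₀) = M.a₀ ∧
    W w (W (bj j) M.a₀) = W [1] M.a₀

theorem zok {j m : ℕ} {b : Bool} (v w : List ℕ) (hl : ltC w = true) (h1 : zC1 j m b v w = true)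
    (h2 : zC2 j w = true) (h3 : zC3 j m b = true) : ZOK j m b := by
  unfold zC1 at h1
  rw [Bool.and_eq_true] at h1
  have e1 := eqC_sound h1.1
  have e2 := eqC_sound h1.2
  have e3 := eqC_sound h2
  have e4 := fixC_sound h3
  rw [W_append, W_nil] at e1 e2
  rw [W_append] at e3 e4
  refine ⟨e4, v, w, ?_, e1, e2, e3⟩
  intro n hn
  exact of_decide_eq_true (List.all_eq_true.1 hl n hn)

theorem z0_1 : zC1 0 0 false [1]
    [1] = true := by decide +kernel

theorem z0_2 : zC2 0 [1] = true := by decide +kernel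

theorem z0_3 : zC3 0 0 false = true := by decide +kernel

theorem z0 : ZOK 0 0 false := zok _ _ (by decide) z0_1 z0_2 z0_3

theorem z1_1 : zC1 0 2 false [42, 44, 36]
    [37, 42, 43, 43, 38, 42, 36, 36, 37, 37, 42, 37, 37, 27, 39, 41, 1] = true := by decide +kernel

theorem z1_2 : zC2 0 [37, 42, 43, 43, 38, 42, 36, 36, 37, 37, 42, 37, 37, 27, 39, 41, 1] = true := by decide +kernel

theorem z1_3 : zC3 0 2 false = true := by decide +kernel

theorem z1 : ZOK 0 2 false := zok _ _ (by decide) z1_1 z1_2 z1_3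

theorem z2_1 : zC1 0 2 true [1, 42, 44, 36]
    [3, 37, 42, 43, 43, 38, 42, 36, 36, 37, 37, 42, 37, 37, 27, 39, 41, 1] = true := by decide +kernel

theorem z2_2 : zC2 0 [3, 37, 42, 43, 43, 38, 42, 36, 36, 37, 37, 42, 37, 37, 27, 39, 41, 1] = true := by decide +kernel

theorem z2_3 : zC3 0 2 true = true := by decide +kernel

theorem z2 : ZOK 0 2 true := zok _ _ (by decide) z2_1 z2_2 z2_3

theorem z3_1 : zC1 1 0 false [36]
    [41, 39, 36, 27, 39, 41, 1] = true := by decide +kernel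

theorem z3_2 : zC2 1 [41, 39, 36, 27, 39, 41, 1] = true := by decide +kernel

theorem z3_3 : zC3 1 0 false = true := by decide +kernel

theorem z3 : ZOK 1 0 false := zok _ _ (by decide) z3_1 z3_2 z3_3

theorem z4_1 : zC1 1 2 false [42, 37, 37, 44]
    [41, 39, 36, 29, 39, 42, 43, 42, 43, 42, 43, 39, 42, 38, 42, 42, 38, 27, 39, 12, 41, 1] = true := by decide +kernel

theorem z4_2 : zC2 1 [41, 39, 36, 29, 39, 42, 43, 42, 43, 42, 43, 39, 42, 38, 42, 42, 38, 27, 39, 12, 41, 1] = true := by decide +kernel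

theorem z4_3 : zC3 1 2 false = true := by decide +kernel

theorem z4 : ZOK 1 2 false := zok _ _ (by decide) z4_1 z4_2 z4_3

theorem z5_1 : zC1 1 2 true [1, 42, 37, 37, 44]
    [5, 6, 41, 39, 36, 29, 39, 42, 43, 42, 43, 42, 43, 39, 42, 38, 42, 42, 38, 27, 39, 12, 41, 1] = true := by decide +kernel

theorem z5_2 : zC2 1 [5, 6, 41, 39, 36, 29, 39, 42, 43, 42, 43, 42, 43, 39, 42, 38, 42, 42, 38, 27, 39, 12, 41, 1] = true := by decide +kernel

theorem z5_3 : zC3 1 2 true = true := by decide +kernel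

theorem z5 : ZOK 1 2 true := zok _ _ (by decide) z5_1 z5_2 z5_3

theorem z6_1 : zC1 2 0 false [42, 37, 37, 44]
    [41, 39, 36, 39, 36, 27, 39, 38, 36, 37, 42, 38, 28, 39, 42, 38, 42, 42, 38, 39, 12, 41, 1] = true := by decide +kernel

theorem z6_2 : zC2 2 [41, 39, 36, 39, 36, 27, 39, 38, 36, 37, 42, 38, 28, 39, 42, 38, 42, 42, 38, 39, 12, 41, 1] = true := by decide +kernel

theorem z6_3 : zC3 2 0 false = true := by decide +kernel

theorem z6 : ZOK 2 0 false := zok _ _ (by decide) z6_1 z6_2 z6_3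

theorem z7_1 : zC1 3 3 false [37, 37, 36, 36]
    [41, 39, 36, 39, 44, 41, 39, 36, 29, 43, 36, 37, 37, 36, 36, 37, 39, 43, 38, 36, 43, 36, 38, 39, 12, 41, 1] = true := by decide +kernel

theorem z7_2 : zC2 3 [41, 39, 36, 39, 44, 41, 39, 36, 29, 43, 36, 37, 37, 36, 36, 37, 39, 43, 38, 36, 43, 36, 38, 39, 12, 41, 1] = true := by decide +kernel

theorem z7_3 : zC3 3 3 false = true := by decide +kernel

theorem z7 : ZOK 3 3 false := zok _ _ (by decide) z7_1 z7_2 z7_3

theorem z8_1 : zC1 4 3 false [1, 44, 42, 43]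
    [41, 39, 43, 42, 39, 44, 41, 39, 36, 37, 42, 43, 43, 38, 42, 27, 39, 38, 42, 37, 42, 37, 38, 39, 12, 41, 1] = true := by decide +kernel

theorem z8_2 : zC2 4 [41, 39, 43, 42, 39, 44, 41, 39, 36, 37, 42, 43, 43, 38, 42, 27, 39, 38, 42, 37, 42, 37, 38, 39, 12, 41, 1] = true := by decide +kernel

theorem z8_3 : zC3 4 3 false = true := by decide +kernel

theorem z8 : ZOK 4 3 false := zok _ _ (by decide) z8_1 z8_2 z8_3

theorem z9_1 : zC1 5 0 false [1]
    [41, 39, 25, 42, 39, 43, 41, 39, 36, 41, 39, 36, 39, 25, 26, 39, 42, 43, 42, 43, 42, 43, 39, 12, 41, 1] = true := by decide +kernel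

theorem z9_2 : zC2 5 [41, 39, 25, 42, 39, 43, 41, 39, 36, 41, 39, 36, 39, 25, 26, 39, 42, 43, 42, 43, 42, 43, 39, 12, 41, 1] = true := by decide +kernel

theorem z9_3 : zC3 5 0 false = true := by decide +kernel

theorem z9 : ZOK 5 0 false := zok _ _ (by decide) z9_1 z9_2 z9_3

theorem z10_1 : zC1 6 5 false [25, 36, 43, 36, 43]
    [41, 39, 42, 39, 42, 44, 42, 41, 39, 36, 41, 39, 36, 37, 42, 43, 43, 38, 42, 31, 39, 42, 38, 42, 37, 42, 38, 39, 41, 1] = true := by decide +kernel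

theorem z10_2 : zC2 6 [41, 39, 42, 39, 42, 44, 42, 41, 39, 36, 41, 39, 36, 37, 42, 43, 43, 38, 42, 31, 39, 42, 38, 42, 37, 42, 38, 39, 41, 1] = true := by decide +kernel

theorem z10_3 : zC3 6 5 false = true := by decide +kernel

theorem z10 : ZOK 6 5 false := zok _ _ (by decide) z10_1 z10_2 z10_3

theorem z11_1 : zC1 9 3 false [1, 36]
    [41, 39, 43, 39, 36, 41, 39, 36, 39, 44, 41, 39, 36, 37, 42, 43, 43, 38, 42, 39, 42, 38, 42, 37, 42, 38, 27, 39, 12, 41, 1] = true := by decide +kernel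

theorem z11_2 : zC2 9 [41, 39, 43, 39, 36, 41, 39, 36, 39, 44, 41, 39, 36, 37, 42, 43, 43, 38, 42, 39, 42, 38, 42, 37, 42, 38, 27, 39, 12, 41, 1] = true := by decide +kernel

theorem z11_3 : zC3 9 3 false = true := by decide +kernel

theorem z11 : ZOK 9 3 false := zok _ _ (by decide) z11_1 z11_2 z11_3

end Cfsg.Agent.MonsterX.PairZero
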