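import Cfsg.Agent.MonsterX.RelKappa

/-!
# `ξ z = z ξ`
-/

set_option autoImplicit false
set_option maxRecDepth 100000
set_option Elab.async false

namespace Cfsg.Agent.MonsterX.RelXiZ

open Cfsg.Agent.Lib.PermNet Cfsg.Agent.Monster.VecEngine Cfsg.Agent.Monster.VecSpace Cfsg.Agent.MonsterX.Space
open Cfsg.Agent.MonsterX.ProgTable Cfsg.Agent.MonsterX.ProgBase Cfsg.Agent.MonsterX.VecRel
open Cfsg.Agent.MonsterX.RelSym Cfsg.Agent.MonsterX.Conc Cfsg.Agent.MonsterX.RelKappa

/-- The left word. -/
def v₁ : List ℕ := [39, 45]

/-- The right word. -/
def v₂ : List ℕ := [45, 39]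

theorem same_lab' : sameLab U (v₁.map prog) (v₂.map prog) lab = true := by decide +kernel

theorem s0 : test 6 (v₁.map prog) (v₂.map prog) (msk 0) = true := by decide +kernel
theorem s1 : test 6 (v₁.map prog) (v₂.map prog) (msk 1) = true := by decide +kernel
theorem s2 : test 6 (v₁.map prog) (v₂.map prog) (msk 2) = true := by decide +kernel
theorem s3 : test 6 (v₁.map prog) (v₂.map prog) (msk 3) = true := by decide +kernel
theorem s4 : test 6 (v₁.map prog) (v₂.map prog) (msk 4) = true := by decide +kernel
theorem s5 : test 6 (v₁.map prog) (v₂.map prog) (msk 5) = true := by decide +kernel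
theorem s6 : test 6 (v₁.map prog) (v₂.map prog) (msk 6) = true := by decide +kernel
theorem s7 : test 6 (v₁.map prog) (v₂.map prog) (msk 7) = true := by decide +kernel
theorem s8 : test 6 (v₁.map prog) (v₂.map prog) (msk 8) = true := by decide +kernel
theorem s9 : test 6 (v₁.map prog) (v₂.map prog) (msk 9) = true := by decide +kernel
theorem s10 : test 6 (v₁.map prog) (v₂.map prog) (msk 10) = true := by decide +kernel
theorem s11 : test 6 (v₁.map prog) (v₂.map prog) (msk 11) = true := by decide +kernel
theorem s12 : test 6 (v₁.map prog) (v₂.map prog) (msk 12) = true := by decide +kernel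
theorem s13 : test 6 (v₁.map prog) (v₂.map prog) (msk 13) = true := by decide +kernel
theorem s14 : test 6 (v₁.map prog) (v₂.map prog) (msk 14) = true := by decide +kernel
theorem s15 : test 6 (v₁.map prog) (v₂.map prog) (msk 15) = true := by decide +kernel
theorem s16 : test 6 (v₁.map prog) (v₂.map prog) (msk 16) = true := by decide +kernel
theorem s17 : test 6 (v₁.map prog) (v₂.map prog) (msk 17) = true := by decide +kernel
theorem s18 : test 6 (v₁.map prog) (v₂.map prog) (msk 18) = true := by decide +kernel
theorem s19 : test 6 (v₁.map prog) (v₂.map prog) (msk 19) = true := by decide +kernel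
theorem s20 : test 6 (v₁.map prog) (v₂.map prog) (msk 20) = true := by decide +kernel
theorem s21 : test 6 (v₁.map prog) (v₂.map prog) (msk 21) = true := by decide +kernel
theorem s22 : test 6 (v₁.map prog) (v₂.map prog) (msk 22) = true := by decide +kernel
theorem s23 : test 6 (v₁.map prog) (v₂.map prog) (msk 23) = true := by decide +kernel
theorem s24 : test 6 (v₁.map prog) (v₂.map prog) (msk 24) = true := by decide +kernel
theorem s25 : test 6 (v₁.map prog) (v₂.map prog) (msk 25) = true := by decide +kernel
theorem s26 : test 6 (v₁.map prog) (v₂.map prog) (msk 26) = true := by decide +kernel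
theorem s27 : test 6 (v₁.map prog) (v₂.map prog) (msk 27) = true := by decide +kernel
theorem s28 : test 6 (v₁.map prog) (v₂.map prog) (msk 28) = true := by decide +kernel
theorem s29 : test 6 (v₁.map prog) (v₂.map prog) (msk 29) = true := by decide +kernel
theorem s30 : test 6 (v₁.map prog) (v₂.map prog) (msk 30) = true := by decide +kernel
theorem s31 : test 6 (v₁.map prog) (v₂.map prog) (msk 31) = true := by decide +kernel
theorem s32 : test 6 (v₁.map prog) (v₂.map prog) (msk 32) = true := by decide +kernel
theorem s33 : test 6 (v₁.map prog) (v₂.map prog) (msk 33) = true := by decide +kernel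
theorem s34 : test 6 (v₁.map prog) (v₂.map prog) (msk 34) = true := by decide +kernel
theorem s35 : test 6 (v₁.map prog) (v₂.map prog) (msk 35) = true := by decide +kernel
theorem s36 : test 6 (v₁.map prog) (v₂.map prog) (msk 36) = true := by decide +kernel
theorem s37 : test 6 (v₁.map prog) (v₂.map prog) (msk 37) = true := by decide +kernel
theorem s38 : test 6 (v₁.map prog) (v₂.map prog) (msk 38) = true := by decide +kernel
theorem s39 : test 6 (v₁.map prog) (v₂.map prog) (msk 39) = true := by decide +kernel
theorem s40 : test 6 (v₁.map prog) (v₂.map prog) (msk 40) = true := by decide +kernel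
theorem s41 : test 6 (v₁.map prog) (v₂.map prog) (msk 41) = true := by decide +kernel
theorem s42 : test 6 (v₁.map prog) (v₂.map prog) (msk 42) = true := by decide +kernel
theorem s43 : test 6 (v₁.map prog) (v₂.map prog) (msk 43) = true := by decide +kernel
theorem s44 : test 6 (v₁.map prog) (v₂.map prog) (msk 44) = true := by decide +kernel
theorem s45 : test 6 (v₁.map prog) (v₂.map prog) (msk 45) = true := by decide +kernel
theorem s46 : test 6 (v₁.map prog) (v₂.map prog) (msk 46) = true := by decide +kernel
theorem s47 : test 6 (v₁.map prog) (v₂.map prog) (msk 47) = true := by decide +kernel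
theorem s48 : test 6 (v₁.map prog) (v₂.map prog) (msk 48) = true := by decide +kernel
theorem s49 : test 6 (v₁.map prog) (v₂.map prog) (msk 49) = true := by decide +kernel
theorem s50 : test 6 (v₁.map prog) (v₂.map prog) (msk 50) = true := by decide +kernel
theorem s51 : test 6 (v₁.map prog) (v₂.map prog) (msk 51) = true := by decide +kernel
theorem s52 : test 6 (v₁.map prog) (v₂.map prog) (msk 52) = true := by decide +kernel
theorem s53 : test 6 (v₁.map prog) (v₂.map prog) (msk 53) = true := by decide +kernel
theorem s54 : test 6 (v₁.map prog) (v₂.map prog) (msk 54) = true := by decide +kernel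
theorem s55 : test 6 (v₁.map prog) (v₂.map prog) (msk 55) = true := by decide +kernel
theorem s56 : test 6 (v₁.map prog) (v₂.map prog) (msk 56) = true := by decide +kernel
theorem s57 : test 6 (v₁.map prog) (v₂.map prog) (msk 57) = true := by decide +kernel
theorem s58 : test 6 (v₁.map prog) (v₂.map prog) (msk 58) = true := by decide +kernel
theorem s59 : test 6 (v₁.map prog) (v₂.map prog) (msk 59) = true := by decide +kernel
theorem s60 : test 6 (v₁.map prog) (v₂.map prog) (msk 60) = true := by decide +kernel
theorem s61 : test 6 (v₁.map prog) (v₂.map prog) (msk 61) = true := by decide +kernel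
theorem s62 : test 6 (v₁.map prog) (v₂.map prog) (msk 62) = true := by decide +kernel
theorem s63 : test 6 (v₁.map prog) (v₂.map prog) (msk 63) = true := by decide +kernel

theorem test_all' (r : ℕ) (h : r < 64) : test 6 (v₁.map prog) (v₂.map prog) (msk r) = true := by
  interval_cases r
  · exact s0
  · exact s1
  · exact s2
  · exact s3
  · exact s4
  · exact s5
  · exact s6
  · exact s7
  · exact s8
  · exact s9
  · exact s10
  · exact s11
  · exact s12
  · exact s13
  · exact s14
  · exact s15
  · exact s16
  · exact s17
  · exact s18
  · exact s19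
  · exact s20
  · exact s21
  · exact s22
  · exact s23
  · exact s24
  · exact s25
  · exact s26
  · exact s27
  · exact s28
  · exact s29
  · exact s30
  · exact s31
  · exact s32
  · exact s33
  · exact s34
  · exact s35
  · exact s36
  · exact s37
  · exact s38
  · exact s39
  · exact s40
  · exact s41
  · exact s42
  · exact s43
  · exact s44
  · exact s45
  · exact s46
  · exact s47
  · exact s48
  · exact s49
  · exact s50
  · exact s51
  · exact s52
  · exact s53
  · exact s54
  · exact s55
  · exact s56
  · exact s57
  · exact s58
  · exact s59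
  · exact s60
  · exact s61
  · exact s62
  · exact s63

/-- `ξ z = z ξ` -/
theorem xi_z : W [39, 45] = W [45, 39] := by
  refine W_eq_of_rel_all (s := 6) (w₁ := v₁) (w₂ := v₂) tests_lab same_lab' (testAll_iff.2 fun x hx => ?_)
  obtain ⟨r, hr, rfl⟩ := mem_tl hx
  exact test_all' r hr

end Cfsg.Agent.MonsterX.RelXiZ
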