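import Cfsg.Agent.MonsterX.TauRel
import Cfsg.Agent.MonsterX.ProgEqY0
import Cfsg.Agent.MonsterX.RelXiZ
import Cfsg.Agent.MonsterX.ConcMono
import Cfsg.Agent.MonsterX.FieldsT3
import Cfsg.Agent.MonsterX.FieldsT4

/-!
# Relations between `z`, `τ`, `ξ` and the letters, and the field `not_conj` of `MTrans`
-/

set_option autoImplicit false
set_option maxRecDepth 100000

namespace Cfsg.Agent.MonsterX.RelAll

open Cfsg.Agent.MonsterX.Conc Cfsg.Agent.MonsterX.ConcMono Cfsg.Agent.MonsterX.TauRel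
open Cfsg.Agent.MonsterX.InstData

theorem z_sq : z * z = 1 := by
  have h : W [45, 45] = W [] := W_eq_of_same (by decide +kernel)
  rwa [W2, W_nil] at h

theorem z_inv : z⁻¹ = z := inv_eq_of_mul_eq_one_right z_sq

theorem ξ_z : ξ * z = z * ξ := by
  have h := RelXiZ.xi_z
  rw [W2, W2] at h
  exact h.symm

/-- `z` is central in `C`. -/
theorem z_comm_C : ∀ g ∈ C, g * z = z * g := by
  intro g hg
  unfold C at hg
  induction hg using Subgroup.closure_induction with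
  | mem g hg =>
    obtain ⟨n, hn, rfl⟩ := hg
    rcases Nat.lt_or_ge n 39 with h | h
    · have e := ConcMono.z_comm h
      rw [W2, W2] at e
      exact e
    · obtain rfl : n = 39 := by omega
      exact ξ_z
  | one => rw [one_mul, mul_one]
  | mul a b _ _ ha hb => rw [mul_assoc, hb, ← mul_assoc, ha, mul_assoc]
  | inv a _ ha =>
    rw [inv_mul_eq_iff_eq_mul, ← mul_assoc, ha, mul_inv_cancel_right]

theorem E_sq {n : ℕ} (h : W [n, n] = W []) : E n * E n = 1 := by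
  rwa [W2, W_nil] at h

theorem E24 : E 24 = z * E 0 := by
  have h : W [24] = W [0, 45] := W_eq_of_same (by decide +kernel)
  rwa [W2, W_single] at h

theorem z_x0 : z * E 0 = E 0 * z := (z_comm_C _ (E_mem_C (by norm_num))).symm

/-- `τ x_Ω τ⁻¹ = z x_Ω` -/
theorem τ_x0 : τ * E 0 * τ⁻¹ = z * E 0 := by
  rw [τ_x (c := 0) (by norm_num), mul_inv_cancel_right]
  exact E24

/-- `τ (z x_Ω) τ⁻¹ = z` -/
theorem τ_zx0 : τ * (z * E 0) * τ⁻¹ = z := by
  have h := W_of_seq ProgEqY0.tau_y0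
  rw [W_cons, W_cons, W2, W_single] at h
  -- `E 0 * E 24 * E 40 * E 24 = E 40`
  have h' : E 0 * E 24 * τ * E 24 = τ := h
  have e1 : E 0 * E 24 = z := by
    rw [E24, z_x0, ← mul_assoc, E_sq sq0, one_mul]
  rw [e1] at h'
  rw [← E24]
  have e2 : τ * E 24 = z * τ := by
    calc τ * E 24 = z * (z * τ * E 24) := by rw [← mul_assoc, ← mul_assoc, z_sq, one_mul]
      _ = z * τ := by rw [h']
  rw [e2, mul_inv_cancel_right]

/-- `τ z τ⁻¹ = x_Ω` -/
theorem τ_z : τ * z * τ⁻¹ = E 0 := by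
  have e1 : z = z * E 0 * E 0 := by rw [mul_assoc, E_sq sq0, mul_one]
  have e2 : τ * (z * E 0 * E 0) * τ⁻¹ = (τ * (z * E 0) * τ⁻¹) * (τ * E 0 * τ⁻¹) := by group
  rw [e1, e2, τ_zx0, τ_x0, ← mul_assoc, z_sq, one_mul]

theorem E_pa_inv : (E 36)⁻¹ = E 42 := by
  have h : W [36, 42] = W [] := W_eq_of_same (by decide +kernel)
  rw [W2, W_nil] at h
  exact (eq_inv_of_mul_eq_one_left h).symm

theorem W_bj1 : W (bj 1) = τ * E 39 * E 42 := by
  have e : bj 1 = [42, 39, 40] := by decide +kernel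
  rw [e, W_cons, W2]
  rfl

/-- The involution of the axis `d j₁`. -/
theorem hrel : W (bj 1) * t₀ * (W (bj 1))⁻¹ = W FieldsT3.wt := by
  have e1 : W [39, 36, 13, 14, 42, 39] = E 39 * E 42 * t₀ * E 36 * E 39 := by
    have e : W ([39, 36] ++ ([13, 14] ++ [42, 39])) = W [42, 39] * W [13, 14] * W [39, 36] := by
      rw [W_append, W_append]
    have e' : W [39, 36, 13, 14, 42, 39] = W ([39, 36] ++ ([13, 14] ++ [42, 39])) := rfl
    rw [e', e, W2 42 39, W2 39 36]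
    simp only [mul_assoc]
    rfl
  have e2 := RelKappa.kappa
  rw [e1] at e2
  have hξ : (E 39)⁻¹ = E 39 := inv_eq_of_mul_eq_one_right ξ_sq
  have hpa : (E 42)⁻¹ = E 36 := by rw [← E_pa_inv, inv_inv]
  have e3 : W (bj 1) * t₀ * (W (bj 1))⁻¹ = τ * (E 39 * E 42 * t₀ * E 36 * E 39) * τ⁻¹ := by
    rw [W_bj1, mul_inv_rev, mul_inv_rev, hξ, hpa]
    simp only [mul_assoc]
  rw [e3, e2, τ_word (by decide), mul_inv_cancel_right]
  rfl

/-- FIELD `not_conj` of `MTrans`. -/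
theorem not_conj : ∃ g ∈ M.G, g M.a₀ = M.d M.j₁ ∧
    ∀ h ∈ M.C, h * (g * M.t₀ * g⁻¹) * h⁻¹ ≠ M.z * (g * M.t₀ * g⁻¹) :=
  FieldsT3.not_conj z_comm_C z_sq (FieldsT4.bj_mem 1) hrel

end Cfsg.Agent.MonsterX.RelAll
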