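import Cfsg.Agent.MonsterX.ProgM.Inv

/-!
# A relation with `ξ`: `ξ x_{22,0} ξ` as a word in the letters of `Q`

Labels: all index bits outside of the matrix and of the lanes from `2 ^ 17` on; in the matrix the bits `0, 1, 5, 6`,
on the lanes from `2 ^ 17` on the bits `0, 1, 5, 6, 7, 8` are dropped.  `64` test vectors.
-/

set_option autoImplicit false
set_option maxRecDepth 100000
set_option Elab.async false

namespace Cfsg.Agent.MonsterX.RelKappa

open Cfsg.Agent.Lib.PermNet Cfsg.Agent.Monster.VecEngine Cfsg.Agent.Monster.VecSpace Cfsg.Agent.MonsterX.Space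
open Cfsg.Agent.MonsterX.ProgTable Cfsg.Agent.MonsterX.ProgBase Cfsg.Agent.MonsterX.VecRel
open Cfsg.Agent.MonsterX.RelSym Cfsg.Agent.MonsterX.Conc

/-- The lanes outside of the matrix block and of the lanes from `2 ^ 17` on. -/
noncomputable def mA : ℕ := Nat.xor (Nat.sub (Nat.shiftLeft 1 131072) 1) blkM

/-- The lanes below `2 ^ 17`. -/
noncomputable def mB : ℕ := Nat.sub (Nat.shiftLeft 1 131072) 1

/-- The labels. -/
noncomputable def lab : Pl :=
  .cons (Nat.land (plane 18 0) mA) (.cons (Nat.land (plane 18 1) mA) (.cons (plane 18 2) (.cons (plane 18 3)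
    (.cons (plane 18 4) (.cons (Nat.land (plane 18 5) mA) (.cons (Nat.land (plane 18 6) mA)
      (.cons (Nat.land (plane 18 7) mB) (.cons (Nat.land (plane 18 8) mB) (.cons (plane 18 9) (.cons (plane 18 10)
        (.cons (plane 18 11) (.cons (plane 18 12) (.cons (plane 18 13) (.cons (plane 18 14) (.cons (plane 18 15)
          (.cons (plane 18 16) (.cons (plane 18 17) (.sgn 0))))))))))))))))))

/-- Restriction of a mask to the lanes with index bit `b` equal to `c`. -/
noncomputable def cut (b c : ℕ) (t : ℕ) : ℕ :=
  Bool.rec (Nat.land t (plane 18 b)) (Nat.xor t (Nat.land t (plane 18 b))) (Nat.beq c 0)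

/-- The test mask number `r`. -/
noncomputable def msk (r : ℕ) : ℕ :=
  cut 0 (Nat.mod r 2) (cut 1 (Nat.mod (Nat.div r 2) 2) (cut 5 (Nat.mod (Nat.div r 4) 2)
    (cut 6 (Nat.mod (Nat.div r 8) 2) (cut 7 (Nat.mod (Nat.div r 16) 2) (cut 8 (Nat.mod (Nat.div r 32) 2) U)))))

/-- The test number `r`. -/
noncomputable def tst (r : ℕ) : Tst := ⟨msk r, [20, 20, 2, 3, 4, 20, 20, 20, 20, 9, 10, 11, 12, 13, 14, 15, 16, 17]⟩

/-- The tests `n - 1, …, 0`. -/
noncomputable def tl (n : ℕ) : List Tst := Nat.rec (motive := fun _ => List Tst) [] (fun r ih => tst r :: ih) n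

theorem mem_tl {n : ℕ} {x : Tst} (h : x ∈ tl n) : ∃ r < n, x = tst r := by
  induction n with
  | zero => exact absurd h (by simp [tl])
  | succ n ih =>
    have h' : x ∈ tst n :: tl n := h
    rcases List.mem_cons.1 h' with rfl | h'
    · exact ⟨n, by omega, rfl⟩
    · obtain ⟨r, hr, e⟩ := ih h'
      exact ⟨r, by omega, e⟩

theorem tests_lab : tests 18 lab U (tl 64) 0 = true := by decide +kernel

/-- The left word. -/
def w₁ : List ℕ := [39, 13, 14, 16, 17, 18, 22, 23, 39]

/-- The right word. -/
def w₂ : List ℕ := [0, 1, 2, 3, 4, 7, 10, 13, 14, 17, 18, 19, 22]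

theorem same_lab : sameLab U (w₁.map prog) (w₂.map prog) lab = true := by decide +kernel

theorem t0 : test 6 (w₁.map prog) (w₂.map prog) (msk 0) = true := by decide +kernel

theorem t1 : test 6 (w₁.map prog) (w₂.map prog) (msk 1) = true := by decide +kernel

theorem t2 : test 6 (w₁.map prog) (w₂.map prog) (msk 2) = true := by decide +kernel

theorem t3 : test 6 (w₁.map prog) (w₂.map prog) (msk 3) = true := by decide +kernel

theorem t4 : test 6 (w₁.map prog) (w₂.map prog) (msk 4) = true := by decide +kernel

theorem t5 : test 6 (w₁.map prog) (w₂.map prog) (msk 5) = true := by decide +kernel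

theorem t6 : test 6 (w₁.map prog) (w₂.map prog) (msk 6) = true := by decide +kernel

theorem t7 : test 6 (w₁.map prog) (w₂.map prog) (msk 7) = true := by decide +kernel

theorem t8 : test 6 (w₁.map prog) (w₂.map prog) (msk 8) = true := by decide +kernel

theorem t9 : test 6 (w₁.map prog) (w₂.map prog) (msk 9) = true := by decide +kernel

theorem t10 : test 6 (w₁.map prog) (w₂.map prog) (msk 10) = true := by decide +kernel

theorem t11 : test 6 (w₁.map prog) (w₂.map prog) (msk 11) = true := by decide +kernel

theorem t12 : test 6 (w₁.map prog) (w₂.map prog) (msk 12) = true := by decide +kernel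

theorem t13 : test 6 (w₁.map prog) (w₂.map prog) (msk 13) = true := by decide +kernel

theorem t14 : test 6 (w₁.map prog) (w₂.map prog) (msk 14) = true := by decide +kernel

theorem t15 : test 6 (w₁.map prog) (w₂.map prog) (msk 15) = true := by decide +kernel

theorem t16 : test 6 (w₁.map prog) (w₂.map prog) (msk 16) = true := by decide +kernel

theorem t17 : test 6 (w₁.map prog) (w₂.map prog) (msk 17) = true := by decide +kernel

theorem t18 : test 6 (w₁.map prog) (w₂.map prog) (msk 18) = true := by decide +kernel

theorem t19 : test 6 (w₁.map prog) (w₂.map prog) (msk 19) = true := by decide +kernel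

theorem t20 : test 6 (w₁.map prog) (w₂.map prog) (msk 20) = true := by decide +kernel

theorem t21 : test 6 (w₁.map prog) (w₂.map prog) (msk 21) = true := by decide +kernel

theorem t22 : test 6 (w₁.map prog) (w₂.map prog) (msk 22) = true := by decide +kernel

theorem t23 : test 6 (w₁.map prog) (w₂.map prog) (msk 23) = true := by decide +kernel

theorem t24 : test 6 (w₁.map prog) (w₂.map prog) (msk 24) = true := by decide +kernel

theorem t25 : test 6 (w₁.map prog) (w₂.map prog) (msk 25) = true := by decide +kernel

theorem t26 : test 6 (w₁.map prog) (w₂.map prog) (msk 26) = true := by decide +kernel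

theorem t27 : test 6 (w₁.map prog) (w₂.map prog) (msk 27) = true := by decide +kernel

theorem t28 : test 6 (w₁.map prog) (w₂.map prog) (msk 28) = true := by decide +kernel

theorem t29 : test 6 (w₁.map prog) (w₂.map prog) (msk 29) = true := by decide +kernel

theorem t30 : test 6 (w₁.map prog) (w₂.map prog) (msk 30) = true := by decide +kernel

theorem t31 : test 6 (w₁.map prog) (w₂.map prog) (msk 31) = true := by decide +kernel

theorem t32 : test 6 (w₁.map prog) (w₂.map prog) (msk 32) = true := by decide +kernel

theorem t33 : test 6 (w₁.map prog) (w₂.map prog) (msk 33) = true := by decide +kernel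

theorem t34 : test 6 (w₁.map prog) (w₂.map prog) (msk 34) = true := by decide +kernel

theorem t35 : test 6 (w₁.map prog) (w₂.map prog) (msk 35) = true := by decide +kernel

theorem t36 : test 6 (w₁.map prog) (w₂.map prog) (msk 36) = true := by decide +kernel

theorem t37 : test 6 (w₁.map prog) (w₂.map prog) (msk 37) = true := by decide +kernel

theorem t38 : test 6 (w₁.map prog) (w₂.map prog) (msk 38) = true := by decide +kernel

theorem t39 : test 6 (w₁.map prog) (w₂.map prog) (msk 39) = true := by decide +kernel

theorem t40 : test 6 (w₁.map prog) (w₂.map prog) (msk 40) = true := by decide +kernel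

theorem t41 : test 6 (w₁.map prog) (w₂.map prog) (msk 41) = true := by decide +kernel

theorem t42 : test 6 (w₁.map prog) (w₂.map prog) (msk 42) = true := by decide +kernel

theorem t43 : test 6 (w₁.map prog) (w₂.map prog) (msk 43) = true := by decide +kernel

theorem t44 : test 6 (w₁.map prog) (w₂.map prog) (msk 44) = true := by decide +kernel

theorem t45 : test 6 (w₁.map prog) (w₂.map prog) (msk 45) = true := by decide +kernel

theorem t46 : test 6 (w₁.map prog) (w₂.map prog) (msk 46) = true := by decide +kernel

theorem t47 : test 6 (w₁.map prog) (w₂.map prog) (msk 47) = true := by decide +kernel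

theorem t48 : test 6 (w₁.map prog) (w₂.map prog) (msk 48) = true := by decide +kernel

theorem t49 : test 6 (w₁.map prog) (w₂.map prog) (msk 49) = true := by decide +kernel

theorem t50 : test 6 (w₁.map prog) (w₂.map prog) (msk 50) = true := by decide +kernel

theorem t51 : test 6 (w₁.map prog) (w₂.map prog) (msk 51) = true := by decide +kernel

theorem t52 : test 6 (w₁.map prog) (w₂.map prog) (msk 52) = true := by decide +kernel

theorem t53 : test 6 (w₁.map prog) (w₂.map prog) (msk 53) = true := by decide +kernel

theorem t54 : test 6 (w₁.map prog) (w₂.map prog) (msk 54) = true := by decide +kernel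

theorem t55 : test 6 (w₁.map prog) (w₂.map prog) (msk 55) = true := by decide +kernel

theorem t56 : test 6 (w₁.map prog) (w₂.map prog) (msk 56) = true := by decide +kernel

theorem t57 : test 6 (w₁.map prog) (w₂.map prog) (msk 57) = true := by decide +kernel

theorem t58 : test 6 (w₁.map prog) (w₂.map prog) (msk 58) = true := by decide +kernel

theorem t59 : test 6 (w₁.map prog) (w₂.map prog) (msk 59) = true := by decide +kernel

theorem t60 : test 6 (w₁.map prog) (w₂.map prog) (msk 60) = true := by decide +kernel

theorem t61 : test 6 (w₁.map prog) (w₂.map prog) (msk 61) = true := by decide +kernel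

theorem t62 : test 6 (w₁.map prog) (w₂.map prog) (msk 62) = true := by decide +kernel

theorem t63 : test 6 (w₁.map prog) (w₂.map prog) (msk 63) = true := by decide +kernel

theorem test_all (r : ℕ) (h : r < 64) : test 6 (w₁.map prog) (w₂.map prog) (msk r) = true := by
  interval_cases r
  · exact t0
  · exact t1
  · exact t2
  · exact t3
  · exact t4
  · exact t5
  · exact t6
  · exact t7
  · exact t8
  · exact t9
  · exact t10
  · exact t11
  · exact t12
  · exact t13
  · exact t14
  · exact t15
  · exact t16
  · exact t17
  · exact t18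
  · exact t19
  · exact t20
  · exact t21
  · exact t22
  · exact t23
  · exact t24
  · exact t25
  · exact t26
  · exact t27
  · exact t28
  · exact t29
  · exact t30
  · exact t31
  · exact t32
  · exact t33
  · exact t34
  · exact t35
  · exact t36
  · exact t37
  · exact t38
  · exact t39
  · exact t40
  · exact t41
  · exact t42
  · exact t43
  · exact t44
  · exact t45
  · exact t46
  · exact t47
  · exact t48
  · exact t49
  · exact t50
  · exact t51
  · exact t52
  · exact t53
  · exact t54
  · exact t55
  · exact t56
  · exact t57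
  · exact t58
  · exact t59
  · exact t60
  · exact t61
  · exact t62
  · exact t63

/-- `ξ x_{22,0} ξ` -/
theorem xi_rel : W w₁ = W w₂ := by
  refine W_eq_of_rel_all (s := 6) tests_lab same_lab (testAll_iff.2 fun x hx => ?_)
  obtain ⟨r, hr, rfl⟩ := mem_tl hx
  exact test_all r hr

/-- `x_{22,0}` -/
theorem mono_rel : W [36, 13, 14, 42] = W [13, 14, 16, 17, 18, 22, 23] :=
  ProgM.Base.same_sound (progs_goodT _) (progs_goodT _) (by decide +kernel)

/-- The relation needed for `not_conj`. -/
theorem kappa : W [39, 36, 13, 14, 42, 39] = W [0, 1, 2, 3, 4, 7, 10, 13, 14, 17, 18, 19, 22] := by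
  have h1 : W ([39] ++ ([36, 13, 14, 42] ++ [39])) = W [39] * W [36, 13, 14, 42] * W [39] := by
    rw [W_append, W_append]
  have h2 : W ([39] ++ ([13, 14, 16, 17, 18, 22, 23] ++ [39])) = W [39] * W [13, 14, 16, 17, 18, 22, 23] * W [39] := by
    rw [W_append, W_append]
  have h3 : W ([39] ++ ([36, 13, 14, 42] ++ [39])) = W w₁ := by
    rw [h1, mono_rel, ← h2]
    rfl
  rw [← xi_rel.symm] at h3
  exact h3.trans rfl

end Cfsg.Agent.MonsterX.RelKappa
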