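import Cfsg.Agent.MonsterX.Conc

/-!
# Word identities on the symmetric vectors `V`, by label tracking

`W_eq_of_rel` : two words are equal in `V ≃ₗ[ℚ] V` if the labels at the end agree (`sameLab`), the labels are
invariant under the transposition of the matrix (`symLab`), the test masks `T` (lanes on or above the diagonal) meet
every label at most once, have union `upM` (`tests`), and the words agree on the symmetrised test vectors.
-/

set_option autoImplicit false

namespace Cfsg.Agent.MonsterX.RelSym

open Cfsg.Agent.Lib.PermNet Cfsg.Agent.Monster.VecEngine Cfsg.Agent.Monster Cfsg.Agent.Monster.VecSpace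
open Cfsg.Agent.MonsterX.ProgBase Cfsg.Agent.MonsterX.VecRel Cfsg.Agent.MonsterX.Space

/-- As `VecRel.eq_of_tests` for one function `f`, which only has to agree on lanes of a test mask with equal label. -/
theorem eq_of_tests' (A B : (ℕ → ℚ) →ₗ[ℚ] (ℕ → ℚ)) (lin l₁ l₂ : ℕ → ℤ) (hA : Dep (fun f => A f) lin l₁)
    (hB : Dep (fun f => B f) lin l₂) (f : ℕ → ℚ) (ts : List ℕ)
    (hinj : ∀ t ∈ ts, ∀ i j, t.testBit i = true → t.testBit j = true → lin i = lin j → f i = f j)
    (hdisj : ts.Pairwise fun s t => ∀ i, s.testBit i = true → t.testBit i = false)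
    (htest : ∀ t ∈ ts, A (VecRel.ind ℚ t) = B (VecRel.ind ℚ t)) (hf : Supp ts f) (i : ℕ) (hi : l₁ i = l₂ i) :
    A f i = B f i := by
  classical
  let c : ℕ → ℚ := fun t => if h : ∃ j, t.testBit j = true ∧ lin j = l₁ i then f h.choose else 0
  have hc : ∀ t ∈ ts, ∀ j, t.testBit j = true → lin j = l₁ i → c t = f j := by
    intro t ht j hj hl
    have h : ∃ j, t.testBit j = true ∧ lin j = l₁ i := ⟨j, hj, hl⟩
    change (if h : ∃ j, t.testBit j = true ∧ lin j = l₁ i then f h.choose else 0) = f j
    rw [dif_pos h]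
    exact hinj t ht _ _ h.choose_spec.1 hj (h.choose_spec.2.trans hl.symm)
  let g : ℕ → ℚ := (ts.map fun t => c t • VecRel.ind ℚ t).sum
  have hg : ∀ j, lin j = l₁ i → f j = g j := by
    intro j hl
    have key : ∀ us : List ℕ, (∀ t ∈ us, t ∈ ts) →
        (us.Pairwise fun s t => ∀ i, s.testBit i = true → t.testBit i = false) →
        ((us.map fun t => c t • VecRel.ind ℚ t).sum) j = if ∃ t ∈ us, t.testBit j = true then f j else 0 := by
      intro us hus hp
      induction us with
      | nil => simp
      | cons t us ih =>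
        rw [List.pairwise_cons] at hp
        have ih' := ih (fun s hs => hus s (by simp [hs])) hp.2
        rw [List.map_cons, List.sum_cons, Pi.add_apply, ih']
        change c t * (if t.testBit j then 1 else 0) + _ = _
        by_cases htj : t.testBit j = true
        · have h1 : ¬ ∃ s ∈ us, s.testBit j = true := by
            rintro ⟨s, hs, hsj⟩
            have := hp.1 s hs j htj
            rw [this] at hsj; exact absurd hsj (by simp)
          rw [if_pos htj, if_neg h1, if_pos ⟨t, by simp, htj⟩, hc t (hus t (by simp)) j htj hl]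
          ring
        · rw [if_neg htj, mul_zero, zero_add]
          by_cases h2 : ∃ s ∈ us, s.testBit j = true
          · obtain ⟨s, hs, hsj⟩ := h2
            rw [if_pos ⟨s, hs, hsj⟩, if_pos ⟨s, by simp [hs], hsj⟩]
          · rw [if_neg h2, if_neg]
            rintro ⟨s, hs, hsj⟩
            rcases List.mem_cons.1 hs with rfl | hs
            · exact htj hsj
            · exact h2 ⟨s, hs, hsj⟩
    have := key ts (fun _ h => h) hdisj
    change f j = ((ts.map fun t => c t • VecRel.ind ℚ t).sum) j
    rw [this]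
    split_ifs with h
    · rfl
    · apply hf
      intro t ht
      by_contra hc'
      exact h ⟨t, ht, by simpa using hc'⟩
  have e1 : A f i = A g i := hA f g i hg
  have e2 : B f i = B g i := hB f g i (by rw [← hi]; exact hg)
  rw [e1, e2]
  have e3 : A g = B g := by
    change A ((ts.map fun t => c t • VecRel.ind ℚ t).sum) = B ((ts.map fun t => c t • VecRel.ind ℚ t).sum)
    rw [map_list_sum, map_list_sum, List.map_map, List.map_map]
    congr 1
    apply List.map_congr_left
    intro t ht
    change A (c t • VecRel.ind ℚ t) = B (c t • VecRel.ind ℚ t)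
    rw [map_smul, map_smul, htest t ht]
  rw [e3]

/-- The labels are invariant under the transposition of the matrix. -/
noncomputable def symLab (lab : Pl) : Bool := eqP (norm (msk U (mapNet trN lab))) (norm (msk U lab))

theorem symLab_sound {lab : Pl} (h : symLab lab = true) {i : ℕ} (hi : U.testBit i = true) :
    val lab (tr i) = val lab i := by
  have h2 : norm (msk U (mapNet trN lab)) = norm (msk U lab) := eq_of_eqP h
  have h3 := congrArg (fun x => val x i) h2
  simp only [val_norm, val_msk, if_pos hi] at h3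
  rw [val_mapNet trN_ok] at h3
  exact h3

/-- The symmetrised mask. -/
noncomputable def symM (t : ℕ) : ℕ := Nat.lor t (trN.app t)

theorem testBit_symM (t i : ℕ) : (symM t).testBit i = (t.testBit i || t.testBit (tr i)) := by
  show (t ||| trN.app t).testBit i = _
  rw [Nat.testBit_or, testBit_app trN_ok]

/-- The check of one symmetrised test vector (scaled by `2 ^ s`). -/
noncomputable def testS (s : ℕ) (w₁ w₂ : List Prog) (t : ℕ) : Bool :=
  seqB (symM t) fun u => check w₁ (shl s u) w₂ (shl s u)

/-- The check of all symmetrised test vectors. -/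
noncomputable def testAllS (s : ℕ) (w₁ w₂ : List Prog) (T : List Tst) : Bool :=
  List.rec (motive := fun _ => Bool) true (fun x _ ih => and (testS s w₁ w₂ x.t) ih) T

theorem testAllS_iff {s : ℕ} {w₁ w₂ : List Prog} {T : List Tst} :
    testAllS s w₁ w₂ T = true ↔ ∀ x ∈ T, testS s w₁ w₂ x.t = true := by
  induction T with
  | nil => exact ⟨fun _ => by simp, fun _ => rfl⟩
  | cons x T ih =>
    have : testAllS s w₁ w₂ (x :: T) = and (testS s w₁ w₂ x.t) (testAllS s w₁ w₂ T) := rfl
    rw [this, Bool.and_eq_true, ih]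
    simp

theorem testAllS_append {s : ℕ} {w₁ w₂ : List Prog} {T T' : List Tst} (h : testAllS s w₁ w₂ T = true)
    (h' : testAllS s w₁ w₂ T' = true) : testAllS s w₁ w₂ (T ++ T') = true := by
  rw [testAllS_iff] at h h' ⊢
  intro x hx
  rcases List.mem_append.1 hx with hx | hx
  · exact h x hx
  · exact h' x hx

theorem testS_sound {s : ℕ} {w₁ w₂ : List Prog} (h₁ : ∀ P ∈ w₁, P.ok 262144 = true)
    (h₂ : ∀ P ∈ w₂, P.ok 262144 = true) {t : ℕ} (h : testS s w₁ w₂ t = true) :
    semL ℚ w₁ (VecRel.ind ℚ (symM t)) = semL ℚ w₂ (VecRel.ind ℚ (symM t)) := by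
  have h' : seqB (symM t) (fun u => check w₁ (shl s u) w₂ (shl s u)) = true := h
  rw [seqB_eq] at h'
  exact test_sound two_ne_zero h₁ h₂ h'

/-- WORD IDENTITIES on `V`, all hypotheses are kernel checks. -/
theorem WP_eq_of_rel {w₁ w₂ : List Prog} (h₁ : ∀ P ∈ w₁, GoodT P) (h₂ : ∀ P ∈ w₂, GoodT P) {s : ℕ} {lab : Pl}
    {T : List Tst} (hT : tests 18 lab upM T 0 = true) (hs : symLab lab = true) (hlab : sameLab U w₁ w₂ lab = true)
    (htest : testAllS s w₁ w₂ T = true) : WP w₁ = WP w₂ := by
  obtain ⟨g1, g2, -, g4, g5⟩ := tests_sound upM_lt hT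
  rw [testAllS_iff] at htest
  have hup : ∀ x ∈ T, ∀ i, x.t.testBit i = true → upM.testBit i = true := by
    obtain ⟨-, -, g3, -, -⟩ := tests_sound upM_lt hT
    intro x hx i hi
    exact (g3 x hx i hi).2
  have hsym : ∀ x ∈ T, ∀ i, (symM x.t).testBit i = true → U.testBit i = true := by
    intro x hx i hi
    rw [testBit_symM, Bool.or_eq_true] at hi
    rcases hi with hi | hi
    · exact U_of_upM (hup x hx i hi)
    · rw [← testBit_tr_U]; exact U_of_upM (hup x hx _ hi)
  obtain ⟨l₁, l₂, hA, hB, hl⟩ := sameLab_sound (R := ℚ) (m := 262144) (V := U)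
    (fun P hP => (h₁ P hP).good.ok) (fun P hP => (h₂ P hP).good.ok) hlab
  apply LinearEquiv.ext
  intro v
  apply Subtype.ext
  rw [WP_coe h₁, WP_coe h₂]
  have e1 := res_semL ℚ (fun P hP => (h₁ P hP).good.pres) (ext ℚ U v.1)
  have e2 := res_semL ℚ (fun P hP => (h₂ P hP).good.pres) (ext ℚ U v.1)
  rw [res_ext] at e1 e2
  rw [← e1, ← e2]
  funext i
  show semL ℚ w₁ (ext ℚ U v.1) i.1 = semL ℚ w₂ (ext ℚ U v.1) i.1
  -- the values of `v` on a lane and its transpose
  have hv : ∀ j, U.testBit j = true → ext ℚ U v.1 (tr j) = ext ℚ U v.1 j := by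
    intro j hj
    have h3 := mem_Vs_iff.1 v.2 ⟨j, hj⟩
    rw [ext_apply_of_true ℚ hj, ext_apply_of_true ℚ (show U.testBit (tr j) = true by rw [testBit_tr_U]; exact hj)]
    exact h3
  -- representative on or above the diagonal
  have hrep : ∀ x ∈ T, ∀ j, (symM x.t).testBit j = true → ∃ k, x.t.testBit k = true ∧ val lab k = val lab j ∧
      ext ℚ U v.1 k = ext ℚ U v.1 j := by
    intro x hx j hj
    have hU := hsym x hx j hj
    rw [testBit_symM, Bool.or_eq_true] at hj
    rcases hj with hj | hj
    · exact ⟨j, hj, rfl, rfl⟩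
    · exact ⟨tr j, hj, symLab_sound hs hU, hv j hU⟩
  refine eq_of_tests' _ _ _ l₁ l₂ hA hB (ext ℚ U v.1) (T.map fun x => symM x.t) ?_ ?_ ?_ ?_ i.1 (hl i.1 i.2)
  · intro t ht a b ha hb hab
    obtain ⟨x, hx, rfl⟩ := List.mem_map.1 ht
    obtain ⟨a', ha1, ha2, ha3⟩ := hrep x hx a ha
    obtain ⟨b', hb1, hb2, hb3⟩ := hrep x hx b hb
    have : a' = b' := g1 x hx a' b' ha1 hb1 (by rw [ha2, hb2, hab])
    rw [← ha3, ← hb3, this]
  · rw [List.pairwise_map]
    refine List.Pairwise.imp_of_mem ?_ g2
    intro x y hx hy hxy j hj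
    rw [testBit_symM, Bool.or_eq_true] at hj
    rw [testBit_symM, Bool.or_eq_false_iff]
    rcases hj with hj | hj
    · refine ⟨hxy j hj, ?_⟩
      by_contra hc
      have hc' : y.t.testBit (tr j) = true := by simpa using hc
      have e := tr_eq_of_upM (hup x hx j hj) (hup y hy _ hc')
      rw [e, hxy j hj] at hc'
      exact absurd hc' (by simp)
    · refine ⟨?_, hxy _ hj⟩
      by_contra hc
      have hc' : y.t.testBit j = true := by simpa using hc
      have e := tr_eq_of_upM (hup y hy j hc') (hup x hx _ hj)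
      rw [e] at hj
      rw [hxy j hj] at hc'
      exact absurd hc' (by simp)
  · intro t ht
    obtain ⟨x, hx, rfl⟩ := List.mem_map.1 ht
    exact testS_sound (fun P hP => (h₁ P hP).good.ok) (fun P hP => (h₂ P hP).good.ok) (htest x hx)
  · intro j hj
    by_cases hjU : U.testBit j = true
    · exfalso
      by_cases hup' : upM.testBit j = true
      · rcases g4 j hup' with h | ⟨x, hx, hxj⟩
        · simp at h
        · have := hj (symM x.t) (List.mem_map.2 ⟨x, hx, rfl⟩)
          rw [testBit_symM, hxj] at this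
          exact absurd this (by simp)
      · have hup2 := upM_tr hjU hup'
        rcases g4 _ hup2 with h | ⟨x, hx, hxj⟩
        · simp at h
        · have := hj (symM x.t) (List.mem_map.2 ⟨x, hx, rfl⟩)
          rw [testBit_symM, hxj] at this
          simp at this
    · exact ext_apply_of_not ℚ hjU v.1

/-- The same for words of letters. -/
theorem W_eq_of_rel {w₁ w₂ : List ℕ} {s : ℕ} {lab : Pl} {T : List Tst} (hT : tests 18 lab upM T 0 = true)
    (hs : symLab lab = true) (hlab : sameLab U (w₁.map ProgTable.prog) (w₂.map ProgTable.prog) lab = true)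
    (htest : testAllS s (w₁.map ProgTable.prog) (w₂.map ProgTable.prog) T = true) : Conc.W w₁ = Conc.W w₂ :=
  WP_eq_of_rel (Conc.progs_goodT w₁) (Conc.progs_goodT w₂) hT hs hlab htest

/-- Word identities which hold on all vectors (also with nonsymmetric matrix). -/
theorem W_eq_of_rel_all {w₁ w₂ : List ℕ} {s : ℕ} {lab : Pl} {T : List Tst} (hT : tests 18 lab U T 0 = true)
    (hlab : sameLab U (w₁.map ProgTable.prog) (w₂.map ProgTable.prog) lab = true)
    (htest : testAll s (w₁.map ProgTable.prog) (w₂.map ProgTable.prog) T = true) : Conc.W w₁ = Conc.W w₂ := by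
  have h := wordE_eq ℚ two_ne_zero U_lt (fun P hP => (Conc.progs_goodT w₁ P hP).good)
    (fun P hP => (Conc.progs_goodT w₂ P hP).good) hT hlab htest
  show rs (wordE ℚ U (w₁.map ProgTable.prog)) = rs (wordE ℚ U (w₂.map ProgTable.prog))
  rw [h]

end Cfsg.Agent.MonsterX.RelSym
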