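import Mathlib.GroupTheory.OrderOfElement
import Mathlib.GroupTheory.GroupAction.Basic
import Mathlib.Tactic.Group

set_option autoImplicit false

/-!
Orders of products of two involutions of a class attached to a `G`-set, from one vector identity
for each representative of pairs: `ρ ^ m • x = x` gives `ρ ^ (2 m) = 1` and `ρ ^ m • x = y` gives
`ρ ^ (2 m + 1) = 1`, where `ρ` is the product of the involutions attached to `x` and `y`.
-/

namespace Cfsg.Agent.MonsterX.SixTrans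

universe u v w

variable {G : Type u} [Group G]

/-- If `(s u)^m` commutes with `s` then `(s u)^(2 m) = 1`, for involutions `s`, `u`. -/
theorem pow_two_mul_eq_one {s u : G} (hs : s * s = 1) (hu : u * u = 1) {m : ℕ}
    (h : (s * u) ^ m * s = s * (s * u) ^ m) : (s * u) ^ (2 * m) = 1 := by
  have hsi : s⁻¹ = s := inv_eq_of_mul_eq_one_left hs
  have hui : u⁻¹ = u := inv_eq_of_mul_eq_one_left hu
  have h1 : s * (s * u) ^ m * s⁻¹ = ((s * u) ^ m)⁻¹ := by
    rw [← conj_pow, ← inv_pow]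
    congr 1
    rw [mul_inv_rev, hsi, hui, ← mul_assoc, hs, one_mul]
  have h2 : s * (s * u) ^ m * s⁻¹ = (s * u) ^ m := by rw [← h, mul_inv_cancel_right]
  rw [two_mul, pow_add]
  nth_rewrite 1 [← h2]
  rw [h1, inv_mul_cancel]

/-- If `(s u)^m` conjugates `s` to `u` then `(s u)^(2 m + 1) = 1`. -/
theorem pow_two_mul_add_one_eq_one {s u : G} (hs : s * s = 1) (hu : u * u = 1) {m : ℕ}
    (h : (s * u) ^ m * s * ((s * u) ^ m)⁻¹ = u) : (s * u) ^ (2 * m + 1) = 1 := by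
  have hsi : s⁻¹ = s := inv_eq_of_mul_eq_one_left hs
  have hui : u⁻¹ = u := inv_eq_of_mul_eq_one_left hu
  have h1 : s * (s * u) ^ m * s⁻¹ = ((s * u) ^ m)⁻¹ := by
    rw [← conj_pow, ← inv_pow]
    congr 1
    rw [mul_inv_rev, hsi, hui, ← mul_assoc, hs, one_mul]
  -- s ρ^m = ρ^-m s, so u = ρ^m s ρ^-m = ρ^(2m) s
  have h2 : s * ((s * u) ^ m)⁻¹ = (s * u) ^ m * s := by
    rw [← h1]
    calc s * (s * (s * u) ^ m * s⁻¹) = (s * s) * (s * u) ^ m * s⁻¹ := by group
      _ = (s * u) ^ m * s := by rw [hs, one_mul, hsi]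
  have h3 : u = (s * u) ^ m * (s * u) ^ m * s := by
    calc u = (s * u) ^ m * s * ((s * u) ^ m)⁻¹ := h.symm
      _ = (s * u) ^ m * (s * ((s * u) ^ m)⁻¹) := by group
      _ = (s * u) ^ m * (s * u) ^ m * s := by rw [h2]; group
  have h4 : (s * u) ^ (2 * m) * s = u := by
    rw [two_mul, pow_add]; exact h3.symm
  have h5 : (s * u) ^ (2 * m) = u * s := by
    calc (s * u) ^ (2 * m) = (s * u) ^ (2 * m) * s * s := by rw [mul_assoc, hs, mul_one]
      _ = u * s := by rw [h4]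
  rw [pow_succ, h5]
  calc u * s * (s * u) = u * (s * s) * u := by group
    _ = 1 := by rw [hs, mul_one, hu]

variable {V : Type v} [MulAction G V]

/-- The involution attached to `g • a` is `g t g⁻¹`. -/
theorem conj_eq_of_smul_eq {a : V} {t : G} (hst : ∀ g : G, g • a = a → g * t = t * g) {g h : G}
    (hgh : g • a = h • a) : g * t * g⁻¹ = h * t * h⁻¹ := by
  have h1 : (h⁻¹ * g) • a = a := by rw [mul_smul, hgh, inv_smul_smul]
  have h2 := hst _ h1
  calc g * t * g⁻¹ = h * (h⁻¹ * g * t) * g⁻¹ := by group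
    _ = h * (t * (h⁻¹ * g)) * g⁻¹ := by rw [h2]
    _ = h * t * h⁻¹ := by group

/-- One vector identity bounds the order of the product of the involutions attached to
`r • a` and `w • a`. -/
theorem pow_eq_one_of_vec {a : V} {t : G} (ht : t * t = 1)
    (hst : ∀ g : G, g • a = a → g * t = t * g) {r w : G} {m : ℕ}
    (h : ((r * t * r⁻¹) * (w * t * w⁻¹)) ^ m • (r • a) = r • a) :
    ((r * t * r⁻¹) * (w * t * w⁻¹)) ^ (2 * m) = 1 := by
  have hinv : ∀ x : G, (x * t * x⁻¹) * (x * t * x⁻¹) = 1 := fun x => by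
    calc (x * t * x⁻¹) * (x * t * x⁻¹) = x * (t * t) * x⁻¹ := by group
      _ = 1 := by rw [ht]; group
  apply pow_two_mul_eq_one (hinv r) (hinv w)
  rw [← mul_smul] at h
  have h1 := conj_eq_of_smul_eq hst h
  generalize ((r * t * r⁻¹) * (w * t * w⁻¹)) ^ m = p at h1 ⊢
  rw [← mul_inv_eq_iff_eq_mul]
  calc p * (r * t * r⁻¹) * p⁻¹ = p * r * t * (p * r)⁻¹ := by group
    _ = r * t * r⁻¹ := h1

theorem pow_eq_one_of_vec' {a : V} {t : G} (ht : t * t = 1)
    (hst : ∀ g : G, g • a = a → g * t = t * g) {r w : G} {m : ℕ}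
    (h : ((r * t * r⁻¹) * (w * t * w⁻¹)) ^ m • (r • a) = w • a) :
    ((r * t * r⁻¹) * (w * t * w⁻¹)) ^ (2 * m + 1) = 1 := by
  have hinv : ∀ x : G, (x * t * x⁻¹) * (x * t * x⁻¹) = 1 := fun x => by
    calc (x * t * x⁻¹) * (x * t * x⁻¹) = x * (t * t) * x⁻¹ := by group
      _ = 1 := by rw [ht]; group
  apply pow_two_mul_add_one_eq_one (hinv r) (hinv w)
  rw [← mul_smul] at h
  have h1 := conj_eq_of_smul_eq hst h
  generalize ((r * t * r⁻¹) * (w * t * w⁻¹)) ^ m = p at h1 ⊢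
  calc p * (r * t * r⁻¹) * p⁻¹ = p * r * t * (p * r)⁻¹ := by group
    _ = w * t * w⁻¹ := h1

/-- The vector certificate for a pair: for some `m`, either `2 m ≤ N`, `m ≠ 0` and `ρ ^ m` fixes
the first vector, or `2 m + 1 ≤ N` and `ρ ^ m` maps the first vector to the second one. -/
def PairCert (N : ℕ) (a : V) (t r w : G) : Prop :=
  ∃ m : ℕ, (0 < m ∧ 2 * m ≤ N ∧
      ((r * t * r⁻¹) * (w * t * w⁻¹)) ^ m • (r • a) = r • a) ∨
    (2 * m + 1 ≤ N ∧ ((r * t * r⁻¹) * (w * t * w⁻¹)) ^ m • (r • a) = w • a)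

theorem PairCert.orderOf_le {N : ℕ} {a : V} {t r w : G} (ht : t * t = 1)
    (hst : ∀ g : G, g • a = a → g * t = t * g) (h : PairCert N a t r w) :
    orderOf ((r * t * r⁻¹) * (w * t * w⁻¹)) ≤ N := by
  obtain ⟨m, ⟨h1, h2, h3⟩ | ⟨h1, h2⟩⟩ := h
  · exact (orderOf_le_of_pow_eq_one (by omega) (pow_eq_one_of_vec ht hst h3)).trans h2
  · exact (orderOf_le_of_pow_eq_one (by omega) (pow_eq_one_of_vec' ht hst h2)).trans h1

/-- **Reduction to representatives.** `b j = w j • a` are representatives of the `K`-orbits on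
`G • a`, `L j ≤ K` fixes `b j`, and the vectors `r • a`, `r ∈ R j`, represent the `L j`-orbits on
`K • a`. -/
theorem orderOf_le (N : ℕ) (a : V) (t : G) (ht : t * t = 1)
    (hst : ∀ g : G, g • a = a → g * t = t * g) (K : Subgroup G) {ι : Type w} (w : ι → G)
    (hX : ∀ g : G, ∃ k ∈ K, ∃ j, g • a = k • w j • a) (L : ι → Subgroup G)
    (hL : ∀ j, ∀ l ∈ L j, l • w j • a = w j • a) (R : ι → Set G)
    (hR : ∀ j, ∀ k ∈ K, ∃ l ∈ L j, ∃ r ∈ R j, k • a = l • r • a)
    (hcert : ∀ j, ∀ r ∈ R j, PairCert N a t r (w j)) (g : G) :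
    orderOf (t * (g * t * g⁻¹)) ≤ N := by
  obtain ⟨k, hk, j, hg⟩ := hX g
  obtain ⟨l, hl, r, hr, hkr⟩ := hR j k⁻¹ (inv_mem hk)
  have h1 := (hcert j r hr).orderOf_le ht hst
  -- g t g⁻¹ = (k l) t_j (k l)⁻¹ and t = (k l) t_r (k l)⁻¹
  have h2 : g * t * g⁻¹ = (k * l) * (w j * t * (w j)⁻¹) * (k * l)⁻¹ := by
    have h3 : g • a = (k * l * w j) • a := by
      rw [mul_smul, mul_smul, hL j l hl, hg]
    rw [conj_eq_of_smul_eq hst h3]
    group
  have h4 : t = (k * l) * (r * t * r⁻¹) * (k * l)⁻¹ := by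
    have h3 : (1 : G) • a = (k * l * r) • a := by
      rw [one_smul, mul_smul, mul_smul, ← hkr, smul_inv_smul]
    have h5 := conj_eq_of_smul_eq hst h3
    rw [one_mul, inv_one, mul_one] at h5
    calc t = k * l * r * t * (k * l * r)⁻¹ := h5
      _ = _ := by group
  have h6 : t * (g * t * g⁻¹) =
      (k * l) * ((r * t * r⁻¹) * (w j * t * (w j)⁻¹)) * (k * l)⁻¹ := by
    rw [h2]
    nth_rewrite 1 [h4]
    group
  rw [h6]
  have h7 : orderOf ((k * l) * ((r * t * r⁻¹) * (w j * t * (w j)⁻¹)) * (k * l)⁻¹) =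
      orderOf ((r * t * r⁻¹) * (w j * t * (w j)⁻¹)) :=
    MulEquiv.orderOf_eq (MulAut.conj (k * l)) _
  rw [h7]
  exact h1

end Cfsg.Agent.MonsterX.SixTrans
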