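/-
Operator identities for programs of `Monster.VecEngine` by label tracking: every lane carries a label; a program is
followed on the labels (butterflies may only combine lanes of equal label). If two words give the same output labels
and agree on test vectors that meet every label at most once, they agree on all functions supported on the lanes
covered by the test vectors.
-/
import Cfsg.Agent.Monster.VecSpace

set_option autoImplicit false

namespace Cfsg.Agent.MonsterX.VecRel

open Cfsg.Agent.Lib.PermNet Cfsg.Agent.Monster.VecEngine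

/-! ### Labels -/

/-- All planes of `L` agree at `i` and `i + d` for `i` in `M`. -/
noncomputable def eqOn (M d : ℕ) (L : Pl) : Bool :=
  Pl.rec (motive := fun _ => Bool)
    (fun s => Nat.beq (Nat.land (Nat.xor s (Nat.shiftRight s d)) M) 0)
    (fun p _ ih => and (Nat.beq (Nat.land (Nat.xor p (Nat.shiftRight p d)) M) 0) ih) L

theorem bt_eqOn {M d p i : ℕ} (h : Nat.beq (Nat.land (Nat.xor p (Nat.shiftRight p d)) M) 0 = true)
    (hi : M.testBit i = true) : bt p (i + d) = bt p i := by
  have h1 : (p ^^^ (p >>> d)) &&& M = 0 := Nat.eq_of_beq_eq_true h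
  have h2 := congrArg (fun x => Nat.testBit x i) h1
  simp only [Nat.testBit_and, Nat.testBit_xor, Nat.testBit_shiftRight, Nat.zero_testBit, hi, Bool.and_true] at h2
  unfold bt
  rw [Nat.add_comm i d]
  have h3 : p.testBit (d + i) = p.testBit i := by
    revert h2
    cases p.testBit i <;> cases p.testBit (d + i) <;> simp
  rw [h3]

theorem val_eqOn {M d : ℕ} {L : Pl} (h : eqOn M d L = true) {i : ℕ} (hi : M.testBit i = true) :
    val L (i + d) = val L i := by
  induction L with
  | sgn s => rw [val_sgn, val_sgn, bt_eqOn h hi]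
  | cons p L ih =>
    have h' : and (Nat.beq (Nat.land (Nat.xor p (Nat.shiftRight p d)) M) 0) (eqOn M d L) = true := h
    rw [Bool.and_eq_true] at h'
    rw [val_cons, val_cons, bt_eqOn h'.1 hi, ih h'.2]

/-- Follow labels through a program. -/
noncomputable def track (P : Prog) : Pl → (Pl → Bool) → Bool :=
  Prog.rec (motive := fun _ => Pl → (Pl → Bool) → Bool)
    (fun x k => k x)
    (fun N _ ih x k => go (mapNet N x) fun y => ih y k)
    (fun _ _ ih x k => ih x k)
    (fun _ _ ih x k => ih x k)
    (fun _ ih x k => ih x k)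
    (fun M d _ ih x k => and (eqOn M d x) (ih x k)) P

/-- Follow labels through a word. -/
noncomputable def trackL (w : List Prog) : Pl → (Pl → Bool) → Bool :=
  List.rec (motive := fun _ => Pl → (Pl → Bool) → Bool) (fun x k => k x)
    (fun P _ ih x k => track P x fun y => ih y k) w

section dep

variable {R : Type*}

/-- The value of `A f` at `i` depends only on the lanes with label `lout i`. -/
def Dep (A : (ℕ → R) → (ℕ → R)) (lin lout : ℕ → ℤ) : Prop :=
  ∀ (f g : ℕ → R) (i : ℕ), (∀ j, lin j = lout i → f j = g j) → A f i = A g i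

theorem Dep.comp {A B : (ℕ → R) → (ℕ → R)} {l m n : ℕ → ℤ} (hB : Dep B m n) (hA : Dep A l m) :
    Dep (fun f => B (A f)) l n := by
  intro f g i h
  apply hB
  intro j hj
  apply hA
  intro j' hj'
  exact h j' (hj'.trans hj)

theorem Dep.id (l : ℕ → ℤ) : Dep (fun f : ℕ → R => f) l l := fun _ _ i h => h i rfl

variable [Field R]

theorem dep_perm {m : ℕ} {N : Net} (h : N.ok m = true) (x : Pl) :
    Dep (fun f => lcomp R N.perm f) (val x) (val (mapNet N x)) := by
  intro f g i hfg
  exact hfg _ (by rw [val_mapNet h])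

theorem dep_neg (M : ℕ) (l : ℕ → ℤ) : Dep (fun f => lneg R M f) l l := by
  intro f g i h
  change (if M.testBit i then - f i else f i) = (if M.testBit i then - g i else g i)
  rw [h i rfl]

theorem dep_dbl (M : ℕ) (l : ℕ → ℤ) : Dep (fun f => ldbl R M f) l l := by
  intro f g i h
  change (if M.testBit i then 2 * f i else f i) = (if M.testBit i then 2 * g i else g i)
  rw [h i rfl]

theorem dep_half (l : ℕ → ℤ) : Dep (fun f : ℕ → R => ((2 : R)⁻¹ • LinearMap.id (R := R) (M := ℕ → R)) f) l l := by
  intro f g i h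
  change (2 : R)⁻¹ * f i = (2 : R)⁻¹ * g i
  rw [h i rfl]

theorem dep_bfly {M d : ℕ} {x : Pl} (h : eqOn M d x = true) : Dep (fun f => lbfly R M d f) (val x) (val x) := by
  intro f g i hfg
  change (if M.testBit i then f i + f (i + d) else if d ≤ i ∧ M.testBit (i - d) then f (i - d) - f i else f i) =
    (if M.testBit i then g i + g (i + d) else if d ≤ i ∧ M.testBit (i - d) then g (i - d) - g i else g i)
  by_cases h1 : M.testBit i = true
  · rw [if_pos h1, if_pos h1, hfg i rfl, hfg (i + d) (val_eqOn h h1)]
  · rw [if_neg h1, if_neg h1]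
    by_cases h2 : d ≤ i ∧ M.testBit (i - d) = true
    · rw [if_pos h2, if_pos h2, hfg i rfl]
      have h3 := val_eqOn h h2.2
      rw [Nat.sub_add_cancel h2.1] at h3
      rw [hfg (i - d) h3.symm]
    · rw [if_neg h2, if_neg h2, hfg i rfl]

theorem track_sound {m : ℕ} (P : Prog) (hP : P.ok m = true) (x : Pl) (k : Pl → Bool)
    (h : track P x k = true) : ∃ y, Dep (fun f => sem R P f) (val x) (val y) ∧ k y = true := by
  induction P generalizing x with
  | nil => exact ⟨x, Dep.id _, h⟩
  | perm N P ih =>
    have hP' : and (N.ok m) (P.ok m) = true := hP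
    rw [Bool.and_eq_true] at hP'
    have h' : go (mapNet N x) (fun y => track P y k) = true := h
    rw [go_eq] at h'
    obtain ⟨y, hy, hk⟩ := ih hP'.2 _ h'
    refine ⟨y, ?_, hk⟩
    have h1 : Dep (fun f => lcomp R N.perm f) (val x) (val (norm (mapNet N x))) := by
      have := dep_perm (R := R) hP'.1 x
      have e : val (norm (mapNet N x)) = val (mapNet N x) := by funext i; rw [val_norm]
      rw [e]; exact this
    have h2 := Dep.comp hy h1
    exact h2
  | neg M P ih =>
    obtain ⟨y, hy, hk⟩ := ih hP x h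
    have h2 := Dep.comp hy (dep_neg (R := R) M (val x))
    exact ⟨y, h2, hk⟩
  | dbl M P ih =>
    obtain ⟨y, hy, hk⟩ := ih hP x h
    have h2 := Dep.comp hy (dep_dbl (R := R) M (val x))
    exact ⟨y, h2, hk⟩
  | half P ih =>
    obtain ⟨y, hy, hk⟩ := ih hP x h
    have h2 := Dep.comp hy (dep_half (R := R) (val x))
    exact ⟨y, h2, hk⟩
  | bfly M d P ih =>
    have hP' : and (Net.ok m (.cons M d .nil)) (P.ok m) = true := hP
    rw [Bool.and_eq_true] at hP'
    have h' : and (eqOn M d x) (track P x k) = true := h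
    rw [Bool.and_eq_true] at h'
    obtain ⟨y, hy, hk⟩ := ih hP'.2 x h'.2
    have h2 := Dep.comp hy (dep_bfly (R := R) h'.1)
    exact ⟨y, h2, hk⟩

theorem trackL_sound {m : ℕ} (w : List Prog) (hw : ∀ P ∈ w, P.ok m = true) (x : Pl) (k : Pl → Bool)
    (h : trackL w x k = true) : ∃ y, Dep (fun f => semL R w f) (val x) (val y) ∧ k y = true := by
  induction w generalizing x with
  | nil => exact ⟨x, Dep.id _, h⟩
  | cons P w ih =>
    have h' : track P x (fun y => trackL w y k) = true := h
    obtain ⟨y, hy, hk⟩ := track_sound (R := R) P (hw P (by simp)) x _ h'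
    obtain ⟨z, hz, hk'⟩ := ih (fun Q hQ => hw Q (by simp [hQ])) y hk
    have h2 := Dep.comp hz hy
    exact ⟨z, h2, hk'⟩

/-- Two words give the same output labels on the lanes of `V`. -/
noncomputable def sameLab (V : ℕ) (w₁ w₂ : List Prog) (x : Pl) : Bool :=
  trackL w₁ x fun y₁ => trackL w₂ x fun y₂ => eqP (norm (msk V y₁)) (norm (msk V y₂))

theorem sameLab_sound {m V : ℕ} {w₁ w₂ : List Prog} (h₁ : ∀ P ∈ w₁, P.ok m = true)
    (h₂ : ∀ P ∈ w₂, P.ok m = true) {x : Pl} (h : sameLab V w₁ w₂ x = true) :
    ∃ l₁ l₂ : ℕ → ℤ, Dep (fun f => semL R w₁ f) (val x) l₁ ∧ Dep (fun f => semL R w₂ f) (val x) l₂ ∧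
      ∀ i, V.testBit i = true → l₁ i = l₂ i := by
  obtain ⟨y₁, hy₁, hk₁⟩ := trackL_sound (R := R) w₁ h₁ x _ h
  obtain ⟨y₂, hy₂, hk₂⟩ := trackL_sound (R := R) w₂ h₂ x _ hk₁
  refine ⟨val y₁, val y₂, hy₁, hy₂, fun i hi => ?_⟩
  have h3 : val (norm (msk V y₁)) i = val (norm (msk V y₂)) i := by rw [eq_of_eqP hk₂]
  rw [val_norm, val_norm, val_msk, val_msk, if_pos hi, if_pos hi] at h3
  exact h3

end dep

/-! ### Test vectors -/

section test

variable {R : Type*} [Field R]

/-- The indicator function of a mask. -/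
def ind (R : Type*) [Field R] (t : ℕ) : ℕ → R := fun i => if t.testBit i then 1 else 0

/-- The labels are injective on the lanes of `t`. -/
def Inj (lab : ℕ → ℤ) (t : ℕ) : Prop :=
  ∀ i j, t.testBit i = true → t.testBit j = true → lab i = lab j → i = j

/-- Functions supported on the lanes of a list of masks. -/
def Supp (ts : List ℕ) (f : ℕ → R) : Prop := ∀ i, (∀ t ∈ ts, t.testBit i = false) → f i = 0

theorem eq_of_tests (A B : (ℕ → R) →ₗ[R] (ℕ → R)) (lin l₁ l₂ : ℕ → ℤ) (hA : Dep (fun f => A f) lin l₁)
    (hB : Dep (fun f => B f) lin l₂) (ts : List ℕ) (hinj : ∀ t ∈ ts, Inj lin t)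
    (hdisj : ts.Pairwise fun s t => ∀ i, s.testBit i = true → t.testBit i = false)
    (htest : ∀ t ∈ ts, A (ind R t) = B (ind R t)) (f : ℕ → R) (hf : Supp ts f) (i : ℕ) (hi : l₁ i = l₂ i) :
    A f i = B f i := by
  classical
  -- the coefficient of a test vector
  let c : ℕ → R := fun t => if h : ∃ j, t.testBit j = true ∧ lin j = l₁ i then f h.choose else 0
  have hc : ∀ t ∈ ts, ∀ j, t.testBit j = true → lin j = l₁ i → c t = f j := by
    intro t ht j hj hl
    have h : ∃ j, t.testBit j = true ∧ lin j = l₁ i := ⟨j, hj, hl⟩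
    change (if h : ∃ j, t.testBit j = true ∧ lin j = l₁ i then f h.choose else 0) = f j
    rw [dif_pos h]
    rw [hinj t ht _ _ h.choose_spec.1 hj (h.choose_spec.2.trans hl.symm)]
  let g : ℕ → R := (ts.map fun t => c t • ind R t).sum
  have hg : ∀ j, lin j = l₁ i → f j = g j := by
    intro j hl
    have key : ∀ us : List ℕ, (∀ t ∈ us, t ∈ ts) →
        (us.Pairwise fun s t => ∀ i, s.testBit i = true → t.testBit i = false) →
        ((us.map fun t => c t • ind R t).sum) j = if ∃ t ∈ us, t.testBit j = true then f j else 0 := by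
      intro us hus hp
      induction us with
      | nil => simp
      | cons t us ih =>
        rw [List.pairwise_cons] at hp
        have ih' := ih (fun s hs => hus s (by simp [hs])) hp.2
        rw [List.map_cons, List.sum_cons, Pi.add_apply, ih']
        change c t * (if t.testBit j then 1 else 0) + _ = _
        by_cases htj : t.testBit j = true
        · have h1 : ¬ ∃ s ∈ us, s.testBit j = true := by
            rintro ⟨s, hs, hsj⟩
            have := hp.1 s hs j htj
            rw [this] at hsj; exact absurd hsj (by simp)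
          rw [if_pos htj, if_neg h1, if_pos ⟨t, by simp, htj⟩, hc t (hus t (by simp)) j htj hl]
          ring
        · rw [if_neg htj, mul_zero, zero_add]
          by_cases h2 : ∃ s ∈ us, s.testBit j = true
          · obtain ⟨s, hs, hsj⟩ := h2
            rw [if_pos ⟨s, hs, hsj⟩, if_pos ⟨s, by simp [hs], hsj⟩]
          · rw [if_neg h2, if_neg]
            rintro ⟨s, hs, hsj⟩
            rcases List.mem_cons.1 hs with rfl | hs
            · exact htj hsj
            · exact h2 ⟨s, hs, hsj⟩
    have := key ts (fun _ h => h) hdisj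
    change f j = ((ts.map fun t => c t • ind R t).sum) j
    rw [this]
    split_ifs with h
    · rfl
    · apply hf
      intro t ht
      by_contra hc'
      exact h ⟨t, ht, by simpa using hc'⟩
  have e1 : A f i = A g i := hA f g i hg
  have e2 : B f i = B g i := hB f g i (by rw [← hi]; exact hg)
  rw [e1, e2]
  have e3 : A g = B g := by
    change A ((ts.map fun t => c t • ind R t).sum) = B ((ts.map fun t => c t • ind R t).sum)
    rw [map_list_sum, map_list_sum, List.map_map, List.map_map]
    congr 1
    apply List.map_congr_left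
    intro t ht
    change A (c t • ind R t) = B (c t • ind R t)
    rw [map_smul, map_smul, htest t ht]
  rw [e3]

/-- `2^s` times the indicator of `t`. -/
noncomputable def shl (s : ℕ) (t : ℕ) : Pl := Nat.rec (motive := fun _ => Pl) (.cons t (.sgn 0)) (fun _ ih => .cons 0 ih) s

theorem vec_shl (s t : ℕ) : vec R (shl s t) = (2 : R) ^ s • ind R t := by
  induction s with
  | zero =>
    funext i
    change ((bt t i + 2 * (- bt 0 i) : ℤ) : R) = (2 : R) ^ 0 * (if t.testBit i then 1 else 0)
    have h0 : bt 0 i = 0 := by simp [bt]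
    rw [h0]
    unfold bt
    split_ifs <;> simp
  | succ s ih =>
    funext i
    change ((bt 0 i + 2 * val (shl s t) i : ℤ) : R) = (2 : R) ^ (s + 1) * (if t.testBit i then 1 else 0)
    have h0 : bt 0 i = 0 := by simp [bt]
    have h1 := congrFun ih i
    change ((val (shl s t) i : ℤ) : R) = (2 : R) ^ s * (if t.testBit i then 1 else 0) at h1
    rw [h0, zero_add, Int.cast_mul, h1, pow_succ]
    push_cast
    ring

/-- The check of one test vector (scaled by `2^s`). -/
noncomputable def test (s : ℕ) (w₁ w₂ : List Prog) (t : ℕ) : Bool := check w₁ (shl s t) w₂ (shl s t)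

theorem test_sound (h2 : (2 : R) ≠ 0) {m s : ℕ} {w₁ w₂ : List Prog} (h₁ : ∀ P ∈ w₁, P.ok m = true)
    (h₂ : ∀ P ∈ w₂, P.ok m = true) {t : ℕ} (h : test s w₁ w₂ t = true) :
    semL R w₁ (ind R t) = semL R w₂ (ind R t) := by
  have := check_sound R h2 h₁ h₂ h
  rw [vec_shl, map_smul, map_smul] at this
  exact smul_right_injective _ (pow_ne_zero s h2) this

/-- The operator identity on functions, on the lanes of `V`. -/
theorem rel (h2 : (2 : R) ≠ 0) {m s V : ℕ} {w₁ w₂ : List Prog} (h₁ : ∀ P ∈ w₁, P.ok m = true)
    (h₂ : ∀ P ∈ w₂, P.ok m = true) (lab : Pl) (ts : List ℕ) (hinj : ∀ t ∈ ts, Inj (val lab) t)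
    (hdisj : ts.Pairwise fun s t => ∀ i, s.testBit i = true → t.testBit i = false)
    (hlab : sameLab V w₁ w₂ lab = true) (htest : ∀ t ∈ ts, test s w₁ w₂ t = true) (f : ℕ → R)
    (hf : Supp ts f) (i : ℕ) (hi : V.testBit i = true) : semL R w₁ f i = semL R w₂ f i := by
  obtain ⟨l₁, l₂, hA, hB, hl⟩ := sameLab_sound (R := R) h₁ h₂ hlab
  exact eq_of_tests _ _ _ l₁ l₂ hA hB ts hinj hdisj (fun t ht => test_sound h2 h₁ h₂ (htest t ht)) f hf i (hl i hi)

end test

/-! ### Kernel checks for the list of test masks -/

/-- The plane number `k` of `L`, or `0`. -/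
noncomputable def plGet (L : Pl) : ℕ → ℕ :=
  Pl.rec (motive := fun _ => ℕ → ℕ) (fun s k => Nat.rec (motive := fun _ => ℕ) s (fun _ _ => 0) k)
    (fun p _ ih k => Nat.rec (motive := fun _ => ℕ) p (fun k _ => ih k) k) L

theorem bt_inj {p i j : ℕ} (h : bt p i = bt p j) : p.testBit i = p.testBit j := by
  unfold bt at h
  revert h
  cases p.testBit i <;> cases p.testBit j <;> simp

theorem plGet_eq {L : Pl} {i j : ℕ} (h : val L i = val L j) (k : ℕ) :
    (plGet L k).testBit i = (plGet L k).testBit j := by
  induction L generalizing k with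
  | sgn s =>
    have h' : bt s i = bt s j := by
      have : - bt s i = - bt s j := h
      linarith
    cases k with
    | zero => exact bt_inj h'
    | succ k => show (0 : ℕ).testBit i = (0 : ℕ).testBit j; simp
  | cons p L ih =>
    have h0 : bt p i + 2 * val L i = bt p j + 2 * val L j := h
    have hb : ∀ n, bt p n = 0 ∨ bt p n = 1 := by
      intro n; unfold bt; split_ifs <;> simp
    have h1 : bt p i = bt p j := by
      rcases hb i with h1 | h1 <;> rcases hb j with h2 | h2 <;> rw [h1, h2] at h0 ⊢ <;> omega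
    cases k with
    | zero => exact bt_inj h1
    | succ k =>
      have h2 : val L i = val L j := by rw [h1] at h0; omega
      exact ih h2 k

/-- Index bit number `b` and so on are determined on `t` by the label planes with numbers `ks`. -/
noncomputable def injT (n : ℕ) (lab : Pl) (t : ℕ) (ks : List ℕ) : ℕ → Bool :=
  List.rec (motive := fun _ => ℕ → Bool) (fun b => Nat.beq b n)
    (fun k _ ih b => seqB (Nat.land (Nat.xor (plane n b) (plGet lab k)) t) fun x =>
      and (or (Nat.beq x 0) (Nat.beq x t)) (ih (Nat.succ b))) ks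

theorem injT_sound {n : ℕ} {lab : Pl} {t : ℕ} {ks : List ℕ} {b : ℕ} (h : injT n lab t ks b = true) {i j : ℕ}
    (hi : i < 2 ^ n) (hj : j < 2 ^ n) (hti : t.testBit i = true) (htj : t.testBit j = true)
    (hl : val lab i = val lab j) (c : ℕ) (hc : b ≤ c) (hcn : c < n) : i.testBit c = j.testBit c := by
  induction ks generalizing b with
  | nil =>
    have : b = n := Nat.eq_of_beq_eq_true (show Nat.beq b n = true from h)
    omega
  | cons k ks ih =>
    have h' : seqB (Nat.land (Nat.xor (plane n b) (plGet lab k)) t) (fun x =>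
      and (or (Nat.beq x 0) (Nat.beq x t)) (injT n lab t ks (Nat.succ b))) = true := h
    rw [seqB_eq, Bool.and_eq_true] at h'
    by_cases hbc : b = c
    · subst hbc
      rw [← testBit_plane n b i hi hcn, ← testBit_plane n b j hj hcn]
      have hk := plGet_eq hl k
      have h3 := h'.1
      rw [Bool.or_eq_true] at h3
      have hbit : ∀ a, t.testBit a = true → (Nat.land (Nat.xor (plane n b) (plGet lab k)) t).testBit a =
          xor ((plane n b).testBit a) ((plGet lab k).testBit a) := by
        intro a ha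
        show (((plane n b) ^^^ (plGet lab k)) &&& t).testBit a = _
        rw [Nat.testBit_and, Nat.testBit_xor, ha, Bool.and_true]
      have key : xor ((plane n b).testBit i) ((plGet lab k).testBit i) =
          xor ((plane n b).testBit j) ((plGet lab k).testBit j) := by
        rw [← hbit i hti, ← hbit j htj]
        rcases h3 with h3 | h3
        · rw [Nat.eq_of_beq_eq_true h3]; simp
        · rw [Nat.eq_of_beq_eq_true h3, hti, htj]
      rw [hk] at key
      revert key
      cases (plane n b).testBit i <;> cases (plane n b).testBit j <;> cases (plGet lab k).testBit j <;> simp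
    · exact ih h'.2 (by omega)

theorem inj_of_injT {n : ℕ} {lab : Pl} {t : ℕ} {ks : List ℕ} (ht : t < 2 ^ 2 ^ n)
    (h : injT n lab t ks 0 = true) : Inj (val lab) t := by
  intro i j hi hj hl
  have hlt : ∀ a, t.testBit a = true → a < 2 ^ n := by
    intro a ha
    by_contra hc
    push Not at hc
    have := Nat.testBit_lt_two_pow (lt_of_lt_of_le ht (Nat.pow_le_pow_right (by norm_num) hc))
    rw [ha] at this
    exact absurd this (by simp)
  apply Nat.eq_of_testBit_eq
  intro c
  by_cases hc : c < n
  · exact injT_sound h (hlt i hi) (hlt j hj) hi hj hl c (Nat.zero_le _) hc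
  · push Not at hc
    rw [Nat.testBit_lt_two_pow (lt_of_lt_of_le (hlt i hi) (Nat.pow_le_pow_right (by norm_num) hc)),
      Nat.testBit_lt_two_pow (lt_of_lt_of_le (hlt j hj) (Nat.pow_le_pow_right (by norm_num) hc))]

/-- A test mask with its list of hints. -/
structure Tst : Type where
  /-- mask -/
  t : ℕ
  /-- numbers of label planes for the index bits -/
  ks : List ℕ

/-- The check of all test masks: injectivity, disjointness, union `U`. -/
noncomputable def tests (n : ℕ) (lab : Pl) (U : ℕ) (T : List Tst) : ℕ → Bool :=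
  List.rec (motive := fun _ => ℕ → Bool) (fun a => Nat.beq a U)
    (fun x _ ih a => and (injT n lab x.t x.ks 0) (and (Nat.beq (Nat.land a x.t) 0) (seqB (Nat.lor a x.t) ih))) T

theorem tests_sound {n : ℕ} {lab : Pl} {U : ℕ} (hU : U < 2 ^ 2 ^ n) {T : List Tst} {a : ℕ}
    (h : tests n lab U T a = true) :
    (∀ x ∈ T, Inj (val lab) x.t) ∧ (T.Pairwise fun x y => ∀ i, x.t.testBit i = true → y.t.testBit i = false) ∧
      (∀ x ∈ T, ∀ i, x.t.testBit i = true → a.testBit i = false ∧ U.testBit i = true) ∧
      (∀ i, U.testBit i = true → a.testBit i = true ∨ ∃ x ∈ T, x.t.testBit i = true) ∧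
      (∀ i, a.testBit i = true → U.testBit i = true) := by
  induction T generalizing a with
  | nil =>
    have : a = U := Nat.eq_of_beq_eq_true (show Nat.beq a U = true from h)
    subst this
    exact ⟨by simp, by simp, by simp, fun i hi => Or.inl hi, fun i hi => hi⟩
  | cons x T ih =>
    have h' : and (injT n lab x.t x.ks 0) (and (Nat.beq (Nat.land a x.t) 0)
      (seqB (Nat.lor a x.t) (tests n lab U T))) = true := h
    rw [Bool.and_eq_true, Bool.and_eq_true, seqB_eq] at h'
    obtain ⟨h1, h2, h3⟩ := h'
    obtain ⟨g1, g2, g3, g4, g5⟩ := ih h3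
    have hd : ∀ i, x.t.testBit i = true → a.testBit i = false := by
      intro i hi
      have h4 : a &&& x.t = 0 := Nat.eq_of_beq_eq_true h2
      have h5 := congrArg (fun y => Nat.testBit y i) h4
      simp only [Nat.testBit_and, hi, Bool.and_true, Nat.zero_testBit] at h5
      exact h5
    have hor : ∀ i, (Nat.lor a x.t).testBit i = (a.testBit i || x.t.testBit i) := by
      intro i
      show (a ||| x.t).testBit i = _
      rw [Nat.testBit_or]
    have hxU : ∀ i, x.t.testBit i = true → U.testBit i = true := by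
      intro i hi
      apply g5
      rw [hor, hi, Bool.or_true]
    have hxlt : x.t < 2 ^ 2 ^ n := by
      apply Nat.lt_pow_two_of_testBit
      intro i hi
      by_contra hc
      have h6 := hxU i (by simpa using hc)
      rw [Nat.testBit_lt_two_pow (lt_of_lt_of_le hU (Nat.pow_le_pow_right (by norm_num) hi))] at h6
      exact absurd h6 (by simp)
    refine ⟨?_, ?_, ?_, ?_, ?_⟩
    · intro y hy
      rcases List.mem_cons.1 hy with rfl | hy
      · exact inj_of_injT hxlt h1
      · exact g1 y hy
    · rw [List.pairwise_cons]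
      refine ⟨?_, g2⟩
      intro y hy i hi
      by_contra hc
      have := (g3 y hy i (by simpa using hc)).1
      rw [hor, hi, Bool.or_true] at this
      exact absurd this (by simp)
    · intro y hy i hi
      rcases List.mem_cons.1 hy with rfl | hy
      · exact ⟨hd i hi, hxU i hi⟩
      · have := g3 y hy i hi
        rw [hor, Bool.or_eq_false_iff] at this
        exact ⟨this.1.1, this.2⟩
    · intro i hi
      rcases g4 i hi with h6 | ⟨y, hy, hyi⟩
      · rw [hor, Bool.or_eq_true] at h6
        rcases h6 with h6 | h6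
        · exact Or.inl h6
        · exact Or.inr ⟨x, by simp, h6⟩
      · exact Or.inr ⟨y, by simp [hy], hyi⟩
    · intro i hi
      apply g5
      rw [hor, hi, Bool.true_or]

/-- The check of several test vectors. -/
noncomputable def testAll (s : ℕ) (w₁ w₂ : List Prog) (T : List Tst) : Bool :=
  List.rec (motive := fun _ => Bool) true (fun x _ ih => and (test s w₁ w₂ x.t) ih) T

theorem testAll_iff {s : ℕ} {w₁ w₂ : List Prog} {T : List Tst} :
    testAll s w₁ w₂ T = true ↔ ∀ x ∈ T, test s w₁ w₂ x.t = true := by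
  induction T with
  | nil => exact ⟨fun _ => by simp, fun _ => rfl⟩
  | cons x T ih =>
    have : testAll s w₁ w₂ (x :: T) = and (test s w₁ w₂ x.t) (testAll s w₁ w₂ T) := rfl
    rw [this, Bool.and_eq_true, ih]
    simp

theorem testAll_append {s : ℕ} {w₁ w₂ : List Prog} {T T' : List Tst} (h : testAll s w₁ w₂ T = true)
    (h' : testAll s w₁ w₂ T' = true) : testAll s w₁ w₂ (T ++ T') = true := by
  rw [testAll_iff] at h h' ⊢
  intro x hx
  rcases List.mem_append.1 hx with hx | hx
  · exact h x hx
  · exact h' x hx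

section final

variable (R : Type*) [Field R]

open Cfsg.Agent.Monster

/-- OPERATOR IDENTITY on the space of functions on the lanes of `U`, all hypotheses are kernel checks. -/
theorem semUL_eq (h2 : (2 : R) ≠ 0) {m n s U : ℕ} (hU : U < 2 ^ 2 ^ n) {w₁ w₂ : List Prog}
    (h₁ : ∀ P ∈ w₁, VecSpace.Pres m U P) (h₂ : ∀ P ∈ w₂, VecSpace.Pres m U P) {lab : Pl} {T : List Tst}
    (hT : tests n lab U T 0 = true) (hlab : sameLab U w₁ w₂ lab = true) (htest : testAll s w₁ w₂ T = true) :
    VecSpace.semUL R U w₁ = VecSpace.semUL R U w₂ := by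
  obtain ⟨g1, g2, -, g4, -⟩ := tests_sound hU hT
  apply LinearMap.ext
  intro f
  have e1 := VecSpace.res_semL R h₁ (VecSpace.ext R U f)
  have e2 := VecSpace.res_semL R h₂ (VecSpace.ext R U f)
  rw [VecSpace.res_ext] at e1 e2
  rw [← e1, ← e2]
  funext i
  show semL R w₁ (VecSpace.ext R U f) i.1 = semL R w₂ (VecSpace.ext R U f) i.1
  rw [testAll_iff] at htest
  apply rel h2 (fun P hP => (h₁ P hP).ok) (fun P hP => (h₂ P hP).ok) lab (T.map Tst.t) (V := U) (s := s) _ _ hlab
    _ _ _ i.1 i.2
  · intro t ht
    obtain ⟨x, hx, rfl⟩ := List.mem_map.1 ht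
    exact g1 x hx
  · rw [List.pairwise_map]; exact g2
  · intro t ht
    obtain ⟨x, hx, rfl⟩ := List.mem_map.1 ht
    exact htest x hx
  · intro j hj
    by_cases hjU : U.testBit j = true
    · rcases g4 j hjU with h | ⟨x, hx, hxj⟩
      · simp at h
      · have := hj x.t (List.mem_map.2 ⟨x, hx, rfl⟩)
        rw [hxj] at this
        exact absurd this (by simp)
    · exact VecSpace.ext_apply_of_not R hjU f

/-- The same for the group elements. -/
theorem wordE_eq (h2 : (2 : R) ≠ 0) {m n s U : ℕ} (hU : U < 2 ^ 2 ^ n) {wt : Pl} {w₁ w₂ : List Prog}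
    (h₁ : ∀ P ∈ w₁, VecSpace.GoodW m U wt P) (h₂ : ∀ P ∈ w₂, VecSpace.GoodW m U wt P) {lab : Pl} {T : List Tst}
    (hT : tests n lab U T 0 = true) (hlab : sameLab U w₁ w₂ lab = true) (htest : testAll s w₁ w₂ T = true) :
    VecSpace.wordE R U w₁ = VecSpace.wordE R U w₂ := by
  apply LinearEquiv.ext
  intro f
  rw [VecSpace.wordE_apply R h2 h₁, VecSpace.wordE_apply R h2 h₂,
    semUL_eq R h2 hU (fun P hP => (h₁ P hP).pres) (fun P hP => (h₂ P hP).pres) hT hlab htest]

end final

end Cfsg.Agent.MonsterX.VecRel
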