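import Cfsg.Agent.Monster.PlaneArith
import Cfsg.Agent.MonsterX.VecRel
import Cfsg.Agent.MonsterX.ProgBase

/-!
# The space of dimension 196884

`U` is the mask of the used lanes (the symmetric `24 × 24` matrix is stored twice), `trP` the transposition of the
matrix, `V` the space of the vectors on the lanes of `U` fixed by the transposition, `F` the plain sum of squares on it.
Programs which are good and commute with the transposition (`GoodT`) give elements of `V ≃ₗ[ℚ] V` (`WP`).
-/

set_option autoImplicit false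
set_option maxRecDepth 100000

namespace Cfsg.Agent.MonsterX.Space

open Cfsg.Agent.Lib.PermNet Cfsg.Agent.Monster.VecEngine Cfsg.Agent.Monster Cfsg.Agent.Monster.VecSpace
open Cfsg.Agent.MonsterX.ProgBase

/-! ### Masks and the transposition -/

noncomputable def tm0 : ℕ := Nat.shiftLeft 0xaaaaaaaa00000000aaaaaaaa00000000aaaaaaaa00000000aaaaaaaa00000000aaaaaaaa00000000aaaaaaaa00000000aaaaaaaa00000000aaaaaaaa00000000aaaaaaaa00000000aaaaaaaa00000000aaaaaaaa00000000aaaaaaaa00000000aaaaaaaa00000000aaaaaaaa00000000aaaaaaaa00000000aaaaaaaa 61440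

noncomputable def tm1 : ℕ := Nat.shiftLeft 0xcccccccccccccccc0000000000000000cccccccccccccccc0000000000000000cccccccccccccccc0000000000000000cccccccccccccccc0000000000000000cccccccccccccccc0000000000000000cccccccccccccccc0000000000000000cccccccccccccccc0000000000000000cccccccccccccccc 61440

noncomputable def tm2 : ℕ := Nat.shiftLeft 0xf0f0f0f0f0f0f0f0f0f0f0f0f0f0f0f000000000000000000000000000000000f0f0f0f0f0f0f0f0f0f0f0f0f0f0f0f000000000000000000000000000000000f0f0f0f0f0f0f0f0f0f0f0f0f0f0f0f000000000000000000000000000000000f0f0f0f0f0f0f0f0f0f0f0f0f0f0f0f0 61440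

noncomputable def tm3 : ℕ := Nat.shiftLeft 0xff00ff00ff00ff00ff00ff00ff00ff00ff00ff00ff00ff00ff00ff00ff00ff000000000000000000000000000000000000000000000000000000000000000000ff00ff00ff00ff00ff00ff00ff00ff00ff00ff00ff00ff00ff00ff00ff00ff00 61440

noncomputable def tm4 : ℕ := Nat.shiftLeft 0xffff0000ffff0000ffff0000ffff0000ffff0000ffff0000ffff0000ffff0000ffff0000ffff0000ffff0000ffff0000ffff0000ffff0000ffff0000ffff0000 61440

/-- The lanes of the `24 × 24` matrix. -/
noncomputable def matM : ℕ := Nat.shiftLeft 0xffffff00ffffff00ffffff00ffffff00ffffff00ffffff00ffffff00ffffff00ffffff00ffffff00ffffff00ffffff00ffffff00ffffff00ffffff00ffffff00ffffff00ffffff00ffffff00ffffff00ffffff00ffffff00ffffff00ffffff 61440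

/-- The lanes of the `24 × 24` matrix below the diagonal. -/
noncomputable def lowM : ℕ := Nat.shiftLeft 0x7fffff003fffff001fffff000fffff0007ffff0003ffff0001ffff0000ffff00007fff00003fff00001fff00000fff000007ff000003ff000001ff000000ff0000007f0000003f0000001f0000000f00000007000000030000000100000000 61440

/-- All `32 × 32` lanes of the block of the matrix. -/
noncomputable def blkM : ℕ := Nat.shiftLeft 0xffffffffffffffffffffffffffffffffffffffffffffffffffffffffffffffffffffffffffffffffffffffffffffffffffffffffffffffffffffffffffffffffffffffffffffffffffffffffffffffffffffffffffffffffffffffffffffffffffffffffffffffffffffffffffffffffffffffffffffffffffffffffffffffff 61440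


/-- The transposition of the matrix, as a network. -/
noncomputable def trN : Net := .cons tm4 496 (.cons tm3 248 (.cons tm2 124 (.cons tm1 62 (.cons tm0 31 .nil))))

/-- The transposition of the matrix, as a program. -/
noncomputable def trP : Prog := .perm trN .nil

/-- The lanes except those of the matrix below the diagonal: one lane for each coordinate of `V`. -/
noncomputable def upM : ℕ := Nat.xor U lowM

theorem trN_ok : trN.ok 262144 = true := by decide +kernel

theorem trP_good : ProgBase.Good trP := ProgBase.good_sound (by decide +kernel)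

theorem U_lt : U < 2 ^ 2 ^ 18 := by decide +kernel

theorem upM_lt : upM < 2 ^ 2 ^ 18 := by decide +kernel

theorem app_U : trN.app U = U :=
  Nat.eq_of_beq_eq_true (show Nat.beq (trN.app U) U = true by decide +kernel)

theorem app_matM : trN.app matM = matM :=
  Nat.eq_of_beq_eq_true (show Nat.beq (trN.app matM) matM = true by decide +kernel)

theorem lowM_U : Nat.land U lowM = lowM :=
  Nat.eq_of_beq_eq_true (show Nat.beq (Nat.land U lowM) lowM = true by decide +kernel)

theorem lowM_app : Nat.land (trN.app lowM) lowM = 0 :=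
  Nat.eq_of_beq_eq_true (show Nat.beq (Nat.land (trN.app lowM) lowM) 0 = true by decide +kernel)

/-- The transposition on lanes. -/
noncomputable abbrev tr : Equiv.Perm ℕ := trN.perm

theorem tr_tr (i : ℕ) : tr (tr i) = i := by
  have h := wperm_eq_one_of_checkEq (k := 18) (w := [trN, trN]) (by
    intro L hL
    simp only [List.mem_cons, List.not_mem_nil, or_false, or_self] at hL
    rw [hL]; exact trN_ok) (by decide +kernel)
  have h2 := congrArg (fun e : Equiv.Perm ℕ => e i) h
  simpa [wperm] using h2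

theorem testBit_tr_U (i : ℕ) : U.testBit (tr i) = U.testBit i := by
  rw [← testBit_app trN_ok, app_U]

theorem lt_of_U {i : ℕ} (h : U.testBit i = true) : i < 2 ^ 18 := by
  by_contra hc
  push Not at hc
  rw [Nat.testBit_lt_two_pow (lt_of_lt_of_le U_lt (Nat.pow_le_pow_right (by norm_num) hc))] at h
  exact absurd h (by simp)

/-- The network `N` fixes the lanes of `K`: check of the index bits `b, b+1, …, 17`. -/
noncomputable def fixOn (N : Net) (K : ℕ) (m : ℕ) : Bool :=
  Nat.rec (motive := fun _ => Bool) true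
    (fun b ih => and (Nat.beq (Nat.land (Nat.xor (N.app (plane 18 b)) (plane 18 b)) K) 0) ih) m

theorem fixOn_spec {N : Net} (hN : N.ok 262144 = true) {K m : ℕ} (h : fixOn N K m = true) {i : ℕ} (hi : i < 2 ^ 18)
    (hK : K.testBit i = true) {b : ℕ} (hb : b < m) (hm : m ≤ 18) : (N.perm i).testBit b = i.testBit b := by
  induction m with
  | zero => omega
  | succ m ih =>
    have h' : and (Nat.beq (Nat.land (Nat.xor (N.app (plane 18 m)) (plane 18 m)) K) 0) (fixOn N K m) = true := h
    rw [Bool.and_eq_true] at h'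
    rcases Nat.lt_succ_iff_lt_or_eq.1 hb with hb' | rfl
    · exact ih h'.2 hb' (by omega)
    · have h1 : ((N.app (plane 18 b)) ^^^ (plane 18 b)) &&& K = 0 := Nat.eq_of_beq_eq_true h'.1
      have h2 := congrArg (fun x => Nat.testBit x i) h1
      simp only [Nat.testBit_and, Nat.testBit_xor, Nat.zero_testBit, hK, Bool.and_true] at h2
      rw [testBit_app hN, testBit_plane 18 b _ (perm_lt hN hi) (by omega), testBit_plane 18 b _ hi (by omega)] at h2
      revert h2
      cases (N.perm i).testBit b <;> cases i.testBit b <;> simp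

theorem perm_eq_of_fixOn {N : Net} (hN : N.ok 262144 = true) {K : ℕ} (h : fixOn N K 18 = true) {i : ℕ}
    (hi : i < 2 ^ 18) (hK : K.testBit i = true) : N.perm i = i := by
  apply Nat.eq_of_testBit_eq
  intro b
  by_cases hb : b < 18
  · exact fixOn_spec hN h hi hK hb le_rfl
  · push Not at hb
    rw [Nat.testBit_lt_two_pow (lt_of_lt_of_le (show N.perm i < 2 ^ 18 from perm_lt hN hi) (Nat.pow_le_pow_right (by norm_num) hb)),
      Nat.testBit_lt_two_pow (lt_of_lt_of_le hi (Nat.pow_le_pow_right (by norm_num) hb))]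

theorem testBit_upM (i : ℕ) : upM.testBit i = (U.testBit i && !lowM.testBit i) := by
  have h : (U ^^^ lowM).testBit i = (U.testBit i ^^ lowM.testBit i) := Nat.testBit_xor ..
  have h2 : (U &&& lowM).testBit i = lowM.testBit i := congrArg (fun x => Nat.testBit x i) lowM_U
  rw [Nat.testBit_and] at h2
  show (U ^^^ lowM).testBit i = _
  rw [h]
  revert h2
  cases U.testBit i <;> cases lowM.testBit i <;> simp

theorem U_of_upM {i : ℕ} (h : upM.testBit i = true) : U.testBit i = true := by
  rw [testBit_upM, Bool.and_eq_true] at h; exact h.1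

/-- If a lane and its transpose are on or above the diagonal, they are equal. -/
theorem tr_eq_of_upM {i : ℕ} (h : upM.testBit i = true) (h' : upM.testBit (tr i) = true) : tr i = i := by
  have hi := lt_of_U (U_of_upM h)
  refine perm_eq_of_fixOn trN_ok (K := Nat.xor (Nat.xor U lowM) (trN.app lowM)) (by decide +kernel) hi ?_
  show (upM ^^^ (trN.app lowM)).testBit i = true
  rw [Nat.testBit_xor, h, testBit_app trN_ok]
  rw [testBit_upM, Bool.and_eq_true, Bool.not_eq_true'] at h'
  rw [h'.2]; rfl

/-- A lane or its transpose is on or above the diagonal. -/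
theorem upM_tr {i : ℕ} (h : U.testBit i = true) (h' : ¬ upM.testBit i = true) : upM.testBit (tr i) = true := by
  have hl : lowM.testBit i = true := by
    by_contra hc
    apply h'
    rw [testBit_upM, h]
    simp only [Bool.true_and, Bool.not_eq_true']
    simpa using hc
  have h2 : ((trN.app lowM) &&& lowM).testBit i = false := by
    have := congrArg (fun x => Nat.testBit x i) lowM_app
    rw [Nat.zero_testBit] at this
    exact this
  rw [Nat.testBit_and, hl, Bool.and_true, testBit_app trN_ok] at h2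
  rw [testBit_upM, testBit_tr_U, h, h2]; rfl

/-! ### Lanes moved by the transposition -/

/-- All stages of the network are inside of `B`. -/
noncomputable def inB (B : ℕ) (N : Net) : Bool :=
  Net.rec (motive := fun _ => Bool) true
    (fun M d _ ih => and (Nat.beq (Nat.land M B) M) (and (Nat.beq (Nat.land (Nat.shiftLeft M d) B) (Nat.shiftLeft M d)) ih)) N

theorem perm_eq_of_inB {m B : ℕ} {N : Net} (hN : N.ok m = true) (h : inB B N = true) {i : ℕ}
    (hi : B.testBit i = false) : N.perm i = i := by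
  induction N with
  | nil => rfl
  | cons M d N ih =>
    have h' : and (Nat.beq (Nat.land M B) M) (and (Nat.beq (Nat.land (Nat.shiftLeft M d) B) (Nat.shiftLeft M d))
      (inB B N)) = true := h
    rw [Bool.and_eq_true, Bool.and_eq_true] at h'
    obtain ⟨h1, h2, h3⟩ := h'
    obtain ⟨g1, g2, g3⟩ := Net.ok_cons hN
    have e1 : M.testBit i = false := by
      have h4 : M &&& B = M := Nat.eq_of_beq_eq_true h1
      have h5 := congrArg (fun x => Nat.testBit x i) h4
      simp only [Nat.testBit_and, hi, Bool.and_false] at h5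
      exact h5.symm
    have e2 : (M <<< d).testBit i = false := by
      have h4 : (M <<< d) &&& B = M <<< d := Nat.eq_of_beq_eq_true h2
      have h5 := congrArg (fun x => Nat.testBit x i) h4
      rw [Nat.testBit_and, hi, Bool.and_false] at h5
      exact h5.symm
    rw [Net.perm_cons, Equiv.Perm.mul_apply, ih g3 h3, stagePerm_apply g1]
    unfold tau
    rw [Nat.testBit_shiftLeft] at e2
    rw [if_neg (by rw [e1]; simp), if_neg]
    intro hc
    rw [hc.2] at e2
    simp [hc.1] at e2

theorem tr_eq_of_blkM {i : ℕ} (h : blkM.testBit i = false) : tr i = i :=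
  perm_eq_of_inB trN_ok (B := blkM) (by decide +kernel) h

/-! ### The space -/

/-- The symmetric vectors. -/
def Vs : Submodule ℚ (Lane U → ℚ) where
  carrier := {f | semU ℚ U trP f = f}
  zero_mem' := map_zero _
  add_mem' {f g} hf hg := by
    show semU ℚ U trP (f + g) = f + g
    rw [map_add]; exact congrArg₂ _ hf hg
  smul_mem' c f hf := by
    show semU ℚ U trP (c • f) = c • f
    rw [map_smul]; exact congrArg _ hf

theorem mem_Vs {f : Lane U → ℚ} : f ∈ Vs ↔ semU ℚ U trP f = f := Iff.rfl

/-- The transposition as a map of lanes of `U`. -/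
noncomputable def trL (i : Lane U) : Lane U := ⟨tr i.1, by rw [testBit_tr_U]; exact i.2⟩

theorem trL_trL (i : Lane U) : trL (trL i) = i := Subtype.ext (tr_tr i.1)

theorem semU_trP (f : Lane U → ℚ) (i : Lane U) : semU ℚ U trP f i = f (trL i) := by
  show ext ℚ U f (tr i.1) = f (trL i)
  exact ext_coe ℚ f (trL i)

theorem mem_Vs_iff {f : Lane U → ℚ} : f ∈ Vs ↔ ∀ i, f (trL i) = f i := by
  rw [mem_Vs]
  constructor
  · intro h i; rw [← semU_trP f i, h]
  · intro h; funext i; rw [semU_trP, h]

/-- The space of the model: functions on the lanes of `U` with symmetric matrix. -/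
abbrev V : Type := Vs

/-- A vector is determined by its values on the lanes of `upM`. -/
noncomputable def upEquiv : V ≃ₗ[ℚ] (Lane upM → ℚ) where
  toFun f i := f.1 ⟨i.1, U_of_upM i.2⟩
  map_add' _ _ := rfl
  map_smul' _ _ := rfl
  invFun g := ⟨fun i => if h : upM.testBit i.1 = true then g ⟨i.1, h⟩ else g ⟨tr i.1, upM_tr i.2 h⟩, by
    rw [mem_Vs_iff]
    intro i
    by_cases h : upM.testBit i.1 = true
    · by_cases h' : upM.testBit (tr i.1) = true
      · have e : trL i = i := Subtype.ext (tr_eq_of_upM h h')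
        rw [e]
      · rw [dif_neg (show ¬ upM.testBit (trL i).1 = true from h'), dif_pos h]
        congr 1
        exact Subtype.ext (tr_tr i.1)
    · have h' := upM_tr i.2 h
      rw [dif_pos (show upM.testBit (trL i).1 = true from h'), dif_neg h]
      rfl⟩
  left_inv f := by
    apply Subtype.ext
    funext i
    have hf := mem_Vs_iff.1 f.2
    by_cases h : upM.testBit i.1 = true
    · show (if h : upM.testBit i.1 = true then _ else _) = _
      rw [dif_pos h]
      rfl
    · show (if h : upM.testBit i.1 = true then _ else _) = _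
      rw [dif_neg h]
      exact hf i
  right_inv g := by
    funext i
    show (if h : upM.testBit i.1 = true then _ else _) = _
    rw [dif_pos i.2]
    rfl

theorem card_lane_up : Fintype.card (Lane upM) = 196884 := by
  have h1 := sum_lane upM_lt (fun _ => (1 : ℕ))
  rw [Finset.sum_const, Finset.card_univ, smul_eq_mul, mul_one] at h1
  rw [h1, ← Finset.sum_filter, ← Finset.card_eq_sum_ones]
  exact Cfsg.Agent.Monster.PlaneArith.cardIs_sound (k := 18) (by norm_num) (by decide +kernel)

theorem card_lane : Fintype.card (Lane U) = 197160 := by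
  have h1 := sum_lane U_lt (fun _ => (1 : ℕ))
  rw [Finset.sum_const, Finset.card_univ, smul_eq_mul, mul_one] at h1
  rw [h1, ← Finset.sum_filter, ← Finset.card_eq_sum_ones]
  exact Cfsg.Agent.Monster.PlaneArith.cardIs_sound (k := 18) (by norm_num) (by decide +kernel)

theorem finrank_eq : Module.finrank ℚ V = 196884 := by
  rw [LinearEquiv.finrank_eq upEquiv, Module.finrank_fintype_fun_eq_card, card_lane_up]

/-- The projection onto the symmetric vectors. -/
noncomputable def pr : (Lane U → ℚ) →ₗ[ℚ] V where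
  toFun f := ⟨(1 / 2 : ℚ) • (f + semU ℚ U trP f), by
    rw [mem_Vs_iff]
    intro i
    show (1 / 2 : ℚ) * (f (trL i) + semU ℚ U trP f (trL i)) = 1 / 2 * (f i + semU ℚ U trP f i)
    rw [semU_trP, semU_trP, trL_trL, add_comm (f (trL i))]⟩
  map_add' f g := by
    apply Subtype.ext
    show (1 / 2 : ℚ) • (f + g + semU ℚ U trP (f + g)) =
      (1 / 2 : ℚ) • (f + semU ℚ U trP f) + (1 / 2 : ℚ) • (g + semU ℚ U trP g)
    rw [map_add, ← smul_add]; congr 1; abel
  map_smul' c f := by
    apply Subtype.ext
    show (1 / 2 : ℚ) • (c • f + semU ℚ U trP (c • f)) = c • ((1 / 2 : ℚ) • (f + semU ℚ U trP f))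
    rw [map_smul, ← smul_add, smul_comm]

theorem pr_coe (f : Lane U → ℚ) : (pr f : Lane U → ℚ) = (1 / 2 : ℚ) • (f + semU ℚ U trP f) := rfl

theorem pr_of_mem {f : Lane U → ℚ} (h : f ∈ Vs) : (pr f : Lane U → ℚ) = f := by
  rw [pr_coe, mem_Vs.1 h, ← two_smul ℚ f, smul_smul]; norm_num

@[simp] theorem pr_val (v : V) : pr (v : Lane U → ℚ) = v := Subtype.ext (pr_of_mem v.2)

/-! ### Vectors given by planes -/

/-- The vector of a list of planes (symmetrised; nothing changes if the matrix is symmetric, see `vecV_coe`). -/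
noncomputable def vecV (x : Pl) : V := pr (vecU ℚ U x)

/-- The kernel check that the matrix of `x` is symmetric. -/
noncomputable def sym (x : Pl) : Bool := checkFix [trP] x

theorem vecU_mem {x : Pl} (h : sym x = true) : vecU ℚ U x ∈ Vs := by
  rw [mem_Vs]
  have h1 := checkFixU_sound ℚ two_ne_zero (m := 262144) (U := U) (w := [trP])
    (fun P hP => by rw [List.mem_singleton.1 hP]; exact trP_good.pres) h
  exact h1

theorem vecV_coe {x : Pl} (h : sym x = true) : (vecV x : Lane U → ℚ) = vecU ℚ U x := pr_of_mem (vecU_mem h)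

/-! ### The form -/

/-- The invariant form: the sum of the products of the coordinates over all lanes of `U`. -/
noncomputable def F : LinearMap.BilinForm ℚ V := (dotWB ℚ U (.sgn 0)).compl₁₂ Vs.subtype Vs.subtype

theorem F_apply (f g : V) : F f g = dotU ℚ U f.1 g.1 := dotW_zero ℚ U f.1 g.1

theorem F_sum (f g : V) : F f g = ∑ i : Lane U, f.1 i * g.1 i := F_apply f g

theorem F_symm (f g : V) : F f g = F g f := by
  rw [F_sum, F_sum]; exact Finset.sum_congr rfl fun i _ => mul_comm _ _

theorem F_self_nonneg (f : V) : 0 ≤ F f f := by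
  rw [F_sum]; exact Finset.sum_nonneg fun i _ => mul_self_nonneg _

theorem F_self_eq_zero {f : V} (h : F f f = 0) : f = 0 := by
  rw [F_sum, Finset.sum_eq_zero_iff_of_nonneg (fun i _ => mul_self_nonneg _)] at h
  apply Subtype.ext
  funext i
  exact mul_self_eq_zero.1 (h i (Finset.mem_univ _))

theorem F_nondeg (f : V) (h : ∀ g, F f g = 0) : f = 0 := F_self_eq_zero (h f)

/-! ### Programs on `V` -/

/-- `P` is good and commutes with the transposition. -/
structure GoodT (P : Prog) : Prop where
  good : ProgBase.Good P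
  comm : ∀ f : Lane U → ℚ, semU ℚ U trP (semU ℚ U P f) = semU ℚ U P (semU ℚ U trP f)

theorem GoodT.nil : GoodT .nil := ⟨ProgBase.good_sound (by decide +kernel), fun f => by
  show semU ℚ U trP (semU ℚ U .nil f) = semU ℚ U .nil (semU ℚ U trP f)
  have h : ∀ g : Lane U → ℚ, semU ℚ U .nil g = g := fun g => res_ext ℚ U g
  rw [h, h]⟩

/-- The isomorphisms of all vectors preserving the symmetric ones. -/
def St : Subgroup ((Lane U → ℚ) ≃ₗ[ℚ] (Lane U → ℚ)) where
  carrier := {e | Vs.map (e : (Lane U → ℚ) →ₗ[ℚ] (Lane U → ℚ)) = Vs}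
  one_mem' := by
    show Vs.map ((LinearEquiv.refl ℚ (Lane U → ℚ) : (Lane U → ℚ) ≃ₗ[ℚ] (Lane U → ℚ)) :
      (Lane U → ℚ) →ₗ[ℚ] (Lane U → ℚ)) = Vs
    exact Submodule.map_id Vs
  mul_mem' {a b} ha hb := by
    show Vs.map ((b.trans a : (Lane U → ℚ) ≃ₗ[ℚ] (Lane U → ℚ)) : (Lane U → ℚ) →ₗ[ℚ] (Lane U → ℚ)) = Vs
    rw [LinearEquiv.coe_trans, Submodule.map_comp]
    rw [show Vs.map (b : (Lane U → ℚ) →ₗ[ℚ] (Lane U → ℚ)) = Vs from hb]
    exact ha
  inv_mem' {a} ha := by
    show Vs.map ((a.symm : (Lane U → ℚ) ≃ₗ[ℚ] (Lane U → ℚ)) : (Lane U → ℚ) →ₗ[ℚ] (Lane U → ℚ)) = Vs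
    have ha' : Vs.map (a : (Lane U → ℚ) →ₗ[ℚ] (Lane U → ℚ)) = Vs := ha
    conv_lhs => rw [← ha']
    rw [← Submodule.map_comp]
    have : ((a.symm : (Lane U → ℚ) ≃ₗ[ℚ] (Lane U → ℚ)) : (Lane U → ℚ) →ₗ[ℚ] (Lane U → ℚ)).comp
        (a : (Lane U → ℚ) →ₗ[ℚ] (Lane U → ℚ)) = LinearMap.id := by
      apply LinearMap.ext; intro f; exact a.symm_apply_apply f
    rw [this, Submodule.map_id]

/-- The restriction to `V` (the identity if `V` is not preserved). -/
noncomputable def rs (e : (Lane U → ℚ) ≃ₗ[ℚ] (Lane U → ℚ)) : V ≃ₗ[ℚ] V := by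
  classical
  exact if h : e ∈ St then e.ofSubmodules Vs Vs h else 1

theorem rs_coe {e : (Lane U → ℚ) ≃ₗ[ℚ] (Lane U → ℚ)} (h : e ∈ St) (v : V) : (rs e v : Lane U → ℚ) = e v.1 := by
  unfold rs
  rw [dif_pos h]
  rfl

theorem rs_one : rs 1 = 1 := LinearEquiv.ext fun v => Subtype.ext (rs_coe St.one_mem v)

theorem rs_mul {a b : (Lane U → ℚ) ≃ₗ[ℚ] (Lane U → ℚ)} (ha : a ∈ St) (hb : b ∈ St) : rs (a * b) = rs a * rs b := by
  apply LinearEquiv.ext
  intro v
  apply Subtype.ext
  rw [rs_coe (St.mul_mem ha hb), LinearEquiv.mul_apply]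
  show _ = ((rs a (rs b v) : V) : Lane U → ℚ)
  rw [rs_coe ha, rs_coe hb]

theorem GoodT.mem_St {P : Prog} (h : GoodT P) : semE ℚ U P ∈ St := by
  show Vs.map (semE ℚ U P : (Lane U → ℚ) →ₗ[ℚ] (Lane U → ℚ)) = Vs
  apply Submodule.eq_of_le_of_finrank_eq
  · rintro _ ⟨f, hf, rfl⟩
    show semE ℚ U P f ∈ Vs
    rw [mem_Vs, semE_apply ℚ two_ne_zero h.good, h.comm, mem_Vs.1 hf]
  · exact LinearEquiv.finrank_map_eq (semE ℚ U P) Vs

theorem wordE_mem_St {w : List Prog} (h : ∀ P ∈ w, GoodT P) : wordE ℚ U w ∈ St := by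
  induction w with
  | nil => exact St.one_mem
  | cons P w ih =>
    rw [wordE_cons]
    exact St.mul_mem (ih fun Q hQ => h Q (by simp [hQ])) (h P (by simp)).mem_St

/-- The element of `V ≃ₗ[ℚ] V` of a list of programs, the FIRST one acts first. -/
noncomputable def WP (w : List Prog) : V ≃ₗ[ℚ] V := rs (wordE ℚ U w)

/-- The element of a program. -/
noncomputable def EP (P : Prog) : V ≃ₗ[ℚ] V := rs (semE ℚ U P)

@[simp] theorem WP_nil : WP [] = 1 := rs_one

theorem WP_cons {P : Prog} {w : List Prog} (hP : GoodT P) (hw : ∀ Q ∈ w, GoodT Q) :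
    WP (P :: w) = WP w * EP P := by
  unfold WP EP
  rw [wordE_cons, rs_mul (wordE_mem_St hw) hP.mem_St]

theorem WP_append {w w' : List Prog} (hw : ∀ Q ∈ w, GoodT Q) (hw' : ∀ Q ∈ w', GoodT Q) :
    WP (w ++ w') = WP w' * WP w := by
  unfold WP
  rw [wordE_append, rs_mul (wordE_mem_St hw') (wordE_mem_St hw)]

theorem WP_single (P : Prog) : WP [P] = EP P := by
  unfold WP EP; rw [wordE_singleton]

theorem EP_coe {P : Prog} (h : GoodT P) (v : V) : (EP P v : Lane U → ℚ) = semU ℚ U P v.1 := by
  unfold EP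
  rw [rs_coe h.mem_St, semE_apply ℚ two_ne_zero h.good]

theorem WP_coe {w : List Prog} (h : ∀ P ∈ w, GoodT P) (v : V) : (WP w v : Lane U → ℚ) = semUL ℚ U w v.1 := by
  unfold WP
  rw [rs_coe (wordE_mem_St h), wordE_apply ℚ two_ne_zero (fun P hP => (h P hP).good)]

theorem WP_pr {w : List Prog} (h : ∀ P ∈ w, GoodT P) (f : Lane U → ℚ) : WP w (pr f) = pr (semUL ℚ U w f) := by
  apply Subtype.ext
  rw [WP_coe h, pr_coe, pr_coe, map_smul, map_add]
  congr 2
  induction w generalizing f with
  | nil => rfl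
  | cons P w ih =>
    rw [semUL_cons, LinearMap.comp_apply, LinearMap.comp_apply, ← (h P (by simp)).comm,
      ih (fun Q hQ => h Q (by simp [hQ]))]

theorem F_WP {w : List Prog} (h : ∀ P ∈ w, GoodT P) (f g : V) : F (WP w f) (WP w g) = F f g := by
  rw [F_apply, F_apply]
  unfold WP
  rw [rs_coe (wordE_mem_St h), rs_coe (wordE_mem_St h)]
  exact dotU_wordE ℚ two_ne_zero (fun P hP => (h P hP).good) f.1 g.1

/-- VECTOR IDENTITIES: `check` is a kernel computation. -/
theorem WP_eq_of_check {w₁ w₂ : List Prog} (h₁ : ∀ P ∈ w₁, GoodT P) (h₂ : ∀ P ∈ w₂, GoodT P) {x₁ x₂ : Pl}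
    (h : check w₁ x₁ w₂ x₂ = true) : WP w₁ (vecV x₁) = WP w₂ (vecV x₂) := by
  unfold vecV
  rw [WP_pr h₁, WP_pr h₂, checkU_sound ℚ two_ne_zero (fun P hP => (h₁ P hP).good.pres)
    (fun P hP => (h₂ P hP).good.pres) h]

theorem WP_fix_of_check {w : List Prog} (hw : ∀ P ∈ w, GoodT P) {x : Pl} (h : checkFix w x = true) :
    WP w (vecV x) = vecV x := by
  unfold vecV
  rw [WP_pr hw, checkFixU_sound ℚ two_ne_zero (fun P hP => (hw P hP).good.pres) h]

end Cfsg.Agent.MonsterX.Space
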