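import Cfsg.Agent.MonsterX.Lin24

/-!
# `F₂`-linear maps on thousands of 24-bit numbers at once

`n` numbers are packed in one number with fields of 40 bits.
-/

set_option autoImplicit false

namespace Cfsg.Agent.MonsterX.Swar

open Cfsg.Agent.MonsterX.Lin24

/-- `n` fields of 40 bits. -/
noncomputable def pack (n : ℕ) (f : ℕ → ℕ) : ℕ :=
  Nat.rec (motive := fun _ => ℕ) 0 (fun e r => 2 ^ (40 * e) * f e + r) n

theorem pack_zero (f : ℕ → ℕ) : pack 0 f = 0 := rfl

theorem pack_succ (n : ℕ) (f : ℕ → ℕ) : pack (n + 1) f = 2 ^ (40 * n) * f n + pack n f := rfl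

theorem pack_congr {n : ℕ} {f g : ℕ → ℕ} (h : ∀ e, e < n → f e = g e) : pack n f = pack n g := by
  induction n with
  | zero => rfl
  | succ n ih =>
    rw [pack_succ, pack_succ, h n (by omega), ih fun e he => h e (by omega)]

/-- All fields are below `2^40`. -/
def Bd (n : ℕ) (f : ℕ → ℕ) : Prop := ∀ e, e < n → f e < 2 ^ 40

theorem pack_lt {n : ℕ} {f : ℕ → ℕ} (h : Bd n f) : pack n f < 2 ^ (40 * n) := by
  induction n with
  | zero => rw [pack_zero]; norm_num
  | succ n ih =>
    rw [pack_succ]
    have h1 := ih fun e he => h e (by omega)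
    have h2 : f n + 1 ≤ 2 ^ 40 := h n (by omega)
    calc 2 ^ (40 * n) * f n + pack n f < 2 ^ (40 * n) * f n + 2 ^ (40 * n) := by omega
      _ = 2 ^ (40 * n) * (f n + 1) := by ring
      _ ≤ 2 ^ (40 * n) * 2 ^ 40 := Nat.mul_le_mul_left _ h2
      _ = 2 ^ (40 * (n + 1)) := by rw [← pow_add]; ring_nf

theorem testBit_pack {n : ℕ} {f : ℕ → ℕ} (h : Bd n f) (i : ℕ) :
    (pack n f).testBit i = (decide (i / 40 < n) && (f (i / 40)).testBit (i % 40)) := by
  induction n with
  | zero => rw [pack_zero]; simp
  | succ n ih =>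
    have hb : Bd n f := fun e he => h e (by omega)
    rw [pack_succ, Nat.testBit_two_pow_mul_add _ (pack_lt hb), ih hb]
    by_cases h1 : i < 40 * n
    · have h2 : i / 40 < n := by omega
      have h3 : i / 40 < n + 1 := by omega
      simp [h1, h2, h3]
    · rw [if_neg h1]
      by_cases h4 : i < 40 * (n + 1)
      · have h5 : i / 40 = n := by omega
        have h6 : i - 40 * n = i % 40 := by omega
        rw [h5, h6]
        simp
      · have h5 : ¬ i / 40 < n + 1 := by omega
        have h6 : (f n).testBit (i - 40 * n) = false := Nat.testBit_lt_two_pow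
          (lt_of_lt_of_le (h n (by omega)) (Nat.pow_le_pow_right (by norm_num) (by omega)))
        rw [h6]
        simp [h5]

theorem pack_inj {n : ℕ} {f g : ℕ → ℕ} (hf : Bd n f) (hg : Bd n g) (h : pack n f = pack n g) :
    ∀ e, e < n → f e = g e := by
  intro e he
  apply Nat.eq_of_testBit_eq
  intro t
  by_cases ht : t < 40
  · have h1 := congrArg (fun x => x.testBit (40 * e + t)) h
    simp only [testBit_pack hf, testBit_pack hg] at h1
    have h2 : (40 * e + t) / 40 = e := by omega
    have h3 : (40 * e + t) % 40 = t := by omega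
    rw [h2, h3] at h1
    simpa [he] using h1
  · have h1 : ∀ x, x < 2 ^ 40 → x.testBit t = false := fun x hx => Nat.testBit_lt_two_pow
      (lt_of_lt_of_le hx (Nat.pow_le_pow_right (by norm_num) (by omega)))
    rw [h1 _ (hf e he), h1 _ (hg e he)]

theorem pack_xor {n : ℕ} {f g : ℕ → ℕ} (hf : Bd n f) (hg : Bd n g) :
    pack n f ^^^ pack n g = pack n fun e => f e ^^^ g e := by
  have hb : Bd n fun e => f e ^^^ g e := fun e he => Nat.xor_lt_two_pow (hf e he) (hg e he)
  apply Nat.eq_of_testBit_eq
  intro i
  rw [Nat.testBit_xor, testBit_pack hf, testBit_pack hg, testBit_pack hb, Nat.testBit_xor]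
  cases decide (i / 40 < n) <;> simp

theorem pack_and {n : ℕ} {f g : ℕ → ℕ} (hf : Bd n f) (hg : Bd n g) :
    pack n f &&& pack n g = pack n fun e => f e &&& g e := by
  have hb : Bd n fun e => f e &&& g e :=
    fun e he => lt_of_le_of_lt Nat.and_le_left (hf e he)
  apply Nat.eq_of_testBit_eq
  intro i
  rw [Nat.testBit_and, testBit_pack hf, testBit_pack hg, testBit_pack hb, Nat.testBit_and]
  cases decide (i / 40 < n) <;> simp

theorem pack_mul (n : ℕ) (f : ℕ → ℕ) (c : ℕ) : pack n f * c = pack n fun e => f e * c := by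
  induction n with
  | zero => rw [pack_zero, pack_zero, Nat.zero_mul]
  | succ n ih => rw [pack_succ, pack_succ, Nat.add_mul, ih, Nat.mul_assoc]

/-- The number with all fields `1`. -/
def ones (n : ℕ) : ℕ := (2 ^ (40 * n) - 1) / 1099511627775

theorem ones_eq (n : ℕ) : ones n = pack n fun _ => 1 := by
  have h : pack n (fun _ => 1) * 1099511627775 + 1 = 2 ^ (40 * n) := by
    induction n with
    | zero => rw [pack_zero]; norm_num
    | succ n ih =>
      rw [pack_succ]
      have e : (2 : ℕ) ^ (40 * (n + 1)) = 2 ^ (40 * n) * 1099511627776 := by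
        rw [Nat.mul_add, pow_add]; norm_num
      rw [e, ← ih]
      ring
  unfold ones
  rw [← h, Nat.add_sub_cancel]
  exact Nat.mul_div_cancel _ (by norm_num)

theorem bd_one (n : ℕ) : Bd n fun _ => 1 := fun _ _ => by norm_num

theorem toNat_lt (b : Bool) (n : ℕ) (hn : 1 < n) : b.toNat < n := by cases b <;> simp <;> omega

theorem bd_bool (n : ℕ) (b : ℕ → Bool) : Bd n fun e => (b e).toNat :=
  fun e _ => toNat_lt _ _ (by norm_num)

theorem cond_lt {b : Bool} {x y m : ℕ} (hx : x < m) (hy : y < m) : cond b x y < m := by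
  cases b
  · exact hy
  · exact hx

theorem toNat_mul_lt {b : Bool} {x m : ℕ} (hx : x < m) : b.toNat * x < m := by
  cases b
  · simp only [Bool.toNat_false, Nat.zero_mul]; omega
  · simpa using hx

/-- Masking with `ones`. -/
theorem and_ones (n X : ℕ) : X &&& ones n = pack n fun e => (X.testBit (40 * e)).toNat := by
  apply Nat.eq_of_testBit_eq
  intro i
  rw [Nat.testBit_and, ones_eq, testBit_pack (bd_one n), testBit_pack (bd_bool n _)]
  by_cases h : i / 40 < n
  · have hd : decide (i / 40 < n) = true := by simpa using h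
    rw [hd, Bool.true_and, Bool.true_and]
    by_cases h0 : i % 40 = 0
    · have h1 : 40 * (i / 40) = i := by omega
      rw [h0, h1]
      cases X.testBit i <;> simp
    · obtain ⟨k, hk⟩ := Nat.exists_eq_succ_of_ne_zero h0
      rw [hk]
      have e1 : Nat.testBit 1 (k + 1) = false := Nat.testBit_lt_two_pow (by
        calc (1 : ℕ) < 2 ^ 1 := by norm_num
          _ ≤ 2 ^ (k + 1) := Nat.pow_le_pow_right (by norm_num) (by omega))
      have e2 : ∀ b : Bool, b.toNat.testBit (k + 1) = false := fun b =>
        Nat.testBit_lt_two_pow (lt_of_lt_of_le (toNat_lt b 2 (by norm_num))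
          (by calc (2 : ℕ) = 2 ^ 1 := by norm_num
                _ ≤ 2 ^ (k + 1) := Nat.pow_le_pow_right (by norm_num) (by omega)))
      rw [e1, e2, Bool.and_false]
  · have hd : decide (i / 40 < n) = false := by simpa using h
    rw [hd, Bool.false_and, Bool.false_and, Bool.and_false]

theorem testBit_field {n : ℕ} {f : ℕ → ℕ} (hf : Bd n f) {e s : ℕ} (he : e < n) (hs : s < 40) :
    (pack n f).testBit (40 * e + s) = (f e).testBit s := by
  rw [testBit_pack hf]
  have h2 : (40 * e + s) / 40 = e := by omega
  have h3 : (40 * e + s) % 40 = s := by omega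
  rw [h2, h3]
  simp [he]

/-- Bit `s` of all fields. -/
def bitP (M V s : ℕ) : ℕ := Nat.land (V >>> s) M

theorem bitP_eq (n V s : ℕ) :
    bitP (ones n) V s = pack n fun e => (V.testBit (40 * e + s)).toNat := by
  unfold bitP
  change (V >>> s) &&& ones n = _
  rw [and_ones]
  apply pack_congr
  intro e _
  rw [Nat.testBit_shiftRight, Nat.add_comm]

theorem bitP_pack {n : ℕ} {f : ℕ → ℕ} (hf : Bd n f) {s : ℕ} (hs : s < 40) :
    bitP (ones n) (pack n f) s = pack n fun e => ((f e).testBit s).toNat := by
  rw [bitP_eq]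
  exact pack_congr fun e he => by rw [testBit_field hf he hs]

/-- The linear map with columns `c`, first `i` columns, on all fields. -/
noncomputable def linSN (M c V i : ℕ) : ℕ :=
  Nat.rec (motive := fun _ => ℕ) 0 (fun j r => Nat.xor r (bitP M V j * col c j)) i

/-- The linear map with columns `c` on all fields. -/
noncomputable def linS (M c V : ℕ) : ℕ := linSN M c V 24

theorem linSN_eq {n : ℕ} {f : ℕ → ℕ} (hf : Bd n f) (c : ℕ) {i : ℕ} (hi : i ≤ 24) :
    linSN (ones n) c (pack n f) i = pack n fun e => linN c (f e) i := by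
  induction i with
  | zero =>
    have : ∀ m, (0 : ℕ) = pack m fun e => linN c (f e) 0 := by
      intro m
      induction m with
      | zero => rfl
      | succ m ih => rw [pack_succ, ← ih, linN_zero]; simp
    exact this n
  | succ i ih =>
    have e1 : linSN (ones n) c (pack n f) (i + 1) =
        linSN (ones n) c (pack n f) i ^^^ (bitP (ones n) (pack n f) i * col c i) := rfl
    rw [e1, ih (by omega), bitP_pack hf (by omega), pack_mul]
    have hb : Bd n fun e => linN c (f e) i := fun e _ =>
      lt_trans (linN_lt c (f e) i) (by norm_num)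
    have hb2 : Bd n fun e => ((f e).testBit i).toNat * col c i := fun e _ =>
      toNat_mul_lt (lt_trans (col_lt c i) (by norm_num))
    rw [pack_xor hb hb2]
    apply pack_congr
    intro e _
    rw [linN_succ]
    congr 1
    cases (f e).testBit i
    · simp
    · simp

theorem linS_eq {n : ℕ} {f : ℕ → ℕ} (hf : Bd n f) (c : ℕ) :
    linS (ones n) c (pack n f) = pack n fun e => lin c (f e) := linSN_eq hf c le_rfl

/-- The linear map with columns `c`, only on the fields selected by bit `0` of the fields of `m`. -/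
noncomputable def stepG (M c m V : ℕ) : ℕ :=
  Nat.xor V (Nat.land (Nat.xor V (linS M c V)) (Nat.land m M * 16777215))

/-- All fields are below `2^24`. -/
def Bd24 (n : ℕ) (f : ℕ → ℕ) : Prop := ∀ e, e < n → f e < 2 ^ 24

theorem Bd24.bd {n : ℕ} {f : ℕ → ℕ} (h : Bd24 n f) : Bd n f :=
  fun e he => lt_trans (h e he) (by norm_num)

theorem and_full {x : ℕ} (hx : x < 2 ^ 24) : x &&& 16777215 = x := by
  have := Nat.and_two_pow_sub_one_eq_mod x 24
  rw [show (16777215 : ℕ) = 2 ^ 24 - 1 by norm_num, this, Nat.mod_eq_of_lt hx]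

theorem stepG_eq {n : ℕ} {f : ℕ → ℕ} (hf : Bd24 n f) (c m : ℕ) :
    stepG (ones n) c m (pack n f) =
      pack n fun e => cond (m.testBit (40 * e)) (lin c (f e)) (f e) := by
  have h1 : Bd n fun e => lin c (f e) := fun e _ => lt_trans (lin_lt c (f e)) (by norm_num)
  have h2 : Bd n fun e => f e ^^^ lin c (f e) := fun e he => Nat.xor_lt_two_pow (hf.bd e he) (h1 e he)
  have h3 : Bd n fun e => (m.testBit (40 * e)).toNat * 16777215 := fun e _ =>
    toNat_mul_lt (by norm_num)
  have h4 : Bd n fun e => (f e ^^^ lin c (f e)) &&& ((m.testBit (40 * e)).toNat * 16777215) :=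
    fun e he => lt_of_le_of_lt Nat.and_le_left (h2 e he)
  change pack n f ^^^ ((pack n f ^^^ linS (ones n) c (pack n f)) &&& ((m &&& ones n) * 16777215)) = _
  rw [linS_eq hf.bd, pack_xor hf.bd h1, and_ones, pack_mul, pack_and h2 h3, pack_xor hf.bd h4]
  apply pack_congr
  intro e he
  cases m.testBit (40 * e)
  · simp
  · have h5 : f e ^^^ lin c (f e) < 2 ^ 24 := Nat.xor_lt_two_pow (hf e he) (lin_lt c (f e))
    simp only [Bool.toNat_true, Nat.one_mul, cond_true]
    rw [and_full h5, ← Nat.xor_assoc, Nat.xor_self, Nat.zero_xor]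

/-- Four masked linear maps; the map for a field is selected by the bits `2k`, `2k+1` of the
field of `W`. -/
noncomputable def layer (M : ℕ) (C : ℕ → ℕ) (W k V : ℕ) : ℕ :=
  stepG M (C 3) (Nat.land (bitP M W (2 * k)) (bitP M W (2 * k + 1)))
    (stepG M (C 2) (Nat.land (Nat.xor M (bitP M W (2 * k))) (bitP M W (2 * k + 1)))
      (stepG M (C 1) (Nat.land (bitP M W (2 * k)) (Nat.xor M (bitP M W (2 * k + 1))))
        (stepG M (C 0)
          (Nat.land (Nat.xor M (bitP M W (2 * k))) (Nat.xor M (bitP M W (2 * k + 1)))) V)))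

/-- The layers `0, …, s-1`. -/
noncomputable def runS (M : ℕ) (C : ℕ → ℕ) (W V s : ℕ) : ℕ :=
  Nat.rec (motive := fun _ => ℕ) V (fun k r => layer M C W k r) s

/-- Fields obtained from the fields `v` by maps in the class `P`. -/
def Reach (P : (ℕ → ℕ) → Prop) (n : ℕ) (v : ℕ → ℕ) (V : ℕ) : Prop :=
  ∃ f : ℕ → ℕ, Bd24 n f ∧ V = pack n f ∧ ∀ e, e < n → ∃ φ, P φ ∧ f e = φ (v e)

theorem Reach.stepG {P : (ℕ → ℕ) → Prop} {n : ℕ} {v : ℕ → ℕ} {V : ℕ} (h : Reach P n v V) {c : ℕ}
    (hc : ∀ φ, P φ → P fun x => lin c (φ x)) (m : ℕ) : Reach P n v (stepG (ones n) c m V) := by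
  obtain ⟨f, hf, rfl, hφ⟩ := h
  refine ⟨_, ?_, stepG_eq hf c m, ?_⟩
  · intro e he
    exact cond_lt (lin_lt c (f e)) (hf e he)
  · intro e he
    obtain ⟨φ, h1, h2⟩ := hφ e he
    cases m.testBit (40 * e)
    · exact ⟨φ, h1, h2⟩
    · exact ⟨_, hc φ h1, by simp only [cond_true]; rw [h2]⟩

theorem Reach.runS {P : (ℕ → ℕ) → Prop} {n : ℕ} {v : ℕ → ℕ} {V : ℕ} (h : Reach P n v V)
    {C : ℕ → ℕ} (hC : ∀ i, i < 4 → ∀ φ, P φ → P fun x => lin (C i) (φ x)) (W s : ℕ) :
    Reach P n v (runS (ones n) C W V s) := by
  induction s with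
  | zero => exact h
  | succ s ih =>
    exact (((ih.stepG (hC 0 (by norm_num)) _).stepG (hC 1 (by norm_num)) _).stepG
      (hC 2 (by norm_num)) _).stepG (hC 3 (by norm_num)) _

/-! ### The targets -/

/-- The target number of field `e`: the bits `30, …, 37` of the field. -/
def tg (W e : ℕ) : ℕ := (W >>> (40 * e + 30)) % 256

/-- The fields with target `t`. -/
noncomputable def eqm (M W t : ℕ) : ℕ :=
  Nat.rec (motive := fun _ => ℕ) M
    (fun i r => Nat.land r (Nat.xor (bitP M W (30 + i)) (cond (t.testBit i) 0 M))) 8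

theorem eqm_eq (n W : ℕ) {t : ℕ} (ht : t < 256) :
    eqm (ones n) W t = pack n fun e => (decide (tg W e = t)).toNat := by
  have h1 : ∀ i, Nat.rec (motive := fun _ => ℕ) (ones n)
      (fun i r => Nat.land r (Nat.xor (bitP (ones n) W (30 + i)) (cond (t.testBit i) 0 (ones n)))) i =
      pack n fun e => (decide (∀ j, j < i → W.testBit (40 * e + 30 + j) = t.testBit j)).toNat := by
    intro i
    induction i with
    | zero =>
      change ones n = _
      rw [ones_eq]
      exact pack_congr fun e _ => by simp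
    | succ i ih =>
      change Nat.land (Nat.rec (motive := fun _ => ℕ) (ones n)
        (fun i r => Nat.land r (Nat.xor (bitP (ones n) W (30 + i)) (cond (t.testBit i) 0 (ones n)))) i)
          (Nat.xor (bitP (ones n) W (30 + i)) (cond (t.testBit i) 0 (ones n))) = _
      rw [ih, bitP_eq]
      have h2 : Nat.xor (pack n fun e => (W.testBit (40 * e + (30 + i))).toNat)
          (cond (t.testBit i) 0 (ones n)) =
          pack n fun e => (decide (W.testBit (40 * e + 30 + i) = t.testBit i)).toNat := by
        cases hti : t.testBit i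
        · rw [cond_false, ones_eq]
          change (pack n fun e => (W.testBit (40 * e + (30 + i))).toNat) ^^^ (pack n fun _ => 1) = _
          rw [pack_xor (bd_bool n _) (bd_one n)]
          refine pack_congr fun e _ => ?_
          rw [← Nat.add_assoc]
          cases W.testBit (40 * e + 30 + i) <;> simp
        · rw [cond_true]
          change (pack n fun e => (W.testBit (40 * e + (30 + i))).toNat) ^^^ 0 = _
          rw [Nat.xor_zero]
          refine pack_congr fun e _ => ?_
          rw [← Nat.add_assoc]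
          cases W.testBit (40 * e + 30 + i) <;> simp
      rw [h2]
      change (pack n _) &&& (pack n _) = _
      rw [pack_and (bd_bool n _) (bd_bool n _)]
      refine pack_congr fun e _ => ?_
      by_cases hA : ∀ j, j < i → W.testBit (40 * e + 30 + j) = t.testBit j
      · by_cases hB : W.testBit (40 * e + 30 + i) = t.testBit i
        · have hC : ∀ j, j < i + 1 → W.testBit (40 * e + 30 + j) = t.testBit j := by
            intro j hj
            rcases Nat.lt_succ_iff_lt_or_eq.1 hj with h | h
            · exact hA j h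
            · rw [h]; exact hB
          rw [decide_eq_true hA, decide_eq_true hB, decide_eq_true hC]
          rfl
        · have hC : ¬ ∀ j, j < i + 1 → W.testBit (40 * e + 30 + j) = t.testBit j :=
            fun h => hB (h i (by omega))
          rw [decide_eq_true hA, decide_eq_false hB, decide_eq_false hC]
          rfl
      · have hC : ¬ ∀ j, j < i + 1 → W.testBit (40 * e + 30 + j) = t.testBit j :=
          fun h => hA fun j hj => h j (by omega)
        rw [decide_eq_false hA, decide_eq_false hC]
        simp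
  unfold eqm
  rw [h1 8]
  refine pack_congr fun e _ => ?_
  have h2 : (∀ j, j < 8 → W.testBit (40 * e + 30 + j) = t.testBit j) ↔ tg W e = t := by
    have e256 : (256 : ℕ) = 2 ^ 8 := by norm_num
    constructor
    · intro h
      apply Nat.eq_of_testBit_eq
      intro j
      unfold tg
      rw [e256, Nat.testBit_mod_two_pow, Nat.testBit_shiftRight]
      by_cases hj : j < 8
      · simp [hj, h j hj]
      · have : t.testBit j = false := Nat.testBit_lt_two_pow (lt_of_lt_of_le ht
          (by rw [e256]; exact Nat.pow_le_pow_right (by norm_num) (by omega)))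
        simp [hj, this]
    · intro h j hj
      rw [← h]
      unfold tg
      rw [e256, Nat.testBit_mod_two_pow, Nat.testBit_shiftRight]
      simp [hj]
  simp only [h2]

/-- The expected result: field `e` is `F (tg W e)`. -/
noncomputable def expect (M W : ℕ) (F : ℕ → ℕ) (nt : ℕ) : ℕ :=
  Nat.rec (motive := fun _ => ℕ) 0 (fun t r => Nat.xor r (eqm M W t * F t)) nt

theorem expect_eq (n W : ℕ) (F : ℕ → ℕ) (hF : ∀ t, F t < 2 ^ 40) {nt : ℕ} (ht : nt ≤ 256) :
    expect (ones n) W F nt = pack n fun e => cond (decide (tg W e < nt)) (F (tg W e)) 0 := by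
  induction nt with
  | zero =>
    have : ∀ m, (0 : ℕ) = pack m fun e => cond (decide (tg W e < 0)) (F (tg W e)) 0 := by
      intro m
      induction m with
      | zero => rfl
      | succ m ih => rw [pack_succ, ← ih]; simp
    exact this n
  | succ t ih =>
    have e1 : expect (ones n) W F (t + 1) = expect (ones n) W F t ^^^ (eqm (ones n) W t * F t) := rfl
    rw [e1, ih (by omega), eqm_eq n W (by omega), pack_mul]
    have hb : Bd n fun e => cond (decide (tg W e < t)) (F (tg W e)) 0 := fun e _ =>
      cond_lt (hF _) (by norm_num)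
    have hb2 : Bd n fun e => (decide (tg W e = t)).toNat * F t := fun e _ => toNat_mul_lt (hF t)
    rw [pack_xor hb hb2]
    refine pack_congr fun e _ => ?_
    by_cases h1 : tg W e < t
    · have h2 : tg W e < t + 1 := by omega
      have h3 : ¬ tg W e = t := by omega
      simp [h1, h2, h3]
    · by_cases h4 : tg W e = t
      · simp [h4]
      · have h2 : ¬ tg W e < t + 1 := by omega
        simp [h1, h2, h4]

/-- Number of fields `e < n` with property `p`. -/
def cntB (n : ℕ) (p : ℕ → Bool) : ℕ := ((Finset.range n).filter fun e => p e = true).card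

theorem pack_mod (n : ℕ) (p : ℕ → Bool) (hn : n < 1099511627775) :
    (pack n fun e => (p e).toNat) % 1099511627775 = cntB n p := by
  have h : ∀ m, (pack m fun e => (p e).toNat) % 1099511627775 = cntB m p % 1099511627775 := by
    intro m
    induction m with
    | zero => rfl
    | succ m ih =>
      have e1 : cntB (m + 1) p = (p m).toNat + cntB m p := by
        unfold cntB
        rw [Finset.range_add_one, Finset.filter_insert]
        cases hp : p m
        · simp
        · rw [if_pos rfl, Finset.card_insert_of_notMem (by simp)]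
          simp [Nat.add_comm]
      have e2 : 2 ^ (40 * m) % 1099511627775 = 1 := by
        rw [pow_mul, Nat.pow_mod]
        norm_num
      rw [pack_succ, e1, Nat.add_mod, Nat.mul_mod, e2, Nat.one_mul, Nat.mod_mod, ← Nat.add_mod,
        Nat.add_mod, ih, ← Nat.add_mod]
  rw [h n]
  apply Nat.mod_eq_of_lt
  refine lt_of_le_of_lt ?_ hn
  unfold cntB
  exact (Finset.card_filter_le _ _).trans_eq (Finset.card_range n)

theorem cnt_eq (n W : ℕ) {t : ℕ} (ht : t < 256) (hn : n < 1099511627775) :
    eqm (ones n) W t % 1099511627775 = cntB n fun e => decide (tg W e = t) := by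
  rw [eqm_eq n W ht, pack_mod n _ hn]

/-! ### The check of a row -/

/-- Field `e`. -/
def fld (V e : ℕ) : ℕ := (V >>> (40 * e)) % 1099511627776

/-- A number as the pack of its fields. -/
theorem eq_pack (n V : ℕ) : V % 2 ^ (40 * n) = pack n (fld V) := by
  have hb : Bd n (fld V) := fun e _ => Nat.mod_lt _ (by norm_num)
  apply Nat.eq_of_testBit_eq
  intro i
  rw [Nat.testBit_mod_two_pow, testBit_pack hb]
  have e1 : (fld V (i / 40)).testBit (i % 40) = V.testBit i := by
    unfold fld
    rw [show (1099511627776 : ℕ) = 2 ^ 40 by norm_num, Nat.testBit_mod_two_pow,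
      Nat.testBit_shiftRight]
    have h1 : i % 40 < 40 := Nat.mod_lt _ (by norm_num)
    have h2 : 40 * (i / 40) + i % 40 = i := Nat.div_add_mod i 40
    rw [h2]
    simp [h1]
  rw [e1]
  congr 1
  by_cases h : i < 40 * n
  · have : i / 40 < n := by omega
    simp [h, this]
  · have : ¬ i / 40 < n := by omega
    simp [h, this]

/-- Numbers assembled from chunks of 4096 bits. -/
noncomputable def asm (l : List ℕ) : ℕ :=
  List.rec (motive := fun _ => ℕ) 0 (fun c _ r => Nat.lor c (r <<< 4096)) l

/-- The check of a row. -/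
noncomputable def rowOK (M : ℕ) (C : ℕ → ℕ) (F : ℕ → ℕ) (nt s R G W : ℕ) : Bool :=
  cond (Nat.beq (runS M C W (linS M R G) s) (expect M W F nt))
    (Nat.beq (expect M W (fun _ => 1) nt) M) false

/-- The check of the numbers of targets, packed with 12 bits each in `p`. -/
noncomputable def cntOK (M nt W p : ℕ) : Bool :=
  allB nt fun t => Nat.beq (eqm M W t % 1099511627775) ((p >>> (12 * t)) % 4096)

theorem row_sound {P : (ℕ → ℕ) → Prop} {n : ℕ} {C F : ℕ → ℕ} {nt s R G W : ℕ}
    (hP : P fun x => x) (hC : ∀ i, i < 4 → ∀ φ, P φ → P fun x => lin (C i) (φ x))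
    (hF : ∀ t, F t < 2 ^ 40) (hnt : nt ≤ 256) (hG : G < 2 ^ (40 * n))
    (h : rowOK (ones n) C F nt s R G W = true) :
    ∀ e, e < n → tg W e < nt ∧ ∃ φ, P φ ∧ φ (lin R (fld G e)) = F (tg W e) := by
  unfold rowOK at h
  cases h1 : Nat.beq (runS (ones n) C W (linS (ones n) R G) s) (expect (ones n) W F nt) with
  | false => rw [h1] at h; exact absurd h (by simp)
  | true =>
    rw [h1, cond_true] at h
    have h2 := Nat.eq_of_beq_eq_true h
    have h3 := Nat.eq_of_beq_eq_true h1
    have hGb : Bd n (fld G) := fun e _ => Nat.mod_lt _ (by norm_num)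
    have hGp : G = pack n (fld G) := by
      rw [← eq_pack, Nat.mod_eq_of_lt hG]
    have hR : Reach P n (fun e => lin R (fld G e)) (linS (ones n) R G) :=
      ⟨_, fun e _ => lin_lt R (fld G e), by
        conv_lhs => rw [hGp]
        exact linS_eq hGb R, fun e _ => ⟨_, hP, rfl⟩⟩
    obtain ⟨f, hf, hfe, hφ⟩ := hR.runS hC W s
    rw [hfe, expect_eq n W F hF hnt] at h3
    rw [expect_eq n W (fun _ => 1) (fun _ => by norm_num) hnt, ones_eq] at h2
    have hb3 : Bd n fun e => cond (decide (tg W e < nt)) (F (tg W e)) 0 := fun e _ =>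
      cond_lt (hF _) (by norm_num)
    have hb2 : Bd n fun e => cond (decide (tg W e < nt)) 1 0 := fun e _ =>
      cond_lt (by norm_num) (by norm_num)
    have h4 := pack_inj hf.bd hb3 h3
    have h5 := pack_inj hb2 (bd_one n) h2
    intro e he
    have h6 := h5 e he
    have h7 : tg W e < nt := by
      by_contra hc
      simp [hc] at h6
    obtain ⟨φ, hφP, hφe⟩ := hφ e he
    refine ⟨h7, φ, hφP, ?_⟩
    rw [← hφe, h4 e he]
    simp [h7]

theorem cnt_sound {n nt W p : ℕ} (hn : n < 1099511627775) (hnt : nt ≤ 256)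
    (h : cntOK (ones n) nt W p = true) {t : ℕ} (ht : t < nt) :
    cntB n (fun e => decide (tg W e = t)) = (p >>> (12 * t)) % 4096 := by
  have h1 := Nat.eq_of_beq_eq_true (allB_sound h t ht)
  rw [← cnt_eq n W (by omega) hn]
  exact h1

end Cfsg.Agent.MonsterX.Swar
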