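/-
Operator identities of programs on the symmetric vectors (`Space.Vs`): label tracking as in `VecRel`, with test
vectors `t ∪ θ t`.
-/
import Cfsg.Agent.MonsterX.Space
import Cfsg.Agent.MonsterX.VecRel

set_option autoImplicit false

namespace Cfsg.Agent.MonsterX.SymRel

open Cfsg.Agent.Lib.PermNet Cfsg.Agent.Monster.VecEngine Cfsg.Agent.Monster Cfsg.Agent.Monster.VecSpace
open Cfsg.Agent.MonsterX.ProgBase Cfsg.Agent.MonsterX.Space Cfsg.Agent.MonsterX.VecRel

/-- Copy the matrix above the diagonal to the lanes below. -/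
noncomputable def sym1 : (ℕ → ℚ) →ₗ[ℚ] (ℕ → ℚ) where
  toFun f i := if lowM.testBit i then f (tr i) else f i
  map_add' f g := by
    funext i
    by_cases h : lowM.testBit i = true
    · simp [h]
    · simp [h]
  map_smul' c f := by
    funext i
    by_cases h : lowM.testBit i = true
    · simp [h]
    · simp [h]

theorem sym1_apply (f : ℕ → ℚ) (i : ℕ) : sym1 f i = if lowM.testBit i then f (tr i) else f i := rfl

/-- The labels are symmetric. -/
noncomputable def labSym (lab : Pl) : Bool := eqP (norm (msk lowM (mapNet trN lab))) (norm (msk lowM lab))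

theorem labSym_spec {lab : Pl} (h : labSym lab = true) {i : ℕ} (hi : lowM.testBit i = true) :
    val lab (tr i) = val lab i := by
  have h3 : val (norm (msk lowM (mapNet trN lab))) i = val (norm (msk lowM lab)) i := by rw [eq_of_eqP h]
  rw [val_norm, val_norm, val_msk, val_msk, if_pos hi, if_pos hi, val_mapNet trN_ok] at h3
  exact h3

theorem dep_sym1 {lab : Pl} (h : labSym lab = true) : Dep (fun f => sym1 f) (val lab) (val lab) := by
  intro f g i hfg
  change (if lowM.testBit i then f (tr i) else f i) = (if lowM.testBit i then g (tr i) else g i)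
  by_cases hi : lowM.testBit i = true
  · rw [if_pos hi, if_pos hi, hfg _ (labSym_spec h hi)]
  · rw [if_neg hi, if_neg hi, hfg i rfl]

/-- The symmetrised mask. -/
noncomputable def symt (t : ℕ) : ℕ :=
  Nat.xor t (Nat.land (Nat.xor t (trN.app t)) lowM)

theorem sym1_ind (t : ℕ) : sym1 (VecRel.ind ℚ t) = VecRel.ind ℚ (symt t) := by
  funext i
  have h : (symt t).testBit i = if lowM.testBit i then t.testBit (tr i) else t.testBit i := by
    show (t ^^^ ((t ^^^ (trN.app t)) &&& lowM)).testBit i = _
    rw [Nat.testBit_xor, Nat.testBit_and, Nat.testBit_xor, testBit_app trN_ok]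
    cases lowM.testBit i <;> cases t.testBit i <;> cases t.testBit (tr i) <;> rfl
  show (if lowM.testBit i then (if t.testBit (tr i) then (1 : ℚ) else 0) else (if t.testBit i then 1 else 0)) =
    if (symt t).testBit i then 1 else 0
  rw [h]
  by_cases hi : lowM.testBit i = true
  · rw [if_pos hi, if_pos hi]
  · rw [if_neg hi, if_neg hi]

/-- The checks of the test vectors. -/
noncomputable def testS (s : ℕ) (w₁ w₂ : List Prog) (T : List Tst) : Bool :=
  List.rec (motive := fun _ => Bool) true (fun x _ ih => and (test s w₁ w₂ (symt x.t)) ih) T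

theorem testS_iff {s : ℕ} {w₁ w₂ : List Prog} {T : List Tst} :
    testS s w₁ w₂ T = true ↔ ∀ x ∈ T, test s w₁ w₂ (symt x.t) = true := by
  induction T with
  | nil => exact ⟨fun _ => by simp, fun _ => rfl⟩
  | cons x T ih =>
    have : testS s w₁ w₂ (x :: T) = and (test s w₁ w₂ (symt x.t)) (testS s w₁ w₂ T) := rfl
    rw [this, Bool.and_eq_true, ih]
    simp

theorem testS_append {s : ℕ} {w₁ w₂ : List Prog} {T T' : List Tst} (h : testS s w₁ w₂ T = true)
    (h' : testS s w₁ w₂ T' = true) : testS s w₁ w₂ (T ++ T') = true := by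
  rw [testS_iff] at h h' ⊢
  intro x hx
  rcases List.mem_append.1 hx with hx | hx
  · exact h x hx
  · exact h' x hx

/-- OPERATOR IDENTITY on the symmetric vectors, all hypotheses are kernel checks. -/
theorem semUL_eq {s : ℕ} {w₁ w₂ : List Prog} (h₁ : ∀ P ∈ w₁, ProgBase.Good P) (h₂ : ∀ P ∈ w₂, ProgBase.Good P)
    {lab : Pl} {T : List Tst} (hT : tests 18 lab upM T 0 = true) (hS : labSym lab = true)
    (hlab : sameLab U w₁ w₂ lab = true) (htest : testS s w₁ w₂ T = true) (f : Lane U → ℚ) (hf : f ∈ Vs) :
    semUL ℚ U w₁ f = semUL ℚ U w₂ f := by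
  obtain ⟨g1, g2, -, g4, -⟩ := tests_sound upM_lt hT
  rw [testS_iff] at htest
  -- the function above the diagonal
  let g : ℕ → ℚ := fun i => if lowM.testBit i then 0 else VecSpace.ext ℚ U f i
  have hlowU : ∀ i, lowM.testBit i = true → U.testBit i = true := by
    intro i hi
    have h : (U &&& lowM).testBit i = lowM.testBit i := congrArg (fun x => Nat.testBit x i) lowM_U
    rw [Nat.testBit_and, hi, Bool.and_true] at h
    exact h
  have hlowtr : ∀ i, lowM.testBit i = true → lowM.testBit (tr i) = false := by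
    intro i hi
    have h2 : ((trN.app lowM) &&& lowM).testBit i = false := by
      have := congrArg (fun x => Nat.testBit x i) lowM_app
      rw [Nat.zero_testBit] at this
      exact this
    rw [Nat.testBit_and, hi, Bool.and_true, testBit_app trN_ok] at h2
    exact h2
  have hsg : sym1 g = VecSpace.ext ℚ U f := by
    funext i
    rw [sym1_apply]
    by_cases hi : lowM.testBit i = true
    · rw [if_pos hi]
      show (if lowM.testBit (tr i) then 0 else VecSpace.ext ℚ U f (tr i)) = _
      rw [if_neg (by rw [hlowtr i hi]; simp)]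
      have hU := hlowU i hi
      have hU' : U.testBit (tr i) = true := by rw [testBit_tr_U]; exact hU
      rw [VecSpace.ext_apply_of_true ℚ hU, VecSpace.ext_apply_of_true ℚ hU']
      exact mem_Vs_iff.1 hf ⟨i, hU⟩
    · rw [if_neg hi]
      show (if lowM.testBit i then 0 else VecSpace.ext ℚ U f i) = _
      rw [if_neg hi]
  have hsupp : Supp (T.map Tst.t) g := by
    intro j hj
    show (if lowM.testBit j then 0 else VecSpace.ext ℚ U f j) = 0
    by_cases hl : lowM.testBit j = true
    · rw [if_pos hl]
    · rw [if_neg hl]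
      by_cases hjU : U.testBit j = true
      · have hup : upM.testBit j = true := by rw [testBit_upM, hjU]; simpa using hl
        rcases g4 j hup with h | ⟨x, hx, hxj⟩
        · simp at h
        · have := hj x.t (List.mem_map.2 ⟨x, hx, rfl⟩)
          rw [hxj] at this
          exact absurd this (by simp)
      · exact VecSpace.ext_apply_of_not ℚ hjU f
  obtain ⟨l₁, l₂, hA, hB, hl⟩ := sameLab_sound (R := ℚ) (fun P hP => (h₁ P hP).ok) (fun P hP => (h₂ P hP).ok) hlab
  have hA' : Dep (fun f => ((semL ℚ w₁).comp sym1) f) (val lab) l₁ := by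
    have h := Dep.comp hA (dep_sym1 hS)
    exact h
  have hB' : Dep (fun f => ((semL ℚ w₂).comp sym1) f) (val lab) l₂ := by
    have h := Dep.comp hB (dep_sym1 hS)
    exact h
  have key : ∀ i, U.testBit i = true →
      ((semL ℚ w₁).comp sym1) g i = ((semL ℚ w₂).comp sym1) g i := by
    intro i hi
    refine eq_of_tests _ _ (val lab) l₁ l₂ hA' hB' (T.map Tst.t) ?_ ?_ ?_ g hsupp i (hl i hi)
    · intro t ht
      obtain ⟨x, hx, rfl⟩ := List.mem_map.1 ht
      exact g1 x hx
    · rw [List.pairwise_map]; exact g2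
    · intro t ht
      obtain ⟨x, hx, rfl⟩ := List.mem_map.1 ht
      show semL ℚ w₁ (sym1 (VecRel.ind ℚ x.t)) = semL ℚ w₂ (sym1 (VecRel.ind ℚ x.t))
      rw [sym1_ind]
      exact test_sound two_ne_zero (fun P hP => (h₁ P hP).ok) (fun P hP => (h₂ P hP).ok) (htest x hx)
  have e1 := VecSpace.res_semL ℚ (fun P hP => (h₁ P hP).pres) (VecSpace.ext ℚ U f)
  have e2 := VecSpace.res_semL ℚ (fun P hP => (h₂ P hP).pres) (VecSpace.ext ℚ U f)
  rw [VecSpace.res_ext] at e1 e2
  rw [← e1, ← e2]
  funext i
  have := key i.1 i.2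
  rw [LinearMap.comp_apply, LinearMap.comp_apply, hsg] at this
  exact this

end Cfsg.Agent.MonsterX.SymRel
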