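import Cfsg.Agent.MonsterX.ProgEqT
import Cfsg.Agent.MonsterX.ProgEqX0
import Cfsg.Agent.MonsterX.ProgEqX1
import Cfsg.Agent.MonsterX.ProgEqD0
import Cfsg.Agent.MonsterX.ProgEqD1
import Cfsg.Agent.MonsterX.ProgEqP
import Cfsg.Agent.MonsterX.ProgEqXi
import Cfsg.Agent.MonsterX.Conc

/-!
# The operator identities with `τ` and `ξ` in the group of isometries

`W_of_seq` : the kernel checked identities `SEq w₁ w₂` are identities of the operators `W w₁ = W w₂`.
-/

set_option autoImplicit false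
set_option maxRecDepth 100000

namespace Cfsg.Agent.MonsterX.TauRel

open Cfsg.Agent.MonsterX.Conc Cfsg.Agent.MonsterX.ProgEqBase

/-- Operator identities. -/
theorem W_of_seq {w₁ w₂ : List ℕ} (h : SEq w₁ w₂) : W w₁ = W w₂ := by
  apply LinearEquiv.ext
  intro v
  apply Subtype.ext
  rw [W_coe, W_coe]
  exact h v.1 v.2

theorem W2 (a b : ℕ) : W [a, b] = E b * E a := by
  rw [W_cons, W_single]

theorem ξ_sq : E 39 * E 39 = 1 := by
  have h := W_of_seq ProgEqXi.xi_xi
  rwa [W2, W_nil] at h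

theorem τ_mul_inv : E 40 * E 41 = 1 := by
  have h := W_of_seq ProgEqT.tauInv_tau
  rwa [W2, W_nil] at h

theorem inv_mul_τ : E 41 * E 40 = 1 := by
  have h := W_of_seq ProgEqT.tau_tauInv
  rwa [W2, W_nil] at h

theorem E_tauInv : E 41 = (E 40)⁻¹ := eq_inv_of_mul_eq_one_left inv_mul_τ

theorem τ_cube : τ * τ * τ = 1 := by
  have h := W_of_seq ProgEqT.tau_cube
  rw [W_cons, W2, W_nil] at h
  exact h

/-- `τ x_c = y_c τ` -/
theorem τ_x {c : ℕ} (h : c < 12) : τ * E c = E (24 + c) * τ := by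
  have key : W [c, 40] = W [40, 24 + c] := by
    interval_cases c
    · exact W_of_seq ProgEqX0.tau_x0
    · exact W_of_seq ProgEqX0.tau_x1
    · exact W_of_seq ProgEqX0.tau_x2
    · exact W_of_seq ProgEqX0.tau_x3
    · exact W_of_seq ProgEqX0.tau_x4
    · exact W_of_seq ProgEqX0.tau_x5
    · exact W_of_seq ProgEqX1.tau_x6
    · exact W_of_seq ProgEqX1.tau_x7
    · exact W_of_seq ProgEqX1.tau_x8
    · exact W_of_seq ProgEqX1.tau_x9
    · exact W_of_seq ProgEqX1.tau_x10
    · exact W_of_seq ProgEqX1.tau_x11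
  rw [W2, W2] at key
  exact key

/-- `τ` commutes with the even `x_δ` -/
theorem τ_d {n : ℕ} (h : 12 < n) (h' : n < 24) : τ * E n = E n * τ := by
  have key : W [n, 40] = W [40, n] := by
    interval_cases n
    · exact W_of_seq ProgEqD0.tau_d1
    · exact W_of_seq ProgEqD0.tau_d2
    · exact W_of_seq ProgEqD0.tau_d3
    · exact W_of_seq ProgEqD0.tau_d4
    · exact W_of_seq ProgEqD0.tau_d5
    · exact W_of_seq ProgEqD0.tau_d6
    · exact W_of_seq ProgEqD1.tau_d7
    · exact W_of_seq ProgEqD1.tau_d8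
    · exact W_of_seq ProgEqD1.tau_d9
    · exact W_of_seq ProgEqD1.tau_d10
    · exact W_of_seq ProgEqD1.tau_d11
  rw [W2, W2] at key
  exact key

/-- `τ` commutes with the permutation letters -/
theorem τ_p {n : ℕ} (h : 36 ≤ n) (h' : n < 39) : τ * E n = E n * τ := by
  have key : W [n, 40] = W [40, n] := by
    interval_cases n
    · exact W_of_seq ProgEqP.tau_pa
    · exact W_of_seq ProgEqP.tau_pd
    · exact W_of_seq ProgEqP.tau_pg
  rw [W2, W2] at key
  exact key

/-- `τ` and the odd letter `x_0` -/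
theorem τ_d0 : τ * E 12 = E 12 * τ⁻¹ := by
  have key := W_of_seq ProgEqT.d0_tau
  rw [W2, W2, E_tauInv] at key
  exact key

/-- Conjugation by `τ` on letters of `Q`. -/
def st (n : ℕ) : ℕ := if n < 12 then 24 + n else n

theorem τ_letter {n : ℕ} (h : n < 24) (h' : n ≠ 12) : τ * E n = E (st n) * τ := by
  unfold st
  split_ifs with h1
  · exact τ_x h1
  · exact τ_d (by omega) h

/-- Conjugation by `τ` on words in the letters of `Q`. -/
theorem τ_word {w : List ℕ} (h : ∀ n ∈ w, n < 24 ∧ n ≠ 12) : τ * W w = W (w.map st) * τ := by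
  induction w with
  | nil => rw [List.map_nil, W_nil, one_mul, mul_one]
  | cons n w ih =>
    obtain ⟨h1, h2⟩ := h n List.mem_cons_self
    have h3 := ih fun m hm => h m (List.mem_cons_of_mem _ hm)
    rw [List.map_cons, W_cons, W_cons, ← mul_assoc, h3, mul_assoc, τ_letter h1 h2, mul_assoc]

end Cfsg.Agent.MonsterX.TauRel
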