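import Cfsg.Agent.MonsterX.ThLet

/-!
# The Thompson group in the Monster model: the generators commute with the element `x` of order three
-/

set_option autoImplicit false
set_option maxRecDepth 100000

namespace Cfsg.Agent.MonsterX.ThComm

open Cfsg.Agent.Monster.VecEngine Cfsg.Agent.Monster.VecSpace Cfsg.Agent.MonsterX.ProgBase
open Cfsg.Agent.MonsterX.Space Cfsg.Agent.MonsterX.BaseVec Cfsg.Agent.MonsterX.InstData
open Cfsg.Agent.MonsterX.ThLet Cfsg.Agent.MonsterX.WordSub Cfsg.Agent.MonsterX.WordRels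
open Cfsg.Agent.MonsterX.WordsCodeM

/-- A word is not trivial if it moves the unit vector of the lane `l`. -/
theorem ne_one {w : List Lt} {l : ℕ} {y : Pl} (hl : U.testBit l = true) (hs : sym (oneP l) = true)
    (hy : sym y = true) (h : check (pgs w) (oneP l) (pgs []) y = true) (hv : val y l ≠ 1) : Wt w ≠ 1 := by
  intro h1
  have h2 : Wt w (vecV (oneP l)) = vecV y := step h
  rw [h1] at h2
  have h3 : vecV (oneP l) = vecV y := h2
  have h4 := one_apply hs ⟨l, hl⟩
  rw [h3, vecV_coe hy, if_pos rfl] at h4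
  have h5 : ((val y l : ℤ) : ℚ) = 1 := h4
  exact hv (by exact_mod_cast h5)

theorem x_ne_one : Wt [.x] ≠ 1 := by
  refine ne_one (l := 64) (y := oneP 36160) (by decide +kernel) (by decide +kernel) (by decide +kernel)
    (by decide +kernel) ?_
  rw [val_oneP, if_neg (by norm_num)]
  norm_num

theorem z_ne_one : Wt [.z] ≠ 1 := by
  refine ne_one (l := 196608) (y := .sgn (Nat.shiftLeft 1 196608)) (by decide +kernel) sym_s (by decide +kernel)
    (by decide +kernel) ?_
  intro h
  rw [val_sgn] at h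
  unfold bt at h
  split_ifs at h <;> omega

section

variable {K₀ : Type} [Group K₀] (P : Pack K₀)
include P

theorem eq_of {v w : List Lt} (h : check (pgs v) (up 9 vB) (pgs w) (up 9 vB) = true) : Wt v = Wt w :=
  P.eq_of_eq (mem_G P.tau v) (mem_G P.tau w) (up_inj (WP_eq_of_check (pgs_good v) (pgs_good w) h))

/-- `x` commutes with a word. -/
theorem comm {v : List Lt} (h : check (pgs (v ++ [.x])) (up 9 vB) (pgs ([.x] ++ v)) (up 9 vB) = true) :
    Wt [.x] * Wt v = Wt v * Wt [.x] := comm_of isW (eq_of P h)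

theorem x_three : Wt [.x] ^ 3 = 1 := by
  have h : Wt ([.x] ++ ([.x] ++ [.x])) = 1 := eq_one P (by decide +kernel)
  rw [isW.app, isW.app] at h
  rw [pow_succ, pow_two]
  exact h

theorem comm_z : Wt [.x] * Wt [.z] = Wt [.z] * Wt [.x] := comm P (by decide +kernel)
theorem comm_c : Wt [.x] * Wt [.c] = Wt [.c] * Wt [.x] := comm P (by decide +kernel)
theorem comm_e : Wt [.x] * Wt [.e] = Wt [.e] * Wt [.x] := comm P (by decide +kernel)
theorem comm_s : Wt [.x] * Wt [.s] = Wt [.s] * Wt [.x] := comm P (by decide +kernel)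
theorem comm_t : Wt [.x] * Wt [.t] = Wt [.t] * Wt [.x] := comm P (by decide +kernel)
theorem comm_u : Wt [.x] * Wt [.u] = Wt [.u] * Wt [.x] := comm P (by decide +kernel)
theorem comm_tau : Wt [.x] * Wt [.tau] = Wt [.tau] * Wt [.x] := comm P (by decide +kernel)
theorem comm_tai : Wt [.x] * Wt [.tai] = Wt [.tai] * Wt [.x] := comm P (by decide +kernel)
theorem comm_d : Wt [.x] * Wt wd = Wt wd * Wt [.x] := comm P (by decide +kernel)

theorem comm_b : Wt [.x] * Wt wb = Wt wb * Wt [.x] := by
  have e : wb = [Lt.tau] ++ (wd ++ ([Lt.tau] ++ (wd ++ ([Lt.c] ++ [Lt.tai])))) := rfl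
  have h : Commute (Wt [.x]) (Wt wb) := by
    rw [e]
    simp only [isW.app]
    have c1 : Commute (Wt [.x]) (Wt [.tau]) := comm_tau P
    have c2 : Commute (Wt [.x]) (Wt wd) := comm_d P
    have c3 : Commute (Wt [.x]) (Wt [.c]) := comm_c P
    have c4 : Commute (Wt [.x]) (Wt [.tai]) := comm_tai P
    exact ((((c4.mul_right c3).mul_right c2).mul_right c1).mul_right c2).mul_right c1
  exact h.eq

/-- All generators commute with `x`. -/
theorem comm_all (a : Cfsg.Spor.Th.Gen) : Wt [.x] * Wt (S.w a) = Wt (S.w a) * Wt [.x] := by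
  cases a
  · exact comm_z P
  · exact comm_b P
  · exact comm_c P
  · exact comm_d P
  · exact comm_e P
  · exact comm_s P
  · exact comm_t P
  · exact comm_u P

end

end Cfsg.Agent.MonsterX.ThComm
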