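import Cfsg.Agent.MonsterX.BaseVec
import Cfsg.Agent.MonsterX.WordsCodeM
import Cfsg.Agent.MonsterX.ProgM.Thd0
import Cfsg.Agent.MonsterX.ProgM.Thd1
import Cfsg.Agent.MonsterX.ProgM.Thd2
import Cfsg.Agent.MonsterX.ProgM.Thd3
import Cfsg.Agent.MonsterX.ProgM.The
import Cfsg.Agent.MonsterX.ProgM.Ths
import Cfsg.Agent.MonsterX.ProgM.Tht
import Cfsg.Agent.MonsterX.ProgM.Thu
import Cfsg.Agent.MonsterX.ProgM.Thx

/-!
# The Thompson group in the Monster model: letters, words, the base theorem for these words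

The words are those of helper604 (`blueprints/R19/Th/M`), the monomial letters those of helper642.
-/

set_option autoImplicit false
set_option maxRecDepth 100000

namespace Cfsg.Agent.MonsterX.ThLet

open Cfsg.Agent.Monster.VecEngine Cfsg.Agent.Monster.VecSpace Cfsg.Agent.MonsterX.Space
open Cfsg.Agent.MonsterX.ProgTable Cfsg.Agent.MonsterX.ProgBase Cfsg.Agent.MonsterX.CommT
open Cfsg.Agent.MonsterX.ProgM.Base Cfsg.Agent.MonsterX.InstData Cfsg.Agent.MonsterX.BaseVec
open Cfsg.Agent.MonsterX.WordSub Cfsg.Agent.MonsterX.WordRels Cfsg.Agent.MonsterX.WordsCodeM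

/-- Reverse a network. -/
noncomputable def revN (N : Cfsg.Agent.Lib.PermNet.Net) :
    Cfsg.Agent.Lib.PermNet.Net → Cfsg.Agent.Lib.PermNet.Net :=
  Cfsg.Agent.Lib.PermNet.Net.rec (motive := fun _ => Cfsg.Agent.Lib.PermNet.Net → Cfsg.Agent.Lib.PermNet.Net)
    (fun A => A) (fun M d _ ih A => ih (.cons M d A)) N

/-- The inverse of a monomial program `.neg m (.perm N .nil)`. -/
noncomputable def invP (P : Prog) : Prog :=
  Prog.rec (motive := fun _ => Prog) .nil (fun _ _ _ => .nil)
    (fun m Q _ => Prog.rec (motive := fun _ => Prog) .nil (fun N _ _ => .perm (revN N .nil) (.neg m .nil))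
      (fun _ _ _ => .nil) (fun _ _ _ => .nil) (fun _ _ => .nil) (fun _ _ _ _ => .nil) Q)
    (fun _ _ _ => .nil) (fun _ _ => .nil) (fun _ _ _ _ => .nil) P

/-- `s⁻¹` -/
noncomputable def siP : Prog := invP ProgM.Ths.prog
/-- `t⁻¹` -/
noncomputable def tiP : Prog := invP ProgM.Tht.prog
/-- `u⁻¹` -/
noncomputable def uiP : Prog := invP ProgM.Thu.prog

theorem si_goodT : GoodT siP := mono_sound (ProgBase.good_sound (by decide +kernel)) (by decide +kernel)
theorem ti_goodT : GoodT tiP := mono_sound (ProgBase.good_sound (by decide +kernel)) (by decide +kernel)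
theorem ui_goodT : GoodT uiP := mono_sound (ProgBase.good_sound (by decide +kernel)) (by decide +kernel)

theorem s_si : WP [ProgM.Ths.prog, siP] = WP [] :=
  same_sound (by simpa using ⟨ProgM.Ths.goodT, si_goodT⟩) (by simp) (by decide +kernel)
theorem t_ti : WP [ProgM.Tht.prog, tiP] = WP [] :=
  same_sound (by simpa using ⟨ProgM.Tht.goodT, ti_goodT⟩) (by simp) (by decide +kernel)
theorem u_ui : WP [ProgM.Thu.prog, uiP] = WP [] :=
  same_sound (by simpa using ⟨ProgM.Thu.goodT, ui_goodT⟩) (by simp) (by decide +kernel)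

/-- The letters. -/
inductive Lt : Type
  | z | c | xi | tau | tai | d0 | d1 | d2 | d3 | e | s | t | u | x | si | ti | ui
  deriving DecidableEq

/-- The program of a letter. -/
noncomputable def pg (l : Lt) : Prog :=
  Lt.rec (motive := fun _ => Prog) (prog 45) (prog 0) (prog 39) (prog 40) (prog 41) ProgM.Thd0.prog ProgM.Thd1.prog
    ProgM.Thd2.prog ProgM.Thd3.prog ProgM.The.prog ProgM.Ths.prog ProgM.Tht.prog ProgM.Thu.prog ProgM.Thx.prog
    siP tiP uiP l

theorem pg_good (l : Lt) : GoodT (pg l) := by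
  cases l
  · exact GensT.prog_goodT 45
  · exact GensT.prog_goodT 0
  · exact GensT.prog_goodT 39
  · exact GensT.prog_goodT 40
  · exact GensT.prog_goodT 41
  · exact ProgM.Thd0.goodT
  · exact ProgM.Thd1.goodT
  · exact ProgM.Thd2.goodT
  · exact ProgM.Thd3.goodT
  · exact ProgM.The.goodT
  · exact ProgM.Ths.goodT
  · exact ProgM.Tht.goodT
  · exact ProgM.Thu.goodT
  · exact ProgM.Thx.goodT
  · exact si_goodT
  · exact ti_goodT
  · exact ui_goodT

/-- The programs of a word. -/
noncomputable def pgs (w : List Lt) : List Prog := w.map pg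

theorem pgs_good (w : List Lt) : ∀ P ∈ pgs w, GoodT P := by
  intro P hP
  obtain ⟨l, -, rfl⟩ := List.mem_map.1 hP
  exact pg_good l

/-- The element of a word, the first letter acts first. -/
noncomputable def Wt (w : List Lt) : V ≃ₗ[ℚ] V := WP (pgs w)

theorem isW : IsW Wt where
  nil := WP_nil
  app v v' := by
    unfold Wt pgs
    rw [List.map_append]
    exact WP_append (pgs_good v) (pgs_good v')

theorem Wt_cons (l : Lt) (w : List Lt) : Wt (l :: w) = Wt w * EP (pg l) := WP_cons (pg_good l) (pgs_good w)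

theorem Wt_single (l : Lt) : Wt [l] = EP (pg l) := WP_single _

theorem inv_mem {P Q : Prog} (hP : GoodT P) (hQ : GoodT Q) (h : WP [P, Q] = WP []) (hN : EP P ∈ Conc.N) :
    EP Q ∈ Conc.N := by
  rw [WP_cons hP (by simpa using hQ), WP_single, WP_nil] at h
  rw [eq_inv_of_mul_eq_one_left h]
  exact Conc.N.inv_mem hN

theorem EP_mem (h41 : Conc.E 41 * Conc.E 40 = 1) (l : Lt) : EP (pg l) ∈ Conc.G := by
  have hN : Conc.N ≤ Conc.G := Conc.N_le_C.trans Conc.C_le_G
  cases l
  · exact E_mem_G' h41 (n := 45) (by norm_num)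
  · exact E_mem_G' h41 (n := 0) (by norm_num)
  · exact E_mem_G' h41 (n := 39) (by norm_num)
  · exact E_mem_G' h41 (n := 40) (by norm_num)
  · exact E_mem_G' h41 (n := 41) (by norm_num)
  · exact hN ProgM.Thd0.mem_N
  · exact hN ProgM.Thd1.mem_N
  · exact hN ProgM.Thd2.mem_N
  · exact hN ProgM.Thd3.mem_N
  · exact hN ProgM.The.mem_N
  · exact hN ProgM.Ths.mem_N
  · exact hN ProgM.Tht.mem_N
  · exact hN ProgM.Thu.mem_N
  · exact hN ProgM.Thx.mem_N
  · exact hN (inv_mem ProgM.Ths.goodT si_goodT s_si ProgM.Ths.mem_N)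
  · exact hN (inv_mem ProgM.Tht.goodT ti_goodT t_ti ProgM.Tht.mem_N)
  · exact hN (inv_mem ProgM.Thu.goodT ui_goodT u_ui ProgM.Thu.mem_N)

theorem mem_G (h41 : Conc.E 41 * Conc.E 40 = 1) (w : List Lt) : Wt w ∈ Conc.G := by
  induction w with
  | nil => rw [isW.nil]; exact Conc.G.one_mem
  | cons l w ih => rw [Wt_cons]; exact Conc.G.mul_mem ih (EP_mem h41 l)

/-! ### Kernel checks -/

/-- The kernel check of a word. -/
noncomputable def chk (w : List Lt) : Bool := checkFix (pgs w) (up 9 vB)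

theorem up_inj {n : ℕ} {g h : V ≃ₗ[ℚ] V} {x y : Pl} (e : g (vecV (up n x)) = h (vecV (up n y))) :
    g (vecV x) = h (vecV y) := by
  rw [vecV_up, vecV_up, map_smul, map_smul] at e
  exact smul_right_injective V (pow_ne_zero n (two_ne_zero (α := ℚ))) e

/-- A segment of a word. -/
theorem step {w : List Lt} {x y : Pl} (h : check (pgs w) x (pgs []) y = true) : Wt w (vecV x) = vecV y := by
  have e1 : Wt w (vecV x) = Wt [] (vecV y) := WP_eq_of_check (pgs_good _) (pgs_good _) h
  rw [isW.nil] at e1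
  exact e1

section

variable {K₀ : Type} [Group K₀] (P : Pack K₀)
include P

/-- A word fixing the vector is trivial. -/
theorem eq_one {w : List Lt} (h : chk w = true) : Wt w = 1 := by
  apply P.eq_one (mem_G P.tau w)
  have h1 : Wt w (vecV (up 9 vB)) = (1 : V ≃ₗ[ℚ] V) (vecV (up 9 vB)) := WP_fix_of_check (pgs_good w) h
  exact up_inj h1

/-- A word fixing the vector is trivial. -/
theorem eq_one_of {w : List Lt} (h : Wt w (vecV (up 9 vB)) = vecV (up 9 vB)) : Wt w = 1 :=
  P.eq_one (mem_G P.tau _) (up_inj (h := 1) h)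

end

/-! ### The generators -/

/-- the word of `d` -/
def wd : List Lt := [.d3, .xi, .d2, .xi, .d1, .xi, .d0]

/-- the word of `b` -/
def wb : List Lt :=
  [.tau, .d3, .xi, .d2, .xi, .d1, .xi, .d0, .tau, .d3, .xi, .d2, .xi, .d1, .xi, .d0, .c, .tai]

/-- The system of words. -/
def S : Sys Cfsg.Spor.Th.Gen Lt where
  w
    | .a => [.z]
    | .b => wb
    | .c => [.c]
    | .d => wd
    | .e => [.e]
    | .s => [.s]
    | .t => [.t]
    | .u => [.u]
  wi
    | .a => [.z]
    | .b => wb
    | .c => [.c]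
    | .d => wd
    | .e => [.e]
    | .s => [.si]
    | .t => [.ti]
    | .u => [.ui]

end Cfsg.Agent.MonsterX.ThLet
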