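import Mathlib.GroupTheory.QuotientGroup.Basic
import Mathlib.GroupTheory.Complement
import Mathlib.GroupTheory.OrderOfElement
import Mathlib.GroupTheory.Subgroup.Simple
import Mathlib.Tactic.NormNum
import Cfsg.Prelude.Def_Sporadic
import Cfsg.Prelude.Def_Spor_Th

set_option autoImplicit false

/-!
Centralisers of elements of odd order with a simple quotient: if `T ≤ C(x)` is a simple group
containing an involution `z` with `C(x) ∩ C(z) = ⟨x⟩ × C_T(z)` and groups containing a copy of
`T` with the centraliser of an involution are equal to it, then `C(x) = ⟨x⟩ × T`.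
Packaging of the statement S0470.
-/

namespace Cfsg.Agent.MonsterX.ThreeCPack

open Subgroup

/-- The closing property of a group `S`: a finite group containing a subgroup isomorphic to `S`
and inside it the centraliser of one of its involutions is this subgroup. -/
def Closing (S : Type) [Group S] : Prop :=
  ∀ (X : Type) [Group X] [Finite X] (T : Subgroup X), Nonempty (T ≃* S) →
    ∀ t ∈ T, orderOf t = 2 → (∀ g : X, g * t = t * g → g ∈ T) → T = ⊤

variable {G : Type} [Group G]

/-- An element with a trivial centre condition. -/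
theorem eq_one_of_central {S : Type} [Group S] [IsSimpleGroup S]
    (hS : ¬ ∀ a b : S, a * b = b * a) {T : Subgroup G} (e : T ≃* S) {y : G} (hy : y ∈ T)
    (hc : ∀ t ∈ T, y * t = t * y) : y = 1 := by
  have h1 : e ⟨y, hy⟩ ∈ center S := by
    rw [mem_center_iff]
    intro s
    obtain ⟨t, rfl⟩ := e.surjective s
    rw [← map_mul, ← map_mul]
    congr 1
    exact Subtype.ext (hc t t.2).symm
  rcases (inferInstance : (center S).Normal).eq_bot_or_eq_top with h2 | h2
  · rw [h2, mem_bot] at h1
    have h3 : (⟨y, hy⟩ : T) = 1 := e.injective (by rw [h1, map_one])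
    exact congrArg Subtype.val h3
  · exfalso
    apply hS
    intro a b
    have ha : b ∈ center S := by rw [h2]; trivial
    exact mem_center_iff.mp ha a

/-- **The centraliser of `x` is `⟨x⟩ × T`.** -/
theorem card_centralizer {S : Type} [Group S] [IsSimpleGroup S]
    (hS : ¬ ∀ a b : S, a * b = b * a) (hcl : Closing S) [Finite G] {x z : G}
    (hx : Odd (orderOf x)) (hz : orderOf z = 2) {T : Subgroup G}
    (hT : T ≤ centralizer ({x} : Set G)) (e : T ≃* S) (hzT : z ∈ T)
    (hb : Nat.card (centralizer ({x} : Set G) ⊓ centralizer ({z} : Set G) : Subgroup G) ≤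
      orderOf x * Nat.card (T ⊓ centralizer ({z} : Set G) : Subgroup G)) :
    Nat.card (centralizer ({x} : Set G)) = orderOf x * Nat.card S := by
  classical
  have hzx : z * x = x * z := mem_centralizer_singleton_iff.mp (hT hzT)
  have hxC : x ∈ centralizer ({x} : Set G) := mem_centralizer_singleton_iff.mpr rfl
  have hTx : ∀ t ∈ T, t * x = x * t := fun t ht => mem_centralizer_singleton_iff.mp (hT ht)
  have hpT : ∀ y ∈ zpowers x, ∀ t ∈ T, y * t = t * y := by
    rintro _ ⟨k, rfl⟩ t ht
    exact ((show Commute t x from hTx t ht).zpow_right k).symm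
  have hdisj : ∀ y ∈ zpowers x, y ∈ T → y = 1 := fun y hy hyT =>
    eq_one_of_central hS e hyT (hpT y hy)
  -- the product of ⟨x⟩ and C_T(z)
  let f : zpowers x × (T ⊓ centralizer ({z} : Set G) : Subgroup G) →
      (centralizer ({x} : Set G) ⊓ centralizer ({z} : Set G) : Subgroup G) := fun p =>
    ⟨p.1 * p.2, by
      refine ⟨mul_mem ?_ (hT p.2.2.1), mul_mem ?_ p.2.2.2⟩
      · obtain ⟨k, hk⟩ := p.1.2
        rw [← show x ^ k = (p.1 : G) from hk]
        exact zpow_mem hxC k
      · exact mem_centralizer_singleton_iff.mpr (hpT _ p.1.2 z hzT)⟩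
  have hf : Function.Injective f := by
    rintro ⟨a, b⟩ ⟨c, d⟩ h
    have h1 : (a : G) * b = c * d := congrArg Subtype.val h
    have h2 : (c : G)⁻¹ * a = d * (b : G)⁻¹ := by
      rw [inv_mul_eq_iff_eq_mul, ← mul_assoc, ← h1, mul_inv_cancel_right]
    have h3 : (c : G)⁻¹ * a = 1 :=
      hdisj _ (mul_mem (inv_mem c.2) a.2) (by rw [h2]; exact mul_mem d.2.1 (inv_mem b.2.1))
    have h4 : (a : G) = c := (inv_mul_eq_one.mp h3).symm
    have h5 : (b : G) = d := by
      rw [h4] at h1
      exact mul_left_cancel h1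
    exact Prod.ext (Subtype.ext h4) (Subtype.ext h5)
  have hfs : Function.Surjective f := by
    refine ((Nat.bijective_iff_injective_and_card f).mpr ⟨hf, ?_⟩).2
    apply le_antisymm (Nat.card_le_card_of_injective f hf)
    rw [Nat.card_prod, Nat.card_zpowers]
    exact hb
  -- the quotient
  let xC : centralizer ({x} : Set G) := ⟨x, hxC⟩
  have hNmem : ∀ y : centralizer ({x} : Set G), y ∈ zpowers xC ↔ (y : G) ∈ zpowers x := by
    intro y
    constructor
    · rintro ⟨k, rfl⟩
      exact ⟨k, rfl⟩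
    · rintro ⟨k, hk⟩
      exact ⟨k, Subtype.ext hk⟩
  have hNn : (zpowers xC).Normal := by
    refine ⟨fun n hn g => ?_⟩
    rw [hNmem] at hn ⊢
    obtain ⟨k, hk⟩ := hn
    have h1 : (g : G) * n * (g : G)⁻¹ = n := by
      rw [← show x ^ k = (n : G) from hk]
      have h2 : Commute (g : G) x := mem_centralizer_singleton_iff.mp g.2
      rw [(h2.zpow_right k).eq, mul_inv_cancel_right]
    show (g : G) * n * (g : G)⁻¹ ∈ zpowers x
    rw [h1]
    exact ⟨k, hk⟩
  let π : centralizer ({x} : Set G) →* centralizer ({x} : Set G) ⧸ zpowers xC :=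
    QuotientGroup.mk' (zpowers xC)
  have hπ : Function.Surjective π := QuotientGroup.mk'_surjective _
  have hπ1 : ∀ y, π y = 1 ↔ (y : G) ∈ zpowers x := by
    intro y
    rw [← hNmem]
    exact QuotientGroup.eq_one_iff y
  let ι : T →* centralizer ({x} : Set G) := Subgroup.inclusion hT
  have hιinj : Function.Injective (π.comp ι) := by
    rw [injective_iff_map_eq_one]
    intro t ht
    exact Subtype.ext (hdisj t ((hπ1 _).mp ht) t.2)
  let Tb : Subgroup (centralizer ({x} : Set G) ⧸ zpowers xC) := (π.comp ι).range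
  have eT : Nonempty (Tb ≃* S) := ⟨(MonoidHom.ofInjective hιinj).symm.trans e⟩
  let zb : centralizer ({x} : Set G) ⧸ zpowers xC := (π.comp ι) ⟨z, hzT⟩
  have hzb : orderOf zb = 2 := by
    have h1 : orderOf zb = orderOf (⟨z, hzT⟩ : T) := orderOf_injective _ hιinj _
    rw [h1, orderOf_mk, hz]
  have hcent : ∀ g : centralizer ({x} : Set G) ⧸ zpowers xC, g * zb = zb * g → g ∈ Tb := by
    intro g hg
    obtain ⟨y, rfl⟩ := hπ g
    -- y centralises z
    have h1 : π (y * ι ⟨z, hzT⟩ * (ι ⟨z, hzT⟩ * y)⁻¹) = 1 := by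
      rw [map_mul, map_inv, map_mul, map_mul]
      rw [mul_inv_eq_one]
      exact hg
    rw [hπ1] at h1
    have h2 : (y : G) * z * (z * y)⁻¹ ∈ zpowers x := h1
    set n : G := (y : G) * z * (z * y)⁻¹ with hn
    have hz2 : z * z = 1 := by
      have := pow_orderOf_eq_one z
      rwa [hz, pow_two] at this
    have hnz : n * z = z * n := (hpT n h2 z hzT)
    have h3 : (y : G) * z * (y : G)⁻¹ = n * z := by
      rw [hn]; group
    have h4 : (n * z) * (n * z) = 1 := by
      rw [← h3]
      calc (y : G) * z * (y : G)⁻¹ * ((y : G) * z * (y : G)⁻¹) = y * (z * z) * (y : G)⁻¹ := by group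
        _ = 1 := by rw [hz2]; group
    have h5 : n * n = 1 := by
      calc n * n = n * n * (z * z) := by rw [hz2, mul_one]
        _ = n * (n * z) * z := by group
        _ = n * (z * n) * z := by rw [hnz]
        _ = (n * z) * (n * z) := by group
        _ = 1 := h4
    have h6 : n = 1 := by
      have h7 : orderOf n ∣ 2 := orderOf_dvd_of_pow_eq_one (by rw [pow_two, h5])
      have h8 : orderOf n ∣ orderOf x := by
        rw [← Nat.card_zpowers x]
        exact orderOf_mk n h2 ▸ orderOf_dvd_natCard (⟨n, h2⟩ : zpowers x)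
      have h9 : orderOf n ∣ 1 := by
        have h10 : Nat.Coprime 2 (orderOf x) := (Nat.coprime_two_left).mpr hx
        have := Nat.dvd_gcd h7 h8
        rwa [h10.gcd_eq_one] at this
      exact orderOf_eq_one_iff.mp (Nat.dvd_one.mp h9)
    have h7 : (y : G) ∈ centralizer ({z} : Set G) := by
      rw [mem_centralizer_singleton_iff]
      have := h6
      rw [hn, mul_inv_eq_one] at this
      exact this
    obtain ⟨⟨a, b⟩, hab⟩ := hfs ⟨y, ⟨y.2, h7⟩⟩
    have h8 : (a : G) * b = y := congrArg Subtype.val hab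
    refine ⟨⟨b, b.2.1⟩, ?_⟩
    show π (ι ⟨b, b.2.1⟩) = π y
    rw [← inv_mul_eq_one, ← map_inv, ← map_mul, hπ1]
    show ((b : G))⁻¹ * y ∈ zpowers x
    rw [← h8]
    have h9 : ((b : G))⁻¹ * (a * b) = a := by
      rw [hpT a a.2 b b.2.1, inv_mul_cancel_left]
    rw [h9]
    exact a.2
  have htop : Tb = ⊤ := hcl _ Tb eT zb ⟨_, rfl⟩ hzb hcent
  have hcard : Nat.card (centralizer ({x} : Set G) ⧸ zpowers xC) = Nat.card S := by
    rw [← Nat.card_congr (Classical.choice eT).toEquiv, htop]
    exact (Nat.card_congr (Subgroup.topEquiv).toEquiv).symm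
  rw [card_eq_card_quotient_mul_card_subgroup (zpowers xC), hcard, Nat.card_zpowers, mul_comm]
  congr 1
  exact (orderOf_mk x hxC)

/-- **S0470 from the Monster model.** `hord` is the order of the centraliser of an involution of
the presented Thompson group. -/
theorem S0470_of [Finite G] (hM : Cfsg.IsM G) (hTh : Cfsg.IsTh Cfsg.Spor.Th)
    (hcl : Closing Cfsg.Spor.Th) {x z : G} (hx : orderOf x = 3) (hz : orderOf z = 2)
    {T : Subgroup G} (hT : T ≤ centralizer ({x} : Set G)) (e : T ≃* Cfsg.Spor.Th) (hzT : z ∈ T)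
    (hord : 92897280 ≤ Nat.card (centralizer ({e ⟨z, hzT⟩} : Set Cfsg.Spor.Th)))
    (hb : Nat.card (centralizer ({x} : Set G) ⊓ centralizer ({z} : Set G) : Subgroup G) ≤
      278691840)
    (h5 : ∃ x : G, orderOf x = 5 ∧ ∃ K : Subgroup G,
      K ≤ Subgroup.centralizer ({x} : Set G) ∧ Cfsg.IsHN K)
    (h7 : ∃ x : G, orderOf x = 7 ∧ ∃ K : Subgroup G,
      K ≤ Subgroup.centralizer ({x} : Set G) ∧ Cfsg.IsHe K) :
    ∃ (G : Type) (_ : Group G) (_ : Finite G), Cfsg.IsM G ∧
      (∃ x : G, orderOf x = 3 ∧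
        Nat.card (Subgroup.centralizer ({x} : Set G)) = 272237831663616000 ∧
        ∃ K : Subgroup G, K ≤ Subgroup.centralizer ({x} : Set G) ∧ Cfsg.IsTh K) ∧
      (∃ x : G, orderOf x = 5 ∧ ∃ K : Subgroup G,
        K ≤ Subgroup.centralizer ({x} : Set G) ∧ Cfsg.IsHN K) ∧
      (∃ x : G, orderOf x = 7 ∧ ∃ K : Subgroup G,
        K ≤ Subgroup.centralizer ({x} : Set G) ∧ Cfsg.IsHe K) := by
  have hs : IsSimpleGroup Cfsg.Spor.Th := hTh.1
  have hc : Nat.card Cfsg.Spor.Th = 90745943887872000 := hTh.2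
  have hna : ¬ ∀ a b : Cfsg.Spor.Th, a * b = b * a := by
    intro hab
    have hp : (Nat.card Cfsg.Spor.Th).Prime := by
      let _ : CommGroup Cfsg.Spor.Th := { (inferInstance : Group Cfsg.Spor.Th) with mul_comm := hab }
      have : Finite Cfsg.Spor.Th := Nat.finite_of_card_ne_zero (by rw [hc]; norm_num)
      exact IsSimpleGroup.prime_card
    rw [hc] at hp
    have h2 : 2 ∣ 90745943887872000 := by norm_num
    rcases (Nat.dvd_prime hp).mp h2 with h | h <;> norm_num at h
  -- the centraliser of z in T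
  have hord' : 92897280 ≤ Nat.card (T ⊓ centralizer ({z} : Set G) : Subgroup G) := by
    refine hord.trans ?_
    have : Finite Cfsg.Spor.Th := Nat.finite_of_card_ne_zero (by rw [hc]; norm_num)
    refine Nat.card_le_card_of_injective
      (fun c : centralizer ({e ⟨z, hzT⟩} : Set Cfsg.Spor.Th) =>
        (⟨(e.symm (c : Cfsg.Spor.Th) : T), ⟨(e.symm (c : Cfsg.Spor.Th)).2, ?_⟩⟩ :
          (T ⊓ centralizer ({z} : Set G) : Subgroup G))) ?_
    · refine mem_centralizer_singleton_iff.mpr ?_
      have h1 := mem_centralizer_singleton_iff.mp c.2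
      have h2 : e.symm (c : Cfsg.Spor.Th) * ⟨z, hzT⟩ = ⟨z, hzT⟩ * e.symm (c : Cfsg.Spor.Th) := by
        apply e.injective
        rw [map_mul, map_mul, e.apply_symm_apply]
        exact h1
      exact congrArg Subtype.val h2
    · intro a b hab
      have h1 : ((e.symm (a : Cfsg.Spor.Th) : T) : G) = (e.symm (b : Cfsg.Spor.Th) : T) :=
        congrArg (fun w : (T ⊓ centralizer ({z} : Set G) : Subgroup G) => (w : G)) hab
      exact Subtype.ext (e.symm.injective (Subtype.ext h1))
  have hmain := card_centralizer hna hcl (x := x) (z := z) (by rw [hx]; decide) hz hT e hzT (by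
    rw [hx]
    calc _ ≤ 278691840 := hb
      _ = 3 * 92897280 := by norm_num
      _ ≤ _ := Nat.mul_le_mul_left 3 hord')
  refine ⟨G, inferInstance, inferInstance, hM, ⟨x, hx, ?_, T, hT, ?_, ?_⟩, h5, h7⟩
  · rw [hmain, hx, hc]
  · exact e.isSimpleGroup
  · rw [Nat.card_congr e.toEquiv, hc]

end Cfsg.Agent.MonsterX.ThreeCPack
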