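import Cfsg.Agent.Th.Main475
import Cfsg.Agent.Th.CStructCent
import Cfsg.Agent.ThType.Final
import Cfsg.Agent.ThType.ModMain
import Cfsg.Agent.MonsterX.ThreeCPack

/-!
The involutions of the Thompson group and the closing property.
-/

set_option autoImplicit false

namespace Cfsg.Agent.MonsterX.ThOneClass

open Cfsg.Agent.Th Cfsg.Agent.Th.Base Cfsg.Agent.Th.Word Cfsg.Agent.Th.KOracle
  Cfsg.Agent.Th.COracleDef Cfsg.Agent.Th.IndexUpper Cfsg.Agent.Th.FlagCover

theorem orderOf_a : orderOf (gTh 1) = 2 :=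
  orderOf_eq_prime (p := 2) gTh_relK.a2 Main475.a_ne_one

theorem card_a : Nat.card (Subgroup.centralizer ({gTh 1} : Set Cfsg.Spor.Th)) = 92897280 := by
  obtain ⟨g, hcx⟩ := Main475.exists_cx
  obtain ⟨-, -, h1, h2⟩ := Main1700.final
  have hs : IsSimpleGroup Cfsg.Spor.Th := Main1700.isTh.1
  rw [CentTh.centralizer_eq hcx h2 h1 hs Main475.a_ne_one]
  exact CentTh.card_C hcx h2 h1

theorem struct : ∃ (Q : Subgroup (Subgroup.centralizer ({gTh 1} : Set Cfsg.Spor.Th)))
    (_ : Q.Normal), Nat.card Q = 2 ^ 9 ∧ Cfsg.IsExtraspecial 2 Q ∧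
      Subgroup.centralizer (Q : Set (Subgroup.centralizer ({gTh 1} : Set Cfsg.Spor.Th))) ≤ Q ∧
      Nonempty ((Subgroup.centralizer ({gTh 1} : Set Cfsg.Spor.Th)) ⧸ Q ≃*
        alternatingGroup (Fin 9)) := by
  obtain ⟨g, hcx⟩ := Main475.exists_cx
  obtain ⟨-, -, h1, h2⟩ := Main1700.final
  have hs : IsSimpleGroup Cfsg.Spor.Th := Main1700.isTh.1
  rw [CentTh.centralizer_eq hcx h2 h1 hs Main475.a_ne_one]
  exact CStructCent.main gTh_inv gTh_relK rel_th.C h1 (CentTh.card_C hcx h2 h1) Main475.a_ne_one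

/-- One class of involutions. -/
theorem oneClass : ∀ x y : Cfsg.Spor.Th, orderOf x = 2 → orderOf y = 2 → IsConj x y := by
  have hs : IsSimpleGroup Cfsg.Spor.Th := Main1700.isTh.1
  have hf : Finite Cfsg.Spor.Th := Main1700.final.1
  obtain ⟨Q, hn, h1, h2, h3, ⟨e⟩⟩ := struct
  refine (ThType.Final.final (t := gTh 1) ?_).2.2
  rcases ThType.ModMain.main (gTh 1) orderOf_a Q h2 h1 h3 e with ⟨S, -⟩ | ⟨S, -⟩
  · exact Or.inl ⟨S⟩
  · exact Or.inr ⟨S⟩

theorem card_centralizer {s : Cfsg.Spor.Th} (hs : orderOf s = 2) :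
    Nat.card (Subgroup.centralizer ({s} : Set Cfsg.Spor.Th)) = 92897280 := by
  obtain ⟨c, hc⟩ := isConj_iff.1 (oneClass s (gTh 1) hs orderOf_a)
  rw [← card_a, ← hc]
  refine Nat.card_congr ⟨fun x => ⟨c * x * c⁻¹, ?_⟩, fun x => ⟨c⁻¹ * x * c, ?_⟩, ?_, ?_⟩
  · have h : (x : Cfsg.Spor.Th) * s = s * x := Subgroup.mem_centralizer_singleton_iff.1 x.2
    rw [Subgroup.mem_centralizer_singleton_iff]
    calc c * x * c⁻¹ * (c * s * c⁻¹) = c * (x * s) * c⁻¹ := by group
      _ = c * (s * x) * c⁻¹ := by rw [h]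
      _ = _ := by group
  · have h : (x : Cfsg.Spor.Th) * (c * s * c⁻¹) = c * s * c⁻¹ * x :=
      Subgroup.mem_centralizer_singleton_iff.1 x.2
    rw [Subgroup.mem_centralizer_singleton_iff]
    calc c⁻¹ * x * c * s = c⁻¹ * (x * (c * s * c⁻¹)) * c := by group
      _ = c⁻¹ * (c * s * c⁻¹ * x) * c := by rw [h]
      _ = _ := by group
  · intro x
    apply Subtype.ext
    show c⁻¹ * (c * (x : Cfsg.Spor.Th) * c⁻¹) * c = x
    group
  · intro x
    apply Subtype.ext
    show c * (c⁻¹ * (x : Cfsg.Spor.Th) * c) * c⁻¹ = x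
    group

/-- The closing property of the Thompson group. -/
theorem closing : ThreeCPack.Closing Cfsg.Spor.Th := by
  intro X _ _ T ⟨f⟩ t htT ht hC
  have hf : Finite Cfsg.Spor.Th := Main1700.final.1
  have hle : Subgroup.centralizer ({t} : Set X) ≤ T := fun g hg =>
    hC g (Subgroup.mem_centralizer_singleton_iff.1 hg)
  have hft : orderOf (f ⟨t, htT⟩) = 2 := by
    rw [← ht, ← Subgroup.orderOf_mk t htT]
    exact orderOf_injective f.toMonoidHom f.injective _
  have hcard : Nat.card (Subgroup.centralizer ({t} : Set X)) = 92897280 := by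
    rw [← card_centralizer hft]
    refine Nat.card_congr ⟨fun x => ⟨f ⟨x, hle x.2⟩, ?_⟩, fun x => ⟨(f.symm x : X), ?_⟩, ?_, ?_⟩
    · rw [Subgroup.mem_centralizer_singleton_iff, ← map_mul, ← map_mul]
      congr 1
      exact Subtype.ext (Subgroup.mem_centralizer_singleton_iff.1 x.2)
    · have h : (x : Cfsg.Spor.Th) * f ⟨t, htT⟩ = f ⟨t, htT⟩ * x :=
        Subgroup.mem_centralizer_singleton_iff.1 x.2
      rw [Subgroup.mem_centralizer_singleton_iff]
      have h2 := congrArg f.symm h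
      rw [map_mul, map_mul, f.symm_apply_apply] at h2
      exact congrArg Subtype.val h2
    · intro x
      apply Subtype.ext
      show ((f.symm (f ⟨x, hle x.2⟩) : T) : X) = x
      rw [f.symm_apply_apply]
    · intro x
      apply Subtype.ext
      show f ⟨(f.symm x : X), _⟩ = x
      exact f.apply_symm_apply x
  refine ThType.Close.eq_top_of_Th Main1700.isTh ⟨f⟩ ht hle (by rw [hcard]; norm_num) ?_
  intro x hx hx2
  have hfx : orderOf (f ⟨x, hx⟩) = 2 := by
    rw [← hx2, ← Subgroup.orderOf_mk x hx]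
    exact orderOf_injective f.toMonoidHom f.injective _
  obtain ⟨c, hc⟩ := isConj_iff.1 (oneClass _ _ hft hfx)
  refine ⟨f.symm c, (f.symm c).2, ?_⟩
  have h2 := congrArg f.symm hc
  rw [map_mul, map_mul, map_inv, f.symm_apply_apply, f.symm_apply_apply] at h2
  exact congrArg Subtype.val h2

end Cfsg.Agent.MonsterX.ThOneClass
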