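import Cfsg.Agent.MonsterX.ThLet

/-!
# The Thompson group in the Monster model: relators 0, 2, 4, 6, 11, 14, 15, 17, 19, 20, 21, 23, 25, 26, 27, 28, 29, 30, 34, 35, 36, 37
-/

set_option autoImplicit false
set_option maxRecDepth 100000

namespace Cfsg.Agent.MonsterX.ThRelA

open Cfsg.Agent.Monster.VecEngine Cfsg.Agent.MonsterX.ProgBase Cfsg.Agent.MonsterX.InstData
open Cfsg.Agent.MonsterX.Space Cfsg.Agent.MonsterX.BaseVec Cfsg.Agent.MonsterX.ThLet
open Cfsg.Agent.MonsterX.WordSub Cfsg.Agent.MonsterX.WordRels Cfsg.Agent.MonsterX.WordsCodeM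

theorem r0 {K₀ : Type} [Group K₀] (P : Pack K₀) :
    Wt (S.word (.pow (.g .a) 2)) = 1 :=
  eq_one P (by decide +kernel)

theorem r2 {K₀ : Type} [Group K₀] (P : Pack K₀) :
    Wt (S.word (.pow (.g .c) 2)) = 1 :=
  eq_one P (by decide +kernel)

theorem r4 {K₀ : Type} [Group K₀] (P : Pack K₀) :
    Wt (S.word (.pow (.g .e) 2)) = 1 :=
  eq_one P (by decide +kernel)

theorem r6 {K₀ : Type} [Group K₀] (P : Pack K₀) :
    Wt (S.word (.pow (.mul (.g .a) (.g .e)) 2)) = 1 :=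
  eq_one P (by decide +kernel)

theorem r11 {K₀ : Type} [Group K₀] (P : Pack K₀) :
    Wt (S.word (.pow (.mul (.g .c) (.g .e)) 2)) = 1 :=
  eq_one P (by decide +kernel)

theorem r14 {K₀ : Type} [Group K₀] (P : Pack K₀) :
    Wt (S.word (.pow (.g .s) 7)) = 1 :=
  eq_one P (by decide +kernel)

theorem r15 {K₀ : Type} [Group K₀] (P : Pack K₀) :
    Wt (S.word (.mul (.mul (.mul (.inv (.g .s)) (.inv (.g .a))) (.g .s)) (.g .a))) = 1 :=
  eq_one P (by decide +kernel)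

theorem r17 {K₀ : Type} [Group K₀] (P : Pack K₀) :
    Wt (S.word (.mul (.mul (.mul (.inv (.g .s)) (.inv (.g .c))) (.g .s)) (.g .c))) = 1 :=
  eq_one P (by decide +kernel)

theorem r19 {K₀ : Type} [Group K₀] (P : Pack K₀) :
    Wt (S.word (.mul (.mul (.mul (.mul (.inv (.g .e)) (.inv (.g .s))) (.g .e)) (.g .s)) (.inv (.mul (.mul (.inv (.pow (.g .s) 3)) (.g .e)) (.pow (.g .s) 3))))) = 1 :=
  eq_one P (by decide +kernel)

theorem r20 {K₀ : Type} [Group K₀] (P : Pack K₀) :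
    Wt (S.word (.pow (.g .t) 3)) = 1 :=
  eq_one P (by decide +kernel)

theorem r21 {K₀ : Type} [Group K₀] (P : Pack K₀) :
    Wt (S.word (.mul (.mul (.mul (.inv (.g .t)) (.inv (.g .a))) (.g .t)) (.g .a))) = 1 :=
  eq_one P (by decide +kernel)

theorem r23 {K₀ : Type} [Group K₀] (P : Pack K₀) :
    Wt (S.word (.mul (.mul (.mul (.inv (.g .t)) (.inv (.g .c))) (.g .t)) (.g .c))) = 1 :=
  eq_one P (by decide +kernel)

theorem r25 {K₀ : Type} [Group K₀] (P : Pack K₀) :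
    Wt (S.word (.mul (.mul (.mul (.inv (.g .t)) (.inv (.g .e))) (.g .t)) (.g .e))) = 1 :=
  eq_one P (by decide +kernel)

theorem r26 {K₀ : Type} [Group K₀] (P : Pack K₀) :
    Wt (S.word (.mul (.mul (.mul (.inv (.g .t)) (.g .s)) (.g .t)) (.inv (.pow (.g .s) 2)))) = 1 :=
  eq_one P (by decide +kernel)

theorem r27 {K₀ : Type} [Group K₀] (P : Pack K₀) :
    Wt (S.word (.mul (.pow (.g .u) 2) (.inv (.mul (.g .a) (.g .c))))) = 1 :=
  eq_one P (by decide +kernel)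

theorem r28 {K₀ : Type} [Group K₀] (P : Pack K₀) :
    Wt (S.word (.mul (.mul (.mul (.inv (.g .u)) (.inv (.g .a))) (.g .u)) (.g .a))) = 1 :=
  eq_one P (by decide +kernel)

theorem r29 {K₀ : Type} [Group K₀] (P : Pack K₀) :
    Wt (S.word (.mul (.mul (.mul (.inv (.g .u)) (.inv (.g .c))) (.g .u)) (.g .c))) = 1 :=
  eq_one P (by decide +kernel)

theorem r30 {K₀ : Type} [Group K₀] (P : Pack K₀) :
    Wt (S.word (.mul (.mul (.mul (.inv (.g .u)) (.inv (.g .e))) (.g .u)) (.g .e))) = 1 :=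
  eq_one P (by decide +kernel)

theorem r34 {K₀ : Type} [Group K₀] (P : Pack K₀) :
    Wt (S.word (.mul (.mul (.mul (.inv (.g .u)) (.g .t)) (.g .u)) (.inv (.inv (.g .t))))) = 1 :=
  eq_one P (by decide +kernel)

theorem r35 {K₀ : Type} [Group K₀] (P : Pack K₀) :
    Wt (S.word (.mul (.mul (.mul (.inv (.g .e)) (.inv (.mul (.mul (.inv (.pow (.g .s) 2)) (.g .u)) (.pow (.g .s) 2)))) (.g .e)) (.mul (.mul (.inv (.pow (.g .s) 2)) (.g .u)) (.pow (.g .s) 2)))) = 1 :=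
  eq_one P (by decide +kernel)

theorem r36 {K₀ : Type} [Group K₀] (P : Pack K₀) :
    Wt (S.word (.mul (.mul (.g .a) (.g .c)) (.inv (.pow (.mul (.g .u) (.g .s)) 3)))) = 1 :=
  eq_one P (by decide +kernel)

theorem r37 {K₀ : Type} [Group K₀] (P : Pack K₀) :
    Wt (S.word (.mul (.mul (.g .a) (.g .c)) (.inv (.pow (.mul (.mul (.mul (.inv (.g .u)) (.inv (.g .s))) (.g .u)) (.g .s)) 4)))) = 1 :=
  eq_one P (by decide +kernel)

end Cfsg.Agent.MonsterX.ThRelA
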