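import Cfsg.Agent.MonsterX.ThLet
import Cfsg.Agent.MonsterX.ThSegN1
import Cfsg.Agent.MonsterX.ThSegN2
import Cfsg.Agent.MonsterX.ThSegN3

/-!
# The Thompson group in the Monster model: relator 33
-/

set_option autoImplicit false
set_option maxRecDepth 100000

namespace Cfsg.Agent.MonsterX.ThRelN

open Cfsg.Agent.Monster.VecEngine Cfsg.Agent.MonsterX.ProgBase Cfsg.Agent.MonsterX.InstData
open Cfsg.Agent.MonsterX.Space Cfsg.Agent.MonsterX.BaseVec Cfsg.Agent.MonsterX.ThLet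
open Cfsg.Agent.MonsterX.WordSub Cfsg.Agent.MonsterX.WordRels Cfsg.Agent.MonsterX.WordsCodeM

theorem word_eq : S.word (.mul (.mul (.mul (.mul (.inv (.mul (.mul (.inv (.g .d)) (.g .u)) (.g .d))) (.inv (.mul (.mul (.inv (.g .b)) (.mul (.g .a) (.g .c))) (.g .b)))) (.mul (.mul (.inv (.g .d)) (.g .u)) (.g .d))) (.mul (.mul (.inv (.g .b)) (.mul (.g .a) (.g .c))) (.g .b))) (.inv (.mul (.mul (.mul (.mul (.mul (.g .u) (.g .e)) (.mul (.mul (.inv (.g .b)) (.mul (.g .a) (.g .c))) (.g .b))) (.mul (.mul (.inv (.g .d)) (.g .u)) (.g .d))) (.g .e)) (.g .c)))) =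
    ThSegN1.w ++ (ThSegN2.w ++ (ThSegN3.w)) := by rfl

theorem r33 {K₀ : Type} [Group K₀] (P : Pack K₀) :
    Wt (S.word (.mul (.mul (.mul (.mul (.inv (.mul (.mul (.inv (.g .d)) (.g .u)) (.g .d))) (.inv (.mul (.mul (.inv (.g .b)) (.mul (.g .a) (.g .c))) (.g .b)))) (.mul (.mul (.inv (.g .d)) (.g .u)) (.g .d))) (.mul (.mul (.inv (.g .b)) (.mul (.g .a) (.g .c))) (.g .b))) (.inv (.mul (.mul (.mul (.mul (.mul (.g .u) (.g .e)) (.mul (.mul (.inv (.g .b)) (.mul (.g .a) (.g .c))) (.g .b))) (.mul (.mul (.inv (.g .d)) (.g .u)) (.g .d))) (.g .e)) (.g .c))))) = 1 := by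
  rw [word_eq]
  apply eq_one_of P
  have e_ThSegN1 := step ThSegN1.seg
  have e_ThSegN2 := step ThSegN2.seg
  have e_ThSegN3 := step ThSegN3.seg
  simp only [isW.app, LinearEquiv.mul_apply]
  rw [e_ThSegN1, e_ThSegN2, e_ThSegN3]

end Cfsg.Agent.MonsterX.ThRelN
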