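import Cfsg.Agent.MonsterX.ThLet
import Cfsg.Agent.MonsterX.ThVecO1

/-!
# The Thompson group in the Monster model: relator 38, segment 2
-/

set_option autoImplicit false
set_option maxRecDepth 100000

namespace Cfsg.Agent.MonsterX.ThSegO2

open Cfsg.Agent.Monster.VecEngine Cfsg.Agent.MonsterX.ProgBase Cfsg.Agent.MonsterX.InstData
open Cfsg.Agent.MonsterX.Space Cfsg.Agent.MonsterX.BaseVec Cfsg.Agent.MonsterX.ThLet
open Cfsg.Agent.MonsterX.WordSub Cfsg.Agent.MonsterX.WordRels Cfsg.Agent.MonsterX.WordsCodeM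

/-- the segment -/
def w : List Lt :=
  [.d0, .e, .si, .si, .s, .s, .u, .si, .si, .d3, .xi, .d2, .xi, .d1, .xi, .d0, .s, .s, .u, .si, .si, .d3, .xi, .d2, .xi, .d1, .xi, .d0, .s, .s, .u, .si, .si, .d3, .xi, .d2, .xi, .d1, .xi, .d0, .s, .s, .u, .si, .si, .d3, .xi, .d2, .xi, .d1, .xi, .d0]

theorem seg : check (pgs w) ThVecO1.y (pgs []) (up 9 vB) = true := by decide +kernel

end Cfsg.Agent.MonsterX.ThSegO2
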