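import Cfsg.Agent.MonsterX.ThLet
import Cfsg.Agent.MonsterX.ThSegO1
import Cfsg.Agent.MonsterX.ThSegO2

/-!
# The Thompson group in the Monster model: relator 38
-/

set_option autoImplicit false
set_option maxRecDepth 100000

namespace Cfsg.Agent.MonsterX.ThRelO

open Cfsg.Agent.Monster.VecEngine Cfsg.Agent.MonsterX.ProgBase Cfsg.Agent.MonsterX.InstData
open Cfsg.Agent.MonsterX.Space Cfsg.Agent.MonsterX.BaseVec Cfsg.Agent.MonsterX.ThLet
open Cfsg.Agent.MonsterX.WordSub Cfsg.Agent.MonsterX.WordRels Cfsg.Agent.MonsterX.WordsCodeM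

theorem word_eq : S.word (.mul (.pow (.mul (.g .d) (.mul (.mul (.inv (.pow (.g .s) 2)) (.g .u)) (.pow (.g .s) 2))) 4) (.inv (.mul (.mul (.mul (.mul (.g .a) (.g .c)) (.mul (.mul (.inv (.g .d)) (.g .c)) (.g .d))) (.mul (.mul (.inv (.mul (.mul (.g .d) (.g .e)) (.inv (.g .s)))) (.g .c)) (.mul (.mul (.g .d) (.g .e)) (.inv (.g .s))))) (.mul (.mul (.inv (.mul (.mul (.g .d) (.g .e)) (.pow (.g .s) 2))) (.g .c)) (.mul (.mul (.g .d) (.g .e)) (.pow (.g .s) 2)))))) =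
    ThSegO1.w ++ (ThSegO2.w) := by rfl

theorem r38 {K₀ : Type} [Group K₀] (P : Pack K₀) :
    Wt (S.word (.mul (.pow (.mul (.g .d) (.mul (.mul (.inv (.pow (.g .s) 2)) (.g .u)) (.pow (.g .s) 2))) 4) (.inv (.mul (.mul (.mul (.mul (.g .a) (.g .c)) (.mul (.mul (.inv (.g .d)) (.g .c)) (.g .d))) (.mul (.mul (.inv (.mul (.mul (.g .d) (.g .e)) (.inv (.g .s)))) (.g .c)) (.mul (.mul (.g .d) (.g .e)) (.inv (.g .s))))) (.mul (.mul (.inv (.mul (.mul (.g .d) (.g .e)) (.pow (.g .s) 2))) (.g .c)) (.mul (.mul (.g .d) (.g .e)) (.pow (.g .s) 2))))))) = 1 := by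
  rw [word_eq]
  apply eq_one_of P
  have e_ThSegO1 := step ThSegO1.seg
  have e_ThSegO2 := step ThSegO2.seg
  simp only [isW.app, LinearEquiv.mul_apply]
  rw [e_ThSegO1, e_ThSegO2]

end Cfsg.Agent.MonsterX.ThRelO
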