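import Cfsg.Agent.MonsterX.ThComm
import Cfsg.Agent.MonsterX.ThRelA
import Cfsg.Agent.MonsterX.ThRelB
import Cfsg.Agent.MonsterX.ThRelC
import Cfsg.Agent.MonsterX.ThRelD
import Cfsg.Agent.MonsterX.ThRelE
import Cfsg.Agent.MonsterX.ThRelF
import Cfsg.Agent.MonsterX.ThRelG
import Cfsg.Agent.MonsterX.ThRelH
import Cfsg.Agent.MonsterX.ThRelI
import Cfsg.Agent.MonsterX.ThRelJ
import Cfsg.Agent.MonsterX.ThRelK
import Cfsg.Agent.MonsterX.ThRelL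
import Cfsg.Agent.MonsterX.ThRelM
import Cfsg.Agent.MonsterX.ThRelN
import Cfsg.Agent.MonsterX.ThRelO

/-!
# The Thompson group in the centraliser of an element of order three of the Monster model
-/

set_option autoImplicit false

namespace Cfsg.Agent.MonsterX.ThPart

open Cfsg.Agent.MonsterX.Space Cfsg.Agent.MonsterX.BaseVec Cfsg.Agent.MonsterX.InstData
open Cfsg.Agent.MonsterX.ThLet Cfsg.Agent.MonsterX.WordSub Cfsg.Agent.MonsterX.WordRels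
open Cfsg.Agent.MonsterX.WordsCodeM

/-- the generators in the model -/
noncomputable def f (a : Cfsg.Spor.Th.Gen) : V ≃ₗ[ℚ] V := Wt (S.w a)

/-- the element of order three -/
noncomputable def x : V ≃ₗ[ℚ] V := Wt [.x]

section

variable {K₀ : Type} [Group K₀] (P : Pack K₀)
include P

/-- All relators are trivial. -/
theorem words : ∀ r ∈ thWs, Wt (S.word r) = 1 := by
  unfold thWs
  exact List.forall_mem_cons.2 ⟨ThRelA.r0 P, List.forall_mem_cons.2 ⟨ThRelD.r1 P, List.forall_mem_cons.2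
    ⟨ThRelA.r2 P, List.forall_mem_cons.2 ⟨ThRelB.r3 P, List.forall_mem_cons.2 ⟨ThRelA.r4 P, List.forall_mem_cons.2
    ⟨ThRelE.r5 P, List.forall_mem_cons.2 ⟨ThRelA.r6 P, List.forall_mem_cons.2 ⟨ThRelF.r7 P, List.forall_mem_cons.2
    ⟨ThRelG.r8 P, List.forall_mem_cons.2 ⟨ThRelH.r9 P, List.forall_mem_cons.2 ⟨ThRelC.r10 P,
    List.forall_mem_cons.2 ⟨ThRelA.r11 P, List.forall_mem_cons.2 ⟨ThRelC.r12 P, List.forall_mem_cons.2 ⟨ThRelM.r13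
    P, List.forall_mem_cons.2 ⟨ThRelA.r14 P, List.forall_mem_cons.2 ⟨ThRelA.r15 P, List.forall_mem_cons.2
    ⟨ThRelI.r16 P, List.forall_mem_cons.2 ⟨ThRelA.r17 P, List.forall_mem_cons.2 ⟨ThRelB.r18 P,
    List.forall_mem_cons.2 ⟨ThRelA.r19 P, List.forall_mem_cons.2 ⟨ThRelA.r20 P, List.forall_mem_cons.2 ⟨ThRelA.r21
    P, List.forall_mem_cons.2 ⟨ThRelJ.r22 P, List.forall_mem_cons.2 ⟨ThRelA.r23 P, List.forall_mem_cons.2
    ⟨ThRelB.r24 P, List.forall_mem_cons.2 ⟨ThRelA.r25 P, List.forall_mem_cons.2 ⟨ThRelA.r26 P,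
    List.forall_mem_cons.2 ⟨ThRelA.r27 P, List.forall_mem_cons.2 ⟨ThRelA.r28 P, List.forall_mem_cons.2 ⟨ThRelA.r29
    P, List.forall_mem_cons.2 ⟨ThRelA.r30 P, List.forall_mem_cons.2 ⟨ThRelK.r31 P, List.forall_mem_cons.2
    ⟨ThRelL.r32 P, List.forall_mem_cons.2 ⟨ThRelN.r33 P, List.forall_mem_cons.2 ⟨ThRelA.r34 P,
    List.forall_mem_cons.2 ⟨ThRelA.r35 P, List.forall_mem_cons.2 ⟨ThRelA.r36 P, List.forall_mem_cons.2 ⟨ThRelA.r37
    P, List.forall_mem_cons.2 ⟨ThRelO.r38 P, List.forall_mem_nil _⟩⟩⟩⟩⟩⟩⟩⟩⟩⟩⟩⟩⟩⟩⟩⟩⟩⟩⟩⟩⟩⟩⟩⟩⟩⟩⟩⟩⟩⟩⟩⟩⟩⟩⟩⟩⟩⟩⟩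

theorem inv_words (a : Cfsg.Spor.Th.Gen) : Wt (S.w a ++ S.wi a) = 1 := by
  cases a
  · exact ThRelA.r0 P
  · exact ThRelD.r1 P
  · exact ThRelA.r2 P
  · exact ThRelB.r3 P
  · exact ThRelA.r4 P
  · exact s_si.trans WP_nil
  · exact t_ti.trans WP_nil
  · exact u_ui.trans WP_nil

/-- The relators hold. -/
theorem relators : ∀ r ∈ thWs, ev f r = 1 := fun r hr => S.ev_of isW (inv_words P) (words P r hr)

/-- The Thompson group in the centraliser of an element of order three. -/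
theorem part (hs : Cfsg.IsTh Cfsg.Spor.Th) :
    ∃ y : Conc.G, (y : V ≃ₗ[ℚ] V) = x ∧ orderOf y = 3 ∧ ∃ T : Subgroup Conc.G,
      T ≤ Subgroup.centralizer ({y} : Set Conc.G) ∧
      T = Subgroup.closure (Set.range fun a => (⟨f a, mem_G P.tau _⟩ : Conc.G)) ∧
      ∃ e : T ≃* Cfsg.Spor.Th, ∀ a, ∃ ha : (⟨f a, mem_G P.tau _⟩ : Conc.G) ∈ T,
        e ⟨_, ha⟩ = PresentedGroup.of a :=
  th_part hs f (fun a => mem_G P.tau _) (relators P) ⟨.a, ThComm.z_ne_one⟩ x (mem_G P.tau _)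
    (ThComm.x_three P) ThComm.x_ne_one (ThComm.comm_all P)

end

/-- the generator `a` is the central involution `z` of `C` -/
theorem f_a : f .a = Conc.z := Wt_single .z

end Cfsg.Agent.MonsterX.ThPart
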