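import Cfsg.Agent.MonsterX.ThLet

/-!
# The Thompson group in the Monster model: relators 32
-/

set_option autoImplicit false
set_option maxRecDepth 100000

namespace Cfsg.Agent.MonsterX.ThRelL

open Cfsg.Agent.Monster.VecEngine Cfsg.Agent.MonsterX.ProgBase Cfsg.Agent.MonsterX.InstData
open Cfsg.Agent.MonsterX.Space Cfsg.Agent.MonsterX.BaseVec Cfsg.Agent.MonsterX.ThLet
open Cfsg.Agent.MonsterX.WordSub Cfsg.Agent.MonsterX.WordRels Cfsg.Agent.MonsterX.WordsCodeM

theorem r32 {K₀ : Type} [Group K₀] (P : Pack K₀) :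
    Wt (S.word (.mul (.mul (.mul (.mul (.inv (.g .u)) (.inv (.mul (.mul (.inv (.g .b)) (.mul (.g .a) (.g .c))) (.g .b)))) (.g .u)) (.mul (.mul (.inv (.g .b)) (.mul (.g .a) (.g .c))) (.g .b))) (.inv (.g .e)))) = 1 :=
  eq_one P (by decide +kernel)

end Cfsg.Agent.MonsterX.ThRelL
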