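import Cfsg.Agent.MonsterX.CoThreeD
import Cfsg.Agent.MonsterX.KLift
import Cfsg.Agent.SporadicA.Co0Basic

/-!
# The centraliser in `2^(1+24).Co1` of an element of class `3C` of the Monster

In the structure `KS` with a `Lift`: an element `x` of `K` inducing on the lattice the permutation
`pi3` of cycle type `3^8` has a centraliser in `K` of order at most `278691840`.
-/

set_option autoImplicit false

namespace Cfsg.Agent.MonsterX.ThreeCCent

open Cfsg Cfsg.Agent.LeechMat.Core Cfsg.Agent.MonsterX.KSide Cfsg.Agent.MonsterX.KLift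
open Cfsg.Agent.MonsterX.FrameStab Cfsg.Agent.MonsterX.CoThreeDPerm Cfsg.Agent.MonsterX.CoThreeD

variable {G V P W : Type*} [Group G] [AddCommGroup V] [Module ℚ V]
  [DistribMulAction G V] [SMulCommClass G ℚ V] [Group P] [AddCommGroup W] [Module ℚ W]
  {M : KS G V P W} {θ : leechLattice → P}

theorem ι_inj (L : Lift M θ) : Function.Injective M.ι :=
  M.ι_injective fun p hp => L.center p fun y => mul_inv_eq_iff_eq_mul.1 (hp y)

/-- Vectors with the same image modulo the centre are congruent. -/
theorem congr_of_eqz (L : Lift M θ) {v w : leechLattice} (h : Eqz M (θ v) (θ w)) :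
    ∃ t : leechLattice, v - w = 2 • t := by
  apply L.ker
  have h1 : Eqz M (θ (v + -w)) (θ v * θ (-w)) := L.add v (-w)
  have h2 : Eqz M (θ v * θ (-w)) (θ w * θ w) := h.mul (θ_neg L w)
  have h3 : Eqz M (θ w * θ w) 1 := by
    rcases L.sq (θ w) with h | h
    · exact Or.inl h
    · right; rw [h, mul_one]
  have h4 := (h1.trans h2).trans h3
  rw [← sub_eq_add_neg] at h4
  rcases h4 with h4 | h4
  · exact Or.inl h4
  · right; rw [h4, mul_one]

theorem eqz_of_congr (L : Lift M θ) {v w : leechLattice} (h : ∃ t : leechLattice, v - w = 2 • t) :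
    Eqz M (θ v) (θ w) := by
  obtain ⟨t, ht⟩ := h
  have h1 : v = w + 2 • t := by rw [← ht]; abel
  rw [h1]
  have h2 : Eqz M (θ (w + 2 • t)) (θ w * θ (2 • t)) := L.add _ _
  have h3 := h2.trans ((Eqz.refl (M := M) (θ w)).mul (θ_two L t))
  rwa [mul_one] at h3

/-- The elements of the extraspecial group commuting with `x`. -/
theorem card_P_le (L : Lift M θ) {x : G} (hx : x ∈ M.K) {r : Co0} (hr : IsPerm r pi3)
    (hxr : ∀ v, x • M.u v = M.u (r • v)) :
    Nat.card {p : P // M.ι p * x = x * M.ι p} ≤ 512 := by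
  classical
  have hPf : Finite P := Nat.finite_of_card_ne_zero (by rw [L.card]; norm_num)
  obtain ⟨A, α, T, hA⟩ := M.acts x hx
  have hAr : ∀ v : leechLattice, A • v = r • v ∨ A • v = -(r • v) := by
    have h1 : ∀ v, M.u ((A⁻¹ * r) • v) = M.u v := by
      intro v
      have h2 := hA.act_u (A⁻¹ • r • v)
      rw [smul_inv_smul, ← hxr] at h2
      have h3 := congrArg (x⁻¹ • ·) h2
      simp only [inv_smul_smul] at h3
      rw [mul_smul]
      exact h3
    intro v
    rcases M.pm_of_u _ h1 with h2 | h2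
    · left
      have := h2 v
      rw [mul_smul, inv_smul_eq_iff] at this
      exact this.symm
    · right
      have := h2 v
      rw [mul_smul, inv_smul_eq_iff, co0_smul_neg] at this
      rw [this, neg_neg]
  have hαz := α_zc L α
  have hθ : ∀ v, Eqz M (θ (r • v)) (α (θ v)) := by
    intro v
    refine Eqz.trans ?_ (act_θ L hA v)
    apply θ_pm L
    rcases hAr v with h | h
    · exact Or.inl h.symm
    · right; rw [h, neg_neg]
  -- representatives
  have hrep : ∀ p : {p : P // M.ι p * x = x * M.ι p}, ∃ v : leechLattice, Eqz M (θ v) p.1 ∧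
      ∃ w : leechLattice, v - r • v = 2 • w := by
    rintro ⟨p, hp⟩
    obtain ⟨v, hv⟩ := L.surj p
    have hv' : Eqz M p (θ v) := hv
    refine ⟨v, hv'.symm, ?_⟩
    have h1 : α p = p := by
      apply ι_inj L
      have h2 := conj_ι hA p
      rw [← hp] at h2
      exact (mul_right_cancel h2).symm
    apply congr_of_eqz L
    have h3 := (hθ v).trans ((hv'.symm).map α hαz)
    rw [h1] at h3
    exact (h3.trans hv').symm
  choose v hv hvr using hrep
  have := Fintype.ofFinite {p : P // M.ι p * x = x * M.ι p}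
  have := Fintype.ofFinite QF
  let f : {p : P // M.ι p * x = x * M.ι p} → QF := fun p => QuotientAddGroup.mk (tr r hr (v p))
  have key : ∀ p q, f p = f q → Eqz M q.1 p.1 := by
    intro p q h
    obtain ⟨z, hz, h1⟩ := mk_eq h
    obtain ⟨w, hw⟩ := tr_congr hr (hvr p)
    obtain ⟨w', hw'⟩ := tr_congr hr (hvr q)
    have h2 : v q - v p = 2 • (-(⟨z, hz⟩ - w + w') : leechLattice) := by
      apply Subtype.ext
      show ((v q : leechLattice) : GolayPt → ℤ) - ((v p : leechLattice) : GolayPt → ℤ) =
        2 • (-(z - (w : GolayPt → ℤ) + (w' : GolayPt → ℤ)))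
      rw [smul_neg, smul_add, smul_sub, ← h1, ← hw, ← hw']
      abel
    exact ((hv q).symm.trans (eqz_of_congr L ⟨_, h2⟩)).trans (hv p)
  have e1 : Fintype.card {p : P // M.ι p * x = x * M.ι p} ≤ 2 * (Finset.univ.image f).card := by
    rw [← Finset.card_univ]
    apply Finset.card_le_mul_card_image
    intro c hc
    obtain ⟨p, _, rfl⟩ := Finset.mem_image.1 hc
    have h1 : ((Finset.univ.filter fun q => f q = f p).image fun q => q.1) ⊆ {p.1, M.zc * p.1} := by
      intro t ht
      obtain ⟨q, hq, rfl⟩ := Finset.mem_image.1 ht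
      rw [Finset.mem_insert, Finset.mem_singleton]
      exact key p q (Finset.mem_filter.1 hq).2.symm
    have h2 := (Finset.card_le_card h1).trans Finset.card_le_two
    rwa [Finset.card_image_of_injective _ Subtype.val_injective] at h2
  have e2 : (Finset.univ.image f).card ≤ 256 := by
    refine (Finset.card_le_univ _).trans ?_
    rw [← Nat.card_eq_fintype_card]
    exact card_QF_le.1
  rw [Nat.card_eq_fintype_card]
  omega

theorem r_cube {r : Co0} (hr : IsPerm r pi3) : r * r * r = 1 := by
  apply Subtype.ext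
  apply Equiv.ext
  intro v
  apply Subtype.ext
  funext p
  show (((r * r * r) • v : leechLattice) : GolayPt → ℤ) p = (v : GolayPt → ℤ) p
  have h : pi3.symm (pi3.symm (pi3.symm p)) = p := by
    rw [Equiv.symm_apply_eq, Equiv.symm_apply_eq, Equiv.symm_apply_eq]
    exact (pi3_cube p).symm
  rw [mul_smul, mul_smul, hr, hr, hr, h]

/-- **The centraliser of `x` in `K`.** -/
theorem card_le [Finite G] [Finite Co0] (L : Lift M θ) {x : G} (hx : x ∈ M.K) {r : Co0}
    (hr : IsPerm r pi3) (hxr : ∀ v, x • M.u v = M.u (r • v)) :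
    Nat.card {k : G // k ∈ M.K ∧ k * x = x * k} ≤ 278691840 := by
  classical
  have hPf : Finite P := Nat.finite_of_card_ne_zero (by rw [L.card]; norm_num)
  have hneg : ∃ n : Co0, ∀ v : leechLattice, n • v = -v :=
    ⟨SporadicA.Co0Basic.negCo0, fun v => rfl⟩
  obtain ⟨n, hn⟩ := hneg
  have hne : ∃ v : leechLattice, v ≠ -v := by
    refine ⟨SporadicA.Co0Card.v0, fun h => ?_⟩
    have h1 := congrFun (congrArg (fun u : leechLattice => (u : GolayPt → ℤ)) h) none
    simp [SporadicA.Co0Card.v0] at h1
  have hn1 : n ≠ 1 := by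
    rintro rfl
    obtain ⟨v, hv⟩ := hne
    exact hv (by rw [← hn v, one_smul])
  have hnc : ∀ A : Co0, n * A = A * n := by
    intro A
    apply Subtype.ext
    apply Equiv.ext
    intro v
    show (n * A) • v = (A * n) • v
    rw [mul_smul, mul_smul, hn, hn, co0_smul_neg]
  -- the induced elements of `Co0`
  have hact : ∀ k : {k : G // k ∈ M.K ∧ k * x = x * k}, ∃ A : Co0, ∀ v, k.1 • M.u v = M.u (A • v) := by
    intro k
    obtain ⟨A, α, T, hA⟩ := M.acts k.1 k.2.1
    exact ⟨A, hA.act_u⟩
  choose A hA using hact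
  have hcomm : ∀ k, A k * r = r * A k := by
    intro k
    have h1 : ∀ v, M.u ((A k * r * (A k)⁻¹ * r⁻¹) • v) = M.u v := by
      intro v
      have h2 : (k.1 * x) • M.u ((A k)⁻¹ • r⁻¹ • v) = (x * k.1) • M.u ((A k)⁻¹ • r⁻¹ • v) := by
        rw [k.2.2]
      rw [mul_smul, mul_smul, hxr, hA, hA, hxr, smul_inv_smul, smul_inv_smul] at h2
      rw [mul_smul, mul_smul, mul_smul]
      exact h2
    rcases M.pm_of_u _ h1 with h2 | h2
    · have h3 : A k * r * (A k)⁻¹ * r⁻¹ = 1 := Subtype.ext (Equiv.ext h2)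
      rw [mul_inv_eq_one, mul_inv_eq_iff_eq_mul] at h3
      exact h3
    · exfalso
      have h3 : A k * r * (A k)⁻¹ * r⁻¹ = n := by
        apply Subtype.ext
        apply Equiv.ext
        intro v
        show (A k * r * (A k)⁻¹ * r⁻¹) • v = n • v
        rw [h2, hn]
      have h4 : A k * r * (A k)⁻¹ = n * r := by
        rw [← h3]; group
      have h5 : (A k * r * (A k)⁻¹) * (A k * r * (A k)⁻¹) * (A k * r * (A k)⁻¹) = 1 := by
        have : (A k * r * (A k)⁻¹) * (A k * r * (A k)⁻¹) * (A k * r * (A k)⁻¹) =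
          A k * (r * r * r) * (A k)⁻¹ := by group
        rw [this, r_cube hr]; group
      rw [h4] at h5
      have hnn : n * n = 1 := by
        apply Subtype.ext
        apply Equiv.ext
        intro v
        show (n * n) • v = v
        rw [mul_smul, hn, hn, neg_neg]
      have h6 : n * r * (n * r) * (n * r) = n * (n * n) * (r * r * r) := by
        have e1 : r * n = n * r := (hnc r).symm
        calc n * r * (n * r) * (n * r) = n * (r * n) * (r * n) * r := by group
          _ = n * (n * r) * (n * r) * r := by rw [e1]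
          _ = n * n * (r * n) * r * r := by group
          _ = n * n * (n * r) * r * r := by rw [e1]
          _ = n * (n * n) * (r * r * r) := by group
      rw [h6, hnn, r_cube hr, mul_one, mul_one] at h5
      exact hn1 h5
  have hK := Fintype.ofFinite {k : G // k ∈ M.K ∧ k * x = x * k}
  have hC := Fintype.ofFinite {A : Co0 // A * r = r * A}
  let f : {k : G // k ∈ M.K ∧ k * x = x * k} × Bool → {A : Co0 // A * r = r * A} := fun kb =>
    if kb.2 then ⟨A kb.1, hcomm kb.1⟩ else ⟨n * A kb.1, by
      rw [mul_assoc, hcomm, ← mul_assoc, hnc r, mul_assoc]⟩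
  have hf : ∀ kb v, M.u ((f kb).1 • v) = kb.1.1 • M.u v := by
    rintro ⟨k, b⟩ v
    cases b
    · show M.u ((n * A k) • v) = _
      rw [mul_smul, hn, M.u_neg, hA]
    · exact (hA k v).symm
  have hfb : ∀ k b b', f (k, b) = f (k, b') → b = b' := by
    have key : ∀ k, f (k, true) ≠ f (k, false) := by
      intro k h
      have h1 : A k = n * A k := congrArg Subtype.val h
      exact hn1 (mul_eq_right.1 h1.symm)
    intro k b b' h
    cases b <;> cases b'
    · rfl
    · exact absurd h.symm (key k)
    · exact absurd h (key k)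
    · rfl
  have e1 : Fintype.card ({k : G // k ∈ M.K ∧ k * x = x * k} × Bool) ≤
      512 * (Finset.univ.image f).card := by
    rw [← Finset.card_univ]
    apply Finset.card_le_mul_card_image
    intro c hc
    obtain ⟨⟨k, b⟩, _, rfl⟩ := Finset.mem_image.1 hc
    refine le_trans ?_ (card_P_le L hx hr hxr)
    have := Fintype.ofFinite {p : P // M.ι p * x = x * M.ι p}
    rw [Nat.card_eq_fintype_card, ← Finset.card_univ]
    have key : ∀ kb ∈ (Finset.univ.filter fun kb => f kb = f (k, b)),
        ∃ q : {p : P // M.ι p * x = x * M.ι p}, kb.1.1 = k.1 * M.ι q.1 := by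
      intro kb hkb
      have h1 : f kb = f (k, b) := (Finset.mem_filter.1 hkb).2
      have h2 : ∀ v, (k.1⁻¹ * kb.1.1) • M.u v = M.u v := by
        intro v
        rw [mul_smul, ← hf kb v, h1, hf, inv_smul_smul]
      obtain ⟨q, hq⟩ := M.mem_ι_of_trivial _ (M.K.mul_mem (M.K.inv_mem k.2.1) kb.1.2.1) h2
      refine ⟨⟨q, ?_⟩, ?_⟩
      · rw [← hq]
        have h3 : k.1⁻¹ * x = x * k.1⁻¹ := by
          rw [inv_mul_eq_iff_eq_mul, ← mul_assoc, k.2.2, mul_assoc, mul_inv_cancel, mul_one]
        rw [mul_assoc, kb.1.2.2, ← mul_assoc, h3, mul_assoc]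
      · show kb.1.1 = k.1 * M.ι q
        rw [← hq, mul_inv_cancel_left]
    have hne' : Nonempty {p : P // M.ι p * x = x * M.ι p} :=
      ⟨⟨1, by rw [map_one, one_mul, mul_one]⟩⟩
    choose! q hq using key
    refine Finset.card_le_card_of_injOn q (fun _ _ => Finset.mem_coe.2 (Finset.mem_univ _)) ?_
    intro kb hkb kb' hkb' h
    have h1 := hq kb hkb
    have h2 := hq kb' hkb'
    rw [h, ← h2] at h1
    have h3 : kb.1 = kb'.1 := Subtype.ext h1
    obtain ⟨k1, b1⟩ := kb
    obtain ⟨k2, b2⟩ := kb'
    have h3' : k1 = k2 := h3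
    subst h3'
    have h4 : f (k1, b1) = f (k1, b2) :=
      ((Finset.mem_filter.1 hkb).2).trans ((Finset.mem_filter.1 hkb').2).symm
    rw [hfb k1 b1 b2 h4]
  have e2 : (Finset.univ.image f).card ≤ 1088640 := by
    refine (Finset.card_le_univ _).trans ?_
    rw [← Nat.card_eq_fintype_card]
    exact CoThreeD.card_le hr
  rw [Fintype.card_prod, Fintype.card_bool] at e1
  rw [Nat.card_eq_fintype_card]
  omega

/-- The form used in `ThreeCPack.S0470_of`. -/
theorem card_inf_le [Finite G] [Finite Co0] (L : Lift M θ) {x : G} (hx : x ∈ M.K) {r : Co0}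
    (hr : IsPerm r pi3) (hxr : ∀ v, x • M.u v = M.u (r • v)) {z : G}
    (hz : ∀ g : G, g * z = z * g → g ∈ M.K) :
    Nat.card (Subgroup.centralizer ({x} : Set G) ⊓ Subgroup.centralizer ({z} : Set G) :
      Subgroup G) ≤ 278691840 := by
  refine le_trans (Nat.card_le_card_of_injective
    (fun g => (⟨g.1, hz _ (Subgroup.mem_centralizer_singleton_iff.1 g.2.2),
      Subgroup.mem_centralizer_singleton_iff.1 g.2.1⟩ : {k : G // k ∈ M.K ∧ k * x = x * k})) ?_)
    (card_le L hx hr hxr)
  intro g h e
  have e' : (g : G) = h := congrArg (fun k : {k : G // k ∈ M.K ∧ k * x = x * k} => k.1) e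
  exact Subtype.ext e'

end Cfsg.Agent.MonsterX.ThreeCCent
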