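import Cfsg.Agent.MonsterX.ThreeCInst
import Cfsg.Agent.MonsterX.ThOneClass
import Cfsg.Agent.MonsterX.ThPart
import Cfsg.Agent.MonsterX.HNFive
import Cfsg.Agent.MonsterX.HeM.Main
import Cfsg.Agent.MonsterX.MainPack
import Cfsg.Agent.CoOneType.FrameFix

/-!
Statement S0470 from the model of the Monster.
-/

set_option autoImplicit false

namespace Cfsg.Agent.MonsterX.ThreeCFinal

open Subgroup Cfsg.Agent.MonsterX.Space Cfsg.Agent.MonsterX.Model Cfsg.Agent.MonsterX.InstData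
open Cfsg.Agent.MonsterX.BaseVec

variable {K₀ : Type} [Group K₀]

/-- The centraliser of `x` in the centraliser of `z`. -/
theorem hb₀ (hG : MGroup M K₀) (hR : MRep M) (hL : MLat M) (hO : MOrbit M) (hT : MTrans M)
    {y z : M.G} (hy : (y : V ≃ₗ[ℚ] V) = ThPart.x) (hz : (z : V ≃ₗ[ℚ] V) = Conc.z) :
    Nat.card (centralizer ({y} : Set M.G) ⊓ centralizer ({z} : Set M.G) :
      Subgroup M.G) ≤ 278691840 := by
  have hfin : Finite M.G := MainBasic.G_finite hO
  have hco : Finite Co0 := CoOneType.FrameFix.finite_co0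
  obtain ⟨r, hr, hi⟩ := ThreeCInst.exists_ind
  have hx : ThPart.x = Conc.W ProgM.Thx.word := by
    show ThLet.Wt [.x] = _
    rw [ThLet.Wt_single]
    exact ProgM.Thx.eq_word
  refine ThreeCCent.card_inf_le KDone.lft (x := y) (r := r) ?_ hr ?_ ?_
  · have h1 : (y : V ≃ₗ[ℚ] V) ∈ Conc.C := by
      rw [hy, hx, ← ProgM.Thx.eq_word]
      exact Conc.N_le_C ProgM.Thx.mem_N
    exact h1
  · intro v
    have h1 : (y : V ≃ₗ[ℚ] V) (USide.u v) = USide.u (r • v) := by
      rw [hy, hx]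
      exact hi v
    exact h1
  · intro g hg
    have h1 := MainTrans.cent_z hG hR hL hO hT (g := (g : V ≃ₗ[ℚ] V)) g.2 (by
      have h2 := congrArg Subtype.val hg
      rw [M_z, ← hz]
      exact h2)
    exact h1

/-- The same for a group equal to `M.G`. -/
theorem hb (hG : MGroup M K₀) (hR : MRep M) (hL : MLat M) (hO : MOrbit M) (hT : MTrans M)
    {H : Subgroup (V ≃ₗ[ℚ] V)} (e : M.G = H)
    {y z : H} (hy : (y : V ≃ₗ[ℚ] V) = ThPart.x) (hz : (z : V ≃ₗ[ℚ] V) = Conc.z) :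
    Nat.card (centralizer ({y} : Set H) ⊓ centralizer ({z} : Set H) : Subgroup H) ≤ 278691840 := by
  subst e
  exact hb₀ hG hR hL hO hT hy hz

/-- **S0470.** -/
theorem s0470 (P : Pack K₀) (hT : MTrans M) (hHN : Cfsg.IsHN Cfsg.Spor.HN)
    (hHe : Cfsg.IsHe Cfsg.Spor.He) : ∃ (G : Type) (_ : Group G) (_ : Finite G), Cfsg.IsM G ∧
      (∃ x : G, orderOf x = 3 ∧
        Nat.card (Subgroup.centralizer ({x} : Set G)) = 272237831663616000 ∧
        ∃ K : Subgroup G, K ≤ Subgroup.centralizer ({x} : Set G) ∧ Cfsg.IsTh K) ∧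
      (∃ x : G, orderOf x = 5 ∧ ∃ K : Subgroup G,
        K ≤ Subgroup.centralizer ({x} : Set G) ∧ Cfsg.IsHN K) ∧
      (∃ x : G, orderOf x = 7 ∧ ∃ K : Subgroup G,
        K ≤ Subgroup.centralizer ({x} : Set G) ∧ Cfsg.IsHe K) := by
  have hTh : Cfsg.IsTh Cfsg.Spor.Th := Cfsg.Agent.Th.Main1700.isTh
  have hfin : Finite Conc.G := by
    have h := MainBasic.G_finite P.hO
    rwa [M_G] at h
  have hM : Cfsg.IsM Conc.G := by
    have h := MainSimple.isM P.hG P.hR P.hL P.hO hT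
    rwa [M_G] at h
  obtain ⟨y, hy, hy3, T, hTy, -, e, he⟩ := ThPart.part P hTh
  obtain ⟨haT, hea⟩ := he .a
  set z : Conc.G := ⟨ThPart.f .a, ThLet.mem_G P.tau _⟩ with hzdef
  have hz : (z : V ≃ₗ[ℚ] V) = Conc.z := ThPart.f_a
  have hz2 : orderOf z = 2 := by
    apply orderOf_eq_prime
    · rw [pow_two]
      apply Subtype.ext
      show (z : V ≃ₗ[ℚ] V) * (z : V ≃ₗ[ℚ] V) = 1
      rw [hz]
      exact P.hG.z_sq
    · intro h
      apply P.hG.z_ne
      have h1 : (z : V ≃ₗ[ℚ] V) = 1 := congrArg Subtype.val h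
      rw [hz] at h1
      exact h1
  have hez : orderOf (e ⟨z, haT⟩) = 2 := by
    rw [← hz2, ← Subgroup.orderOf_mk z haT]
    exact orderOf_injective e.toMonoidHom e.injective _
  exact ThreeCPack.S0470_of hM hTh ThOneClass.closing hy3 hz2 hTy e haT
    (le_of_eq (ThOneClass.card_centralizer hez).symm) (hb P.hG P.hR P.hL P.hO hT M_G hy hz)
    (HNFive.five P hT hHN) (HeM.Main.he_part P hHe)

end Cfsg.Agent.MonsterX.ThreeCFinal
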