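import Cfsg.Agent.MonsterX.USide
import Cfsg.Agent.S1572

/-!
# Every element of `Co0` is induced by an element of `C`; the span of the vectors `u v`
-/

set_option autoImplicit false

namespace Cfsg.Agent.MonsterX.UOnto

open Cfsg Cfsg.Agent.Monster.VecEngine Cfsg.Agent.Monster Cfsg.Agent.Monster.VecSpace
open Cfsg.Agent.MonsterX.ProgBase Cfsg.Agent.MonsterX.Space Cfsg.Agent.MonsterX.MatAct
open Cfsg.Agent.MonsterX.CoGens Cfsg.Agent.MonsterX.USide Cfsg.Agent.MonsterX.FrameStab
open Cfsg.Agent.SporadicStructure.StdCross Cfsg.Agent.SporadicStructure.Co0Base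
open Cfsg.Agent.SporadicA.M24Gens (pidx pidx_injective)

/-! ### Induced elements -/

/-- `k` acts on the vectors `u v` through `A`. -/
def Ind (k : V ≃ₗ[ℚ] V) (A : Co0) : Prop := ∀ v, k (u v) = u (A • v)

theorem Ind.one : Ind 1 1 := fun v => by rw [one_smul]; rfl

theorem Ind.mul {k l : V ≃ₗ[ℚ] V} {A B : Co0} (hk : Ind k A) (hl : Ind l B) : Ind (k * l) (A * B) :=
  fun v => by rw [mul_smul, LinearEquiv.mul_apply, hl, hk]

theorem Ind.inv {k : V ≃ₗ[ℚ] V} {A : Co0} (hk : Ind k A) : Ind k⁻¹ A⁻¹ := fun v => by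
  have h := hk (A⁻¹ • v)
  rw [smul_inv_smul] at h
  rw [← h, ← LinearEquiv.mul_apply, inv_mul_cancel]
  rfl

theorem ind_E {n : ℕ} (hn : n < 40) : Ind (Conc.E n) (CoGens.A n) := act_u hn

/-- The elements of `Co0` induced by elements of `D`. -/
def indSub (D : Subgroup (V ≃ₗ[ℚ] V)) : Subgroup Co0 where
  carrier := {A | ∃ d ∈ D, Ind d A}
  one_mem' := ⟨1, D.one_mem, Ind.one⟩
  mul_mem' := by
    rintro A B ⟨d, hd, hA⟩ ⟨e, he, hB⟩
    exact ⟨d * e, D.mul_mem hd he, hA.mul hB⟩
  inv_mem' := by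
    rintro A ⟨d, hd, hA⟩
    exact ⟨d⁻¹, D.inv_mem hd, hA.inv⟩

/-- The elements of `Co0` preserving the standard frame are induced by elements of `N`. -/
theorem onto_N (A : Co0) (hA : PreservesCross A) : ∃ k ∈ Conc.N, Ind k A := by
  have key : A ∈ indSub Conc.N := by
    refine mem_of_preserves _ ?_ ?_ ?_ ?_ A hA
    · intro i hi
      refine ⟨sg i, ⟨Conc.E (24 + i), Conc.E_mem_N (by omega), ?_⟩, isSign_sg hi⟩
      rw [← A_sg hi]
      exact ind_E (by omega)
    · exact ⟨pS, ⟨Conc.E 36, Conc.E_mem_N (by norm_num), ind_E (by norm_num)⟩, isPerm_pS⟩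
    · exact ⟨pI, ⟨Conc.E 38, Conc.E_mem_N (by norm_num), ind_E (by norm_num)⟩, isPerm_pI⟩
    · exact ⟨pC, ⟨Conc.E 37, Conc.E_mem_N (by norm_num), ind_E (by norm_num)⟩, isPerm_pC⟩
  exact key

/-- The stabiliser of the standard frame. -/
def crossStab : Subgroup Co0 where
  carrier := {g | ∀ v : leechLattice, (v : GolayPt → ℤ) ∈ stdCross →
    ((g • v : leechLattice) : GolayPt → ℤ) ∈ stdCross}
  one_mem' := fun v hv => by rw [one_smul]; exact hv
  mul_mem' := fun {a b} ha hb v hv => by rw [mul_smul]; exact ha _ (hb v hv)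
  inv_mem' := fun {a} ha => by
    have h : PreservesCross a⁻¹ := (preserves_iff _).2 (fixesFrame_inv ((preserves_iff _).1 ha))
    exact h

theorem xiA_not_mem : xiA ∉ crossStab := by
  intro h
  have h1 := h (e8 (some 0)) (e8_mem_stdCross _)
  obtain ⟨i, s, hs, he⟩ := h1
  -- the coordinates at `1` and `2` are nonzero
  have h8 : ∀ p : GolayPt, rt (e8 (some 0)) p = if p = some 0 then 8 else 0 := by
    intro p
    show (((e8 (some 0) : leechLattice) : GolayPt → ℤ) p : ℚ) = _
    have : ((e8 (some 0) : leechLattice) : GolayPt → ℤ) = Pi.single (some 0) 8 := rfl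
    rw [this, Pi.single_apply]
    split_ifs <;> simp
  have key : ∀ p : GolayPt, p ≠ some 0 → ¬ 4 ≤ pidx p → ((xiA • e8 (some 0) : leechLattice) : GolayPt → ℤ) p = 4 := by
    intro p hp hp4
    have h2 := xiA_coe (e8 (some 0)) p
    rw [if_neg hp4, h8, if_neg hp] at h2
    simp only [h8] at h2
    have h3 : (∑ q : GolayPt, if tetT.getD (pidx q) 0 = tetT.getD (pidx p) 0 then
        (if q = some 0 then (8 : ℚ) else 0) else 0) = 8 := by
      rw [Finset.sum_eq_single (some 0)]
      · have h5 : tetT.getD (pidx (some 0)) 0 = tetT.getD (pidx p) 0 := by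
          revert p; decide +kernel
        rw [if_pos h5, if_pos rfl]
      · intro q _ hq
        rw [if_neg hq]; split_ifs <;> rfl
      · intro h; exact absurd (Finset.mem_univ _) h
    rw [h3] at h2
    have h4 : ((((xiA • e8 (some 0) : leechLattice) : GolayPt → ℤ) p : ℤ) : ℚ) = 4 := by
      show rt (xiA • e8 (some 0)) p = 4
      linarith
    exact_mod_cast h4
  have k1 := key (some 1) (by decide) (by decide)
  have k2 := key (some 2) (by decide) (by decide)
  rw [he, Pi.single_apply] at k1 k2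
  by_cases hi : (some 1 : GolayPt) = i
  · rw [← hi, if_neg (by decide)] at k2
    omega
  · rw [if_neg hi] at k1
    omega

/-- **Every element of `Co0` is induced by an element of `C`.** -/
theorem onto (A : Co0) : ∃ k ∈ Conc.C, Ind k A := by
  have hco : IsCoatom crossStab := Cfsg.Agent.S1572.result crossStab rfl
  have hle : crossStab ≤ indSub Conc.C := by
    intro A hA
    obtain ⟨k, hk, h⟩ := onto_N A hA
    exact ⟨k, Conc.N_le_C hk, h⟩
  have hx : xiA ∈ indSub Conc.C := ⟨Conc.E 39, Conc.E_mem_C (by norm_num), ind_E (by norm_num)⟩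
  have hlt : crossStab < indSub Conc.C := lt_of_le_of_ne hle fun h => xiA_not_mem (by rw [h]; exact hx)
  have htop := hco.2 _ hlt
  have : A ∈ indSub Conc.C := by rw [htop]; trivial
  exact this

/-- Every element of `C` induces an element of `Co0`. -/
theorem exists_ind (k : V ≃ₗ[ℚ] V) (hk : k ∈ Conc.C) : ∃ A, Ind k A := by
  unfold Conc.C at hk
  induction hk using Subgroup.closure_induction with
  | mem x hx =>
    obtain ⟨n, hn, rfl⟩ := hx
    exact ⟨_, ind_E hn⟩
  | one => exact ⟨1, Ind.one⟩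
  | mul x y _ _ hx hy =>
    obtain ⟨A, hA⟩ := hx
    obtain ⟨B, hB⟩ := hy
    exact ⟨A * B, hA.mul hB⟩
  | inv x _ hx =>
    obtain ⟨A, hA⟩ := hx
    exact ⟨A⁻¹, hA.inv⟩

/-- Every element of `Q` induces `1`. -/
theorem ind_Q (k : V ≃ₗ[ℚ] V) (hk : k ∈ Conc.Q) : Ind k 1 := by
  unfold Conc.Q at hk
  induction hk using Subgroup.closure_induction with
  | mem x hx =>
    obtain ⟨n, hn, rfl⟩ := hx
    have := ind_E (show n < 40 by omega)
    rwa [A_lt hn] at this
  | one => exact Ind.one
  | mul x y _ _ hx hy => have := hx.mul hy; rwa [mul_one] at this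
  | inv x _ hx => have := hx.inv; rwa [inv_one] at this

/-! ### The span of the vectors `u v` -/

theorem uf_add (x y : GolayPt → ℚ) :
    uf (x + y) = uf x + uf y + ∑ p, ∑ q, ((x p * y q + y p * x q) / 16) • uv p q := by
  unfold uf
  rw [← Finset.sum_add_distrib, ← Finset.sum_add_distrib]
  refine Finset.sum_congr rfl fun p _ => ?_
  rw [← Finset.sum_add_distrib, ← Finset.sum_add_distrib]
  refine Finset.sum_congr rfl fun q _ => ?_
  rw [← add_smul, ← add_smul]
  congr 1
  rw [Pi.add_apply, Pi.add_apply]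
  ring

theorem rt_e8 (i : GolayPt) : rt (e8 i) = Pi.single i 8 := by
  funext p
  show (((e8 i : leechLattice) : GolayPt → ℤ) p : ℚ) = _
  have : ((e8 i : leechLattice) : GolayPt → ℤ) = Pi.single i 8 := rfl
  rw [this, Pi.single_apply, Pi.single_apply]
  split_ifs <;> simp

theorem sum_single_single (i j : GolayPt) (c : ℚ) (g : GolayPt → GolayPt → Lane U → ℚ) :
    ∑ p, ∑ q, ((Pi.single i (8 : ℚ) : GolayPt → ℚ) p * (Pi.single j (8 : ℚ) : GolayPt → ℚ) q * c) • g p q =
      (64 * c) • g i j := by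
  rw [Finset.sum_eq_single i]
  · rw [Finset.sum_eq_single j]
    · rw [Pi.single_eq_same, Pi.single_eq_same]
      congr 1; ring
    · intro q _ hq
      rw [Pi.single_eq_of_ne hq, mul_zero, zero_mul, zero_smul]
    · intro h; exact absurd (Finset.mem_univ _) h
  · intro p _ hp
    refine Finset.sum_eq_zero fun q _ => ?_
    rw [Pi.single_eq_of_ne hp, zero_mul, zero_mul, zero_smul]
  · intro h; exact absurd (Finset.mem_univ _) h

/-- The symmetric matrix unit. -/
noncomputable def sv (p q : GolayPt) : V := ⟨uv p q + uv q p, by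
  rw [mem_Vs, map_add, tr_uv, tr_uv, add_comm]⟩

theorem sv_eq (i j : GolayPt) : (4 : ℚ) • sv i j = u (e8 i + e8 j) - u (e8 i) - u (e8 j) := by
  apply Subtype.ext
  show (4 : ℚ) • (uv i j + uv j i) = uf (rt (e8 i + e8 j)) - uf (rt (e8 i)) - uf (rt (e8 j))
  have h : rt (e8 i + e8 j) = rt (e8 i) + rt (e8 j) := by
    funext p
    show ((((e8 i + e8 j : leechLattice) : GolayPt → ℤ) p : ℤ) : ℚ) = _
    rw [AddSubgroup.coe_add, Pi.add_apply]
    push_cast
    rfl
  rw [h, uf_add, rt_e8, rt_e8]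
  have h2 : ∀ p q : GolayPt, ((Pi.single i (8 : ℚ) : GolayPt → ℚ) p * (Pi.single j (8 : ℚ) : GolayPt → ℚ) q +
      (Pi.single j (8 : ℚ) : GolayPt → ℚ) p * (Pi.single i (8 : ℚ) : GolayPt → ℚ) q) / 16 =
      (Pi.single i (8 : ℚ) : GolayPt → ℚ) p * (Pi.single j (8 : ℚ) : GolayPt → ℚ) q * (1 / 16) +
      (Pi.single j (8 : ℚ) : GolayPt → ℚ) p * (Pi.single i (8 : ℚ) : GolayPt → ℚ) q * (1 / 16) := by
    intro p q; ring
  simp only [h2, add_smul, Finset.sum_add_distrib, sum_single_single]
  rw [smul_add]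
  have h3 : (64 * (1 / 16) : ℚ) = 4 := by norm_num
  rw [h3]
  abel

theorem sv_mem (i j : GolayPt) : sv i j ∈ Submodule.span ℚ (Set.range u) := by
  have h : sv i j = (4 : ℚ)⁻¹ • (u (e8 i + e8 j) - u (e8 i) - u (e8 j)) := by
    rw [← sv_eq, smul_smul, inv_mul_cancel₀ (by norm_num), one_smul]
  rw [h]
  refine Submodule.smul_mem _ _ (Submodule.sub_mem _ (Submodule.sub_mem _ ?_ ?_) ?_) <;>
    exact Submodule.subset_span ⟨_, rfl⟩

theorem trL_lane (p q : GolayPt) : trL (lane p q) = lane q p := by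
  have h1 : ∀ i : Lane U, uv p q (trL i) = uv q p i := by
    intro i
    rw [← tr_uv p q, semU_trP]
  have h2 := h1 (trL (lane p q))
  rw [trL_trL, uv_apply, if_pos rfl, uv_apply] at h2
  by_contra h
  rw [if_neg h] at h2
  exact one_ne_zero h2

/-- A vector supported on the matrix lanes is in the span of the vectors `u v`. -/
theorem mem_span_u (f : V) (hf : ∀ i : Lane U, ¬ matM.testBit i.1 = true → f.1 i = 0) :
    f ∈ Submodule.span ℚ (Set.range u) := by
  have h : f = ∑ p, ∑ q, (f.1 (lane p q) / 2) • sv p q := by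
    apply Subtype.ext
    have hc : ((∑ p, ∑ q, (f.1 (lane p q) / 2) • sv p q : V) : Lane U → ℚ) =
        ∑ p, ∑ q, (f.1 (lane p q) / 2) • (uv p q + uv q p) := by
      rw [AddSubmonoidClass.coe_finsetSum]
      refine Finset.sum_congr rfl fun p _ => ?_
      rw [AddSubmonoidClass.coe_finsetSum]
      rfl
    rw [hc]
    have h1 : ∑ p, ∑ q, (f.1 (lane p q) / 2) • (uv p q + uv q p) = ∑ p, ∑ q, f.1 (lane p q) • uv p q := by
      simp only [smul_add, Finset.sum_add_distrib]
      have h2 : ∑ p, ∑ q, (f.1 (lane p q) / 2) • uv q p = ∑ p, ∑ q, (f.1 (lane p q) / 2) • uv p q := by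
        rw [Finset.sum_comm]
        refine Finset.sum_congr rfl fun q _ => Finset.sum_congr rfl fun p _ => ?_
        have h3 := mem_Vs_iff.1 f.2 (lane p q)
        rw [trL_lane] at h3
        rw [h3]
      rw [h2, ← Finset.sum_add_distrib]
      refine Finset.sum_congr rfl fun p _ => ?_
      rw [← Finset.sum_add_distrib]
      refine Finset.sum_congr rfl fun q _ => ?_
      rw [← add_smul]; congr 1; ring
    rw [h1]
    funext i
    rw [Finset.sum_apply]
    by_cases hi : matM.testBit i.1 = true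
    · obtain ⟨p, q, rfl⟩ := exists_lane hi
      rw [Finset.sum_eq_single p]
      · rw [Finset.sum_apply, Finset.sum_eq_single q]
        · rw [Pi.smul_apply, uv_apply, if_pos rfl, smul_eq_mul, mul_one]
        · intro q' _ hq'
          rw [Pi.smul_apply, uv_apply, if_neg (fun h => hq' (lane_inj h).2.symm), smul_zero]
        · intro h; exact absurd (Finset.mem_univ _) h
      · intro p' _ hp'
        rw [Finset.sum_apply]
        refine Finset.sum_eq_zero fun q' _ => ?_
        rw [Pi.smul_apply, uv_apply, if_neg (fun h => hp' (lane_inj h).1.symm), smul_zero]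
      · intro h; exact absurd (Finset.mem_univ _) h
    · rw [hf i hi]
      symm
      refine Finset.sum_eq_zero fun p _ => ?_
      rw [Finset.sum_apply]
      refine Finset.sum_eq_zero fun q _ => ?_
      rw [Pi.smul_apply, uv_apply, if_neg (fun e => hi (by rw [e]; exact (ln_U p q).2)), smul_zero]
  rw [h]
  exact Submodule.sum_mem _ fun p _ => Submodule.sum_mem _ fun q _ => Submodule.smul_mem _ _ (sv_mem p q)

end Cfsg.Agent.MonsterX.UOnto
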