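import Cfsg.Agent.MonsterX.ThreeCCent
import Cfsg.Agent.MonsterX.KDone
import Cfsg.Agent.MonsterX.UOnto
import Cfsg.Agent.MonsterX.ConcGrp
import Cfsg.Agent.MonsterX.ProgM.Thx

/-!
# The centraliser in `C` of the permutation element `x` of order three of the Monster model
-/

set_option autoImplicit false

namespace Cfsg.Agent.MonsterX.ThreeCInst

open Cfsg Cfsg.Agent.Monster.VecEngine Cfsg.Agent.Monster Cfsg.Agent.Monster.VecSpace
open Cfsg.Agent.MonsterX.ProgBase Cfsg.Agent.MonsterX.Space
open Cfsg.Agent.MonsterX.CoGens Cfsg.Agent.MonsterX.USide Cfsg.Agent.MonsterX.FrameStab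
open Cfsg.Agent.MonsterX.UOnto Cfsg.Agent.MonsterX.CoThreeDPerm Cfsg.Agent.SporadicA
open Cfsg.Agent.SporadicA.M24Gens (pidx pidx_injective tabS tabC tabI itabS itabC shift_table
  cubeTwist_table projInv_table symm_table)

theorem isPerm_one : IsPerm 1 1 := fun v p => by
  rw [one_smul]
  rfl

theorem isPerm_mul {A B : Co0} {σ τ : Equiv.Perm GolayPt} (hA : IsPerm A σ) (hB : IsPerm B τ) :
    IsPerm (A * B) (σ * τ) := fun v p => by
  rw [mul_smul, hA (B • v) p, hB v]
  rfl

theorem isPerm_inv {A : Co0} {σ : Equiv.Perm GolayPt} (hA : IsPerm A σ) : IsPerm A⁻¹ σ⁻¹ :=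
  fun v p => by
  have h := hA (A⁻¹ • v) (σ p)
  rw [smul_inv_smul, Equiv.symm_apply_apply] at h
  exact h.symm

/-- The permutations of the letters. -/
noncomputable def lp (n : ℕ) : Equiv.Perm GolayPt :=
  if n = 36 then Equiv.optionCongr (Equiv.addRight (1 : ZMod 23)) else if n = 37 then cubeTwist else
  if n = 38 then projInv else if n = 42 then (Equiv.optionCongr (Equiv.addRight (1 : ZMod 23)))⁻¹ else
  if n = 43 then cubeTwist⁻¹ else 1

/-- The permutation of a word. -/
noncomputable def wp : List ℕ → Equiv.Perm GolayPt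
  | [] => 1
  | n :: w => wp w * lp n

theorem ind_letter {n : ℕ} (h : n < 24 ∨ n = 36 ∨ n = 37 ∨ n = 38 ∨ n = 42 ∨ n = 43) :
    ∃ r : Co0, IsPerm r (lp n) ∧ Ind (Conc.E n) r := by
  rcases h with h | rfl | rfl | rfl | rfl | rfl
  · refine ⟨1, ?_, ?_⟩
    · rw [show lp n = 1 from by
        unfold lp
        rw [if_neg (by omega), if_neg (by omega), if_neg (by omega), if_neg (by omega),
          if_neg (by omega)]]
      exact isPerm_one
    · have h1 := ind_E (n := n) (by omega)
      rwa [A_lt h] at h1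
  · exact ⟨pS, isPerm_pS, ind_E (n := 36) (by norm_num)⟩
  · exact ⟨pC, isPerm_pC, ind_E (n := 37) (by norm_num)⟩
  · exact ⟨pI, isPerm_pI, ind_E (n := 38) (by norm_num)⟩
  · refine ⟨pS⁻¹, isPerm_inv isPerm_pS, ?_⟩
    rw [show Conc.E 42 = (Conc.E 36)⁻¹ from ConcGrp.E_iv (n := 36) (by norm_num)]
    exact (ind_E (n := 36) (by norm_num)).inv
  · refine ⟨pC⁻¹, isPerm_inv isPerm_pC, ?_⟩
    rw [show Conc.E 43 = (Conc.E 37)⁻¹ from ConcGrp.E_iv (n := 37) (by norm_num)]
    exact (ind_E (n := 37) (by norm_num)).inv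

theorem ind_word (w : List ℕ) (h : ∀ n ∈ w, n < 24 ∨ n = 36 ∨ n = 37 ∨ n = 38 ∨ n = 42 ∨ n = 43) :
    ∃ r : Co0, IsPerm r (wp w) ∧ Ind (Conc.W w) r := by
  induction w with
  | nil => exact ⟨1, isPerm_one, by rw [Conc.W_nil]; exact Ind.one⟩
  | cons n w ih =>
    obtain ⟨r, h1, h2⟩ := ih fun m hm => h m (List.mem_cons_of_mem _ hm)
    obtain ⟨s, h3, h4⟩ := ind_letter (h n List.mem_cons_self)
    exact ⟨r * s, isPerm_mul h1 h3, by rw [Conc.W_cons]; exact h2.mul h4⟩

/-- The image tables of the letters. -/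
def tb (n : ℕ) : List ℕ :=
  if n = 36 then tabS else if n = 37 then tabC else if n = 38 then tabI else if n = 42 then itabS else
  if n = 43 then itabC else List.range 24

/-- The image of the point number `i` under a word. -/
def run : List ℕ → ℕ → ℕ
  | [], i => i
  | n :: w, i => run w ((tb n).getD i 0)

theorem lp_table {n : ℕ} (h : n < 24 ∨ n = 36 ∨ n = 37 ∨ n = 38 ∨ n = 42 ∨ n = 43) (p : GolayPt) :
    pidx (lp n p) = (tb n).getD (pidx p) 0 := by
  rcases h with h | rfl | rfl | rfl | rfl | rfl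
  · have e1 : lp n = 1 := by
      unfold lp
      rw [if_neg (by omega), if_neg (by omega), if_neg (by omega), if_neg (by omega),
        if_neg (by omega)]
    have e2 : tb n = List.range 24 := by
      unfold tb
      rw [if_neg (by omega), if_neg (by omega), if_neg (by omega), if_neg (by omega),
        if_neg (by omega)]
    rw [e1, e2]
    have h1 : ∀ i < 24, (List.range 24).getD i 0 = i := by decide
    exact (h1 _ (CoGens.pidx_lt p)).symm
  · exact shift_table p
  · exact cubeTwist_table p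
  · exact projInv_table p
  · exact symm_table _ tabS itabS shift_table (by decide +kernel) p
  · exact symm_table _ tabC itabC cubeTwist_table (by decide +kernel) p

theorem wp_table (w : List ℕ) (h : ∀ n ∈ w, n < 24 ∨ n = 36 ∨ n = 37 ∨ n = 38 ∨ n = 42 ∨ n = 43)
    (p : GolayPt) : pidx (wp w p) = run w (pidx p) := by
  induction w generalizing p with
  | nil => rfl
  | cons n w ih =>
    show pidx (wp w (lp n p)) = run w ((tb n).getD (pidx p) 0)
    rw [ih (fun m hm => h m (List.mem_cons_of_mem _ hm)), lp_table (h n List.mem_cons_self)]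

theorem pidx_eq (p : GolayPt) : pidx p = GolayBase.idx p := by
  cases p <;> rfl

theorem wp_eq : wp ProgM.Thx.word = pi3 := by
  apply Equiv.ext
  intro p
  apply pidx_injective
  rw [wp_table _ (by decide), pidx_eq (pi3 p), idx_pi3, ← pidx_eq]
  have h : ∀ i < 24, run ProgM.Thx.word i = T.getD i 0 := by decide +kernel
  exact h _ (CoGens.pidx_lt p)

/-- `x` induces the permutation `pi3` on the lattice. -/
theorem exists_ind : ∃ r : Co0, IsPerm r pi3 ∧ Ind (Conc.W ProgM.Thx.word) r := by
  obtain ⟨r, h1, h2⟩ := ind_word ProgM.Thx.word (by decide)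
  rw [wp_eq] at h1
  exact ⟨r, h1, h2⟩

end Cfsg.Agent.MonsterX.ThreeCInst
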