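import Cfsg.Agent.MonsterX.CertVec
import Cfsg.Agent.MonsterX.InstEval

/-!
# The trace on the `98304`-part

`chi g = trace g - trace (g z)`.  For a monomial word `chi` is computed by counting fixed lanes:
`chi (W w) = 2 (A - B)`, `A`, `B` = numbers of the lanes from `2 ^ 17` on fixed with sign `+`, `-`.
-/

set_option autoImplicit false
set_option Elab.async false

namespace Cfsg.Agent.MonsterX.TraceHi

open Cfsg.Agent.Lib.PermNet Cfsg.Agent.Monster.VecEngine Cfsg.Agent.Monster.VecSpace Cfsg.Agent.MonsterX.Space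
open Cfsg.Agent.MonsterX.ProgTable Cfsg.Agent.MonsterX.ProgBase Cfsg.Agent.Monster.PlaneArith
open Cfsg.Agent.MonsterX.Conc Cfsg.Agent.MonsterX.InstEval

/-! ### Monomial words -/

/-- `f ↦ ± f (e i)`. -/
def Mono (A : (Lane U → ℚ) →ₗ[ℚ] (Lane U → ℚ)) (e : Lane U ≃ Lane U) (s : Lane U → Bool) : Prop :=
  ∀ f i, A f i = if s i = true then - f (e i) else f (e i)

theorem mono_semU {P : Prog} (hP : ProgBase.Good P) (hm : CertVec.mono P = true) :
    ∃ e s, Mono (semU ℚ U P) e s := by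
  obtain ⟨e, s, h1, h2⟩ := CertVec.mono_sem P hP.ok hm
  have hU : ∀ i, U.testBit i = U.testBit (e i) := h2 U U hP.pres.fol
  refine ⟨{ toFun := fun i => ⟨e i.1, by rw [← hU]; exact i.2⟩
            invFun := fun j => ⟨e.symm j.1, by rw [hU, Equiv.apply_symm_apply]; exact j.2⟩
            left_inv := fun i => Subtype.ext (e.symm_apply_apply _)
            right_inv := fun i => Subtype.ext (e.apply_symm_apply _) }, fun i => s i.1, fun f i => ?_⟩
  show sem ℚ P (ext ℚ U f) i.1 = _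
  rw [h1, ext_apply_of_true ℚ (by rw [← hU]; exact i.2)]
  rfl

/-- All programs of the word are monomial. -/
noncomputable def monoL (w : List ℕ) : Bool :=
  List.rec (motive := fun _ => Bool) true (fun n _ ih => and (CertVec.mono (prog n)) ih) w

theorem mono_semUL {w : List ℕ} (h : monoL w = true) : ∃ e s, Mono (semUL ℚ U (w.map prog)) e s := by
  induction w with
  | nil => exact ⟨Equiv.refl _, fun _ => false, fun f i => rfl⟩
  | cons n w ih =>
    have h' : and (CertVec.mono (prog n)) (monoL w) = true := h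
    rw [Bool.and_eq_true] at h'
    obtain ⟨e, s, h1⟩ := ih h'.2
    obtain ⟨e', s', h2⟩ := mono_semU (GensT.prog_goodT n).good h'.1
    refine ⟨e.trans e', fun i => xor (s i) (s' (e i)), fun f i => ?_⟩
    show semUL ℚ U (w.map prog) (semU ℚ U (prog n) f) i = _
    rw [h1, h2, Equiv.trans_apply]
    cases hs : s i <;> cases hs' : s' (e i) <;> simp [hs, hs']

/-! ### The index vector -/

/-- Planes with value `⌊i / 2 ^ b⌋ mod 2 ^ m + 2 ^ m` in the lane `i`. -/
noncomputable def idxA (m : ℕ) : ℕ → Pl :=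
  Nat.rec (motive := fun _ => ℕ → Pl) (fun _ => .cons (full 262144) (.sgn 0))
    (fun _ ih b => .cons (plane 18 b) (ih (b + 1))) m

theorem val_idxA (m b : ℕ) (hb : b + m ≤ 18) (i : ℕ) (hi : i < 2 ^ 18) :
    val (idxA m b) i = (((i / 2 ^ b) % 2 ^ m + 2 ^ m : ℕ) : ℤ) := by
  induction m generalizing b with
  | zero =>
    show bt (full 262144) i + 2 * (- bt 0 i) = _
    rw [bt_full _ _ (by simpa using hi)]
    simp [bt, Nat.mod_one]
  | succ m ih =>
    show bt (plane 18 b) i + 2 * val (idxA m (b + 1)) i = _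
    rw [ih (b + 1) (by omega)]
    have h1 : bt (plane 18 b) i = (((i / 2 ^ b) % 2 : ℕ) : ℤ) := by
      unfold bt
      rw [testBit_plane 18 b i hi (by omega), Nat.testBit_eq_decide_div_mod_eq]
      rcases Nat.mod_two_eq_zero_or_one (i / 2 ^ b) with h | h <;> simp [h]
    rw [h1]
    have h2 : (i / 2 ^ b) % 2 ^ (m + 1) = (i / 2 ^ b) % 2 + 2 * ((i / 2 ^ (b + 1)) % 2 ^ m) := by
      rw [pow_succ, mul_comm (2 ^ m) 2, Nat.mod_mul, Nat.div_div_eq_div_mul, ← pow_succ]
    rw [h2, pow_succ]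
    push_cast
    ring

/-- The index vector: `i + 2 ^ 18` in the lane `i`. -/
noncomputable def idx : Pl := idxA 18 0

theorem val_idx (i : ℕ) (hi : i < 2 ^ 18) : val idx i = (i : ℤ) + 262144 := by
  have h := val_idxA 18 0 le_rfl i hi
  rw [pow_zero, Nat.div_one, Nat.mod_eq_of_lt hi] at h
  rw [show idx = idxA 18 0 from rfl, h]
  push_cast
  norm_num

/-- The kernel check of the numbers of fixed lanes with sign `+` and `-`. -/
noncomputable def cntHi (w : List ℕ) (a b : ℕ) : Bool :=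
  runL (w.map prog) idx fun y =>
    and (seqB (Nat.land (Nat.land U ProgZ.hiM) (eqm 262144 y idx)) fun P => cardIs 18 18 a P)
      (seqB (Nat.land (Nat.land U ProgZ.hiM) (eqm 262144 y (neg (full 262144) idx))) fun P => cardIs 18 18 b P)

/-- The lanes from `2 ^ 17` on. -/
abbrev Hi : Type := {i : Lane U // ProgZ.hiM.testBit i.1 = true}

theorem mem_mask (K : ℕ) (i : ℕ) : (Nat.land (Nat.land U ProgZ.hiM) K).testBit i = true ↔
    (U.testBit i = true ∧ ProgZ.hiM.testBit i = true) ∧ K.testBit i = true := by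
  show ((U &&& ProgZ.hiM) &&& K).testBit i = true ↔ _
  rw [Nat.testBit_and, Nat.testBit_and, Bool.and_eq_true, Bool.and_eq_true]

theorem card_hi {p : Hi → Prop} [DecidablePred p] {K c : ℕ} (hc : c < 2 ^ 18)
    (h : cardIs 18 18 c (Nat.land (Nat.land U ProgZ.hiM) K) = true)
    (hp : ∀ i : Hi, p i ↔ K.testBit i.1.1 = true) : (Finset.univ.filter p).card = c := by
  classical
  rw [← cardIs_sound hc h]
  refine Finset.card_bij (fun i _ => i.1.1) (fun i hi => ?_) (fun i _ j _ e => ?_) (fun k hk => ?_)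
  · rw [Finset.mem_filter, Finset.mem_range]
    exact ⟨lt_of_U i.1.2, (mem_mask K _).2 ⟨⟨i.1.2, i.2⟩, (hp i).1 (Finset.mem_filter.1 hi).2⟩⟩
  · exact Subtype.ext (Subtype.ext e)
  · rw [Finset.mem_filter, Finset.mem_range] at hk
    obtain ⟨_, hk⟩ := hk
    obtain ⟨⟨h1, h2⟩, h3⟩ := (mem_mask K _).1 hk
    exact ⟨⟨⟨k, h1⟩, h2⟩, Finset.mem_filter.2 ⟨Finset.mem_univ _, (hp _).2 h3⟩, rfl⟩

theorem cntHi_sound {w : List ℕ} {a b : ℕ} (ha : a < 2 ^ 18) (hb : b < 2 ^ 18) (h : cntHi w a b = true)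
    {e : Lane U ≃ Lane U} {s : Lane U → Bool} (hm : Mono (semUL ℚ U (w.map prog)) e s) :
    ∑ i : Hi, (if e i.1 = i.1 then (if s i.1 = true then (-1 : ℚ) else 1) else 0) = (a : ℚ) - b := by
  classical
  obtain ⟨y, hy, hk⟩ := runL_sound ℚ (m := 262144) two_ne_zero _ (fun P hP => (progs_goodT w P hP).good.ok) _ _ h
  rw [Bool.and_eq_true, seqB_eq, seqB_eq] at hk
  have hv : ∀ i : Lane U, ((val y i.1 : ℤ) : ℚ) =
      if s i = true then - ((val idx (e i).1 : ℤ) : ℚ) else ((val idx (e i).1 : ℤ) : ℚ) := by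
    intro i
    have h1 : vecU ℚ U y = semUL ℚ U (w.map prog) (vecU ℚ U idx) := by
      rw [vecU_eq, hy, res_semL ℚ fun P hP => (progs_goodT w P hP).good.pres]; rfl
    have h2 := congrArg (fun f => f i) h1
    change ((val y i.1 : ℤ) : ℚ) = semUL ℚ U (w.map prog) (vecU ℚ U idx) i at h2
    rw [h2, hm]
    rfl
  have hv' : ∀ i : Lane U, val y i.1 = if s i = true then - (((e i).1 : ℤ) + 262144) else ((e i).1 : ℤ) + 262144 := by
    intro i
    have h1 := hv i
    rw [val_idx _ (lt_of_U (e i).2)] at h1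
    split_ifs at h1 ⊢
    · exact_mod_cast h1
    · exact_mod_cast h1
  have lt : ∀ i : Lane U, i.1 < 262144 := fun i => lt_of_U i.2
  have hidx : ∀ i : Lane U, val idx i.1 = (i.1 : ℤ) + 262144 := fun i => val_idx _ (lt_of_U i.2)
  have hneg : ∀ i : Lane U, val (neg (full 262144) idx) i.1 = -((i.1 : ℤ) + 262144) := by
    intro i
    rw [val_neg, if_pos (show (full 262144).testBit i.1 = true from by
      rw [testBit_full]; exact decide_eq_true (lt i)), hidx]
  have pA : ∀ i : Hi, (e i.1 = i.1 ∧ ¬ s i.1 = true) ↔ (eqm 262144 y idx).testBit i.1.1 = true := by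
    intro i
    rw [testBit_eqm]
    rw [hv', hidx]
    constructor
    · rintro ⟨h1, h2⟩
      refine ⟨lt i.1, ?_⟩
      rw [if_neg h2, h1]
    · rintro ⟨_, h2⟩
      by_cases hs : s i.1 = true
      · rw [if_pos hs] at h2; omega
      · rw [if_neg hs] at h2
        exact ⟨Subtype.ext (by omega), hs⟩
  have pB : ∀ i : Hi, (e i.1 = i.1 ∧ s i.1 = true) ↔
      (eqm 262144 y (neg (full 262144) idx)).testBit i.1.1 = true := by
    intro i
    rw [testBit_eqm]
    rw [hv', hneg]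
    constructor
    · rintro ⟨h1, h2⟩
      refine ⟨lt i.1, ?_⟩
      rw [if_pos h2, h1]
    · rintro ⟨_, h2⟩
      by_cases hs : s i.1 = true
      · rw [if_pos hs] at h2
        exact ⟨Subtype.ext (by omega), hs⟩
      · rw [if_neg hs] at h2; omega
  have cA := card_hi ha hk.1 pA
  have cB := card_hi hb hk.2 pB
  have h3 : ∀ i : Hi, (if e i.1 = i.1 then (if s i.1 = true then (-1 : ℚ) else 1) else 0) =
      (if (e i.1 = i.1 ∧ ¬ s i.1 = true) then (1 : ℚ) else 0) - (if (e i.1 = i.1 ∧ s i.1 = true) then (1 : ℚ) else 0) := by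
    intro i
    by_cases h1 : e i.1 = i.1 <;> by_cases h2 : s i.1 = true <;> simp [h1, h2]
  rw [Finset.sum_congr rfl fun i _ => h3 i, Finset.sum_sub_distrib, Finset.sum_boole, Finset.sum_boole, cA, cB]

/-! ### The trace -/

theorem hi_blk : Nat.land ProgZ.hiM blkM = 0 := Nat.eq_of_beq_eq_true (by decide +kernel)

theorem tr_hi {i : ℕ} (h : ProgZ.hiM.testBit i = true) : tr i = i := by
  apply tr_eq_of_blkM
  have h1 := congrArg (fun x => Nat.testBit x i) hi_blk
  change (ProgZ.hiM &&& blkM).testBit i = (0 : ℕ).testBit i at h1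
  rw [Nat.testBit_and, h, Bool.true_and, Nat.zero_testBit] at h1
  exact h1

theorem hi_tr (i : ℕ) : ProgZ.hiM.testBit (tr i) = true ↔ ProgZ.hiM.testBit i = true := by
  constructor
  · intro h
    have h1 := tr_hi h
    rw [tr_tr] at h1
    rwa [← h1] at h
  · intro h; rwa [tr_hi h]

/-- Extension by zero from the lanes from `2 ^ 17` on. -/
noncomputable def inc : (Hi → ℚ) →ₗ[ℚ] V where
  toFun f := ⟨fun i => if h : ProgZ.hiM.testBit i.1 = true then f ⟨i, h⟩ else 0, by
    rw [mem_Vs_iff]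
    intro i
    by_cases h : ProgZ.hiM.testBit i.1 = true
    · have e : trL i = i := Subtype.ext (tr_hi h)
      rw [e]
    · rw [dif_neg h, dif_neg (show ¬ ProgZ.hiM.testBit (trL i).1 = true from fun h' => h ((hi_tr i.1).1 h'))]⟩
  map_add' f g := by
    apply Subtype.ext
    funext i
    show (if h : ProgZ.hiM.testBit i.1 = true then (f + g) ⟨i, h⟩ else 0) =
      (if h : ProgZ.hiM.testBit i.1 = true then f ⟨i, h⟩ else 0) +
        (if h : ProgZ.hiM.testBit i.1 = true then g ⟨i, h⟩ else 0)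
    split_ifs <;> simp
  map_smul' c f := by
    apply Subtype.ext
    funext i
    show (if h : ProgZ.hiM.testBit i.1 = true then (c • f) ⟨i, h⟩ else 0) =
      c * (if h : ProgZ.hiM.testBit i.1 = true then f ⟨i, h⟩ else 0)
    split_ifs <;> simp

/-- Restriction to the lanes from `2 ^ 17` on. -/
noncomputable def rst : V →ₗ[ℚ] (Hi → ℚ) where
  toFun v i := v.1 i.1
  map_add' _ _ := rfl
  map_smul' _ _ := rfl

theorem inc_rst (v : V) : inc (rst v) + inc (rst v) = v - z v := by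
  apply Subtype.ext
  funext i
  show (if h : ProgZ.hiM.testBit i.1 = true then v.1 i else 0) + (if h : ProgZ.hiM.testBit i.1 = true then v.1 i else 0) =
    v.1 i - (z v : Lane U → ℚ) i
  rw [z_apply]
  split_ifs <;> ring

/-- `chi g = trace g - trace (g z)`. -/
noncomputable def chi (g : V ≃ₗ[ℚ] V) : ℚ :=
  LinearMap.trace ℚ V (g : V →ₗ[ℚ] V) - LinearMap.trace ℚ V ((g * z : V ≃ₗ[ℚ] V) : V →ₗ[ℚ] V)

instance : Module.Finite ℚ V := Module.finite_of_finrank_pos (by rw [finrank_eq]; norm_num)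

theorem chi_eq (g : V ≃ₗ[ℚ] V) :
    chi g = 2 * LinearMap.trace ℚ (Hi → ℚ) (rst ∘ₗ ((g : V →ₗ[ℚ] V) ∘ₗ inc)) := by
  have h : (g : V →ₗ[ℚ] V) - ((g * z : V ≃ₗ[ℚ] V) : V →ₗ[ℚ] V) = (2 : ℚ) • (((g : V →ₗ[ℚ] V) ∘ₗ inc) ∘ₗ rst) := by
    apply LinearMap.ext
    intro v
    show g v - g (z v) = (2 : ℚ) • g (inc (rst v))
    rw [← map_sub, ← inc_rst, map_add, two_smul]
  unfold chi
  rw [← map_sub, h, map_smul, smul_eq_mul, LinearMap.trace_comp_comm']

theorem chi_mono {w : List ℕ} {e : Lane U ≃ Lane U} {s : Lane U → Bool}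
    (hm : Mono (semUL ℚ U (w.map prog)) e s) :
    chi (W w) = 2 * ∑ i : Hi, (if e i.1 = i.1 then (if s i.1 = true then (-1 : ℚ) else 1) else 0) := by
  classical
  rw [chi_eq, LinearMap.trace_eq_matrix_trace ℚ (Pi.basisFun ℚ Hi)]
  congr 1
  unfold Matrix.trace
  refine Finset.sum_congr rfl fun i _ => ?_
  rw [Matrix.diag_apply, LinearMap.toMatrix_apply, Pi.basisFun_repr, Pi.basisFun_apply]
  show (W w (inc (Pi.single i 1)) : Lane U → ℚ) i.1 = _
  rw [W_coe, hm]
  have h1 : (inc (Pi.single i (1 : ℚ)) : Lane U → ℚ) (e i.1) = if e i.1 = i.1 then 1 else 0 := by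
    show (if h : ProgZ.hiM.testBit (e i.1).1 = true then (Pi.single i (1 : ℚ) : Hi → ℚ) ⟨e i.1, h⟩ else 0) = _
    by_cases h2 : e i.1 = i.1
    · rw [if_pos h2, dif_pos (by rw [h2]; exact i.2)]
      have h3 : (⟨e i.1, by rw [h2]; exact i.2⟩ : Hi) = i := Subtype.ext h2
      rw [h3, Pi.single_eq_same]
    · rw [if_neg h2]
      split_ifs with h
      · rw [Pi.single_eq_of_ne]
        intro h4
        exact h2 (congrArg Subtype.val h4)
      · rfl
  rw [h1]
  split_ifs <;> simp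

/-- THE VALUE OF `chi` FOR A MONOMIAL WORD. -/
theorem chi_W {w : List ℕ} {a b : ℕ} (ha : a < 2 ^ 18) (hb : b < 2 ^ 18) (hm : monoL w = true)
    (h : cntHi w a b = true) : chi (W w) = 2 * ((a : ℚ) - b) := by
  obtain ⟨e, s, hs⟩ := mono_semUL hm
  rw [chi_mono hs, cntHi_sound ha hb h hs]

/-- `chi` is a class function for the elements commuting with `z`. -/
theorem chi_conj {g h : V ≃ₗ[ℚ] V} (hz : h * z = z * h) : chi (h * g * h⁻¹) = chi g := by
  have conj : ∀ k : V ≃ₗ[ℚ] V, LinearMap.trace ℚ V ((h * k * h⁻¹ : V ≃ₗ[ℚ] V) : V →ₗ[ℚ] V) =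
      LinearMap.trace ℚ V (k : V →ₗ[ℚ] V) := fun k => LinearMap.trace_conj' (k : V →ₗ[ℚ] V) h
  have e : h * g * h⁻¹ * z = h * (g * z) * h⁻¹ := by
    have h1 : h⁻¹ * z = z * h⁻¹ := by
      rw [eq_mul_inv_iff_mul_eq, mul_assoc, ← hz, inv_mul_cancel_left]
    rw [mul_assoc, h1]
    group
  unfold chi
  rw [e, conj, conj]

/-- multiplication by `z` changes the sign of `chi` -/
theorem chi_z {g : V ≃ₗ[ℚ] V} (hz : g * z = z * g) (h2 : z * z = 1) : chi (z * g) = - chi g := by
  unfold chi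
  rw [← hz, mul_assoc g z z, h2, mul_one]
  ring

end Cfsg.Agent.MonsterX.TraceHi
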