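/-
The base theorem for the 196884-dimensional model: an element of `G` fixing `a₀`, `a₁` and an explicit vector
`∑ c i • e i + s` (or fixing the single vector `c₀ a₀ + c₁ a₁ + ∑ c i • e i + s`) is trivial.
-/
import Cfsg.Agent.MonsterX.MainBasic

set_option autoImplicit false

namespace Cfsg.Agent.MonsterX.WordsBaseM

open Cfsg.Agent.MonsterX.Model Cfsg.Agent.MonsterX.MainBasic

variable {W : Type} [AddCommGroup W] [Module ℚ W] {M : MData W} {K₀ : Type} [Group K₀]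

/-- conjugation by an element of `C` with inverse on the left preserves `Q` -/
theorem Q_normal' (H : MGroup M K₀) (g : W ≃ₗ[ℚ] W) (hg : g ∈ M.C) (q : W ≃ₗ[ℚ] W) (hq : q ∈ M.Q) :
    g⁻¹ * q * g ∈ M.Q := by
  have := Q_normal H g⁻¹ (M.C.inv_mem hg) q hq
  rwa [inv_inv] at this

/-- `Q/⟨z⟩` is not trivial -/
theorem not_all (H : MGroup M K₀) (hall : ∀ y ∈ M.Q, y = 1 ∨ y = M.z) : False := by
  have hle : Nat.card M.Q ≤ 2 := by
    classical
    have : Function.Injective (fun y : M.Q => decide (y = 1) ) := by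
      intro a b hab
      have ha := hall a a.2
      have hb := hall b b.2
      simp only [decide_eq_decide] at hab
      by_cases h1 : a = 1
      · rw [h1, hab.1 h1]
      · have h2 : b ≠ 1 := fun h => h1 (hab.2 h)
        have ha' : (a : W ≃ₗ[ℚ] W) = M.z := ha.resolve_left (fun h => h1 (Subtype.ext h))
        have hb' : (b : W ≃ₗ[ℚ] W) = M.z := hb.resolve_left (fun h => h2 (Subtype.ext h))
        exact Subtype.ext (ha'.trans hb'.symm)
    calc Nat.card M.Q ≤ Nat.card Bool := Nat.card_le_card_of_injective _ this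
      _ = 2 := by simp
  rw [H.Q_card] at hle
  norm_num at hle

/-- An element of `C` acting trivially on `Q / ⟨z⟩` is in `Q`. -/
theorem mem_Q_of_trivial (H : MGroup M K₀) (k : W ≃ₗ[ℚ] W) (hk : k ∈ M.C)
    (h : ∀ q ∈ M.Q, k * q * k⁻¹ = q ∨ k * q * k⁻¹ = q * M.z) : k ∈ M.Q := by
  have hz := H.z_comm
  obtain ⟨π, hs, hπ⟩ := H.quot
  -- the elements of `C` acting trivially on `Q/⟨z⟩`
  let N : Subgroup M.C :=
    { carrier := {g | ∀ q ∈ M.Q, (g : W ≃ₗ[ℚ] W) * q * (g : W ≃ₗ[ℚ] W)⁻¹ = q ∨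
        (g : W ≃ₗ[ℚ] W) * q * (g : W ≃ₗ[ℚ] W)⁻¹ = q * M.z}
      one_mem' := fun q _ => Or.inl (by simp)
      mul_mem' := by
        rintro ⟨a, ha⟩ ⟨b, hb⟩ ha' hb' q hq
        have e : a * b * q * (a * b)⁻¹ = a * (b * q * b⁻¹) * a⁻¹ := by group
        show a * b * q * (a * b)⁻¹ = q ∨ a * b * q * (a * b)⁻¹ = q * M.z
        rw [e]
        rcases hb' q hq with h1 | h1
        · rw [show b * q * b⁻¹ = q from h1]; exact ha' q hq
        · rw [show b * q * b⁻¹ = q * M.z from h1]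
          have e2 : a * (q * M.z) * a⁻¹ = (a * q * a⁻¹) * (a * M.z * a⁻¹) := by group
          have e3 : a * M.z * a⁻¹ = M.z := by rw [hz a ha, mul_assoc, mul_inv_cancel, mul_one]
          rw [e2, e3]
          rcases ha' q hq with h2 | h2
          · right; rw [show a * q * a⁻¹ = q from h2]
          · left; rw [show a * q * a⁻¹ = q * M.z from h2, mul_assoc, H.z_sq, mul_one]
      inv_mem' := by
        rintro ⟨a, ha⟩ ha' q hq
        have hq' := Q_normal' H a ha q hq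
        show a⁻¹ * q * a⁻¹⁻¹ = q ∨ a⁻¹ * q * a⁻¹⁻¹ = q * M.z
        rw [inv_inv]
        have ha'' : a * (a⁻¹ * q * a) * a⁻¹ = a⁻¹ * q * a ∨ a * (a⁻¹ * q * a) * a⁻¹ = a⁻¹ * q * a * M.z :=
          ha' _ hq'
        have : a * (a⁻¹ * q * a) * a⁻¹ = q := by group
        rw [this] at ha''
        rcases ha'' with h2 | h2
        · left; exact h2.symm
        · right
          generalize a⁻¹ * q * a = y at h2
          rw [h2, mul_assoc, H.z_sq, mul_one] }
  have hN : N.Normal := by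
    refine ⟨?_⟩
    rintro ⟨n, hn⟩ hn' ⟨g, hg⟩ q hq
    have hq' := Q_normal' H g hg q hq
    have e : g * n * g⁻¹ * q * (g * n * g⁻¹)⁻¹ = g * (n * (g⁻¹ * q * g) * n⁻¹) * g⁻¹ := by group
    show g * n * g⁻¹ * q * (g * n * g⁻¹)⁻¹ = q ∨ g * n * g⁻¹ * q * (g * n * g⁻¹)⁻¹ = q * M.z
    rw [e]
    have hn'' : n * (g⁻¹ * q * g) * n⁻¹ = g⁻¹ * q * g ∨ n * (g⁻¹ * q * g) * n⁻¹ = g⁻¹ * q * g * M.z :=
      hn' _ hq'
    rcases hn'' with h2 | h2
    · left; rw [h2]; group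
    · right
      rw [h2]
      have e3 : g * (g⁻¹ * q * g * M.z) * g⁻¹ = q * (g * M.z * g⁻¹) := by group
      rw [e3, hz g hg, mul_assoc M.z, mul_inv_cancel, mul_one]
  have hsimple := H.simple
  have hmap : (N.map π).Normal := hN.map π hs
  rcases hmap.eq_bot_or_eq_top with h1 | h1
  · have h2 : π ⟨k, hk⟩ ∈ N.map π := ⟨⟨k, hk⟩, h, rfl⟩
    rw [h1, Subgroup.mem_bot] at h2
    exact (hπ _).1 h2
  · exfalso
    -- every element of `C` acts trivially on `Q/⟨z⟩`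
    have hall : ∀ g ∈ M.C, ∀ q ∈ M.Q, g * q * g⁻¹ = q ∨ g * q * g⁻¹ = q * M.z := by
      intro g hg q hq
      have h2 : π ⟨g, hg⟩ ∈ N.map π := by rw [h1]; trivial
      obtain ⟨⟨n, hn⟩, hnN, hne⟩ := h2
      have h3 : π ((⟨n, hn⟩ : M.C)⁻¹ * ⟨g, hg⟩) = 1 := by rw [map_mul, map_inv, hne, inv_mul_cancel]
      have h4 : n⁻¹ * g ∈ M.Q := (hπ _).1 h3
      obtain ⟨y, hy, hdef⟩ : ∃ y, y ∈ M.Q ∧ y = n⁻¹ * g := ⟨_, h4, rfl⟩
      have hg' : g = n * y := by rw [hdef]; group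
      have h5 : y * q * y⁻¹ = q ∨ y * q * y⁻¹ = q * M.z := by
        rcases H.Q_comm y hy q hq with h6 | h6
        · left; rw [h6]; group
        · right
          rw [h6, mul_assoc, mul_assoc, ← hz y⁻¹ (M.C.inv_mem (H.Q_le hy))]
          group
      have e : g * q * g⁻¹ = n * (y * q * y⁻¹) * n⁻¹ := by rw [hg']; group
      have hnN' : n * q * n⁻¹ = q ∨ n * q * n⁻¹ = q * M.z := hnN q hq
      rw [e]
      rcases h5 with h5 | h5
      · rw [h5]; exact hnN'
      · rw [h5]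
        have e2 : n * (q * M.z) * n⁻¹ = (n * q * n⁻¹) * (n * M.z * n⁻¹) := by group
        have e3 : n * M.z * n⁻¹ = M.z := by rw [hz n hn, mul_assoc, mul_inv_cancel, mul_one]
        rw [e2, e3]
        rcases hnN' with h2 | h2
        · right; rw [h2]
        · left; rw [h2, mul_assoc, H.z_sq, mul_one]
    -- so the subgroup generated by `q` and `z` is normal
    refine not_all H fun y hy => ?_
    by_contra hne
    push Not at hne
    have hne' : ∃ x ∈ M.Q, x * y ≠ y * x := by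
      by_contra hno
      push Not at hno
      rcases H.Q_center y hy (fun x hx => (hno x hx).symm) with h | h
      · exact hne.1 h
      · exact hne.2 h
    obtain ⟨x, hx, hxy⟩ := hne'
    have hyC := H.Q_le hy
    -- the centraliser of `y` in `Q` is normal in `C`
    let D : Subgroup (W ≃ₗ[ℚ] W) := M.Q ⊓ Subgroup.centralizer {y}
    have hD : ∀ g ∈ M.C, ∀ n ∈ D, g * n * g⁻¹ ∈ D := by
      rintro g hg n ⟨hn, hn'⟩
      refine ⟨Q_normal H g hg n hn, ?_⟩
      have hn'' : n * y = y * n := Subgroup.mem_centralizer_singleton_iff.1 hn'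
      refine Subgroup.mem_centralizer_singleton_iff.2 ?_
      rcases hall g hg n hn with h | h
      · rw [h]; exact hn''
      · rw [h, mul_assoc, ← hz y hyC, ← mul_assoc, hn'', mul_assoc]
    rcases H.Q_irred D inf_le_left hD with h | h
    · -- then `y ∈ D`
      have hyD : y ∈ D := ⟨hy, Subgroup.mem_centralizer_singleton_iff.2 rfl⟩
      rcases h y hyD with h | h
      · exact hne.1 h
      · exact hne.2 h
    · have hxD : x ∈ D := by rw [h]; exact hx
      exact hxy (Subgroup.mem_centralizer_singleton_iff.1 hxD.2)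

/-! ### The lines -/

section lines

variable (hR : MRep M) (hL : MLat M)
include hR hL

omit hL in
theorem F_u₀_e (g : W ≃ₗ[ℚ] W) (hg : g ∈ M.C) (h : W ≃ₗ[ℚ] W) (hh : h ∈ M.C) :
    M.F (g M.u₀) (h M.e₀) = 0 := by
  have h1 := hR.σ_isom (g M.u₀) (h M.e₀)
  rw [hR.σ_comm g hg, hR.σ_comm h hh, hR.σ_u₀, hR.σ_e₀, map_neg, map_neg] at h1
  linarith

theorem F_e₀_e₀ : M.F M.e₀ M.e₀ = 4 := by
  have h1 := hL.F_a₀
  have h2 := hL.F_a₁
  have h3 := F_u₀_e hR 1 M.C.one_mem 1 M.C.one_mem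
  rw [LinearEquiv.coe_one, id, id] at h3
  have h4 : M.F M.e₀ M.u₀ = 0 := by rw [hR.F_symm]; exact h3
  unfold MData.a₀ at h1 h2
  unfold MData.a₁ at h2
  rw [LinearMap.BilinForm.add_left, map_add, map_add, h3, h4] at h1
  rw [LinearMap.BilinForm.add_left, map_sub, map_sub, h3, h4] at h2
  linarith

theorem e₀_ne : M.e₀ ≠ 0 := by
  intro h
  have h1 := F_e₀_e₀ hR hL
  rw [h, map_zero] at h1
  norm_num at h1

theorem F_e_e (g : W ≃ₗ[ℚ] W) (hg : g ∈ M.C) : M.F (g M.e₀) (g M.e₀) = 4 := by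
  rw [hR.C_isom g hg, F_e₀_e₀ hR hL]

/-- `g e₀` is `± e₀` or orthogonal to `e₀` -/
theorem e_cases (g : W ≃ₗ[ℚ] W) (hg : g ∈ M.C) :
    (g M.a₀ = M.a₀ ∧ g M.e₀ = M.e₀) ∨ (g M.a₀ = M.a₁ ∧ g M.e₀ = - M.e₀) ∨ M.F (g M.e₀) M.e₀ = 0 := by
  have two : ∀ x y : W, (2 : ℚ) • x = (2 : ℚ) • y → x = y := fun x y h =>
    smul_right_injective W (two_ne_zero (α := ℚ)) h
  have e1 : ∀ g ∈ M.C, (2 : ℚ) • g M.e₀ = g M.a₀ - g M.a₁ := by
    intro g hg
    unfold MData.a₀ MData.a₁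
    rw [map_add, map_sub, two_smul]
    abel
  have e2 : g M.a₁ = M.σ (g M.a₀) := by rw [hR.σ_comm g hg, σ_a₀ hR]
  by_cases h1 : g M.a₀ = M.a₀
  · left
    refine ⟨h1, two _ _ ?_⟩
    rw [e1 g hg, e2, h1, σ_a₀ hR]
    have := e1 1 M.C.one_mem
    rw [LinearEquiv.coe_one, id, id, id] at this
    exact this.symm
  · by_cases h2 : g M.a₀ = M.a₁
    · right; left
      refine ⟨h2, two _ _ ?_⟩
      rw [e1 g hg, e2, h2, σ_a₁ hR, smul_neg]
      have := e1 1 M.C.one_mem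
      rw [LinearEquiv.coe_one, id, id, id] at this
      rw [this]
      abel
    · right; right
      have hS : g M.a₀ ∈ M.S := ⟨g, hg, rfl⟩
      have h3 := hL.F_partner _ hS h1 h2
      unfold MData.a₁ at h3
      unfold MData.a₀ at h3
      simp only [map_add, map_sub, LinearMap.add_apply] at h3
      have h4 := F_u₀_e hR g hg 1 M.C.one_mem
      rw [LinearEquiv.coe_one, id] at h4
      rw [h4] at h3
      linarith

/-- lines are equal up to sign or orthogonal -/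
theorem F_e_eq (g : W ≃ₗ[ℚ] W) (hg : g ∈ M.C) (h : W ≃ₗ[ℚ] W) (hh : h ∈ M.C) (h1 : g M.e₀ ≠ h M.e₀)
    (h2 : g M.e₀ ≠ - h M.e₀) : M.F (g M.e₀) (h M.e₀) = 0 := by
  have hgh : h⁻¹ * g ∈ M.C := M.C.mul_mem (M.C.inv_mem hh) hg
  have h3 := hR.C_isom h⁻¹ (M.C.inv_mem hh) (g M.e₀) (h M.e₀)
  rw [inv_apply'] at h3
  rw [← h3]
  rcases e_cases hR hL (h⁻¹ * g) hgh with h4 | h4 | h4
  · exfalso
    apply h1
    have := congrArg h h4.2
    rwa [LinearEquiv.mul_apply, apply_inv'] at this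
  · exfalso
    apply h2
    have := congrArg h h4.2
    rwa [LinearEquiv.mul_apply, apply_inv', map_neg] at this
  · exact h4

/-- an element of `C` fixing `e₀` commutes with `t₀` -/
theorem comm_of_fix (g : W ≃ₗ[ℚ] W) (hg : g ∈ M.C) (h : g M.e₀ = M.e₀) : g * M.t₀ = M.t₀ * g := by
  have hne := e₀_ne hR hL
  rcases e_cases hR hL g hg with h4 | h4 | h4
  · exact hR.t₀_comm g hg h4.1
  · exfalso
    rw [h] at h4
    have h5 : (2 : ℚ) • M.e₀ = 0 := by
      rw [two_smul]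
      nth_rewrite 1 [h4.2]
      exact neg_add_cancel _
    exact hne ((smul_eq_zero.1 h5).resolve_left (by norm_num))
  · exfalso
    rw [h, F_e₀_e₀ hR hL] at h4
    norm_num at h4

end lines

/-! ### The base -/

/-- The data of a base. -/
structure Base (W : Type) [AddCommGroup W] [Module ℚ W] (n : ℕ) where
  /-- lines -/
  e : Fin n → W
  /-- the corresponding elements of `Q` -/
  t : Fin n → (W ≃ₗ[ℚ] W)
  /-- coefficients -/
  c : Fin n → ℚ
  /-- vector of the `98304`-part -/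
  s : W

namespace Base

variable {n : ℕ} (B : Base W n)

/-- The vector of the base. -/
def u : W := ∑ i, B.c i • B.e i + B.s

/-- The conditions on a base. -/
structure Ok (M : MData W) : Prop where
  mem : ∀ i, ∃ g ∈ M.C, B.e i = g M.e₀ ∧ B.t i = g * M.t₀ * g⁻¹
  c_pos : ∀ i, 0 < B.c i
  c_inj : Function.Injective B.c
  ne : ∀ i j, i ≠ j → B.e i ≠ B.e j ∧ B.e i ≠ - B.e j
  gen : M.Q ≤ Subgroup.closure (Set.range B.t ∪ {M.z})
  s_neg : M.z B.s = - B.s
  s_ne : B.s ≠ 0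

variable (hG : MGroup M K₀) (hR : MRep M) (hL : MLat M) (O : B.Ok M)
include hR hL O

omit hR hL in
theorem z_e (hG : MGroup M K₀) (hR : MRep M) (i : Fin n) : M.z (B.e i) = B.e i := by
  obtain ⟨g, hg, h1, -⟩ := O.mem i
  have h2 := congrArg (fun f : W ≃ₗ[ℚ] W => f M.e₀) (hG.z_comm g hg)
  simp only [LinearEquiv.mul_apply] at h2
  rw [h1, ← h2, hR.z_e₀]

theorem F_e (i j : Fin n) (hij : i ≠ j) : M.F (B.e i) (B.e j) = 0 := by
  obtain ⟨g, hg, h1, -⟩ := O.mem i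
  obtain ⟨h, hh, h2, -⟩ := O.mem j
  have h3 := O.ne i j hij
  rw [h1, h2] at h3 ⊢
  exact F_e_eq hR hL g hg h hh h3.1 h3.2

theorem F_e_self (i : Fin n) : M.F (B.e i) (B.e i) = 4 := by
  obtain ⟨g, hg, h1, -⟩ := O.mem i
  rw [h1, F_e_e hR hL g hg]

theorem F_y_e (j : Fin n) : M.F (∑ i, B.c i • B.e i) (B.e j) = 4 * B.c j := by
  rw [map_sum, LinearMap.sum_apply, Finset.sum_eq_single j]
  · rw [map_smul, LinearMap.smul_apply, B.F_e_self hR hL O, smul_eq_mul, mul_comm]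
  · intro i _ hij
    rw [map_smul, LinearMap.smul_apply, B.F_e hR hL O i j hij, smul_zero]
  · intro h; exact absurd (Finset.mem_univ _) h

omit hL in
include hG in
theorem fix_parts (k : W ≃ₗ[ℚ] W) (hC : k ∈ M.C) (h : k B.u = B.u) :
    k (∑ i, B.c i • B.e i) = ∑ i, B.c i • B.e i ∧ k B.s = B.s := by
  unfold u at h
  have hy : M.z (∑ i, B.c i • B.e i) = ∑ i, B.c i • B.e i := by
    rw [map_sum]
    refine Finset.sum_congr rfl fun i _ => ?_
    rw [map_smul, B.z_e O hG hR]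
  generalize (∑ i, B.c i • B.e i) = y at h hy
  have hk := hG.z_comm k hC
  have hky : M.z (k y) = k y := by
    have h2 := congrArg (fun f : W ≃ₗ[ℚ] W => f y) hk
    simp only [LinearEquiv.mul_apply] at h2
    rw [← h2, hy]
  have hks : M.z (k B.s) = - k B.s := by
    have h2 := congrArg (fun f : W ≃ₗ[ℚ] W => f B.s) hk
    simp only [LinearEquiv.mul_apply] at h2
    rw [← h2, O.s_neg, map_neg]
  rw [map_add] at h
  have h3 : k y - y = B.s - k B.s := by
    rw [sub_eq_sub_iff_add_eq_add, h]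
    exact add_comm _ _
  have h4 : M.z (k y - y) = k y - y := by rw [map_sub, hky, hy]
  have h5 : M.z (B.s - k B.s) = - (B.s - k B.s) := by rw [map_sub, O.s_neg, hks]; abel
  have h6 : B.s - k B.s = 0 := by
    rw [h3, h5] at h4
    have h7 : (2 : ℚ) • (B.s - k B.s) = 0 := by
      rw [two_smul]
      nth_rewrite 1 [← h4]
      exact neg_add_cancel _
    exact (smul_eq_zero.1 h7).resolve_left (by norm_num)
  rw [h6] at h3
  exact ⟨sub_eq_zero.1 h3, (sub_eq_zero.1 h6).symm⟩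

include hG in
theorem fix_e (k : W ≃ₗ[ℚ] W) (hC : k ∈ M.C) (h : k B.u = B.u) (j : Fin n) : k (B.e j) = B.e j := by
  have h1 := (B.fix_parts hG hR O k hC h).1
  have h2 := B.F_y_e hR hL O j
  rw [← h1, map_sum, map_sum, LinearMap.sum_apply] at h2
  have h3 : ∃ i, M.F (k (B.c i • B.e i)) (B.e j) ≠ 0 := by
    by_contra hno
    push Not at hno
    rw [Finset.sum_eq_zero (fun i _ => hno i)] at h2
    have := O.c_pos j
    linarith
  obtain ⟨i, hi⟩ := h3
  have h4 : ∀ i, M.F (k (B.c i • B.e i)) (B.e j) ≠ 0 → k (B.e i) = B.e j ∨ k (B.e i) = - B.e j := by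
    intro i hi
    by_contra hno
    push Not at hno
    apply hi
    rw [map_smul, map_smul, LinearMap.smul_apply]
    obtain ⟨g, hg, e1, -⟩ := O.mem i
    obtain ⟨g', hg', e2, -⟩ := O.mem j
    have := F_e_eq hR hL (k * g) (M.C.mul_mem hC hg) g' hg' (by
      rw [LinearEquiv.mul_apply, ← e1, ← e2]; exact hno.1) (by
      rw [LinearEquiv.mul_apply, ← e1, ← e2]; exact hno.2)
    rw [LinearEquiv.mul_apply, ← e1, ← e2] at this
    rw [this, smul_zero]
  have h5 : ∀ i', i' ≠ i → M.F (k (B.c i' • B.e i')) (B.e j) = 0 := by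
    intro i' hne
    by_contra hno
    have h6 := h4 i hi
    have h7 := h4 i' hno
    have h8 := O.ne i' i hne
    rcases h6 with h6 | h6 <;> rcases h7 with h7 | h7
    · exact h8.1 (k.injective (h7.trans h6.symm))
    · exact h8.2 (k.injective (by rw [map_neg, h7, h6]))
    · exact h8.2 (k.injective (by rw [map_neg, h7, h6, neg_neg]))
    · exact h8.1 (k.injective (h7.trans h6.symm))
  rw [Finset.sum_eq_single i (fun i' _ h => h5 i' h) (fun h => absurd (Finset.mem_univ _) h), map_smul, map_smul,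
    LinearMap.smul_apply, smul_eq_mul] at h2
  have hj := B.F_e_self hR hL O j
  rcases h4 i hi with h6 | h6
  · rw [h6, hj] at h2
    have h7 : B.c i = B.c j := by linarith
    have h8 := O.c_inj h7
    rw [h8] at h6
    exact h6
  · exfalso
    rw [h6, LinearMap.BilinForm.neg_left, hj] at h2
    have := O.c_pos i
    have := O.c_pos j
    linarith

include hG in
/-- An element of `C` fixing the vector `u` is trivial. -/
theorem eq_one_of_mem_C (k : W ≃ₗ[ℚ] W) (hC : k ∈ M.C) (hu : k B.u = B.u) : k = 1 := by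
  have hz := hG.z_comm
  have hE := B.fix_e hG hR hL O k hC hu
  have h1 : ∀ i, k * B.t i = B.t i * k := by
    intro i
    obtain ⟨g, hg, e1, e2⟩ := O.mem i
    have hh : g⁻¹ * k * g ∈ M.C := M.C.mul_mem (M.C.mul_mem (M.C.inv_mem hg) hC) hg
    have he : (g⁻¹ * k * g) M.e₀ = M.e₀ := by
      rw [LinearEquiv.mul_apply, LinearEquiv.mul_apply, ← e1, hE i, e1, inv_apply']
    have h2 := comm_of_fix hR hL _ hh he
    rw [e2]
    calc k * (g * M.t₀ * g⁻¹) = g * ((g⁻¹ * k * g) * M.t₀) * g⁻¹ := by group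
      _ = g * (M.t₀ * (g⁻¹ * k * g)) * g⁻¹ := by rw [h2]
      _ = g * M.t₀ * g⁻¹ * k := by group
  have hle : Subgroup.closure (Set.range B.t ∪ {M.z}) ≤ Subgroup.centralizer {k} := by
    rw [Subgroup.closure_le]
    rintro x (⟨i, rfl⟩ | hx)
    · exact Subgroup.mem_centralizer_singleton_iff.2 (h1 i).symm
    · rw [Set.mem_singleton_iff] at hx
      rw [hx]
      exact Subgroup.mem_centralizer_singleton_iff.2 (hz k hC).symm
  have h2 : ∀ y ∈ M.Q, k * y = y * k := fun y hy =>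
    (Subgroup.mem_centralizer_singleton_iff.1 (hle (O.gen hy))).symm
  have hkQ : k ∈ M.Q := mem_Q_of_trivial hG k hC fun q hq => by
    left; rw [h2 q hq, mul_assoc, mul_inv_cancel, mul_one]
  rcases hG.Q_center k hkQ h2 with h4 | h4
  · exact h4
  · exfalso
    have h5 := (B.fix_parts hG hR O k hC hu).2
    rw [h4, O.s_neg] at h5
    have h6 : (2 : ℚ) • B.s = 0 := by
      rw [two_smul]
      nth_rewrite 1 [← h5]
      exact neg_add_cancel _
    exact O.s_ne ((smul_eq_zero.1 h6).resolve_left (by norm_num))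

include hG in
/-- An element of `G` fixing `a₀`, `a₁` and the vector `u` is trivial. -/
theorem eq_one (hO : MOrbit M) (k : W ≃ₗ[ℚ] W) (hk : k ∈ M.G) (h0 : k M.a₀ = M.a₀) (h1 : k M.a₁ = M.a₁)
    (hu : k B.u = B.u) : k = 1 :=
  B.eq_one_of_mem_C hG hR hL O k (pair_stab hG hR hL hO hk h0 h1) hu

/-! ### One vector -/

/-- The vector `c₀ a₀ + c₁ a₁ + u`. -/
def v (M : MData W) (c₀ c₁ : ℚ) : W := c₀ • M.a₀ + c₁ • M.a₁ + B.u

/-- The further conditions for one vector. -/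
structure Ok₁ (M : MData W) (c₀ c₁ : ℚ) : Prop where
  pos : ∀ x, 0 ≤ M.F x x
  val : ∀ j, ∀ b ∈ M.S, b = M.d j ∨ M.F b (M.d j) ≤ 1
  ne₀ : ∀ i, B.e i ≠ M.e₀ ∧ B.e i ≠ - M.e₀
  c₁_pos : 0 < c₁
  c₀_pos : 8 * c₁ < 7 * c₀
  bound₁ : 8 * (4 * ∑ i, B.c i ^ 2 + M.F B.s B.s) < (7 * c₁) ^ 2
  bound₀ : 8 * (4 * ∑ i, B.c i ^ 2 + M.F B.s B.s) < (7 * c₀ - 8 * c₁) ^ 2

theorem F_y_y : M.F (∑ i, B.c i • B.e i) (∑ i, B.c i • B.e i) = 4 * ∑ i, B.c i ^ 2 := by
  conv_lhs => rw [map_sum]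
  rw [Finset.mul_sum]
  refine Finset.sum_congr rfl fun j _ => ?_
  rw [map_smul, B.F_y_e hR hL O j, smul_eq_mul]
  ring

omit hL O in
/-- vectors fixed and negated by `z` are orthogonal -/
theorem orth (hG : MGroup M K₀) (x y : W) (hx : M.z x = x) (hy : M.z y = - y) : M.F x y = 0 := by
  have h := hR.C_isom M.z (hG.Q_le hG.z_mem) x y
  rw [hx, hy, map_neg] at h
  linarith

include hG in
theorem F_u_u : M.F B.u B.u = 4 * ∑ i, B.c i ^ 2 + M.F B.s B.s := by
  have hy : M.z (∑ i, B.c i • B.e i) = ∑ i, B.c i • B.e i := by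
    rw [map_sum]
    refine Finset.sum_congr rfl fun i _ => ?_
    rw [map_smul, B.z_e O hG hR]
  unfold u
  rw [LinearMap.BilinForm.add_left, map_add, map_add, B.F_y_y hR hL O, orth hR hG _ _ hy O.s_neg,
    hR.F_symm B.s, orth hR hG _ _ hy O.s_neg]
  ring

include hG in
/-- the vector `u` is orthogonal to `u₀` and `e₀` -/
theorem F_u_a (h : ∀ i, B.e i ≠ M.e₀ ∧ B.e i ≠ - M.e₀) : M.F B.u M.a₀ = 0 ∧ M.F B.u M.a₁ = 0 := by
  have h1 : M.F B.u M.u₀ = 0 := by
    unfold u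
    rw [LinearMap.BilinForm.add_left, hR.F_symm B.s, orth hR hG _ _ hR.z_u₀ O.s_neg, add_zero, map_sum,
      LinearMap.sum_apply]
    refine Finset.sum_eq_zero fun i _ => ?_
    rw [map_smul, LinearMap.smul_apply]
    obtain ⟨g, hg, e1, -⟩ := O.mem i
    have := F_u₀_e hR 1 M.C.one_mem g hg
    rw [LinearEquiv.coe_one, id] at this
    rw [hR.F_symm, e1, this, smul_zero]
  have h2 : M.F B.u M.e₀ = 0 := by
    unfold u
    rw [LinearMap.BilinForm.add_left, hR.F_symm B.s, orth hR hG _ _ hR.z_e₀ O.s_neg, add_zero, map_sum,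
      LinearMap.sum_apply]
    refine Finset.sum_eq_zero fun i _ => ?_
    rw [map_smul, LinearMap.smul_apply]
    obtain ⟨g, hg, e1, -⟩ := O.mem i
    have h3 := h i
    rw [e1] at h3 ⊢
    have := F_e_eq hR hL g hg 1 M.C.one_mem h3.1 h3.2
    rw [LinearEquiv.coe_one, id] at this
    rw [this, smul_zero]
  unfold MData.a₀ MData.a₁
  rw [map_add, map_sub, h1, h2]
  exact ⟨by ring, by ring⟩

variable {c₀ c₁ : ℚ} (P : B.Ok₁ M c₀ c₁)
include P

omit hL O in
/-- Cauchy-Schwarz -/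
theorem cs (x y : W) : M.F x y ^ 2 ≤ M.F x x * M.F y y :=
  LinearMap.BilinForm.apply_sq_le_of_symm M.F P.pos ⟨fun x y => by simpa using hR.F_symm x y⟩ x y

omit O P in
theorem F_X (hO : MOrbit M) (x : W) (hx : x ∈ M.X) : M.F x x = 8 := by
  obtain ⟨g, hg, rfl⟩ := X_eq_orbit hO hx
  rw [G_isom hO hR hg, hL.F_a₀]

omit O in
theorem F_le_eight (hO : MOrbit M) (x y : W) (hx : x ∈ M.X) (hy : y ∈ M.X) : M.F x y ≤ 8 := by
  have h := B.cs hR P x y
  rw [F_X hR hL hO x hx, F_X hR hL hO y hy] at h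
  nlinarith

omit hL O in
theorem F_le (x : W) (hx : x ∈ M.X) (hne : x ≠ M.a₀) : M.F M.a₀ x ≤ 1 := by
  obtain ⟨j, h, hh, rfl⟩ := hx
  have h1 := hR.C_isom h⁻¹ (M.C.inv_mem hh) M.a₀ (h (M.d j))
  rw [inv_apply'] at h1
  rw [← h1]
  rcases P.val j (h⁻¹ M.a₀) ⟨h⁻¹, M.C.inv_mem hh, rfl⟩ with h2 | h2
  · exfalso
    apply hne
    rw [← h2, apply_inv']
  · exact h2

omit hL O in
include hG in
theorem F_le' (x : W) (hx : x ∈ M.X) (hne : x ≠ M.a₁) : M.F M.a₁ x ≤ 1 := by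
  obtain ⟨q, hq, h1, -⟩ := exists_y hG hR
  have hqC := hG.Q_le hq
  have h2 := hR.C_isom q⁻¹ (M.C.inv_mem hqC) M.a₁ x
  rw [← h2, ← h1, inv_apply']
  refine B.F_le hR P _ (C_X (M.C.inv_mem hqC) hx) fun h3 => hne ?_
  rw [← h1, ← h3, apply_inv']

include hG in
theorem F_u_lt (hO : MOrbit M) (x : W) (hx : x ∈ M.X) : M.F B.u x < 7 * c₁ ∧ M.F B.u x < 7 * c₀ - 8 * c₁ := by
  have h1 := B.cs hR P B.u x
  rw [F_X hR hL hO x hx, B.F_u_u hG hR hL O] at h1
  have h2 := P.bound₁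
  have h3 := P.bound₀
  constructor
  · apply lt_of_pow_lt_pow_left₀ 2 (by linarith [P.c₁_pos])
    linarith
  · apply lt_of_pow_lt_pow_left₀ 2 (by linarith [P.c₀_pos])
    linarith

include hG in
theorem fix_a₀ (hO : MOrbit M) (k : W ≃ₗ[ℚ] W) (hk : k ∈ M.G) (hv : k (B.v M c₀ c₁) = B.v M c₀ c₁) :
    k M.a₀ = M.a₀ := by
  by_contra hne
  have ha₀ : M.a₀ ∈ M.X := S_sub_X hO a₀_mem_S
  have ha₁ : M.a₁ ∈ M.X := S_sub_X hO (a₁_mem_S hG hR)
  have hx : k M.a₀ ∈ M.X := G_X hO hk ha₀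
  have h1 : M.F (B.v M c₀ c₁) (k M.a₀) = M.F (B.v M c₀ c₁) M.a₀ := by
    conv_lhs => rw [← hv]
    exact G_isom hO hR hk _ _
  have hu := B.F_u_a hG hR hL O P.ne₀
  have h2 : M.F (B.v M c₀ c₁) M.a₀ = 8 * c₀ := by
    unfold v
    rw [LinearMap.BilinForm.add_left, LinearMap.BilinForm.add_left, LinearMap.BilinForm.smul_left,
      LinearMap.BilinForm.smul_left, hL.F_a₀, hR.F_symm M.a₁, hL.F_a₁, hu.1]
    ring
  have h3 : M.F (B.v M c₀ c₁) (k M.a₀) = c₀ * M.F M.a₀ (k M.a₀) + c₁ * M.F M.a₁ (k M.a₀) + M.F B.u (k M.a₀) := by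
    unfold v
    rw [LinearMap.BilinForm.add_left, LinearMap.BilinForm.add_left, LinearMap.BilinForm.smul_left,
      LinearMap.BilinForm.smul_left]
  have h4 := B.F_le hR P _ hx hne
  have h5 := B.F_le_eight hR hL P hO _ _ ha₁ hx
  have h6 := (B.F_u_lt hG hR hL O P hO _ hx).2
  have h7 := P.c₁_pos
  have h8 := P.c₀_pos
  rw [h2, h3] at h1
  nlinarith

include hG in
theorem fix_a₁ (hO : MOrbit M) (k : W ≃ₗ[ℚ] W) (hk : k ∈ M.G) (hv : k (B.v M c₀ c₁) = B.v M c₀ c₁) :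
    k M.a₁ = M.a₁ := by
  have h0 := B.fix_a₀ hG hR hL O P hO k hk hv
  by_contra hne
  have ha₁ : M.a₁ ∈ M.X := S_sub_X hO (a₁_mem_S hG hR)
  have hx : k M.a₁ ∈ M.X := G_X hO hk ha₁
  have hv' : k (c₁ • M.a₁ + B.u) = c₁ • M.a₁ + B.u := by
    have h := hv
    unfold v at h
    rw [add_assoc, map_add, map_smul, h0] at h
    exact add_left_cancel h
  have h1 : M.F (c₁ • M.a₁ + B.u) (k M.a₁) = M.F (c₁ • M.a₁ + B.u) M.a₁ := by
    conv_lhs => rw [← hv']
    exact G_isom hO hR hk _ _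
  have hu := B.F_u_a hG hR hL O P.ne₀
  rw [LinearMap.BilinForm.add_left, LinearMap.BilinForm.add_left, LinearMap.BilinForm.smul_left,
    LinearMap.BilinForm.smul_left, F_X hR hL hO _ ha₁, hu.2] at h1
  have h4 := B.F_le' hG hR P _ hx hne
  have h6 := (B.F_u_lt hG hR hL O P hO _ hx).1
  have h7 := P.c₁_pos
  nlinarith

include hG in
/-- An element of `G` fixing the vector `v` is trivial. -/
theorem eq_one₁ (hO : MOrbit M) (k : W ≃ₗ[ℚ] W) (hk : k ∈ M.G) (hv : k (B.v M c₀ c₁) = B.v M c₀ c₁) : k = 1 := by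
  have h0 := B.fix_a₀ hG hR hL O P hO k hk hv
  have h1 := B.fix_a₁ hG hR hL O P hO k hk hv
  refine B.eq_one hG hR hL O hO k hk h0 h1 ?_
  have h := hv
  unfold v at h
  rw [map_add, map_add, map_smul, map_smul, h0, h1] at h
  exact add_left_cancel h

end Base

end Cfsg.Agent.MonsterX.WordsBaseM
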